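import Mathlib

set_option autoImplicit false

/-!
# Counting `m`-dimensional subspaces of a finite vector space (divisibility consequences)
-/

namespace Cfsg.Agent.Helper59.SubCount

open Module

variable {F V : Type*} [Field F] [Fintype F] [AddCommGroup V] [Module F V] [FiniteDimensional F V]

/-- the span map on linearly independent `m`-tuples -/
noncomputable def spanMap (m : ℕ) :
    {s : Fin m → V // LinearIndependent F s} → {W : Submodule F V // finrank F ↥W = m} :=
  fun s => ⟨Submodule.span F (Set.range s.1), by
    rw [finrank_span_eq_card s.2]; simp⟩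

/-- the fibre of the span map over `W` is the set of bases of `W` -/
noncomputable def fiberEquiv (m : ℕ) (W : {W : Submodule F V // finrank F ↥W = m}) :
    {s : {s : Fin m → V // LinearIndependent F s} // spanMap m s = W} ≃
      {s' : Fin m → ↥W.1 // LinearIndependent F s'} where
  toFun s := ⟨fun k => ⟨s.1.1 k, by
      have h := congrArg Subtype.val s.2
      simp only [spanMap] at h
      rw [← h]
      exact Submodule.subset_span ⟨k, rfl⟩⟩, by
    have := s.1.2
    exact LinearIndependent.of_comp W.1.subtype (by simpa [Function.comp_def] using this)⟩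
  invFun s' := ⟨⟨fun k => (s'.1 k : V), by
      have := s'.2.map' W.1.subtype (Submodule.ker_subtype _)
      simpa [Function.comp_def] using this⟩, by
    apply Subtype.ext
    simp only [spanMap]
    have hspan : Submodule.span F (Set.range s'.1) = ⊤ := by
      apply LinearIndependent.span_eq_top_of_card_eq_finrank' s'.2
      rw [Fintype.card_fin, W.2]
    have : Submodule.span F (Set.range fun k => (s'.1 k : V)) =
        (Submodule.span F (Set.range s'.1)).map W.1.subtype := by
      rw [Submodule.map_span, ← Set.range_comp]; rfl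
    rw [this, hspan, Submodule.map_top, Submodule.range_subtype]⟩
  left_inv s := by
    apply Subtype.ext; apply Subtype.ext; rfl
  right_inv s' := by
    apply Subtype.ext; funext k; rfl

theorem card_subspaces_mul (m : ℕ) (hm : m ≤ finrank F V) :
    Nat.card {W : Submodule F V // finrank F ↥W = m} *
        ∏ k : Fin m, (Fintype.card F ^ m - Fintype.card F ^ k.val) =
      ∏ k : Fin m, (Fintype.card F ^ finrank F V - Fintype.card F ^ k.val) := by
  classical
  haveI : Finite V := Module.finite_of_finite F
  haveI : Fintype {W : Submodule F V // finrank F ↥W = m} := Fintype.ofFinite _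
  rw [← card_linearIndependent (K := F) (V := V) hm,
    Nat.card_congr (Equiv.sigmaFiberEquiv (spanMap (F := F) (V := V) m)).symm, Nat.card_sigma]
  have hfib : ∀ W : {W : Submodule F V // finrank F ↥W = m},
      Nat.card {s : {s : Fin m → V // LinearIndependent F s} // spanMap m s = W} =
        ∏ k : Fin m, (Fintype.card F ^ m - Fintype.card F ^ k.val) := by
    intro W
    rw [Nat.card_congr (fiberEquiv m W), card_linearIndependent (K := F) (V := ↥W.1) (by rw [W.2]),
      W.2]
  rw [Finset.sum_congr rfl (fun W _ => hfib W), Finset.sum_const, Finset.card_univ,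
    Nat.card_eq_fintype_card, smul_eq_mul]

/-- factor out the powers of `q` -/
theorem prod_sub_eq (q N m : ℕ) (hm : m ≤ N) :
    ∏ k : Fin m, (q ^ N - q ^ k.val) =
      (∏ k : Fin m, q ^ k.val) * ∏ k : Fin m, (q ^ (N - k.val) - 1) := by
  rw [← Finset.prod_mul_distrib]
  apply Finset.prod_congr rfl
  intro k _
  have hk : k.val ≤ N := le_of_lt (lt_of_lt_of_le k.2 hm)
  rw [Nat.mul_sub, mul_one, ← pow_add, Nat.add_sub_cancel' hk]

/-- the reduced counting identity -/
theorem card_subspaces_mul' (m : ℕ) (hm : m ≤ finrank F V) :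
    Nat.card {W : Submodule F V // finrank F ↥W = m} *
        ∏ k : Fin m, (Fintype.card F ^ (m - k.val) - 1) =
      ∏ k : Fin m, (Fintype.card F ^ (finrank F V - k.val) - 1) := by
  have h := card_subspaces_mul (F := F) (V := V) m hm
  rw [prod_sub_eq _ _ m le_rfl, prod_sub_eq _ _ m hm] at h
  have hpos : 0 < ∏ k : Fin m, Fintype.card F ^ k.val := by
    apply Finset.prod_pos
    intro k _
    exact pow_pos Fintype.card_pos _
  apply Nat.eq_of_mul_eq_mul_left hpos
  linarith [h, mul_comm (∏ k : Fin m, Fintype.card F ^ k.val)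
    (Nat.card {W : Submodule F V // finrank F ↥W = m} *
      ∏ k : Fin m, (Fintype.card F ^ (m - k.val) - 1))]

/-- a prime dividing the number of `m`-spaces divides some `q^j - 1`, `n - m < j ≤ n`. -/
theorem exists_dvd_of_dvd_card (m : ℕ) (hm : m ≤ finrank F V) (r : ℕ) (hr : r.Prime)
    (hdvd : r ∣ Nat.card {W : Submodule F V // finrank F ↥W = m}) :
    ∃ k : ℕ, k < m ∧ r ∣ Fintype.card F ^ (finrank F V - k) - 1 := by
  have h := card_subspaces_mul' (F := F) (V := V) m hm
  have h1 : r ∣ ∏ k : Fin m, (Fintype.card F ^ (finrank F V - k.val) - 1) := by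
    rw [← h]; exact Dvd.dvd.mul_right hdvd _
  obtain ⟨k, -, hk⟩ := (hr.prime.dvd_finset_prod_iff _).mp h1
  exact ⟨k.val, k.2, hk⟩

/-- the characteristic does not divide the number of `m`-spaces. -/
theorem char_not_dvd_card (m : ℕ) (hm : m ≤ finrank F V) (p : ℕ) [Fact p.Prime] [CharP F p] :
    ¬ p ∣ Nat.card {W : Submodule F V // finrank F ↥W = m} := by
  intro hdvd
  obtain ⟨k, hk, hd⟩ := exists_dvd_of_dvd_card (F := F) (V := V) m hm p Fact.out hdvd
  have hpq : p ∣ Fintype.card F := by
    obtain ⟨e, -, he⟩ := FiniteField.card F p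
    rw [he]; exact dvd_pow_self p e.pos.ne'
  have hj : finrank F V - k ≠ 0 := by omega
  have h1 : p ∣ Fintype.card F ^ (finrank F V - k) := Dvd.dvd.trans hpq (dvd_pow_self _ hj)
  have hpos : 1 ≤ Fintype.card F ^ (finrank F V - k) := Nat.one_le_pow _ _ Fintype.card_pos
  have h2 : p ∣ 1 := by
    have := Nat.dvd_sub h1 hd
    rwa [Nat.sub_sub_self hpos] at this
  exact (Fact.out : p.Prime).one_lt.ne' (Nat.dvd_one.mp h2)

end Cfsg.Agent.Helper59.SubCount
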