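import Mathlib
import Cfsg.Agent.Helper96.SLPresDefs

set_option autoImplicit false

/-! Commutativity of all the conjugates `u_i = h^i u h^{-i}` from one relation
(for helper96's short presentations of `SL₂(q)`). -/

namespace Cfsg.Agent.Helper96.SLPres

variable {D : Type*} [Group D]

/-- the combinatorial induction, odd case. -/
theorem all_of_rules_odd (T : ℤ → Prop) (k : ℤ) (hneg : ∀ d, T d → T (-d)) (h0 : T 0) (h1 : T 1)
    (h2 : T 2) (R4 : ∀ r, T r → T (r + 1) → T (r + 2) → T (r + k))
    (R0 : ∀ r, T (r + 1) → T (r + 2) → T (r + k) → T r)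
    (R2 : ∀ r, T r → T (r + 1) → T (r + k) → T (r + 2)) : ∀ d, T d := by
  have hm1 : T (-1) := hneg 1 h1
  have hm2 : T (-2) := hneg 2 h2
  have hP : ∀ j : ℕ, T j ∧ T (j + 1) ∧ T (j + 2) ∧ T (k + j - 2) ∧ T (k + j - 1) ∧ T (k + j) := by
    intro j
    induction j with
    | zero =>
      have a0 := R4 0 h0 (by simpa using h1) (by simpa using h2)
      have a1 := R4 (-1) hm1 (by simpa using h0) (by simpa using h1)
      have a2 := R4 (-2) hm2 (by simpa using hm1) (by simpa using h0)
      rw [zero_add] at a0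
      rw [show (-1 : ℤ) + k = k - 1 by ring] at a1
      rw [show (-2 : ℤ) + k = k - 2 by ring] at a2
      refine ⟨by simpa using h0, by simpa using h1, by simpa using h2, ?_, ?_, ?_⟩
      · simpa using a2
      · simpa using a1
      · simpa using a0
    | succ j ih =>
      obtain ⟨b0, b1, b2, b3, b4, b5⟩ := ih
      have c1 : T (k + j + 1) := by
        have e1 : T (-(k + j + 1) + 1) := by
          rw [show -(k + (j : ℤ) + 1) + 1 = -(k + j) by ring]
          exact hneg _ b5
        have e2 : T (-(k + j + 1) + 2) := by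
          rw [show -(k + (j : ℤ) + 1) + 2 = -(k + j - 1) by ring]
          exact hneg _ b4
        have e3 : T (-(k + j + 1) + k) := by
          rw [show -(k + (j : ℤ) + 1) + k = -((j : ℤ) + 1) by ring]
          exact hneg _ b1
        have := hneg _ (R0 _ e1 e2 e3)
        rwa [neg_neg] at this
      have c2 : T ((j : ℤ) + 3) := by
        have e3 : T ((j : ℤ) + 1 + k) := by
          rw [show (j : ℤ) + 1 + k = k + j + 1 by ring]
          exact c1
        have := R2 ((j : ℤ) + 1) b1 (by rw [show (j : ℤ) + 1 + 1 = j + 2 by ring]; exact b2) e3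
        rwa [show (j : ℤ) + 1 + 2 = j + 3 by ring] at this
      push_cast
      refine ⟨b1, ?_, ?_, ?_, ?_, ?_⟩
      · rw [show (j : ℤ) + 1 + 1 = j + 2 by ring]; exact b2
      · rw [show (j : ℤ) + 1 + 2 = j + 3 by ring]; exact c2
      · rw [show k + ((j : ℤ) + 1) - 2 = k + j - 1 by ring]; exact b4
      · rw [show k + ((j : ℤ) + 1) - 1 = k + j by ring]; exact b5
      · rw [show k + ((j : ℤ) + 1) = k + j + 1 by ring]; exact c1
  intro d
  rcases le_total 0 d with hd | hd
  · obtain ⟨j, rfl⟩ := Int.eq_ofNat_of_zero_le hd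
    exact (hP j).1
  · obtain ⟨j, hj⟩ := Int.eq_ofNat_of_zero_le (neg_nonneg.mpr hd)
    have := hneg _ (hP j).1
    rwa [← hj, neg_neg] at this

/-- the combinatorial induction, even case. -/
theorem all_of_rules_even (T : ℤ → Prop) (k : ℤ) (hneg : ∀ d, T d → T (-d)) (h0 : T 0) (h1 : T 1)
    (Q3 : ∀ r, T r → T (r + 1) → T (r + k))
    (Q0 : ∀ r, T (r + 1) → T (r + k) → T r)
    (Q1 : ∀ r, T r → T (r + k) → T (r + 1)) : ∀ d, T d := by
  have hm1 : T (-1) := hneg 1 h1
  have hP : ∀ j : ℕ, T j ∧ T (j + 1) ∧ T (k + j - 1) ∧ T (k + j) := by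
    intro j
    induction j with
    | zero =>
      have a0 := Q3 0 h0 (by simpa using h1)
      have a1 := Q3 (-1) hm1 (by simpa using h0)
      rw [zero_add] at a0
      rw [show (-1 : ℤ) + k = k - 1 by ring] at a1
      refine ⟨by simpa using h0, by simpa using h1, ?_, ?_⟩
      · simpa using a1
      · simpa using a0
    | succ j ih =>
      obtain ⟨b0, b1, b2, b3⟩ := ih
      have c1 : T (k + j + 1) := by
        have e1 : T (-(k + j + 1) + 1) := by
          rw [show -(k + (j : ℤ) + 1) + 1 = -(k + j) by ring]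
          exact hneg _ b3
        have e3 : T (-(k + j + 1) + k) := by
          rw [show -(k + (j : ℤ) + 1) + k = -((j : ℤ) + 1) by ring]
          exact hneg _ b1
        have := hneg _ (Q0 _ e1 e3)
        rwa [neg_neg] at this
      have c2 : T ((j : ℤ) + 2) := by
        have e3 : T ((j : ℤ) + 1 + k) := by
          rw [show (j : ℤ) + 1 + k = k + j + 1 by ring]
          exact c1
        have := Q1 ((j : ℤ) + 1) b1 e3
        rwa [show (j : ℤ) + 1 + 1 = j + 2 by ring] at this
      push_cast
      refine ⟨b1, ?_, ?_, ?_⟩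
      · rw [show (j : ℤ) + 1 + 1 = j + 2 by ring]; exact c2
      · rw [show k + ((j : ℤ) + 1) - 1 = k + j by ring]; exact b3
      · rw [show k + ((j : ℤ) + 1) = k + j + 1 by ring]; exact c1
  intro d
  rcases le_total 0 d with hd | hd
  · obtain ⟨j, rfl⟩ := Int.eq_ofNat_of_zero_le hd
    exact (hP j).1
  · obtain ⟨j, hj⟩ := Int.eq_ofNat_of_zero_le (neg_nonneg.mpr hd)
    have := hneg _ (hP j).1
    rwa [← hj, neg_neg] at this

theorem commute_shift (h u : D) (i j r : ℤ) (hc : Commute (uz h u i) (uz h u j)) :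
    Commute (uz h u (r + i)) (uz h u (r + j)) := by
  have := (Commute.conj_iff (h ^ r)).mpr hc
  rwa [uz_conj, uz_conj] at this

theorem commute_neg (h u : D) (d : ℤ) (hc : Commute (uz h u 0) (uz h u d)) :
    Commute (uz h u 0) (uz h u (-d)) := by
  have := commute_shift h u 0 d (-d) hc
  rw [add_zero, neg_add_cancel] at this
  exact this.symm

theorem all_commute_of_zero (h u : D) (H : ∀ d : ℤ, Commute (uz h u 0) (uz h u d)) :
    ∀ i j : ℤ, Commute (uz h u i) (uz h u j) := by
  intro i j
  have := commute_shift h u 0 (j - i) i (H (j - i))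
  rwa [add_zero, add_sub_cancel] at this

theorem allComm_odd (h u : D) (n : ℕ) (hn : Odd n) (hu : u ^ n = 1) (h1 : Commute u (uz h u 1))
    (h2 : Commute u (uz h u 2)) (k c : ℤ) (hc : c = 1 ∨ c = -1)
    (hk : uz h u k = uz h u 2 * uz h u 1 ^ (2 * c) * uz h u 0) :
    ∀ i j : ℤ, Commute (uz h u i) (uz h u j) := by
  have rel : ∀ r : ℤ, uz h u (r + k) = uz h u (r + 2) * uz h u (r + 1) ^ (2 * c) * uz h u (r + 0) := by
    intro r
    have := congrArg (fun x => h ^ r * x * (h ^ r)⁻¹) hk
    beta_reduce at this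
    rw [uz_conj] at this
    rw [this, ← uz_conj h u 2 r, ← uz_conj h u 1 r, ← uz_conj h u 0 r, conj_zpow]
    group
  apply all_commute_of_zero
  apply all_of_rules_odd (fun d => Commute (uz h u 0) (uz h u d)) k
  · intro d hd
    exact commute_neg h u d hd
  · exact Commute.refl _
  · rw [uz_zero]; exact h1
  · rw [uz_zero]; exact h2
  · intro r a0 a1 a2
    show Commute (uz h u 0) (uz h u (r + k))
    rw [rel r, add_zero]
    exact ((a2.mul_right (a1.zpow_right _)).mul_right a0)
  · intro r a1 a2 ak
    show Commute (uz h u 0) (uz h u r)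
    have e : uz h u r = (uz h u (r + 2) * uz h u (r + 1) ^ (2 * c))⁻¹ * uz h u (r + k) := by
      rw [rel r, add_zero]
      group
    rw [e]
    exact ((a2.mul_right (a1.zpow_right _)).inv_right).mul_right ak
  · intro r a0 a1 ak
    show Commute (uz h u 0) (uz h u (r + 2))
    have e : uz h u (r + 2) = uz h u (r + k) * (uz h u r)⁻¹ * (uz h u (r + 1) ^ (2 * c))⁻¹ := by
      rw [rel r, add_zero]
      group
    rw [e]
    exact (ak.mul_right a0.inv_right).mul_right (a1.zpow_right _).inv_right

theorem allComm_even (h u : D) (hu : u ^ 2 = 1) (k : ℤ) (hk : uz h u k = uz h u 1 * uz h u 0) :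
    ∀ i j : ℤ, Commute (uz h u i) (uz h u j) := by
  have hinv : ∀ i : ℤ, uz h u i ^ 2 = 1 := by
    intro i
    rw [uz_pow, hu, mul_one, mul_inv_cancel]
  have hinv' : ∀ i : ℤ, (uz h u i)⁻¹ = uz h u i := by
    intro i
    rw [inv_eq_iff_mul_eq_one, ← pow_two]
    exact hinv i
  have rel : ∀ r : ℤ, uz h u (r + k) = uz h u (r + 1) * uz h u (r + 0) := by
    intro r
    have := congrArg (fun x => h ^ r * x * (h ^ r)⁻¹) hk
    beta_reduce at this
    rw [uz_conj] at this
    rw [this, ← uz_conj h u 1 r, ← uz_conj h u 0 r]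
    group
  have h01 : Commute (uz h u 0) (uz h u 1) := by
    have e1 : (uz h u 1 * uz h u 0) ^ 2 = 1 := by rw [← hk]; exact hinv k
    have e2 : (uz h u 1 * uz h u 0)⁻¹ = uz h u 1 * uz h u 0 := by
      rw [inv_eq_iff_mul_eq_one, ← pow_two]
      exact e1
    rw [_root_.mul_inv_rev, hinv', hinv'] at e2
    exact e2
  apply all_commute_of_zero
  apply all_of_rules_even (fun d => Commute (uz h u 0) (uz h u d)) k
  · intro d hd
    exact commute_neg h u d hd
  · exact Commute.refl _
  · exact h01
  · intro r a0 a1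
    show Commute (uz h u 0) (uz h u (r + k))
    rw [rel r, add_zero]
    exact a1.mul_right a0
  · intro r a1 ak
    show Commute (uz h u 0) (uz h u r)
    have e : uz h u r = (uz h u (r + 1))⁻¹ * uz h u (r + k) := by
      rw [rel r, add_zero]
      group
    rw [e]
    exact a1.inv_right.mul_right ak
  · intro r a0 ak
    show Commute (uz h u 0) (uz h u (r + 1))
    have e : uz h u (r + 1) = uz h u (r + k) * (uz h u r)⁻¹ := by
      rw [rel r, add_zero]
      group
    rw [e]
    exact ak.mul_right a0.inv_right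

theorem allComm_triv (h u : D) (hc : Commute h u) :
    ∀ i j : ℤ, Commute (uz h u i) (uz h u j) := by
  have hall : ∀ i : ℤ, uz h u i = u := by
    intro i
    unfold uz
    have := (hc.zpow_left i).eq
    rw [this, mul_assoc, mul_inv_cancel, mul_one]
  intro i j
  rw [hall i, hall j]

end Cfsg.Agent.Helper96.SLPres
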