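import Mathlib
import Cfsg.Agent.Helper71.Alp.Defs
import Cfsg.Agent.Helper69.AlpA0
import Cfsg.Agent.Helper29.AlpB0

/-!
# (B1) for helper71 (S3782, Alperin): invariant abelian sections of exponent `p` have order
at most `p ^ (p n)`
-/

set_option autoImplicit false
set_option linter.unusedVariables false

namespace Cfsg.Agent.Helper59.Alp

open scoped commutatorElement
open Cfsg.Agent.Helper71.Alp

/-- abstract form: a finite group `H` with an automorphism `ψ`, `ψ^p = 1`, at most `m` fixed
points, and a `ψ`-invariant normal subgroup `N` with `H / N` abelian of exponent `p`. -/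
theorem index_le_of_exp {H : Type*} [Group H] [Finite H] {p m : ℕ} (hp : p.Prime)
    (ψ : MulAut H) (hψ : ∀ x, (⇑ψ)^[p] x = x) (hfix : Nat.card {g : H // ψ g = g} ≤ m)
    (N : Subgroup H) [N.Normal] (hN : ∀ x, x ∈ N ↔ ψ x ∈ N) (hab : ∀ a b : H, ⁅a, b⁆ ∈ N)
    (hexp : ∀ x : H, x ^ p ∈ N) : N.index ≤ m ^ p := by
  classical
  -- the quotient is commutative
  letI : CommGroup (H ⧸ N) :=
    { (inferInstance : Group (H ⧸ N)) with
      mul_comm := by
        intro a b
        induction a using QuotientGroup.induction_on with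
        | H a =>
        induction b using QuotientGroup.induction_on with
        | H b =>
        have h1 := (QuotientGroup.eq_one_iff (N := N) _).2 (hab a b)
        rw [commutatorElement_def, QuotientGroup.mk_mul, QuotientGroup.mk_mul,
          QuotientGroup.mk_mul, QuotientGroup.mk_inv, QuotientGroup.mk_inv] at h1
        rw [mul_inv_eq_one, mul_inv_eq_iff_eq_mul] at h1
        exact h1 }
  -- the induced automorphism
  have hmap : N.map (ψ : H →* H) = N := by
    ext y
    constructor
    · rintro ⟨x, hx, rfl⟩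
      exact (hN x).1 hx
    · intro hy
      refine ⟨ψ.symm y, (hN _).2 ?_, ?_⟩
      · rw [MulEquiv.apply_symm_apply]; exact hy
      · exact MulEquiv.apply_symm_apply ψ y
  let ψb : (H ⧸ N) ≃* (H ⧸ N) := QuotientGroup.congr N N ψ hmap
  have hψb : ∀ x : H, ψb (QuotientGroup.mk x) = QuotientGroup.mk (ψ x) := fun x => rfl
  let f : Additive (H ⧸ N) ≃+ Additive (H ⧸ N) := MulEquiv.toAdditive ψb
  have hf1 : ∀ (k : ℕ) (x : H), (⇑f)^[k] (Additive.ofMul (QuotientGroup.mk x)) =
      Additive.ofMul (QuotientGroup.mk ((⇑ψ)^[k] x)) := by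
    intro k
    induction k with
    | zero => intro x; rfl
    | succ k ih =>
      intro x
      rw [Function.iterate_succ_apply', Function.iterate_succ_apply', ih]
      rfl
  have hf : ∀ v, (⇑f)^[p] v = v := by
    intro v
    obtain ⟨x, rfl⟩ := QuotientGroup.mk_surjective (Additive.toMul v)
    have := hf1 p x
    rw [hψ] at this
    exact this
  have hV : ∀ v : Additive (H ⧸ N), p • v = 0 := by
    intro v
    obtain ⟨x, rfl⟩ := QuotientGroup.mk_surjective (Additive.toMul v)
    show Additive.ofMul ((QuotientGroup.mk x : H ⧸ N) ^ p) = 0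
    rw [← QuotientGroup.mk_pow, (QuotientGroup.eq_one_iff (N := N) _).2 (hexp x)]
    rfl
  have hB0 := Cfsg.Agent.Helper29.Alp.card_le_fix_pow hp hV f hf
  -- the subgroup of fixed points of `ψb`
  let A : Subgroup (H ⧸ N) := (ψb : (H ⧸ N) →* (H ⧸ N)).eqLocus (MonoidHom.id _)
  have hA : ∀ a : H ⧸ N, a ∈ A ↔ ψb a = a := fun a => Iff.rfl
  have hcardA : Nat.card {v : Additive (H ⧸ N) // f v = v} = Nat.card A :=
    Nat.card_congr (Equiv.subtypeEquiv Additive.toMul (fun v => Iff.rfl))
  -- its preimage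
  have hC : ∀ x : H, x ∈ A.comap (QuotientGroup.mk' N) ↔ x⁻¹ * ψ x ∈ N := by
    intro x
    rw [Subgroup.mem_comap, hA, QuotientGroup.mk'_apply, hψb, eq_comm, QuotientGroup.eq]
  have hcardC : Nat.card {x : H // x⁻¹ * ψ x ∈ N} = Nat.card (A.comap (QuotientGroup.mk' N)) :=
    Nat.card_congr (Equiv.subtypeEquivRight (fun x => (hC x).symm))
  have hidx : (A.comap (QuotientGroup.mk' N)).index = A.index :=
    Subgroup.index_comap_of_surjective A (QuotientGroup.mk'_surjective N)
  have h1 := Subgroup.card_mul_index (A.comap (QuotientGroup.mk' N))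
  have h2 := Subgroup.card_mul_index A
  have h3 := Subgroup.card_eq_card_quotient_mul_card_subgroup N
  have hidx0 : A.index ≠ 0 := Subgroup.index_ne_zero_of_finite
  have hCA : Nat.card (A.comap (QuotientGroup.mk' N)) = Nat.card A * Nat.card N := by
    rw [hidx] at h1
    apply Nat.eq_of_mul_eq_mul_right (Nat.pos_of_ne_zero hidx0)
    rw [h1, h3, ← h2]
    ring
  have hA0 := Cfsg.Agent.Helper69.Alp.card_twisted_le ψ N
  rw [hcardC, hCA] at hA0
  have hN0 : 0 < Nat.card N := Nat.card_pos
  have hAm : Nat.card A ≤ m := by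
    have h4 : Nat.card A * Nat.card N ≤ m * Nat.card N := by
      calc Nat.card A * Nat.card N ≤ Nat.card N * Nat.card {g : H // ψ g = g} := hA0
        _ ≤ Nat.card N * m := Nat.mul_le_mul_left _ hfix
        _ = m * Nat.card N := mul_comm _ _
    exact Nat.le_of_mul_le_mul_right h4 hN0
  rw [Subgroup.index_eq_card]
  calc Nat.card (H ⧸ N) = Nat.card (Additive (H ⧸ N)) := rfl
    _ ≤ Nat.card {v : Additive (H ⧸ N) // f v = v} ^ p := hB0
    _ = Nat.card A ^ p := by rw [hcardA]
    _ ≤ m ^ p := Nat.pow_le_pow_left hAm p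

/-- (B1) -/
theorem relIndex_le_of_exp {G : Type*} [Group G] [Finite G] {p n : ℕ} (hp : p.Prime)
    (φ : MulAut G) (hφ : φ ^ p = 1) (hfix : FixLE φ (p ^ n)) (X Y : Subgroup G) (hYX : Y ≤ X)
    (hX : Inv φ X) (hY : Inv φ Y) (hab : ⁅X, X⁆ ≤ Y) (hexp : ∀ x ∈ X, x ^ p ∈ Y) :
    Y.relIndex X ≤ p ^ (p * n) := by
  haveI hN : (Y.subgroupOf X).Normal := by
    refine ⟨fun n hn g => ?_⟩
    rw [Subgroup.mem_subgroupOf] at hn ⊢
    have h1 : ⁅(g : G), (n : G)⁆ ∈ Y := hab (Subgroup.commutator_mem_commutator g.2 n.2)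
    have h2 : ((g * n * g⁻¹ : ↥X) : G) = ⁅(g : G), (n : G)⁆ * n := by
      rw [commutatorElement_def]
      push_cast
      group
    rw [h2]
    exact Y.mul_mem h1 hn
  have hiter : ∀ (k : ℕ) (x : ↥X), (((⇑(resAut φ X hX))^[k] x : ↥X) : G) = (φ ^ k) (x : G) := by
    intro k
    induction k with
    | zero => intro x; rfl
    | succ k ih =>
      intro x
      rw [Function.iterate_succ_apply', resAut_coe, ih, pow_succ', MulAut.mul_apply]
  have hψ : ∀ x : ↥X, (⇑(resAut φ X hX))^[p] x = x := by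
    intro x
    apply Subtype.ext
    rw [hiter, hφ, MulAut.one_apply]
  have hfix' : Nat.card {g : ↥X // resAut φ X hX g = g} ≤ p ^ n := by
    refine le_trans ?_ hfix
    apply Nat.card_le_card_of_injective
      (fun g : {g : ↥X // resAut φ X hX g = g} =>
        (⟨(g.1 : G), congrArg Subtype.val g.2⟩ : {g : G // φ g = g}))
    intro a b hab'
    apply Subtype.ext
    apply Subtype.ext
    exact congrArg (fun t : {g : G // φ g = g} => (t : G)) hab'
  have hN' : ∀ x : ↥X, x ∈ Y.subgroupOf X ↔ resAut φ X hX x ∈ Y.subgroupOf X := by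
    intro x
    rw [Subgroup.mem_subgroupOf, Subgroup.mem_subgroupOf, resAut_coe]
    exact hY x
  have hab' : ∀ a b : ↥X, ⁅a, b⁆ ∈ Y.subgroupOf X := by
    intro a b
    rw [Subgroup.mem_subgroupOf]
    exact hab (Subgroup.commutator_mem_commutator a.2 b.2)
  have hexp' : ∀ x : ↥X, x ^ p ∈ Y.subgroupOf X := by
    intro x
    rw [Subgroup.mem_subgroupOf, Subgroup.coe_pow]
    exact hexp x x.2
  have key := index_le_of_exp hp (resAut φ X hX) hψ hfix' (Y.subgroupOf X) hN' hab' hexp'
  rw [mul_comm, pow_mul]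
  exact key

end Cfsg.Agent.Helper59.Alp
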