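import Mathlib

set_option autoImplicit false

/-!
# Invariant subspaces of a linear map annihilated by a polynomial whose irreducible factors
all have the same degree `i`: dimensions are exactly the multiples of `i`.
-/

namespace Cfsg.Agent.Helper59.InvChain

open Polynomial Module

variable {F V : Type*} [Field F] [AddCommGroup V] [Module F V]

/-- `U` is `f`-invariant (in the form used by the statements). -/
def Inv (f : V →ₗ[F] V) (U : Submodule F V) : Prop := U.map f ≤ U

theorem Inv.apply_mem {f : V →ₗ[F] V} {U : Submodule F V} (hU : Inv f U) {u : V} (hu : u ∈ U) :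
    f u ∈ U := hU ⟨u, hu, rfl⟩

theorem inv_iff {f : V →ₗ[F] V} {U : Submodule F V} : Inv f U ↔ ∀ u ∈ U, f u ∈ U := by
  constructor
  · intro h u hu; exact h.apply_mem hu
  · rintro h _ ⟨u, hu, rfl⟩; exact h u hu

theorem Inv.aeval_mem {f : V →ₗ[F] V} {U : Submodule F V} (hU : Inv f U) (a : F[X]) {u : V}
    (hu : u ∈ U) : (aeval f a) u ∈ U := by
  induction a using Polynomial.induction_on' with
  | add p q hp hq =>
    rw [map_add, LinearMap.add_apply]; exact U.add_mem hp hq
  | monomial n c =>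
    rw [← C_mul_X_pow_eq_monomial, map_mul, aeval_C, map_pow, aeval_X, Module.End.mul_apply,
      Module.algebraMap_end_apply]
    apply U.smul_mem
    induction n with
    | zero => simpa using hu
    | succ n ih =>
      rw [pow_succ', Module.End.mul_apply]
      exact hU.apply_mem ih

theorem inv_bot (f : V →ₗ[F] V) : Inv f (⊥ : Submodule F V) := by
  rw [inv_iff]; intro u hu; rw [Submodule.mem_bot] at hu; rw [hu, map_zero]; exact Submodule.zero_mem _

theorem inv_top (f : V →ₗ[F] V) : Inv f (⊤ : Submodule F V) := by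
  rw [inv_iff]; intro u _; trivial

theorem inv_ker_aeval (f : V →ₗ[F] V) (a : F[X]) : Inv f (LinearMap.ker (aeval f a)) := by
  rw [inv_iff]
  intro u hu
  rw [LinearMap.mem_ker] at hu ⊢
  have : (aeval f a) (f u) = f ((aeval f a) u) := by
    have hc : Commute (aeval f a) f := by
      have := (Commute.all a X).map (aeval f)
      rwa [aeval_X] at this
    calc (aeval f a) (f u) = (aeval f a * f) u := rfl
      _ = (f * aeval f a) u := by rw [hc.eq]
      _ = f ((aeval f a) u) := rfl
  rw [this, hu, map_zero]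

theorem inv_inf {f : V →ₗ[F] V} {U W : Submodule F V} (hU : Inv f U) (hW : Inv f W) :
    Inv f (U ⊓ W) := by
  rw [inv_iff]; intro u hu
  exact ⟨hU.apply_mem hu.1, hW.apply_mem hu.2⟩

theorem inv_sup {f : V →ₗ[F] V} {U W : Submodule F V} (hU : Inv f U) (hW : Inv f W) :
    Inv f (U ⊔ W) := by
  rw [inv_iff]; intro u hu
  obtain ⟨a, ha, b, hb, rfl⟩ := Submodule.mem_sup.mp hu
  rw [map_add]
  exact Submodule.add_mem_sup (hU.apply_mem ha) (hW.apply_mem hb)

/-- hypothesis on `P`: nonzero, and all irreducible factors have degree `i`. -/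
def HP (P : F[X]) (i : ℕ) : Prop :=
  P ≠ 0 ∧ ∀ Q : F[X], Irreducible Q → Q ∣ P → Q.natDegree = i

/-- the `F`-linear map `h ↦ h(f) v` restricted to polynomials of degree `< i`. -/
noncomputable def cyc (f : V →ₗ[F] V) (v : V) (i : ℕ) : ↥(degreeLT F i) →ₗ[F] V :=
  ((LinearMap.applyₗ v).comp (aeval f).toLinearMap).comp (degreeLT F i).subtype

theorem cyc_apply (f : V →ₗ[F] V) (v : V) (i : ℕ) (h : ↥(degreeLT F i)) :
    cyc f v i h = (aeval f (h : F[X])) v := rfl

variable [FiniteDimensional F V]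

/-- **Step lemma.** -/
theorem step (f : V →ₗ[F] V) (P : F[X]) (i : ℕ) (hP : HP P i) (U₀ U : Submodule F V)
    (hU₀ : Inv f U₀) (hU : Inv f U) (hle : U₀ ≤ U) (hne : U₀ ≠ U)
    (hkill : ∀ u ∈ U, (aeval f P) u ∈ U₀) :
    ∃ U' : Submodule F V, Inv f U' ∧ U₀ ≤ U' ∧ U' ≤ U ∧
      finrank F ↥U' = finrank F ↥U₀ + i := by
  classical
  -- 1. pick u
  obtain ⟨u, huU, huU₀⟩ : ∃ u, u ∈ U ∧ u ∉ U₀ := by
    by_contra hcon
    push Not at hcon
    exact hne (le_antisymm hle hcon)
  -- 2. minimal degree annihilating polynomial modulo U₀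
  have hex : ∃ d : ℕ, ∃ h : F[X], h ≠ 0 ∧ (aeval f h) u ∈ U₀ ∧ h.natDegree = d :=
    ⟨P.natDegree, P, hP.1, hkill u huU, rfl⟩
  obtain ⟨h₀, hh₀ne, hh₀mem, hh₀deg⟩ := Nat.find_spec hex
  have hmin : ∀ h : F[X], h ≠ 0 → (aeval f h) u ∈ U₀ → h₀.natDegree ≤ h.natDegree := by
    intro h hne' hmem
    rw [hh₀deg]
    exact Nat.find_min' hex ⟨h, hne', hmem, rfl⟩
  -- 4. h₀ is not constant
  have hdeg0 : h₀.natDegree ≠ 0 := by
    intro h0
    have hc := eq_C_of_natDegree_eq_zero h0
    have hcne : h₀.coeff 0 ≠ 0 := by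
      intro hz; rw [hz, map_zero] at hc; exact hh₀ne hc
    rw [hc, aeval_C, Module.algebraMap_end_apply] at hh₀mem
    apply huU₀
    have := U₀.smul_mem (h₀.coeff 0)⁻¹ hh₀mem
    rwa [smul_smul, inv_mul_cancel₀ hcne, one_smul] at this
  -- 3. h₀ ∣ P
  have hdvd : h₀ ∣ P := by
    have hmod : P % h₀ = 0 := by
      by_contra hr
      have hlt := natDegree_mod_lt P hdeg0
      have hmem : (aeval f (P % h₀)) u ∈ U₀ := by
        have heq : P % h₀ = P - h₀ * (P / h₀) := by
          have := EuclideanDomain.div_add_mod P h₀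
          linear_combination this
        rw [heq, map_sub, LinearMap.sub_apply]
        apply U₀.sub_mem (hkill u huU)
        rw [mul_comm, map_mul, Module.End.mul_apply]
        exact hU₀.aeval_mem _ hh₀mem
      have := hmin _ hr hmem
      omega
    exact (EuclideanDomain.mod_eq_zero).mp hmod
  -- 5. monic irreducible factor
  have hnu : ¬ IsUnit h₀ := by
    intro hu'
    exact hdeg0 (natDegree_eq_zero_of_isUnit hu')
  obtain ⟨Q, hQm, hQirr, hQdvd⟩ := exists_monic_irreducible_factor h₀ hnu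
  obtain ⟨h', hh'⟩ := hQdvd
  have hQdeg : Q.natDegree = i := hP.2 Q hQirr (Dvd.dvd.trans ⟨h', hh'⟩ hdvd)
  have hQpos : 0 < Q.natDegree := hQirr.natDegree_pos
  have hh'ne : h' ≠ 0 := by
    intro hz; rw [hz, mul_zero] at hh'; exact hh₀ne hh'
  have hh'deg : h'.natDegree < h₀.natDegree := by
    rw [hh', natDegree_mul hQirr.ne_zero hh'ne]; omega
  -- 6. v
  set v := (aeval f h') u with hv
  have hvU₀ : v ∉ U₀ := by
    intro hmem
    have := hmin h' hh'ne hmem
    omega
  have hvU : v ∈ U := hU.aeval_mem h' huU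
  have hQv : (aeval f Q) v ∈ U₀ := by
    have : (aeval f Q) v = (aeval f h₀) u := by
      rw [hv, hh', map_mul, Module.End.mul_apply]
    rw [this]; exact hh₀mem
  -- claim C
  have hC : ∀ h : F[X], h.degree < (i : WithBot ℕ) → (aeval f h) v ∈ U₀ → h = 0 := by
    intro h hdeg hmem
    by_contra hne'
    have hnd : ¬ Q ∣ h := by
      intro hd
      have := degree_le_of_dvd hd hne'
      rw [degree_eq_natDegree hQirr.ne_zero, hQdeg] at this
      exact absurd hdeg (not_lt.mpr this)
    obtain ⟨a, b, hab⟩ := (hQirr.coprime_iff_not_dvd).mpr hnd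
    apply hvU₀
    have h1 : v = (aeval f (a * Q + b * h)) v := by rw [hab]; simp
    rw [h1, map_add, LinearMap.add_apply, map_mul, map_mul, Module.End.mul_apply,
      Module.End.mul_apply]
    exact U₀.add_mem (hU₀.aeval_mem a hQv) (hU₀.aeval_mem b hmem)
  -- 7. Z
  set Z := LinearMap.range (cyc f v i) with hZ
  have hinj : Function.Injective (cyc f v i) := by
    rw [← LinearMap.ker_eq_bot, LinearMap.ker_eq_bot']
    intro h hh
    rw [cyc_apply] at hh
    have := hC (h : F[X]) (mem_degreeLT.mp h.2) (by rw [hh]; exact U₀.zero_mem)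
    exact Subtype.ext this
  have hZdim : finrank F ↥Z = i := by
    rw [hZ, LinearMap.finrank_range_of_inj hinj, LinearEquiv.finrank_eq (degreeLTEquiv F i)]
    simp
  have hdisj : U₀ ⊓ Z = ⊥ := by
    rw [eq_bot_iff]
    rintro w ⟨hw0, h, rfl⟩
    rw [cyc_apply] at hw0 ⊢
    have := hC (h : F[X]) (mem_degreeLT.mp h.2) hw0
    rw [this]; simp
  have hZU : Z ≤ U := by
    rintro w ⟨h, rfl⟩
    rw [cyc_apply]; exact hU.aeval_mem _ hvU
  refine ⟨U₀ ⊔ Z, ?_, le_sup_left, sup_le hle hZU, ?_⟩
  · -- invariance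
    rw [inv_iff]
    intro w hw
    obtain ⟨a, ha, b, hb, rfl⟩ := Submodule.mem_sup.mp hw
    rw [map_add]
    apply Submodule.add_mem _ (Submodule.mem_sup_left (hU₀.apply_mem ha))
    obtain ⟨h, rfl⟩ := hb
    rw [cyc_apply]
    have hdec : X * (h : F[X]) = (X * (h : F[X])) %ₘ Q + Q * ((X * (h : F[X])) /ₘ Q) :=
      (modByMonic_add_div _ Q).symm
    have hfw : f ((aeval f (h : F[X])) v) = (aeval f (X * (h : F[X]))) v := by
      rw [map_mul, aeval_X, Module.End.mul_apply]
    rw [hfw, hdec, map_add, LinearMap.add_apply, add_comm]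
    apply Submodule.add_mem
    · apply Submodule.mem_sup_left
      rw [mul_comm, map_mul, Module.End.mul_apply]
      exact hU₀.aeval_mem _ hQv
    · apply Submodule.mem_sup_right
      have hlt : ((X * (h : F[X])) %ₘ Q).degree < (i : WithBot ℕ) := by
        have := degree_modByMonic_lt (X * (h : F[X])) hQm
        rwa [degree_eq_natDegree hQirr.ne_zero, hQdeg] at this
      exact ⟨⟨_, mem_degreeLT.mpr hlt⟩, rfl⟩
  · have := Submodule.finrank_sup_add_finrank_inf_eq U₀ Z
    rw [hdisj, finrank_bot, add_zero, hZdim] at this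
    exact this

theorem chain_exists (f : V →ₗ[F] V) (P : F[X]) (i : ℕ) (hP : HP P i) (U : Submodule F V)
    (hU : Inv f U) (hkill : ∀ u ∈ U, (aeval f P) u = 0) :
    ∀ b : ℕ, b * i ≤ finrank F ↥U →
      ∃ U' : Submodule F V, U' ≤ U ∧ Inv f U' ∧ finrank F ↥U' = b * i := by
  intro b
  induction b with
  | zero =>
    intro _
    exact ⟨⊥, bot_le, inv_bot f, by simp⟩
  | succ b ih =>
    intro hb
    obtain ⟨U₀, hle, hinv, hdim⟩ := ih (by nlinarith)
    by_cases hi : i = 0
    · subst hi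
      exact ⟨U₀, hle, hinv, by simpa using hdim⟩
    have hne : U₀ ≠ U := by
      intro h
      rw [h] at hdim
      have : b * i < (b + 1) * i := by
        have : 0 < i := Nat.pos_of_ne_zero hi
        nlinarith
      omega
    obtain ⟨U', hinv', _, hle', hdim'⟩ := step f P i hP U₀ U hinv hU hle hne
      (fun u hu => by rw [hkill u hu]; exact U₀.zero_mem)
    exact ⟨U', hle', hinv', by rw [hdim', hdim]; ring⟩

/-- **Chain theorem**: the dimension of `U` is a multiple `s * i`, and every `b * i`, `b ≤ s`,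
is the dimension of an invariant subspace of `U`. -/
theorem chain (f : V →ₗ[F] V) (P : F[X]) (i : ℕ) (hi : 0 < i) (hP : HP P i) (U : Submodule F V)
    (hU : Inv f U) (hkill : ∀ u ∈ U, (aeval f P) u = 0) :
    ∃ s : ℕ, finrank F ↥U = s * i ∧
      ∀ b : ℕ, b ≤ s → ∃ U' : Submodule F V, U' ≤ U ∧ Inv f U' ∧ finrank F ↥U' = b * i := by
  have hex := chain_exists f P i hP U hU hkill
  set s := finrank F ↥U / i with hs
  have hsle : s * i ≤ finrank F ↥U := Nat.div_mul_le_self _ _
  obtain ⟨U₀, hle, hinv, hdim⟩ := hex s hsle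
  have heq : U₀ = U := by
    by_contra hne
    obtain ⟨U', _, _, hle', hdim'⟩ := step f P i hP U₀ U hinv hU hle hne
      (fun u hu => by rw [hkill u hu]; exact U₀.zero_mem)
    have h1 : finrank F ↥U' ≤ finrank F ↥U := Submodule.finrank_mono hle'
    have h2 : finrank F ↥U < (s + 1) * i := by
      rw [hs]
      have := Nat.lt_div_mul_add hi (a := finrank F ↥U)
      linarith [Nat.div_add_mod (finrank F ↥U) i, Nat.mod_lt (finrank F ↥U) hi, this]
    rw [hdim', hdim] at h1
    nlinarith
  refine ⟨s, by rw [← heq, hdim], ?_⟩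
  intro b hb
  exact hex b (by
    calc b * i ≤ s * i := Nat.mul_le_mul_right i hb
      _ ≤ finrank F ↥U := hsle)

theorem dvd_finrank_of_inv (f : V →ₗ[F] V) (P : F[X]) (i : ℕ) (hi : 0 < i) (hP : HP P i)
    (U : Submodule F V) (hU : Inv f U) (hkill : ∀ u ∈ U, (aeval f P) u = 0) :
    i ∣ finrank F ↥U := by
  obtain ⟨s, hs, -⟩ := chain f P i hi hP U hU hkill
  exact ⟨s, by rw [hs, mul_comm]⟩

end Cfsg.Agent.Helper59.InvChain
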