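import Mathlib
import Cfsg.Agent.Helper59.InvChain

set_option autoImplicit false

/-!
# Linear maps with `f ^ r = 1` over a finite field: invariant subspace dimensions
-/

namespace Cfsg.Agent.Helper59.Elusive

open Polynomial Module
open Cfsg.Agent.Helper59.InvChain

section cyclo

variable {F : Type*} [Field F]

/-- all irreducible factors of `Φ_r` over `F_q` have degree `ord_r(q)`. -/
theorem HP_cyclotomic [Fintype F] {p : ℕ} [Fact p.Prime] [CharP F p] (r : ℕ) [Fact r.Prime] (hrp : r ≠ p) :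
    HP (cyclotomic r F) (orderOf ((Fintype.card F : ℕ) : ZMod r)) := by
  refine ⟨cyclotomic_ne_zero r F, ?_⟩
  intro Q hQ hdvd
  obtain ⟨k, -, hk⟩ := FiniteField.card F p
  have hcop : p.Coprime r := by
    rw [Nat.coprime_primes (Fact.out) (Fact.out)]
    exact fun h => hrp h.symm
  have := natDegree_of_dvd_cyclotomic_of_irreducible hk hcop hdvd hQ
  rw [this, ← orderOf_units, ZMod.coe_unitOfCoprime, hk]

theorem isCoprime_X_sub_one_cyclotomic (r : ℕ) [Fact r.Prime] (hr : (r : F) ≠ 0) :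
    IsCoprime (X - 1 : F[X]) (cyclotomic r F) := by
  have h1 : (X - 1 : F[X]) = X - C 1 := by simp
  rw [h1, (irreducible_X_sub_C (1 : F)).coprime_iff_not_dvd, dvd_iff_isRoot, IsRoot.def,
    eval_one_cyclotomic_prime]
  exact hr

theorem HP_X_sub_one : HP (X - 1 : F[X]) 1 := by
  have h1 : (X - 1 : F[X]) = X - C 1 := by simp
  refine ⟨by rw [h1]; exact X_sub_C_ne_zero 1, ?_⟩
  intro Q hQ hdvd
  rw [h1] at hdvd
  have hpos := hQ.natDegree_pos
  have hle := natDegree_le_of_dvd hdvd (X_sub_C_ne_zero 1)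
  rw [natDegree_X_sub_C] at hle
  omega

end cyclo

section decomp

variable {F V : Type*} [Field F] [AddCommGroup V] [Module F V]

/-- the fixed space -/
noncomputable def fixSp (f : V →ₗ[F] V) : Submodule F V := LinearMap.ker (aeval f (X - 1 : F[X]))

/-- the `Φ_r`-part -/
noncomputable def cycSp (r : ℕ) (f : V →ₗ[F] V) : Submodule F V :=
  LinearMap.ker (aeval f (cyclotomic r F))

theorem mem_fixSp {f : V →ₗ[F] V} {v : V} : v ∈ fixSp f ↔ f v = v := by
  simp [fixSp, sub_eq_zero]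

theorem inv_fixSp (f : V →ₗ[F] V) : Inv f (fixSp f) := inv_ker_aeval f _

theorem inv_cycSp (r : ℕ) (f : V →ₗ[F] V) : Inv f (cycSp r f) := inv_ker_aeval f _

theorem inv_of_le_fixSp {f : V →ₗ[F] V} {U : Submodule F V} (h : U ≤ fixSp f) : Inv f U := by
  rw [inv_iff]; intro u hu
  rw [mem_fixSp.mp (h hu)]; exact hu

theorem disjoint_fix_cyc (r : ℕ) [Fact r.Prime] (hr : (r : F) ≠ 0) (f : V →ₗ[F] V) :
    fixSp f ⊓ cycSp r f = ⊥ :=
  (disjoint_ker_aeval_of_isCoprime f (isCoprime_X_sub_one_cyclotomic (F := F) r hr)).eq_bot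

theorem sup_fix_cyc (r : ℕ) [Fact r.Prime] (hr : (r : F) ≠ 0) (f : V →ₗ[F] V) (hf : f ^ r = 1) :
    fixSp f ⊔ cycSp r f = ⊤ := by
  rw [fixSp, cycSp, sup_ker_aeval_eq_ker_aeval_mul_of_coprime f
    (isCoprime_X_sub_one_cyclotomic (F := F) r hr), mul_comm, cyclotomic_prime_mul_X_sub_one]
  rw [eq_top_iff]
  intro v _
  rw [LinearMap.mem_ker]
  simp [hf]

variable [FiniteDimensional F V]

/-- any invariant subspace splits along `fixSp ⊕ cycSp`. -/
theorem finrank_inv_split (r : ℕ) [Fact r.Prime] (hr : (r : F) ≠ 0) (f : V →ₗ[F] V)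
    (hf : f ^ r = 1) (U : Submodule F V) (hU : Inv f U) :
    finrank F ↥U = finrank F ↥(U ⊓ fixSp f) + finrank F ↥(U ⊓ cycSp r f) := by
  have hdis : (U ⊓ fixSp f) ⊓ (U ⊓ cycSp r f) = ⊥ := by
    rw [eq_bot_iff]
    intro v hv
    have : v ∈ fixSp f ⊓ cycSp r f := ⟨hv.1.2, hv.2.2⟩
    rw [disjoint_fix_cyc r hr f] at this
    exact this
  have hsup : (U ⊓ fixSp f) ⊔ (U ⊓ cycSp r f) = U := by
    apply le_antisymm (sup_le inf_le_left inf_le_left)
    intro u hu
    obtain ⟨a, b, hab⟩ := isCoprime_X_sub_one_cyclotomic (F := F) r hr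
    have hprod : (X - 1 : F[X]) * cyclotomic r F = X ^ r - 1 := by
      rw [mul_comm, cyclotomic_prime_mul_X_sub_one]
    have hkill : ∀ w : V, (aeval f (X ^ r - 1 : F[X])) w = 0 := by
      intro w; simp [hf]
    have hu1 : u = (aeval f (a * (X - 1))) u + (aeval f (b * cyclotomic r F)) u := by
      rw [← LinearMap.add_apply, ← map_add, hab]; simp
    rw [hu1, add_comm]
    apply Submodule.add_mem_sup
    · refine ⟨hU.aeval_mem _ hu, ?_⟩
      change (aeval f (X - 1 : F[X])) _ = 0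
      rw [← Module.End.mul_apply, ← map_mul]
      have : (X - 1 : F[X]) * (b * cyclotomic r F) = b * (X ^ r - 1) := by
        rw [← hprod]; ring
      rw [this, map_mul, Module.End.mul_apply, hkill, map_zero]
    · refine ⟨hU.aeval_mem _ hu, ?_⟩
      change (aeval f (cyclotomic r F)) _ = 0
      rw [← Module.End.mul_apply, ← map_mul]
      have : cyclotomic r F * (a * (X - 1)) = a * (X ^ r - 1) := by
        rw [← hprod]; ring
      rw [this, map_mul, Module.End.mul_apply, hkill, map_zero]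
  have := Submodule.finrank_sup_add_finrank_inf_eq (U ⊓ fixSp f) (U ⊓ cycSp r f)
  rw [hdis, hsup, finrank_bot, add_zero] at this
  exact this

theorem finrank_fix_add_cyc (r : ℕ) [Fact r.Prime] (hr : (r : F) ≠ 0) (f : V →ₗ[F] V)
    (hf : f ^ r = 1) :
    finrank F V = finrank F ↥(fixSp f) + finrank F ↥(cycSp r f) := by
  have := finrank_inv_split r hr f hf ⊤ (inv_top f)
  rwa [top_inf_eq, top_inf_eq, finrank_top] at this

variable [Fintype F]

/-- **Existence** of an invariant `m`-space (`i ≥ 2` case). -/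
theorem exists_inv_of_cond {p : ℕ} [Fact p.Prime] [CharP F p] (r : ℕ) [Fact r.Prime] (hrp : r ≠ p)
    (f : V →ₗ[F] V) (hf : f ^ r = 1) (m : ℕ) (hmn : m ≤ finrank F V)
    (hi : 0 < orderOf ((Fintype.card F : ℕ) : ZMod r))
    (hcond : m % orderOf ((Fintype.card F : ℕ) : ZMod r) ≤
      finrank F V % orderOf ((Fintype.card F : ℕ) : ZMod r)) :
    ∃ U : Submodule F V, finrank F ↥U = m ∧ U.map f ≤ U := by
  set i := orderOf ((Fintype.card F : ℕ) : ZMod r) with hidef
  have hr : (r : F) ≠ 0 := by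
    intro h
    have := (CharP.cast_eq_zero_iff F p r).mp h
    exact hrp ((Nat.prime_dvd_prime_iff_eq (Fact.out) (Fact.out)).mp this).symm
  obtain ⟨t, ht, hWb⟩ := chain f (cyclotomic r F) i hi (HP_cyclotomic r hrp) (cycSp r f)
    (inv_cycSp r f) (fun u hu => hu)
  obtain ⟨sC, hsC, hCa⟩ := chain f (X - 1 : F[X]) 1 one_pos HP_X_sub_one (fixSp f)
    (inv_fixSp f) (fun u hu => hu)
  have hn := finrank_fix_add_cyc r hr f hf
  rw [ht, hsC, mul_one] at hn
  -- choose b, a
  set b := min t (m / i) with hb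
  have hbt : b ≤ t := min_le_left _ _
  have hbm : b * i ≤ m := by
    calc b * i ≤ (m / i) * i := Nat.mul_le_mul_right i (min_le_right _ _)
      _ ≤ m := Nat.div_mul_le_self m i
  have ha : m - b * i ≤ sC := by
    rcases le_total (m / i) t with h | h
    · have hbe : b = m / i := min_eq_right h
      have h1 : m - b * i = m % i := by
        rw [hbe]
        have := Nat.div_add_mod m i
        rw [mul_comm] at this
        omega
      rw [h1]
      have h2 : finrank F V % i = sC % i := by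
        rw [hn, Nat.add_mul_mod_self_right]
      rw [h2] at hcond
      exact hcond.trans (Nat.mod_le _ _)
    · have hbe : b = t := min_eq_left h
      rw [hbe]; omega
  obtain ⟨Wb, hWble, hWbinv, hWbdim⟩ := hWb b hbt
  obtain ⟨Ca, hCale, hCainv, hCadim⟩ := hCa (m - b * i) ha
  rw [mul_one] at hCadim
  refine ⟨Ca ⊔ Wb, ?_, inv_sup hCainv hWbinv⟩
  have hdis : Ca ⊓ Wb = ⊥ := by
    rw [eq_bot_iff]
    intro v hv
    have : v ∈ fixSp f ⊓ cycSp r f := ⟨hCale hv.1, hWble hv.2⟩
    rw [disjoint_fix_cyc r hr f] at this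
    exact this
  have := Submodule.finrank_sup_add_finrank_inf_eq Ca Wb
  rw [hdis, finrank_bot, add_zero, hCadim, hWbdim] at this
  omega

/-- **Necessary condition** from an invariant `m`-space (`i ≥ 1`). -/
theorem cond_of_exists_inv {p : ℕ} [Fact p.Prime] [CharP F p] (r : ℕ) [Fact r.Prime] (hrp : r ≠ p)
    (f : V →ₗ[F] V) (hf : f ^ r = 1) (m : ℕ) (U : Submodule F V) (hU : U.map f ≤ U)
    (hUm : finrank F ↥U = m)
    (hi : 0 < orderOf ((Fintype.card F : ℕ) : ZMod r)) :
    ∃ a : ℕ, a ≤ finrank F ↥(fixSp f) ∧ a ≤ m ∧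
      orderOf ((Fintype.card F : ℕ) : ZMod r) ∣ m - a := by
  have hr : (r : F) ≠ 0 := by
    intro h
    have := (CharP.cast_eq_zero_iff F p r).mp h
    exact hrp ((Nat.prime_dvd_prime_iff_eq (Fact.out) (Fact.out)).mp this).symm
  have hsplit := finrank_inv_split r hr f hf U hU
  have hdvd := dvd_finrank_of_inv f (cyclotomic r F) _ hi (HP_cyclotomic r hrp) (U ⊓ cycSp r f)
    (inv_inf hU (inv_cycSp r f)) (fun u hu => hu.2)
  refine ⟨finrank F ↥(U ⊓ fixSp f), Submodule.finrank_mono inf_le_right, by omega, ?_⟩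
  have : m - finrank F ↥(U ⊓ fixSp f) = finrank F ↥(U ⊓ cycSp r f) := by omega
  rw [this]; exact hdvd

end decomp

end Cfsg.Agent.Helper59.Elusive
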