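import Mathlib

set_option autoImplicit false

/-!
# Determinant of a linear map with `f ^ r = c` when `X ^ r - c` is irreducible
-/

namespace Cfsg.Agent.Helper59.Elusive

open Polynomial Module

variable {F : Type*} [Field F]

theorem norm_root_X_pow_sub_C (r : ℕ) (hr : 0 < r) (c : F) :
    Algebra.norm F (AdjoinRoot.root (X ^ r - C c : F[X])) = (-1) ^ (r + 1) * c := by
  have hne : (X ^ r - C c : F[X]) ≠ 0 := X_pow_sub_C_ne_zero hr c
  have hmonic : (X ^ r - C c : F[X]).Monic := monic_X_pow_sub_C c hr.ne'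
  have h := Algebra.PowerBasis.norm_gen_eq_coeff_zero_minpoly (AdjoinRoot.powerBasis hne)
  rw [AdjoinRoot.powerBasis_gen, AdjoinRoot.powerBasis_dim, AdjoinRoot.minpoly_root hne,
    hmonic.leadingCoeff, inv_one, map_one, mul_one, natDegree_X_pow_sub_C] at h
  rw [h]
  have : (X ^ r - C c : F[X]).coeff 0 = -c := by
    rw [coeff_sub, coeff_X_pow, coeff_C_zero, if_neg hr.ne, zero_sub]
  rw [this, pow_succ]; ring

theorem finrank_adjoinRoot_X_pow_sub_C (r : ℕ) (hr : 0 < r) (c : F) :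
    finrank F (AdjoinRoot (X ^ r - C c : F[X])) = r := by
  have hne : (X ^ r - C c : F[X]) ≠ 0 := X_pow_sub_C_ne_zero hr c
  rw [(AdjoinRoot.powerBasis hne).finrank, AdjoinRoot.powerBasis_dim, natDegree_X_pow_sub_C]

variable {V : Type*} [AddCommGroup V] [Module F V] [FiniteDimensional F V]

theorem det_of_pow_eq (r : ℕ) (hr : 0 < r) (c : F) (hirr : Irreducible (X ^ r - C c : F[X]))
    (f : V →ₗ[F] V) (hf : f ^ r = c • (1 : V →ₗ[F] V)) :
    ∃ d : ℕ, finrank F V = d * r ∧ LinearMap.det f = ((-1) ^ (r + 1) * c) ^ d := by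
  haveI : Fact (Irreducible (X ^ r - C c : F[X])) := ⟨hirr⟩
  have hP : aeval f (X ^ r - C c : F[X]) = 0 := by
    rw [map_sub, map_pow, aeval_X, aeval_C, hf, Algebra.algebraMap_eq_smul_one, sub_self]
  have hI : ∀ a : F[X], a ∈ Ideal.span {(X ^ r - C c : F[X])} → aeval f a = 0 := by
    intro a ha
    obtain ⟨b, rfl⟩ := Ideal.mem_span_singleton.1 ha
    rw [map_mul, hP, zero_mul]
  let ρ : AdjoinRoot (X ^ r - C c : F[X]) →ₐ[F] Module.End F V :=
    Ideal.Quotient.liftₐ (Ideal.span {(X ^ r - C c : F[X])}) (aeval f) hI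
  have hρroot : ρ (AdjoinRoot.root (X ^ r - C c : F[X])) = f := by
    have h1 : ρ (Ideal.Quotient.mk (Ideal.span {(X ^ r - C c : F[X])}) X) = aeval f (X : F[X]) :=
      Ideal.Quotient.lift_mk _ _ _
    rw [aeval_X] at h1
    exact h1
  letI : Module (AdjoinRoot (X ^ r - C c : F[X])) V :=
    Module.compHom V (ρ : AdjoinRoot (X ^ r - C c : F[X]) →+* Module.End F V)
  have hsmul : ∀ (e : AdjoinRoot (X ^ r - C c : F[X])) (v : V), e • v = ρ e v := fun _ _ => rfl
  haveI : IsScalarTower F (AdjoinRoot (X ^ r - C c : F[X])) V :=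
    ⟨fun a e v => by rw [hsmul, hsmul, map_smul]; rfl⟩
  haveI : Module.Finite (AdjoinRoot (X ^ r - C c : F[X])) V :=
    Module.Finite.of_restrictScalars_finite F _ V
  let g : V →ₗ[AdjoinRoot (X ^ r - C c : F[X])] V :=
    (AdjoinRoot.root (X ^ r - C c : F[X])) • LinearMap.id
  have hg : g.restrictScalars F = f := by
    ext v
    simp only [LinearMap.coe_restrictScalars, g, LinearMap.smul_apply, LinearMap.id_coe, id_eq,
      hsmul]
    rw [hρroot]
  have hdet : LinearMap.det f = Algebra.norm F (LinearMap.det g) := by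
    rw [← hg, LinearMap.det_restrictScalars]
  rw [LinearMap.det_smul, LinearMap.det_id, mul_one, map_pow, norm_root_X_pow_sub_C r hr] at hdet
  refine ⟨finrank (AdjoinRoot (X ^ r - C c : F[X])) V, ?_, hdet⟩
  rw [← Module.finrank_mul_finrank F (AdjoinRoot (X ^ r - C c : F[X])) V,
    finrank_adjoinRoot_X_pow_sub_C r hr]
  ring

end Cfsg.Agent.Helper59.Elusive
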