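import Mathlib

set_option autoImplicit false

/-!
# Transport between abstract endomorphisms of determinant one and `SL_n(F)`
-/

namespace Cfsg.Agent.Helper59.Elusive

open Module

variable {F : Type*} [Field F]

/-- the matrix-level hypothesis: every element of `SL_n(F)` whose `r`-th power is scalar and
which is not scalar has an invariant `m`-space. -/
def ElusiveProp (F : Type*) [Field F] (n m r : ℕ) : Prop :=
  ∀ x : Matrix.SpecialLinearGroup (Fin n) F,
      (∃ c : F, ((x ^ r : Matrix.SpecialLinearGroup (Fin n) F) : Matrix (Fin n) (Fin n) F) =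
        c • (1 : Matrix (Fin n) (Fin n) F)) →
      (∀ c : F, (x : Matrix (Fin n) (Fin n) F) ≠ c • (1 : Matrix (Fin n) (Fin n) F)) →
      ∃ W : Submodule F (Fin n → F), Module.finrank F ↥W = m ∧
        W.map (Matrix.toLin' (x : Matrix (Fin n) (Fin n) F)) ≤ W

/-- From the matrix statement about `SL_n(F)` to abstract endomorphisms of an `n`-dimensional
space. -/
theorem transport {V : Type*} [AddCommGroup V] [Module F V] [FiniteDimensional F V] (n m r : ℕ)
    (hV : finrank F V = n)
    (H : ElusiveProp F n m r)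
    (f : V →ₗ[F] V) (hdet : LinearMap.det f = 1) (c : F) (hpow : f ^ r = c • (1 : V →ₗ[F] V))
    (hns : ∀ c : F, f ≠ c • (1 : V →ₗ[F] V)) :
    ∃ U : Submodule F V, finrank F ↥U = m ∧ U.map f ≤ U := by
  classical
  let b : Basis (Fin n) F V := Module.finBasisOfFinrankEq F V hV
  let x : Matrix.SpecialLinearGroup (Fin n) F :=
    ⟨LinearMap.toMatrix b b f, by rw [LinearMap.det_toMatrix]; exact hdet⟩
  have hx : (x : Matrix (Fin n) (Fin n) F) = LinearMap.toMatrix b b f := rfl
  have h1 : ∃ c : F, ((x ^ r : Matrix.SpecialLinearGroup (Fin n) F) : Matrix (Fin n) (Fin n) F) =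
      c • (1 : Matrix (Fin n) (Fin n) F) := by
    refine ⟨c, ?_⟩
    rw [Matrix.SpecialLinearGroup.coe_pow, hx, LinearMap.toMatrix_pow, hpow, map_smul,
      LinearMap.toMatrix_one]
  have h2 : ∀ c : F, (x : Matrix (Fin n) (Fin n) F) ≠ c • (1 : Matrix (Fin n) (Fin n) F) := by
    intro c' hc'
    apply hns c'
    apply (LinearMap.toMatrix b b).injective
    rw [map_smul, LinearMap.toMatrix_one, ← hx, hc']
  obtain ⟨W, hWm, hWinv⟩ := H x h1 h2
  refine ⟨W.map (b.equivFun.symm : (Fin n → F) →ₗ[F] V), ?_, ?_⟩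
  · rw [LinearEquiv.finrank_map_eq]; exact hWm
  · rintro _ ⟨u, ⟨w, hw, rfl⟩, rfl⟩
    refine ⟨Matrix.toLin' (x : Matrix (Fin n) (Fin n) F) w, hWinv ⟨w, hw, rfl⟩, ?_⟩
    have h3 := LinearMap.toMatrix_mulVec_repr b b f (b.equivFun.symm w)
    have h4 : (b.repr (b.equivFun.symm w) : Fin n → F) = w := by
      rw [← Basis.equivFun_apply, LinearEquiv.apply_symm_apply]
    rw [h4] at h3
    show b.equivFun.symm (Matrix.toLin' (LinearMap.toMatrix b b f) w) = f (b.equivFun.symm w)
    rw [Matrix.toLin'_apply, h3, ← Basis.equivFun_apply, LinearEquiv.symm_apply_apply]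

end Cfsg.Agent.Helper59.Elusive
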