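import Mathlib
import Cfsg.Agent.Helper59.InvChain
import Cfsg.Agent.Helper59.ElusiveCyc
import Cfsg.Agent.Helper59.ElusiveDet
import Cfsg.Agent.Helper59.ElusiveTransport

set_option autoImplicit false

/-!
# Constructions of elements without invariant `m`-spaces
-/

namespace Cfsg.Agent.Helper59.Elusive

open Polynomial Module
open Cfsg.Agent.Helper59.InvChain

section general

variable {F : Type*} [Field F]

theorem HP_of_irreducible (P : F[X]) (hP : Irreducible P) : HP P P.natDegree := by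
  refine ⟨hP.ne_zero, ?_⟩
  intro Q hQ hdvd
  have : Associated Q P := hQ.associated_of_dvd hP hdvd
  exact natDegree_eq_of_degree_eq (degree_eq_degree_of_associated this)

theorem HP_X_pow_sub_C (r : ℕ) (hr : 0 < r) (c : F) (hirr : Irreducible (X ^ r - C c : F[X])) :
    HP (X ^ r - C c : F[X]) r := by
  have := HP_of_irreducible _ hirr
  rwa [natDegree_X_pow_sub_C] at this

theorem aeval_X_pow_sub_C {V : Type*} [AddCommGroup V] [Module F V] (r : ℕ) (c : F)
    (f : V →ₗ[F] V) (hf : f ^ r = c • (1 : V →ₗ[F] V)) :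
    aeval f (X ^ r - C c : F[X]) = 0 := by
  rw [map_sub, map_pow, aeval_X, aeval_C, hf, Algebra.algebraMap_eq_smul_one, sub_self]

/-- scalar from an equality of scalar endomorphisms on a nonzero space -/
theorem smul_one_injective {V : Type*} [AddCommGroup V] [Module F V] (hV : 0 < finrank F V)
    (a b : F) (h : a • (1 : V →ₗ[F] V) = b • (1 : V →ₗ[F] V)) : a = b := by
  haveI : Nontrivial V := Module.nontrivial_of_finrank_pos (R := F) hV
  obtain ⟨v, hv⟩ := exists_ne (0 : V)
  have h1 := LinearMap.congr_fun h v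
  simp only [LinearMap.smul_apply, Module.End.one_apply] at h1
  have h2 : (a - b) • v = 0 := by rw [sub_smul, h1, sub_self]
  rcases smul_eq_zero.mp h2 with h3 | h3
  · exact sub_eq_zero.mp h3
  · exact absurd h3 hv

end general

section E2

variable {F : Type*} [Field F]

/-- If `X^r - c` is irreducible, `r ∣ n`, `r ∤ m` and the norm condition holds, then `SL_n(F)`
contains an element with scalar `r`-th power and no invariant `m`-space. -/
theorem not_elusive_of_irr (n m r : ℕ) (hr : r.Prime) (H : ElusiveProp F n m r) (hn : 0 < n)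
    (hrm : ¬ r ∣ m) (c : F) (hc : ∀ b : F, b ^ r ≠ c) (hrn : r ∣ n)
    (hdet : ((-1) ^ (r + 1) * c) ^ (n / r) = 1) : False := by
  have hirr : Irreducible (X ^ r - C c : F[X]) :=
    (X_pow_sub_C_irreducible_iff_of_prime hr).mpr hc
  haveI : Fact (Irreducible (X ^ r - C c : F[X])) := ⟨hirr⟩
  have hθ : (AdjoinRoot.root (X ^ r - C c : F[X])) ^ r =
      algebraMap F (AdjoinRoot (X ^ r - C c : F[X])) c := by
    have h1 : aeval (AdjoinRoot.root (X ^ r - C c : F[X])) (X ^ r - C c : F[X]) = 0 := by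
      rw [AdjoinRoot.aeval_eq, AdjoinRoot.mk_self]
    rw [map_sub, map_pow, aeval_X, aeval_C] at h1
    exact sub_eq_zero.mp h1
  let f : (Fin (n / r) → AdjoinRoot (X ^ r - C c : F[X])) →ₗ[F]
      (Fin (n / r) → AdjoinRoot (X ^ r - C c : F[X])) :=
    Algebra.lsmul F F (Fin (n / r) → AdjoinRoot (X ^ r - C c : F[X]))
      (AdjoinRoot.root (X ^ r - C c : F[X]))
  have hf : f ^ r = c • (1 : (Fin (n / r) → AdjoinRoot (X ^ r - C c : F[X])) →ₗ[F]
      (Fin (n / r) → AdjoinRoot (X ^ r - C c : F[X]))) := by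
    show (Algebra.lsmul F F (Fin (n / r) → AdjoinRoot (X ^ r - C c : F[X]))
      (AdjoinRoot.root (X ^ r - C c : F[X]))) ^ r = _
    rw [← map_pow, hθ, AlgHom.commutes, Algebra.algebraMap_eq_smul_one]
  have hfin : finrank F (Fin (n / r) → AdjoinRoot (X ^ r - C c : F[X])) = n := by
    rw [← Module.finrank_mul_finrank F (AdjoinRoot (X ^ r - C c : F[X]))
      (Fin (n / r) → AdjoinRoot (X ^ r - C c : F[X])),
      finrank_adjoinRoot_X_pow_sub_C r hr.pos, Module.finrank_fin_fun, Nat.mul_div_cancel' hrn]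
  haveI : FiniteDimensional F (Fin (n / r) → AdjoinRoot (X ^ r - C c : F[X])) :=
    Module.finite_of_finrank_pos (by rw [hfin]; exact hn)
  obtain ⟨d, hd, hdetf⟩ := det_of_pow_eq r hr.pos c hirr f hf
  have hdd : d = n / r := by
    rw [hfin] at hd
    rw [hd, Nat.mul_div_cancel _ hr.pos]
  have hdet1 : LinearMap.det f = 1 := by rw [hdetf, hdd]; exact hdet
  have hns : ∀ c' : F, f ≠ c' • (1 : (Fin (n / r) → AdjoinRoot (X ^ r - C c : F[X])) →ₗ[F]
      (Fin (n / r) → AdjoinRoot (X ^ r - C c : F[X]))) := by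
    intro c' hc'
    have h1 : c' ^ r • (1 : (Fin (n / r) → AdjoinRoot (X ^ r - C c : F[X])) →ₗ[F]
      (Fin (n / r) → AdjoinRoot (X ^ r - C c : F[X]))) = c • 1 := by
      rw [← hf, hc', _root_.smul_pow, one_pow]
    exact hc c' (smul_one_injective (by rw [hfin]; exact hn) _ _ h1)
  obtain ⟨U, hUm, hUinv⟩ := transport n m r hfin H f hdet1 c hf hns
  have h2 := dvd_finrank_of_inv f _ r hr.pos (HP_X_pow_sub_C r hr.pos c hirr) U hUinv
    (fun u _ => by rw [aeval_X_pow_sub_C r c f hf]; rfl)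
  rw [hUm] at h2
  exact hrm h2

end E2

section E1

variable {F : Type*} [Field F] [Fintype F]

theorem eq_one_of_pow_eq_one_of_coprime (r : ℕ) (hr : r ≠ 0)
    (hcop : Nat.Coprime r (Fintype.card F - 1)) (a : F) (ha : a ^ r = 1) : a = 1 := by
  have ha0 : a ≠ 0 := by
    rintro rfl
    rw [zero_pow hr] at ha
    exact zero_ne_one ha
  have h1 : a ^ (Fintype.card F - 1) = 1 := FiniteField.pow_card_sub_one_eq_one a ha0
  have h2 : orderOf a ∣ r := orderOf_dvd_of_pow_eq_one ha
  have h3 : orderOf a ∣ Fintype.card F - 1 := orderOf_dvd_of_pow_eq_one h1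
  have h4 : orderOf a ∣ 1 := by
    have := Nat.dvd_gcd h2 h3
    rwa [hcop.gcd_eq_one] at this
  exact orderOf_eq_one_iff.mp (Nat.dvd_one.mp h4)

theorem exists_pow_eq_of_coprime (r : ℕ) (hr : r ≠ 0)
    (hcop : Nat.Coprime r (Fintype.card F - 1)) (c : F) : ∃ l : F, l ^ r = c := by
  have hinj : Function.Injective (fun a : F => a ^ r) := by
    intro a b hab
    simp only at hab
    by_cases hb : b = 0
    · subst hb
      rw [zero_pow hr] at hab
      exact (pow_eq_zero_iff hr).mp hab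
    · have h1 : (a / b) ^ r = 1 := by rw [div_pow, hab, div_self (pow_ne_zero _ hb)]
      have h2 := eq_one_of_pow_eq_one_of_coprime r hr hcop _ h1
      exact (div_eq_one_iff_eq hb).mp h2
  exact (Finite.injective_iff_surjective.mp hinj) c

theorem orderOf_eq_one_iff_dvd (r : ℕ) (q : ℕ) (hq : 1 ≤ q) :
    orderOf ((q : ℕ) : ZMod r) = 1 ↔ r ∣ q - 1 := by
  rw [orderOf_eq_one_iff, ← ZMod.natCast_eq_zero_iff, Nat.cast_sub hq, Nat.cast_one, sub_eq_zero]

/-- The construction for `i ≥ 2`. -/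
theorem cond_of_elusive {p : ℕ} [Fact p.Prime] [CharP F p] (n m r : ℕ) [Fact r.Prime]
    (hrp : r ≠ p) (H : ElusiveProp F n m r)
    (hi2 : 2 ≤ orderOf ((Fintype.card F : ℕ) : ZMod r))
    (hin : orderOf ((Fintype.card F : ℕ) : ZMod r) ≤ n) :
    ∃ a : ℕ, a ≤ n % orderOf ((Fintype.card F : ℕ) : ZMod r) ∧ a ≤ m ∧
      orderOf ((Fintype.card F : ℕ) : ZMod r) ∣ m - a := by
  classical
  set i := orderOf ((Fintype.card F : ℕ) : ZMod r) with hidef
  have hr : r.Prime := Fact.out
  have hnd : ¬ r ∣ Fintype.card F - 1 := by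
    intro h
    have := (orderOf_eq_one_iff_dvd r (Fintype.card F) Fintype.card_pos).mpr h
    omega
  have hcop : Nat.Coprime r (Fintype.card F - 1) := (Nat.Prime.coprime_iff_not_dvd hr).mpr hnd
  have hnu : ¬ IsUnit (cyclotomic r F) := by
    apply not_isUnit_of_natDegree_pos
    rw [natDegree_cyclotomic, Nat.totient_prime hr]
    have := hr.two_le
    omega
  obtain ⟨Q, hQirr, hQdvd⟩ := WfDvdMonoid.exists_irreducible_factor hnu (cyclotomic_ne_zero r F)
  have hQdeg : Q.natDegree = i := (HP_cyclotomic r hrp).2 Q hQirr hQdvd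
  haveI : Fact (Irreducible Q) := ⟨hQirr⟩
  have hEfin : finrank F (AdjoinRoot Q) = i := by
    rw [(AdjoinRoot.powerBasis hQirr.ne_zero).finrank, AdjoinRoot.powerBasis_dim, hQdeg]
  haveI : Module.Finite F (AdjoinRoot Q) := (AdjoinRoot.powerBasis hQirr.ne_zero).finite
  have hω : (AdjoinRoot.root Q) ^ r = 1 := by
    have hdvd : Q ∣ (X ^ r - 1 : F[X]) := hQdvd.trans (cyclotomic.dvd_X_pow_sub_one r F)
    have h1 : aeval (AdjoinRoot.root Q) (X ^ r - 1 : F[X]) = 0 := by
      rw [AdjoinRoot.aeval_eq, AdjoinRoot.mk_eq_zero]; exact hdvd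
    rw [map_sub, map_pow, aeval_X, map_one] at h1
    exact sub_eq_zero.mp h1
  have hω1 : AdjoinRoot.root Q ≠ 1 := by
    intro h
    have h1 : aeval (AdjoinRoot.root Q) (X - C 1 : F[X]) = 0 := by
      rw [map_sub, aeval_X, aeval_C, map_one, h, sub_self]
    rw [AdjoinRoot.aeval_eq, AdjoinRoot.mk_eq_zero] at h1
    have h2 := natDegree_le_of_dvd h1 (X_sub_C_ne_zero 1)
    rw [natDegree_X_sub_C, hQdeg] at h2
    omega
  let g : Module.End F (Fin (n / i) → AdjoinRoot Q) :=
    Algebra.lsmul F F (Fin (n / i) → AdjoinRoot Q) (AdjoinRoot.root Q)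
  have hg : g ^ r = 1 := by
    show (Algebra.lsmul F F (Fin (n / i) → AdjoinRoot Q) (AdjoinRoot.root Q)) ^ r = 1
    rw [← map_pow, hω, map_one]
  let f : ((Fin (n % i) → F) × (Fin (n / i) → AdjoinRoot Q)) →ₗ[F]
      ((Fin (n % i) → F) × (Fin (n / i) → AdjoinRoot Q)) :=
    LinearMap.prodMapRingHom F (Fin (n % i) → F) (Fin (n / i) → AdjoinRoot Q) (1, g)
  have hf : f ^ r = 1 := by
    show (LinearMap.prodMapRingHom F (Fin (n % i) → F) (Fin (n / i) → AdjoinRoot Q) (1, g)) ^ r = 1
    rw [← map_pow, Prod.pow_mk, one_pow, hg]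
    exact map_one _
  have hfapp : ∀ v : (Fin (n % i) → F) × (Fin (n / i) → AdjoinRoot Q),
      f v = (v.1, AdjoinRoot.root Q • v.2) := fun v => rfl
  have hfin : finrank F ((Fin (n % i) → F) × (Fin (n / i) → AdjoinRoot Q)) = n := by
    rw [Module.finrank_prod, Module.finrank_fin_fun,
      ← Module.finrank_mul_finrank F (AdjoinRoot Q) (Fin (n / i) → AdjoinRoot Q), hEfin,
      Module.finrank_fin_fun]
    exact Nat.mod_add_div n i
  have hfix : fixSp f ≤ LinearMap.range
      (LinearMap.inl F (Fin (n % i) → F) (Fin (n / i) → AdjoinRoot Q)) := by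
    intro v hv
    rw [mem_fixSp, hfapp] at hv
    have h2 : AdjoinRoot.root Q • v.2 = v.2 := congrArg Prod.snd hv
    have h3 : (AdjoinRoot.root Q - 1) • v.2 = 0 := by rw [sub_smul, one_smul, h2, sub_self]
    rcases smul_eq_zero.mp h3 with h4 | h4
    · exact absurd (sub_eq_zero.mp h4) hω1
    · exact ⟨v.1, Prod.ext rfl h4.symm⟩
  have hfixdim : finrank F ↥(fixSp f) ≤ n % i := by
    calc finrank F ↥(fixSp f) ≤ finrank F ↥(LinearMap.range
          (LinearMap.inl F (Fin (n % i) → F) (Fin (n / i) → AdjoinRoot Q))) :=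
          Submodule.finrank_mono hfix
      _ = finrank F (Fin (n % i) → F) := LinearMap.finrank_range_of_inj LinearMap.inl_injective
      _ = n % i := Module.finrank_fin_fun F
  have hdet : LinearMap.det f = 1 :=
    eq_one_of_pow_eq_one_of_coprime r hr.ne_zero hcop _ (by rw [← map_pow, hf, map_one])
  have hipos : 0 < i := by omega
  have hnpos : 0 < n := by omega
  have hns : ∀ c' : F, f ≠ c' • (1 : ((Fin (n % i) → F) × (Fin (n / i) → AdjoinRoot Q)) →ₗ[F]
      ((Fin (n % i) → F) × (Fin (n / i) → AdjoinRoot Q))) := by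
    intro c' hc'
    have h1 : c' ^ r • (1 : ((Fin (n % i) → F) × (Fin (n / i) → AdjoinRoot Q)) →ₗ[F]
        ((Fin (n % i) → F) × (Fin (n / i) → AdjoinRoot Q))) = (1 : F) • 1 := by
      have h0 : f ^ r = c' ^ r • 1 := by rw [hc', _root_.smul_pow, one_pow]
      rw [one_smul, ← h0, hf]
    have h2 : c' ^ r = 1 := smul_one_injective (by rw [hfin]; exact hnpos) _ _ h1
    have h3 : c' = 1 := eq_one_of_pow_eq_one_of_coprime r hr.ne_zero hcop c' h2
    have h4 : fixSp f = ⊤ := by
      rw [eq_top_iff]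
      intro v _
      rw [mem_fixSp, hc', h3, one_smul]
      rfl
    rw [h4, finrank_top, hfin] at hfixdim
    have := Nat.mod_lt n hipos
    omega
  obtain ⟨U, hUm, hUinv⟩ := transport n m r hfin H f hdet 1 (by rw [hf, one_smul]) hns
  obtain ⟨a, ha1, ha2, ha3⟩ := cond_of_exists_inv r hrp f hf m U hUinv hUm hipos
  exact ⟨a, ha1.trans hfixdim, ha2, ha3⟩

end E1

end Cfsg.Agent.Helper59.Elusive
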