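import Mathlib
import Cfsg.Agent.Helper13.FExtDefs

/-!
# (K4) for helper13 (S5975): a `K`-invariant subspace has dimension divisible by `[K : F]`
-/

set_option autoImplicit false

namespace Cfsg.Agent.Helper59.FExtK4

open Matrix Cfsg Cfsg.Geo
open Cfsg.Agent.Helper13.FExt

variable {F : Type*} [Field F] {ι : Type} [Fintype ι] [DecidableEq ι]

/-- evaluation of the subalgebra at a vector -/
def evK (K : Subalgebra F (Matrix ι ι F)) (w : ι → F) : ↥K →ₗ[F] (ι → F) where
  toFun a := a.1 *ᵥ w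
  map_add' a b := by
    show (a.1 + b.1) *ᵥ w = _
    rw [add_mulVec]
  map_smul' c a := by
    show (c • a.1) *ᵥ w = _
    rw [smul_mulVec]
    rfl

theorem evK_apply (K : Subalgebra F (Matrix ι ι F)) (w : ι → F) (a : ↥K) :
    evK K w a = a.1 *ᵥ w := rfl

theorem exists_inv' {k : ℕ} {K : Subalgebra F (Matrix ι ι F)} (hK : IsFieldSubalgebra k K)
    {x : Matrix ι ι F} (hx : x ∈ K) (h0 : x ≠ 0) : ∃ y ∈ K, y * x = 1 := by
  obtain ⟨y, hy, hxy⟩ := hK.inv x hx h0
  exact ⟨y, hy, by rw [← hK.comm x hx y hy]; exact hxy⟩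

theorem evK_injective {k : ℕ} {K : Subalgebra F (Matrix ι ι F)} (hK : IsFieldSubalgebra k K)
    {w : ι → F} (hw : w ≠ 0) : Function.Injective (evK K w) := by
  rw [← LinearMap.ker_eq_bot, Submodule.eq_bot_iff]
  intro a ha
  rw [LinearMap.mem_ker, evK_apply] at ha
  by_contra h0
  obtain ⟨y, -, hyx⟩ := exists_inv' hK a.2 (fun h => h0 (Subtype.ext h))
  apply hw
  have : (y * a.1) *ᵥ w = w := by rw [hyx, one_mulVec]
  rw [← this, ← mulVec_mulVec, ha, mulVec_zero]

theorem finrank_range_evK {k : ℕ} {K : Subalgebra F (Matrix ι ι F)} (hK : IsFieldSubalgebra k K)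
    {w : ι → F} (hw : w ≠ 0) : Module.finrank F (LinearMap.range (evK K w)) = k := by
  rw [LinearMap.finrank_range_of_inj (evK_injective hK hw), hK.finrank_eq]

theorem KInv_range_evK (K : Subalgebra F (Matrix ι ι F)) (w : ι → F) :
    KInv K (LinearMap.range (evK K w)) := by
  rintro a ha _ ⟨b, rfl⟩
  refine ⟨⟨a * b.1, K.mul_mem ha b.2⟩, ?_⟩
  rw [evK_apply, evK_apply, mulVec_mulVec]

theorem range_evK_le (K : Subalgebra F (Matrix ι ι F)) {W : Submodule F (ι → F)} (hW : KInv K W)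
    {w : ι → F} (hw : w ∈ W) : LinearMap.range (evK K w) ≤ W := by
  rintro _ ⟨b, rfl⟩
  exact hW b.1 b.2 w hw

theorem mem_range_evK (K : Subalgebra F (Matrix ι ι F)) (w : ι → F) :
    w ∈ LinearMap.range (evK K w) :=
  ⟨⟨1, K.one_mem⟩, by rw [evK_apply]; exact one_mulVec w⟩

theorem inf_range_evK_eq_bot {k : ℕ} {K : Subalgebra F (Matrix ι ι F)} (hK : IsFieldSubalgebra k K)
    {W' : Submodule F (ι → F)} (hW' : KInv K W') {w : ι → F} (hw : w ∉ W') :
    W' ⊓ LinearMap.range (evK K w) = ⊥ := by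
  rw [Submodule.eq_bot_iff]
  rintro v ⟨hv1, a, rfl⟩
  rw [evK_apply] at hv1 ⊢
  by_contra h0
  have ha0 : a.1 ≠ 0 := by
    intro h
    apply h0
    rw [h, zero_mulVec]
  obtain ⟨y, hy, hyx⟩ := exists_inv' hK a.2 ha0
  apply hw
  have h1 := hW' y hy _ hv1
  rwa [mulVec_mulVec, hyx, one_mulVec] at h1

theorem KInv_sup (K : Subalgebra F (Matrix ι ι F)) {W₁ W₂ : Submodule F (ι → F)}
    (h₁ : KInv K W₁) (h₂ : KInv K W₂) : KInv K (W₁ ⊔ W₂) := by
  intro a ha v hv
  obtain ⟨v₁, hv₁, v₂, hv₂, rfl⟩ := Submodule.mem_sup.1 hv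
  rw [mulVec_add]
  exact Submodule.add_mem_sup (h₁ a ha v₁ hv₁) (h₂ a ha v₂ hv₂)

theorem dvd_aux {k : ℕ} {K : Subalgebra F (Matrix ι ι F)} (hK : IsFieldSubalgebra k K)
    (W : Submodule F (ι → F)) (hW : KInv K W) :
    ∀ (n : ℕ) (W' : Submodule F (ι → F)), W' ≤ W → KInv K W' → k ∣ Module.finrank F W' →
      Module.finrank F W - Module.finrank F W' = n → k ∣ Module.finrank F W := by
  intro n
  induction n using Nat.strong_induction_on with
  | _ n ih =>
    intro W' hle hinv hdvd hn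
    by_cases hWW : W' = W
    · rw [← hWW]; exact hdvd
    obtain ⟨w, hwW, hwW'⟩ := SetLike.exists_of_lt (lt_of_le_of_ne hle hWW)
    have hw0 : w ≠ 0 := by rintro rfl; exact hwW' W'.zero_mem
    have hlt : W' < W' ⊔ LinearMap.range (evK K w) := by
      refine lt_of_le_of_ne le_sup_left ?_
      intro h
      apply hwW'
      rw [h]
      exact Submodule.mem_sup_right (mem_range_evK K w)
    have hle' : W' ⊔ LinearMap.range (evK K w) ≤ W := sup_le hle (range_evK_le K hW hwW)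
    have hfr := Submodule.finrank_sup_add_finrank_inf_eq W' (LinearMap.range (evK K w))
    rw [inf_range_evK_eq_bot hK hinv hwW', finrank_bot, add_zero, finrank_range_evK hK hw0] at hfr
    have h1 := Submodule.finrank_lt_finrank_of_lt hlt
    have h2 := Submodule.finrank_mono hle'
    refine ih (Module.finrank F W - Module.finrank F ↥(W' ⊔ LinearMap.range (evK K w))) (by omega)
      (W' ⊔ LinearMap.range (evK K w)) hle' (KInv_sup K hinv (KInv_range_evK K w)) ?_ rfl
    rw [hfr]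
    exact Dvd.dvd.add hdvd (dvd_refl k)

/-- (K4) a `K`-invariant subspace has dimension divisible by `k` -/
theorem dvd_finrank_of_KInv (k : ℕ) (K : Subalgebra F (Matrix ι ι F))
    (hK : IsFieldSubalgebra k K) (W : Submodule F (ι → F)) (hW : KInv K W) :
    k ∣ Module.finrank F W := by
  refine dvd_aux hK W hW _ ⊥ bot_le ?_ ?_ rfl
  · intro a _ v hv
    rw [Submodule.mem_bot] at hv ⊢
    rw [hv, mulVec_zero]
  · rw [finrank_bot]
    exact dvd_zero k

end Cfsg.Agent.Helper59.FExtK4
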