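import Mathlib
import Cfsg.Agent.Helper13.USubDefs
import Cfsg.Agent.Helper63.SubOddIDX
import Cfsg.Agent.Helper45.GUCard
import Cfsg.Agent.Helper5.Card

/-!
# (UIDX) for helper13 (S5982): the index of `SimH ⊓ SL_n(F)` in `SL_n(F)` is prime to `r`
when the `r`-parts of `q ^ j - 1` and `q₀ ^ j - (-1) ^ j` agree for `2 ≤ j ≤ n`.
-/

set_option autoImplicit false

namespace Cfsg.Agent.Helper59.USubUIDX

open Matrix Polynomial Cfsg Cfsg.Geo
open Cfsg.Agent.Helper13.USub
open Cfsg.Agent.Helper63.SubOddORD Cfsg.Agent.Helper63.SubOddIDX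

variable {F : Type*} [Field F] {n : ℕ}

/-- isometries are similitudes -/
theorem GU_le_SimH (q₀ : ℕ) : Cfsg.GU n F q₀ ≤ SimH n F q₀ := by
  intro g hg
  refine ⟨1, fun u v => ?_⟩
  rw [Units.val_one, one_mul]
  exact hg u v

/-- the determinant of an isometry has norm one -/
theorem det_pow_eq_one_of_mem_GU [Fintype F] (q₀ : ℕ) (hF : Fintype.card F = q₀ ^ 2)
    (g : GL (Fin n) F) (hg : g ∈ Cfsg.GU n F q₀) :
    (Matrix.GeneralLinearGroup.det g) ^ (q₀ + 1) = 1 := by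
  obtain ⟨bar, hbar⟩ := Cfsg.Agent.Helper45.GU.exists_bar hF
  have h1 := Cfsg.Agent.Helper45.GU.unitary_of_herm bar _
    ((Cfsg.Agent.Helper45.GU.mem_GU_iff n bar hbar g).1 hg)
  have h2 := congrArg Matrix.det h1
  rw [Matrix.det_mul, Matrix.det_transpose, Matrix.det_one] at h2
  have h3 : ((g : Matrix (Fin n) (Fin n) F).map bar).det = bar (g : Matrix (Fin n) (Fin n) F).det :=
    (RingHom.map_det bar _).symm
  rw [h3, hbar] at h2
  apply Units.ext
  rw [Units.val_pow_eq_pow_val, Units.val_one, Matrix.GeneralLinearGroup.val_det_apply, pow_succ',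
    h2]

/-- a finite subgroup of `Fˣ` of exponent dividing `m` has order dividing `m` -/
theorem card_dvd_of_forall_pow_eq_one [Fintype F] (K : Subgroup Fˣ) (m : ℕ)
    (h : ∀ c ∈ K, c ^ m = 1) : Nat.card K ∣ m := by
  obtain ⟨g, hg⟩ := IsCyclic.exists_generator (α := K)
  have h1 : orderOf g = Nat.card K := orderOf_eq_card_of_forall_mem_zpowers hg
  rw [← h1]
  apply orderOf_dvd_of_pow_eq_one
  apply Subtype.ext
  rw [Subgroup.coe_pow, Subgroup.coe_one]
  exact h g g.2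

/-- `2 ≤ q₀` when `q₀ ^ 2` is the order of a field -/
theorem two_le_of_card [Fintype F] (q₀ : ℕ) (hF : Fintype.card F = q₀ ^ 2) : 2 ≤ q₀ := by
  have h1 : 2 ≤ Fintype.card F := Fintype.one_lt_card
  rw [hF] at h1
  rcases q₀ with _ | _ | q
  · norm_num at h1
  · norm_num at h1
  · omega

/-- `r ∤ q₀` -/
theorem not_dvd_q0 [Fintype F] (p : ℕ) [Fact p.Prime] [CharP F p] (q₀ : ℕ)
    (hF : Fintype.card F = q₀ ^ 2) (r : ℕ) [Fact r.Prime] (hrp : r ≠ p) : ¬ r ∣ q₀ := by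
  intro h
  apply not_dvd_card_field (F := F) p r hrp
  rw [hF]
  exact h.trans (dvd_pow_self q₀ two_ne_zero)

/-- the `r`-adic valuation of `|GU_n(q₀)|` -/
theorem padicValNat_card_GU [Fintype F] (p : ℕ) [Fact p.Prime] [CharP F p] (q₀ : ℕ)
    (hF : Fintype.card F = q₀ ^ 2) (n : ℕ) (r : ℕ) [Fact r.Prime] (hrp : r ≠ p) :
    padicValNat r (Nat.card (Cfsg.GU n F q₀)) = ∑ i ∈ Finset.range n,
      padicValNat r (if Even i then q₀ ^ (i + 1) + 1 else q₀ ^ (i + 1) - 1) := by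
  have hq := two_le_of_card q₀ hF
  have hrq := not_dvd_q0 p q₀ hF r hrp
  have hne : ∀ i, (if Even i then q₀ ^ (i + 1) + 1 else q₀ ^ (i + 1) - 1) ≠ 0 := by
    intro i
    have : 2 ≤ q₀ ^ (i + 1) := by
      calc 2 ≤ q₀ := hq
        _ = q₀ ^ 1 := (pow_one q₀).symm
        _ ≤ q₀ ^ (i + 1) := Nat.pow_le_pow_right (by omega) (by omega)
    split_ifs <;> omega
  rw [Cfsg.Agent.Helper45.GU.card_GU hF n,
    padicValNat.mul (pow_ne_zero _ (by omega)) (Finset.prod_ne_zero_iff.2 fun i _ => hne i),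
    padicValNat_prod_range r _ n (fun i _ => hne i),
    padicValNat.eq_zero_of_not_dvd (fun h => hrq ((Fact.out : r.Prime).dvd_of_dvd_pow h)), zero_add]

/-- (UIDX) -/
theorem not_dvd_relIndex [Fintype F] (p : ℕ) [Fact p.Prime] [CharP F p] (q₀ : ℕ)
    (hF : Fintype.card F = q₀ ^ 2) (hn : 0 < n) (r : ℕ) [Fact r.Prime] (hrp : r ≠ p)
    (h : ∀ j, 2 ≤ j → j ≤ n → padicValNat r (Fintype.card F ^ j - 1) =
      padicValNat r (if Even j then q₀ ^ j - 1 else q₀ ^ j + 1)) :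
    ¬ r ∣ (SimH n F q₀).relIndex (SLs n F) := by
  classical
  intro hdvd
  have hdvd' : r ∣ (Cfsg.GU n F q₀).relIndex (SLs n F) :=
    hdvd.trans (Subgroup.relIndex_dvd_of_le_left _ (GU_le_SimH q₀))
  have hA : Nat.card ↥(Cfsg.GU n F q₀ ⊓ SLs n F) * (Cfsg.GU n F q₀).relIndex (SLs n F) =
      Nat.card (SLs n F) := by
    rw [← Subgroup.relIndex_bot_left, ← Subgroup.inf_relIndex_right (H := Cfsg.GU n F q₀)
      (K := SLs n F), Subgroup.relIndex_mul_relIndex _ _ _ bot_le inf_le_right,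
      Subgroup.relIndex_bot_left]
  have hB : Nat.card ↥(Cfsg.GU n F q₀ ⊓ SLs n F) * (SLs n F).relIndex (Cfsg.GU n F q₀) =
      Nat.card (Cfsg.GU n F q₀) := by
    rw [← Subgroup.relIndex_bot_left, ← Subgroup.inf_relIndex_left (H := Cfsg.GU n F q₀)
      (K := SLs n F), Subgroup.relIndex_mul_relIndex _ _ _ bot_le inf_le_left,
      Subgroup.relIndex_bot_left]
  have hC : (SLs n F).relIndex (Cfsg.GU n F q₀) ∣ q₀ + 1 := by
    show ((Matrix.GeneralLinearGroup.det : GL (Fin n) F →* Fˣ).ker).relIndex _ ∣ _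
    rw [Subgroup.relIndex_ker]
    apply card_dvd_of_forall_pow_eq_one
    rintro c ⟨g, hg, rfl⟩
    exact det_pow_eq_one_of_mem_GU q₀ hF g hg
  -- valuations
  have hvSL : padicValNat r (Nat.card (SLs n F)) =
      ∑ j ∈ Finset.range (n - 1), padicValNat r (Fintype.card F ^ (j + 2) - 1) := by
    have : Nat.card (SLs n F) = Nat.card (Matrix.SpecialLinearGroup (Fin n) F) :=
      Cfsg.Agent.Helper5.card_ker_det_eq_card_SL
    rw [this]
    exact padicValNat_card_SL F p n hn r hrp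
  have hvU := padicValNat_card_GU (F := F) p q₀ hF n r hrp
  obtain ⟨m, rfl⟩ : ∃ m, n = m + 1 := ⟨n - 1, by omega⟩
  rw [Finset.sum_range_succ'] at hvU
  rw [Nat.add_sub_cancel] at hvSL
  have hsum : ∑ j ∈ Finset.range m, padicValNat r (Fintype.card F ^ (j + 2) - 1) =
      ∑ j ∈ Finset.range m, padicValNat r
        (if Even (j + 1) then q₀ ^ (j + 1 + 1) + 1 else q₀ ^ (j + 1 + 1) - 1) := by
    apply Finset.sum_congr rfl
    intro j hj
    rw [Finset.mem_range] at hj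
    rw [h (j + 2) (by omega) (by omega)]
    by_cases hj2 : Even j
    · have e1 : Even (j + 2) := by
        rw [Nat.even_add]; simp [hj2]
      have e2 : ¬ Even (j + 1) := by
        rw [Nat.even_add_one]; simpa using hj2
      rw [if_pos e1, if_neg e2]
    · have e1 : ¬ Even (j + 2) := by
        rw [Nat.even_add]; simp [hj2]
      have e2 : Even (j + 1) := by
        rw [Nat.even_add_one]; exact hj2
      rw [if_neg e1, if_pos e2]
  rw [hsum] at hvSL
  have hq := two_le_of_card q₀ hF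
  have hcard : Nat.card ↥(Cfsg.GU (m + 1) F q₀ ⊓ SLs (m + 1) F) ≠ 0 := Nat.card_pos.ne'
  have hrel1 : (Cfsg.GU (m + 1) F q₀).relIndex (SLs (m + 1) F) ≠ 0 := by
    have h0 : Nat.card (SLs (m + 1) F) ≠ 0 := Nat.card_pos.ne'
    rw [← hA] at h0
    exact right_ne_zero_of_mul h0
  have hrel2 : (SLs (m + 1) F).relIndex (Cfsg.GU (m + 1) F q₀) ≠ 0 := by
    have h0 : Nat.card (Cfsg.GU (m + 1) F q₀) ≠ 0 := Nat.card_pos.ne'
    rw [← hB] at h0
    exact right_ne_zero_of_mul h0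
  have hvA := congrArg (padicValNat r) hA
  have hvB := congrArg (padicValNat r) hB
  rw [padicValNat.mul hcard hrel1] at hvA
  rw [padicValNat.mul hcard hrel2] at hvB
  obtain ⟨c, hc⟩ := hC
  have hc0 : c ≠ 0 := by
    rintro rfl
    rw [mul_zero] at hc
    omega
  have hvC := congrArg (padicValNat r) hc
  rw [padicValNat.mul hrel2 hc0] at hvC
  have hx := one_le_padicValNat_of_dvd hrel1 hdvd'
  have e0 : Even 0 := ⟨0, rfl⟩
  rw [if_pos e0, zero_add, pow_one] at hvU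
  omega

end Cfsg.Agent.Helper59.USubUIDX
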