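import Mathlib
import Cfsg.Agent.Helper13.USubDefs
import Cfsg.Agent.Helper63.SubOddORD

/-!
# (UORD) for helper13 (S5982): a prime `r ≠ p` dividing the index of `M ⊓ SL_n(F)` in `SL_n(F)`
divides some `q ^ j - 1`, `0 < j ≤ n`.
-/

set_option autoImplicit false

namespace Cfsg.Agent.Helper59.USubUORD

open Matrix Polynomial Cfsg Cfsg.Geo
open Cfsg.Agent.Helper13.USub
open Cfsg.Agent.Helper63.SubOddORD

variable {F : Type*} [Field F] {n : ℕ}

/-- (UORD) -/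
theorem exists_dvd_pow_sub_one_of_dvd_relIndex [Fintype F] (p : ℕ) [Fact p.Prime] [CharP F p]
    (hn : 0 < n) (M : Subgroup (GL (Fin n) F)) (r : ℕ) [Fact r.Prime] (hrp : r ≠ p)
    (h : r ∣ M.relIndex (SLs n F)) : ∃ j, 0 < j ∧ j ≤ n ∧ r ∣ Fintype.card F ^ j - 1 := by
  classical
  have : Nonempty (Fin n) := ⟨⟨0, hn⟩⟩
  have hrq := not_dvd_card_field (F := F) p r hrp
  have h1 : r ∣ Nat.card (SLs n F) := h.trans (Subgroup.index_dvd_card _)
  have h2 : r ∣ Nat.card (GL (Fin n) F) := h1.trans (Subgroup.card_subgroup_dvd_card _)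
  rw [Matrix.card_GL_field] at h2
  obtain ⟨i, _, hi⟩ := (Nat.Prime.prime (Fact.out : r.Prime)).exists_mem_finset_dvd h2
  rw [pow_sub_pow_eq _ _ _ i.2.le] at hi
  rcases (Nat.Prime.dvd_mul (Fact.out : r.Prime)).1 hi with h3 | h3
  · exact absurd ((Fact.out : r.Prime).dvd_of_dvd_pow h3) hrq
  · exact ⟨n - i, Nat.sub_pos_of_lt i.2, Nat.sub_le _ _, h3⟩

end Cfsg.Agent.Helper59.USubUORD
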