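import Mathlib

/-! # A lattice bound for integer matrices with Gram matrix `I + e J` (piece (X-B)) -/

set_option autoImplicit false
set_option linter.unusedSectionVars false

namespace Cfsg.Agent.Helper59.LatticeXB

open Finset

section Core

variable {X T : Type*} [Fintype X] [Fintype T] [DecidableEq T]

/-- the "variance" of a row. -/
def rowV (a : X → T → ℤ) (χ : X) : ℤ := ∑ q, ∑ q', (a χ q - a χ q') ^ 2

/-- the squared norm of a row. -/
def rowN (a : X → T → ℤ) (χ : X) : ℤ := ∑ q, (a χ q) ^ 2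

theorem rowV_nonneg (a : X → T → ℤ) (χ : X) : 0 ≤ rowV a χ :=
  sum_nonneg fun _ _ => sum_nonneg fun _ _ => sq_nonneg _

theorem rowN_nonneg (a : X → T → ℤ) (χ : X) : 0 ≤ rowN a χ :=
  sum_nonneg fun _ _ => sq_nonneg _

theorem rowV_eq_zero_of_const (a : X → T → ℤ) (χ : X) (h : ∀ q q', a χ q = a χ q') :
    rowV a χ = 0 := by
  unfold rowV
  apply sum_eq_zero
  intro q _
  apply sum_eq_zero
  intro q' _
  rw [h q q', sub_self]
  rfl

theorem rowN_eq_zero_of_zero (a : X → T → ℤ) (χ : X) (h : a χ = 0) : rowN a χ = 0 := by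
  unfold rowN
  apply sum_eq_zero
  intro q _
  rw [h]
  rfl

variable (e : ℕ) (a : X → T → ℤ)
  (hG : ∀ q q', ∑ χ, a χ q * a χ q' = (if q = q' then 1 else 0) + (e : ℤ))

include hG

theorem sum_sq_sub (q q' : T) :
    ∑ χ, (a χ q - a χ q') ^ 2 = 2 * (1 - if q = q' then 1 else 0) := by
  have h1 : ∑ χ, (a χ q - a χ q') ^ 2 =
      ∑ χ, a χ q * a χ q - 2 * ∑ χ, a χ q * a χ q' + ∑ χ, a χ q' * a χ q' := by
    rw [mul_sum, ← sum_sub_distrib, ← sum_add_distrib]
    apply sum_congr rfl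
    intro χ _
    ring
  rw [h1, hG, hG, hG]
  simp only [if_true]
  split_ifs <;> ring

theorem sum_rowV :
    ∑ χ, rowV a χ = 2 * (Fintype.card T : ℤ) * ((Fintype.card T : ℤ) - 1) := by
  unfold rowV
  rw [sum_comm]
  have : ∀ q : T, ∑ χ, ∑ q', (a χ q - a χ q') ^ 2 = 2 * ((Fintype.card T : ℤ) - 1) := by
    intro q
    rw [sum_comm]
    simp only [sum_sq_sub e a hG]
    rw [← mul_sum, sum_sub_distrib, sum_ite_eq]
    simp
  rw [sum_congr rfl (fun q _ => this q), sum_const, card_univ, nsmul_eq_mul]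
  ring

theorem sum_rowN : ∑ χ, rowN a χ = (Fintype.card T : ℤ) * (1 + e) := by
  unfold rowN
  rw [sum_comm]
  have : ∀ q : T, ∑ χ, (a χ q) ^ 2 = 1 + (e : ℤ) := by
    intro q
    have := hG q q
    simp only [if_true] at this
    rw [← this]
    apply sum_congr rfl
    intro χ _
    ring
  rw [sum_congr rfl (fun q _ => this q), sum_const, card_univ, nsmul_eq_mul]

omit hG in
/-- a non-constant integer row has variance at least `2 (t - 1)`. -/
theorem rowV_ge (χ : X) (h : ∃ q₁ q₂, a χ q₁ ≠ a χ q₂) :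
    2 * ((Fintype.card T : ℤ) - 1) ≤ rowV a χ := by
  obtain ⟨q₁, q₂, h12⟩ := h
  set S : Finset T := univ.filter (fun q => a χ q = a χ q₁) with hS
  have hq₁ : q₁ ∈ S := by rw [hS, mem_filter]; exact ⟨mem_univ _, rfl⟩
  have hq₂ : q₂ ∈ Sᶜ := by
    rw [mem_compl, hS, mem_filter]
    exact fun h => h12 h.2.symm
  have hk1 : 1 ≤ S.card := card_pos.mpr ⟨q₁, hq₁⟩
  have hk2 : 1 ≤ Sᶜ.card := card_pos.mpr ⟨q₂, hq₂⟩
  have hsum : S.card + Sᶜ.card = Fintype.card T := by rw [card_add_card_compl]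
  have hne : ∀ q ∈ S, ∀ q' ∈ Sᶜ, (1 : ℤ) ≤ (a χ q - a χ q') ^ 2 := by
    intro q hq q' hq'
    rw [hS, mem_filter] at hq
    rw [mem_compl, hS, mem_filter] at hq'
    have : a χ q - a χ q' ≠ 0 := by
      intro h0
      apply hq'
      refine ⟨mem_univ _, ?_⟩
      rw [← hq.2]
      linarith
    have h1 : 0 < (a χ q - a χ q') ^ 2 := by positivity
    linarith
  have hne' : ∀ q ∈ Sᶜ, ∀ q' ∈ S, (1 : ℤ) ≤ (a χ q - a χ q') ^ 2 := by
    intro q hq q' hq'
    have := hne q' hq' q hq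
    have e1 : (a χ q - a χ q') ^ 2 = (a χ q' - a χ q) ^ 2 := by ring
    rw [e1]
    exact this
  unfold rowV
  rw [← sum_add_sum_compl S]
  have hA : (S.card : ℤ) * Sᶜ.card ≤ ∑ q ∈ S, ∑ q', (a χ q - a χ q') ^ 2 := by
    calc (S.card : ℤ) * Sᶜ.card = ∑ q ∈ S, (Sᶜ.card : ℤ) := by
          rw [sum_const, nsmul_eq_mul]
      _ ≤ ∑ q ∈ S, ∑ q', (a χ q - a χ q') ^ 2 := by
          apply sum_le_sum
          intro q hq
          calc (Sᶜ.card : ℤ) = ∑ q' ∈ Sᶜ, (1 : ℤ) := by simp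
            _ ≤ ∑ q' ∈ Sᶜ, (a χ q - a χ q') ^ 2 := sum_le_sum (fun q' hq' => hne q hq q' hq')
            _ ≤ ∑ q', (a χ q - a χ q') ^ 2 :=
              sum_le_sum_of_subset_of_nonneg (subset_univ _) (fun _ _ _ => sq_nonneg _)
  have hB : (Sᶜ.card : ℤ) * S.card ≤ ∑ q ∈ Sᶜ, ∑ q', (a χ q - a χ q') ^ 2 := by
    calc (Sᶜ.card : ℤ) * S.card = ∑ q ∈ Sᶜ, (S.card : ℤ) := by
          rw [sum_const, nsmul_eq_mul]
      _ ≤ ∑ q ∈ Sᶜ, ∑ q', (a χ q - a χ q') ^ 2 := by
          apply sum_le_sum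
          intro q hq
          calc (S.card : ℤ) = ∑ q' ∈ S, (1 : ℤ) := by simp
            _ ≤ ∑ q' ∈ S, (a χ q - a χ q') ^ 2 := sum_le_sum (fun q' hq' => hne' q hq q' hq')
            _ ≤ ∑ q', (a χ q - a χ q') ^ 2 :=
              sum_le_sum_of_subset_of_nonneg (subset_univ _) (fun _ _ _ => sq_nonneg _)
  have hk1' : (1 : ℤ) ≤ S.card := by exact_mod_cast hk1
  have hk2' : (1 : ℤ) ≤ Sᶜ.card := by exact_mod_cast hk2
  have hsum' : (S.card : ℤ) + Sᶜ.card = Fintype.card T := by exact_mod_cast hsum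
  nlinarith

end Core

section Bound

variable {X T : Type*} [Fintype X] [Fintype T] [DecidableEq T]

open Classical in
/-- non-constant rows. -/
noncomputable def NC (a : X → T → ℤ) : Finset X :=
  univ.filter (fun χ => ∃ q₁ q₂, a χ q₁ ≠ a χ q₂)

open Classical in
/-- nonzero constant rows. -/
noncomputable def CT (a : X → T → ℤ) : Finset X :=
  univ.filter (fun χ => (∀ q₁ q₂, a χ q₁ = a χ q₂) ∧ a χ ≠ 0)

open Classical in
/-- nonzero rows. -/
noncomputable def Nz (a : X → T → ℤ) : Finset X := univ.filter (fun χ => a χ ≠ 0)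

theorem mem_NC {a : X → T → ℤ} {χ : X} : χ ∈ NC a ↔ ∃ q₁ q₂, a χ q₁ ≠ a χ q₂ := by
  classical
  simp [NC]

theorem mem_CT {a : X → T → ℤ} {χ : X} :
    χ ∈ CT a ↔ (∀ q₁ q₂, a χ q₁ = a χ q₂) ∧ a χ ≠ 0 := by
  classical
  simp [CT]

theorem mem_Nz {a : X → T → ℤ} {χ : X} : χ ∈ Nz a ↔ a χ ≠ 0 := by
  classical
  simp [Nz]

theorem ne_zero_of_mem_NC {a : X → T → ℤ} {χ : X} (h : χ ∈ NC a) : a χ ≠ 0 := by
  obtain ⟨q₁, q₂, h12⟩ := mem_NC.mp h
  intro h0
  apply h12
  rw [h0]
  rfl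

open Classical in
theorem Nz_eq (a : X → T → ℤ) : Nz a = NC a ∪ CT a := by
  ext χ
  rw [mem_union, mem_Nz, mem_NC, mem_CT]
  constructor
  · intro h
    by_cases hc : ∃ q₁ q₂, a χ q₁ ≠ a χ q₂
    · exact Or.inl hc
    · right
      push Not at hc
      exact ⟨hc, h⟩
  · rintro (h | h)
    · exact ne_zero_of_mem_NC (mem_NC.mpr h)
    · exact h.2

theorem disjoint_NC_CT (a : X → T → ℤ) : Disjoint (NC a) (CT a) := by
  classical
  rw [Finset.disjoint_left]
  intro χ h1 h2
  obtain ⟨q₁, q₂, h12⟩ := mem_NC.mp h1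
  exact h12 ((mem_CT.mp h2).1 q₁ q₂)

theorem card_Nz (a : X → T → ℤ) : (Nz a).card = (NC a).card + (CT a).card := by
  classical
  rw [Nz_eq, card_union_of_disjoint (disjoint_NC_CT a)]

theorem one_le_rowN_of_ne_zero {a : X → T → ℤ} {χ : X} {q : T} (h : a χ q ≠ 0) :
    1 ≤ rowN a χ := by
  have h1 : (a χ q) ^ 2 ≤ rowN a χ :=
    single_le_sum (f := fun q => (a χ q) ^ 2) (fun _ _ => sq_nonneg _) (mem_univ q)
  have h2 : 0 < (a χ q) ^ 2 := by positivity
  linarith

theorem one_le_rowN_of_mem_NC {a : X → T → ℤ} {χ : X} (h : χ ∈ NC a) : 1 ≤ rowN a χ := by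
  obtain ⟨q₁, q₂, h12⟩ := mem_NC.mp h
  by_cases h1 : a χ q₁ = 0
  · have h2 : a χ q₂ ≠ 0 := fun h2 => h12 (h1.trans h2.symm)
    exact one_le_rowN_of_ne_zero h2
  · exact one_le_rowN_of_ne_zero h1

theorem rowN_of_mem_CT {a : X → T → ℤ} {χ : X} (h : χ ∈ CT a) (q₀ : T) :
    rowN a χ = (Fintype.card T : ℤ) * (a χ q₀) ^ 2 ∧ a χ q₀ ≠ 0 := by
  obtain ⟨hc, hne⟩ := mem_CT.mp h
  constructor
  · unfold rowN
    rw [sum_congr rfl (fun q _ => by rw [hc q q₀]), sum_const, card_univ, nsmul_eq_mul]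
  · intro h0
    apply hne
    funext q
    rw [hc q q₀, h0]
    rfl

theorem card_le_rowN_of_mem_CT {a : X → T → ℤ} {χ : X} (h : χ ∈ CT a) (q₀ : T) :
    (Fintype.card T : ℤ) ≤ rowN a χ := by
  obtain ⟨h1, h2⟩ := rowN_of_mem_CT h q₀
  rw [h1]
  have h3 : 0 < (a χ q₀) ^ 2 := by positivity
  have h4 : (0 : ℤ) ≤ Fintype.card T := by positivity
  nlinarith

variable (e : ℕ) (a : X → T → ℤ)
  (hG : ∀ q q', ∑ χ, a χ q * a χ q' = (if q = q' then 1 else 0) + (e : ℤ))

include hG

theorem sum_rowV_NC :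
    ∑ χ ∈ NC a, rowV a χ = 2 * (Fintype.card T : ℤ) * ((Fintype.card T : ℤ) - 1) := by
  classical
  rw [← sum_rowV e a hG]
  apply sum_subset (subset_univ _)
  intro χ _ hχ
  apply rowV_eq_zero_of_const
  intro q q'
  by_contra hne
  exact hχ (mem_NC.mpr ⟨q, q', hne⟩)

theorem sum_rowN_Nz :
    ∑ χ ∈ NC a, rowN a χ + ∑ χ ∈ CT a, rowN a χ = (Fintype.card T : ℤ) * (1 + e) := by
  classical
  rw [← sum_rowN e a hG, ← sum_union (disjoint_NC_CT a), ← Nz_eq]
  apply sum_subset (subset_univ _)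
  intro χ _ hχ
  apply rowN_eq_zero_of_zero
  by_contra hne
  exact hχ (mem_Nz.mpr hne)

/-- the key identity. -/
theorem key_identity :
    ∑ χ ∈ NC a, (rowV a χ - 2 * ((Fintype.card T : ℤ) - 1)) +
      2 * (∑ χ ∈ NC a, (rowN a χ - 1) + ∑ χ ∈ CT a, (rowN a χ - (Fintype.card T : ℤ))) =
      2 * (Fintype.card T : ℤ) * ((Fintype.card T : ℤ) + e - (Nz a).card) := by
  rw [sum_sub_distrib, sum_sub_distrib, sum_sub_distrib, sum_rowV_NC e a hG, card_Nz]
  have h2 := sum_rowN_Nz e a hG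
  simp only [sum_const, nsmul_eq_mul, mul_one]
  push_cast
  linear_combination 2 * h2

theorem card_Nz_le (hT : 0 < Fintype.card T) : (Nz a).card ≤ e + Fintype.card T := by
  have hk := key_identity e a hG
  have h1 : 0 ≤ ∑ χ ∈ NC a, (rowV a χ - 2 * ((Fintype.card T : ℤ) - 1)) :=
    sum_nonneg fun χ hχ => by
      have := rowV_ge a χ (mem_NC.mp hχ)
      linarith
  have h2 : 0 ≤ ∑ χ ∈ NC a, (rowN a χ - 1) :=
    sum_nonneg fun χ hχ => by
      have := one_le_rowN_of_mem_NC hχ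
      linarith
  have h3 : 0 ≤ ∑ χ ∈ CT a, (rowN a χ - (Fintype.card T : ℤ)) :=
    sum_nonneg fun χ hχ => by
      have := card_le_rowN_of_mem_CT hχ (Classical.choice (Fintype.card_pos_iff.mp hT))
      linarith
  have hT' : (0 : ℤ) < Fintype.card T := by exact_mod_cast hT
  have h4 : 0 ≤ 2 * (Fintype.card T : ℤ) * ((Fintype.card T : ℤ) + e - (Nz a).card) := by
    rw [← hk]; linarith
  have h5 : (0 : ℤ) ≤ (Fintype.card T : ℤ) + e - (Nz a).card := by
    by_contra hneg
    push Not at hneg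
    nlinarith
  have h6 : ((Nz a).card : ℤ) ≤ (e : ℤ) + Fintype.card T := by linarith
  exact_mod_cast h6

end Bound

section Equality

variable {X T : Type*} [Fintype X] [Fintype T] [DecidableEq T]

/-- a row of squared norm one with a nonzero entry at `q` is `±` the unit vector at `q`. -/
theorem unit_row {a : X → T → ℤ} {χ : X} {q : T} (hN : rowN a χ = 1) (hq : a χ q ≠ 0) :
    (a χ q) ^ 2 = 1 ∧ ∀ q', q' ≠ q → a χ q' = 0 := by
  unfold rowN at hN
  rw [← add_sum_erase univ (fun q => (a χ q) ^ 2) (mem_univ q)] at hN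
  have h1 : 0 < (a χ q) ^ 2 := by positivity
  have h2 : 0 ≤ ∑ q' ∈ univ.erase q, (a χ q') ^ 2 := sum_nonneg fun _ _ => sq_nonneg _
  have h3 : ∑ q' ∈ univ.erase q, (a χ q') ^ 2 = 0 := by linarith
  refine ⟨by linarith, ?_⟩
  intro q' hq'
  have h4 := (sum_eq_zero_iff_of_nonneg (fun _ _ => sq_nonneg _)).mp h3 q'
    (mem_erase.mpr ⟨hq', mem_univ _⟩)
  exact pow_eq_zero_iff (two_ne_zero) |>.mp h4

variable (e : ℕ) (a : X → T → ℤ)
  (hG : ∀ q q', ∑ χ, a χ q * a χ q' = (if q = q' then 1 else 0) + (e : ℤ))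

include hG

theorem tight (hT : 0 < Fintype.card T) (hEq : (Nz a).card = e + Fintype.card T) :
    (∀ χ ∈ NC a, rowN a χ = 1) ∧ (∀ χ ∈ CT a, rowN a χ = (Fintype.card T : ℤ)) := by
  have hk := key_identity e a hG
  have hq₀ : T := Classical.choice (Fintype.card_pos_iff.mp hT)
  have hn1 : ∀ χ ∈ NC a, 0 ≤ rowV a χ - 2 * ((Fintype.card T : ℤ) - 1) := fun χ hχ => by
    have := rowV_ge a χ (mem_NC.mp hχ)
    linarith
  have hn2 : ∀ χ ∈ NC a, 0 ≤ rowN a χ - 1 := fun χ hχ => by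
    have := one_le_rowN_of_mem_NC hχ
    linarith
  have hn3 : ∀ χ ∈ CT a, 0 ≤ rowN a χ - (Fintype.card T : ℤ) := fun χ hχ => by
    have := card_le_rowN_of_mem_CT hχ hq₀
    linarith
  have h1 := sum_nonneg hn1
  have h2 := sum_nonneg hn2
  have h3 := sum_nonneg hn3
  have hz : (2 : ℤ) * (Fintype.card T : ℤ) * ((Fintype.card T : ℤ) + e - (Nz a).card) = 0 := by
    rw [hEq]; push_cast; ring
  rw [hz] at hk
  have h2' : ∑ χ ∈ NC a, (rowN a χ - 1) = 0 := by linarith
  have h3' : ∑ χ ∈ CT a, (rowN a χ - (Fintype.card T : ℤ)) = 0 := by linarith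
  constructor
  · intro χ hχ
    have := (sum_eq_zero_iff_of_nonneg hn2).mp h2' χ hχ
    linarith
  · intro χ hχ
    have := (sum_eq_zero_iff_of_nonneg hn3).mp h3' χ hχ
    linarith

omit hG in
theorem ct_sq {χ : X} (hT : 0 < Fintype.card T) (hχ : χ ∈ CT a)
    (hN : rowN a χ = (Fintype.card T : ℤ)) (q : T) : (a χ q) ^ 2 = 1 := by
  obtain ⟨h1, -⟩ := rowN_of_mem_CT hχ q
  rw [hN] at h1
  have hT' : (0 : ℤ) < Fintype.card T := by exact_mod_cast hT
  have : (Fintype.card T : ℤ) * ((a χ q) ^ 2 - 1) = 0 := by linarith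
  rcases mul_eq_zero.mp this with h | h
  · linarith
  · linarith

open Classical in
theorem core_eq (hT : 0 < Fintype.card T) (hEq : (Nz a).card = e + Fintype.card T) :
    ∃ (exc : T → X) (δ : T → ℤ), Function.Injective exc ∧ (∀ q, δ q = 1 ∨ δ q = -1) ∧
      (∀ q q', a (exc q) q' = if q' = q then δ q else 0) ∧
      (∀ χ, χ ∉ Set.range exc → a χ ≠ 0 → ∃ ε : ℤ, (ε = 1 ∨ ε = -1) ∧ ∀ q, a χ q = ε) ∧
      (univ.filter (fun χ => χ ∉ Set.range exc ∧ a χ ≠ 0)).card = e := by
  obtain ⟨hF1, hF2⟩ := tight e a hG hT hEq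
  have hcard := card_Nz a
  rcases Nat.lt_or_ge (Fintype.card T) 2 with ht1 | ht2
  · -- one column
    have ht : Fintype.card T = 1 := by omega
    obtain ⟨q₀, hq₀⟩ := Fintype.card_eq_one_iff.mp ht
    have hsub : ∀ q q' : T, q = q' := fun q q' => (hq₀ q).trans (hq₀ q').symm
    have hNC : NC a = ∅ := by
      rw [eq_empty_iff_forall_notMem]
      intro χ hχ
      obtain ⟨q₁, q₂, h12⟩ := mem_NC.mp hχ
      exact h12 (by rw [hsub q₁ q₂])
    have hNzCT : Nz a = CT a := by rw [Nz_eq, hNC, empty_union]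
    have hCTcard : (CT a).card = e + 1 := by rw [← hNzCT, hEq, ht]
    obtain ⟨χ₀, hχ₀⟩ : (CT a).Nonempty := by
      rw [← card_pos, hCTcard]; omega
    refine ⟨fun _ => χ₀, fun q => a χ₀ q, ?_, ?_, ?_, ?_, ?_⟩
    · intro q q' _
      exact hsub q q'
    · intro q
      exact sq_eq_one_iff.mp (ct_sq a hT hχ₀ (hF2 χ₀ hχ₀) q)
    · intro q q'
      rw [if_pos (hsub q' q), hsub q' q]
    · intro χ _ hχ
      have hχCT : χ ∈ CT a := by rw [← hNzCT]; exact mem_Nz.mpr hχ
      refine ⟨a χ q₀, sq_eq_one_iff.mp (ct_sq a hT hχCT (hF2 χ hχCT) q₀), ?_⟩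
      intro q
      rw [hsub q q₀]
    · have hset : univ.filter (fun χ => χ ∉ Set.range (fun _ : T => χ₀) ∧ a χ ≠ 0) =
          (CT a).erase χ₀ := by
        ext χ
        rw [mem_filter, mem_erase, ← hNzCT, mem_Nz]
        simp only [mem_univ, true_and, Set.mem_range, not_exists]
        constructor
        · rintro ⟨h1, h2⟩
          exact ⟨fun h => h1 q₀ h.symm, h2⟩
        · rintro ⟨h1, h2⟩
          exact ⟨fun _ h => h1 h.symm, h2⟩
      rw [hset, card_erase_of_mem hχ₀, hCTcard]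
      rfl
  · -- at least two columns
    have hT' : (0 : ℤ) < Fintype.card T := by exact_mod_cast hT
    have ht2' : (2 : ℤ) ≤ Fintype.card T := by exact_mod_cast ht2
    -- `|CT| = e`
    have hsumN := sum_rowN_Nz e a hG
    rw [sum_congr rfl hF1, sum_congr rfl hF2] at hsumN
    simp only [sum_const, nsmul_eq_mul, mul_one] at hsumN
    have hcardZ : ((NC a).card : ℤ) + (CT a).card = e + Fintype.card T := by
      rw [hcard] at hEq
      exact_mod_cast hEq
    have hCTe : ((CT a).card : ℤ) = e := by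
      have : ((Fintype.card T : ℤ) - 1) * (((CT a).card : ℤ) - e) = 0 := by
        linear_combination hsumN - hcardZ
      rcases mul_eq_zero.mp this with h | h
      · linarith
      · linarith
    -- each column of the non-constant rows has squared norm one
    have hcol : ∀ q : T, ∑ χ ∈ NC a, (a χ q) ^ 2 = 1 := by
      intro q
      have h1 : ∑ χ, (a χ q) ^ 2 = 1 + (e : ℤ) := by
        have := hG q q
        simp only [if_true] at this
        rw [← this]
        exact sum_congr rfl fun χ _ => by ring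
      have h2 : ∑ χ ∈ Nz a, (a χ q) ^ 2 = ∑ χ, (a χ q) ^ 2 := by
        apply sum_subset (subset_univ _)
        intro χ _ hχ
        have : a χ = 0 := by
          by_contra hne
          exact hχ (mem_Nz.mpr hne)
        rw [this]
        rfl
      rw [Nz_eq, sum_union (disjoint_NC_CT a)] at h2
      have h3 : ∑ χ ∈ CT a, (a χ q) ^ 2 = (e : ℤ) := by
        rw [sum_congr rfl (fun χ hχ => ct_sq a hT hχ (hF2 χ hχ) q), sum_const, nsmul_eq_mul,
          mul_one, hCTe]
      linarith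
    -- existence and uniqueness of the exceptional row at `q`
    have hex : ∀ q : T, ∃ χ ∈ NC a, a χ q ≠ 0 := by
      intro q
      by_contra hcon
      push Not at hcon
      have : ∑ χ ∈ NC a, (a χ q) ^ 2 = 0 := by
        apply sum_eq_zero
        intro χ hχ
        rw [hcon χ hχ]
        rfl
      rw [hcol q] at this
      exact one_ne_zero this
    have huniq : ∀ q : T, ∀ χ ∈ NC a, ∀ χ' ∈ NC a, a χ q ≠ 0 → a χ' q ≠ 0 → χ = χ' := by
      intro q χ hχ χ' hχ' h1 h2
      by_contra hne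
      have hsub : ({χ, χ'} : Finset X) ⊆ NC a := by
        intro y hy
        rw [mem_insert, mem_singleton] at hy
        rcases hy with rfl | rfl
        · exact hχ
        · exact hχ'
      have h3 := sum_le_sum_of_subset_of_nonneg hsub
        (f := fun χ => (a χ q) ^ 2) (fun _ _ _ => sq_nonneg _)
      rw [sum_pair hne, hcol q] at h3
      have h4 : 0 < (a χ q) ^ 2 := by positivity
      have h5 : 0 < (a χ' q) ^ 2 := by positivity
      linarith
    choose exc hexc using hex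
    have hP3 : ∀ q, (a (exc q) q) ^ 2 = 1 ∧ ∀ q', q' ≠ q → a (exc q) q' = 0 := fun q =>
      unit_row (hF1 _ (hexc q).1) (hexc q).2
    have hrange : ∀ χ, χ ∈ Set.range exc → χ ∈ NC a := by
      rintro χ ⟨q, rfl⟩
      exact (hexc q).1
    refine ⟨exc, fun q => a (exc q) q, ?_, ?_, ?_, ?_, ?_⟩
    · intro q q' hqq
      by_contra hne
      have h1 := (hP3 q').2 q hne
      rw [← hqq] at h1
      exact (hexc q).2 h1
    · intro q
      exact sq_eq_one_iff.mp (hP3 q).1
    · intro q q'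
      by_cases h : q' = q
      · rw [if_pos h, h]
      · rw [if_neg h]
        exact (hP3 q).2 q' h
    · intro χ hχr hχ
      have hNz : χ ∈ Nz a := mem_Nz.mpr hχ
      rw [Nz_eq, mem_union] at hNz
      rcases hNz with hNCm | hCTm
      · exfalso
        obtain ⟨q, hq⟩ : ∃ q, a χ q ≠ 0 := by
          by_contra hcon
          push Not at hcon
          exact hχ (funext hcon)
        apply hχr
        exact ⟨q, huniq q _ (hexc q).1 _ hNCm (hexc q).2 hq⟩
      · obtain ⟨q₀⟩ := Fintype.card_pos_iff.mp hT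
        refine ⟨a χ q₀, sq_eq_one_iff.mp (ct_sq a hT hCTm (hF2 χ hCTm) q₀), ?_⟩
        intro q
        exact (mem_CT.mp hCTm).1 q q₀
    · have hset : univ.filter (fun χ => χ ∉ Set.range exc ∧ a χ ≠ 0) = CT a := by
        ext χ
        rw [mem_filter]
        simp only [mem_univ, true_and]
        constructor
        · rintro ⟨h1, h2⟩
          have hNz : χ ∈ Nz a := mem_Nz.mpr h2
          rw [Nz_eq, mem_union] at hNz
          rcases hNz with hNCm | hCTm
          · exfalso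
            obtain ⟨q, hq⟩ : ∃ q, a χ q ≠ 0 := by
              by_contra hcon
              push Not at hcon
              exact h2 (funext hcon)
            exact h1 ⟨q, huniq q _ (hexc q).1 _ hNCm (hexc q).2 hq⟩
          · exact hCTm
        · intro hCTm
          refine ⟨fun hr => ?_, (mem_CT.mp hCTm).2⟩
          exact (Finset.disjoint_left.mp (disjoint_NC_CT a) (hrange χ hr)) hCTm
      rw [hset]
      exact_mod_cast hCTe

end Equality

section Wrapper

variable {X Z : Type*} [Fintype X] [Fintype Z] (s : Setoid Z)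

/-- the matrix on the quotient. -/
noncomputable def quotMat (r : X → Z → ℤ) : X → Quotient s → ℤ := fun χ q => r χ q.out

theorem quotMat_mk (r : X → Z → ℤ) (hinv : ∀ χ z z', s.r z z' → r χ z = r χ z') (χ : X) (z : Z) :
    quotMat s r χ (Quotient.mk s z) = r χ z :=
  hinv χ _ z (Quotient.mk_out z)

theorem quotMat_eq_zero_iff (r : X → Z → ℤ) (hinv : ∀ χ z z', s.r z z' → r χ z = r χ z')
    (χ : X) : quotMat s r χ = 0 ↔ r χ = 0 := by
  constructor
  · intro h
    funext z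
    rw [← quotMat_mk s r hinv χ z, h]
    rfl
  · intro h
    funext q
    show r χ q.out = 0
    rw [h]
    rfl

theorem quotMat_gram [DecidableRel s.r] (e : ℕ) (r : X → Z → ℤ)
    (hgram : ∀ z z', ∑ χ, r χ z * r χ z' = (if s.r z z' then 1 else 0) + (e : ℤ))
    [DecidableEq (Quotient s)] (q q' : Quotient s) :
    ∑ χ, quotMat s r χ q * quotMat s r χ q' = (if q = q' then 1 else 0) + (e : ℤ) := by
  have h := hgram q.out q'.out
  have hiff : s.r q.out q'.out ↔ q = q' := Quotient.out_equiv_out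
  unfold quotMat
  rw [h]
  by_cases hq : q = q'
  · rw [if_pos hq, if_pos (hiff.mpr hq)]
  · rw [if_neg hq, if_neg (fun h' => hq (hiff.mp h'))]

theorem card_eq_mul (e : ℕ) (hcls : ∀ z : Z, Nat.card {z' // s.r z z'} = e)
    [Fintype (Quotient s)] : Nat.card Z = e * Fintype.card (Quotient s) := by
  classical
  rw [Nat.card_congr (Equiv.sigmaFiberEquiv (Quotient.mk s)).symm, Nat.card_sigma]
  have : ∀ q : Quotient s, Nat.card {z // Quotient.mk s z = q} = e := by
    intro q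
    rw [← hcls q.out]
    apply Nat.card_congr
    apply Equiv.subtypeEquivRight
    intro z
    rw [Quotient.mk_eq_iff_out]
    exact ⟨fun h => s.symm h, fun h => s.symm h⟩
  rw [sum_congr rfl (fun q _ => this q), sum_const, card_univ, smul_eq_mul, mul_comm]

end Wrapper

theorem card_subtype_ne_zero {X Z : Type*} [Fintype X] [Fintype Z] (s : Setoid Z)
    [Fintype (Quotient s)] [DecidableEq (Quotient s)] (r : X → Z → ℤ)
    (hinv : ∀ χ z z', s.r z z' → r χ z = r χ z') :
    Nat.card {χ // r χ ≠ 0} = (Nz (quotMat s r)).card := by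
  classical
  rw [Nat.card_eq_fintype_card, Fintype.card_subtype]
  congr 1
  ext χ
  rw [mem_filter, mem_Nz, Ne, Ne, quotMat_eq_zero_iff s r hinv]
  simp

theorem lattice_bound {X Z : Type*} [Fintype X] [Fintype Z] (s : Setoid Z) [DecidableRel s.r]
    (e : ℕ) (he : 0 < e) (hcls : ∀ z : Z, Nat.card {z' // s.r z z'} = e) (r : X → Z → ℤ)
    (hinv : ∀ χ z z', s.r z z' → r χ z = r χ z')
    (hgram : ∀ z z', ∑ χ, r χ z * r χ z' = (if s.r z z' then 1 else 0) + (e : ℤ)) :
    e * Nat.card {χ // r χ ≠ 0} ≤ e * e + Nat.card Z := by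
  classical
  letI : Fintype (Quotient s) := Fintype.ofFinite _
  rw [card_subtype_ne_zero s r hinv, card_eq_mul s e hcls, ← Nat.mul_add]
  apply Nat.mul_le_mul_left
  by_cases hT : 0 < Fintype.card (Quotient s)
  · exact card_Nz_le e (quotMat s r) (quotMat_gram s e r hgram) hT
  · have hempty : IsEmpty (Quotient s) := by
      rw [← Fintype.card_eq_zero_iff]; omega
    have : Nz (quotMat s r) = ∅ := by
      rw [eq_empty_iff_forall_notMem]
      intro χ hχ
      apply mem_Nz.mp hχ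
      funext q
      exact (hempty.false q).elim
    rw [this, card_empty]
    omega

theorem lattice_bound_eq {X Z : Type*} [Fintype X] [Fintype Z] (s : Setoid Z)
    [DecidableRel s.r] (e : ℕ) (he : 0 < e) (hcls : ∀ z : Z, Nat.card {z' // s.r z z'} = e)
    (r : X → Z → ℤ) (hinv : ∀ χ z z', s.r z z' → r χ z = r χ z')
    (hgram : ∀ z z', ∑ χ, r χ z * r χ z' = (if s.r z z' then 1 else 0) + (e : ℤ))
    (heq : e * Nat.card {χ // r χ ≠ 0} = e * e + Nat.card Z) :
    ∃ (exc : Quotient s → X) (δ : Quotient s → ℤ), Function.Injective exc ∧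
      (∀ q, δ q = 1 ∨ δ q = -1) ∧
      (∀ q z, r (exc q) z = if Quotient.mk s z = q then δ q else 0) ∧
      (∀ χ, χ ∉ Set.range exc → r χ ≠ 0 → ∃ ε : ℤ, (ε = 1 ∨ ε = -1) ∧ ∀ z, r χ z = ε) ∧
      Nat.card {χ // χ ∉ Set.range exc ∧ r χ ≠ 0} = e := by
  classical
  letI : Fintype (Quotient s) := Fintype.ofFinite _
  rw [card_subtype_ne_zero s r hinv, card_eq_mul s e hcls, ← Nat.mul_add] at heq
  have hEq : (Nz (quotMat s r)).card = e + Fintype.card (Quotient s) :=
    Nat.eq_of_mul_eq_mul_left he heq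
  have hT : 0 < Fintype.card (Quotient s) := by
    by_contra hT
    have hempty : IsEmpty (Quotient s) := by
      rw [← Fintype.card_eq_zero_iff]; omega
    have : Nz (quotMat s r) = ∅ := by
      rw [eq_empty_iff_forall_notMem]
      intro χ hχ
      apply mem_Nz.mp hχ
      funext q
      exact (hempty.false q).elim
    rw [this, card_empty] at hEq
    omega
  obtain ⟨exc, δ, hinj, hδ, hexc, hrest, hcount⟩ :=
    core_eq e (quotMat s r) (quotMat_gram s e r hgram) hT hEq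
  refine ⟨exc, δ, hinj, hδ, ?_, ?_, ?_⟩
  · intro q z
    rw [← quotMat_mk s r hinv (exc q) z]
    exact hexc q _
  · intro χ hχr hχ
    have hχ' : quotMat s r χ ≠ 0 := fun h => hχ ((quotMat_eq_zero_iff s r hinv χ).mp h)
    obtain ⟨ε, hε, hall⟩ := hrest χ hχr hχ'
    refine ⟨ε, hε, fun z => ?_⟩
    rw [← quotMat_mk s r hinv χ z]
    exact hall _
  · rw [Nat.card_eq_fintype_card, Fintype.card_subtype, ← hcount]
    congr 1
    ext χ
    rw [mem_filter, mem_filter, Ne, Ne, quotMat_eq_zero_iff s r hinv]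

end Cfsg.Agent.Helper59.LatticeXB
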