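-- helper59: piece (AFP) `afp` of helper95's HIG farm for S3050 (#14698).
import Cfsg.Agent.Helper95.Hig.Basic
import Cfsg.Prelude.Def_Transfer
import Cfsg.Prelude.Def_BaumannBlocks

set_option autoImplicit false

namespace Cfsg.Agent.Helper59.Hig

open Cfsg.Agent.Helper40.SL2Hom Cfsg.Agent.Helper95.Hig

universe u v

section grp
variable {G : Type v} [Group G]

/-- an element of order 3 is not in a 2-group -/
theorem AFP_not_mem (Q : Subgroup G) (hQ : IsPGroup 2 ↥Q) (g : G) (hg : orderOf g = 3) : g ∉ Q := by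
  intro hgQ
  obtain ⟨k, hk⟩ := hQ ⟨g, hgQ⟩
  have hk' : g ^ 2 ^ k = 1 := congrArg Subtype.val hk
  have hdvd : 3 ∣ 2 ^ k := hg ▸ orderOf_dvd_of_pow_eq_one hk'
  have h32 : 3 ∣ 2 := Nat.Prime.dvd_of_dvd_pow (by norm_num) hdvd
  omega

/-- the image of an element of order 3 in `G ⧸ Q` (`Q` a 2-group) has order 3 -/
theorem AFP_orderOf_mk (Q : Subgroup G) [Q.Normal] (hQ : IsPGroup 2 ↥Q) (g : G)
    (hg : orderOf g = 3) : orderOf (QuotientGroup.mk g : G ⧸ Q) = 3 := by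
  have : Fact (Nat.Prime 3) := ⟨by norm_num⟩
  apply orderOf_eq_prime
  · rw [← QuotientGroup.mk_pow, ← hg, pow_orderOf_eq_one]
    rfl
  · intro h1
    rw [QuotientGroup.eq_one_iff] at h1
    exact AFP_not_mem Q hQ g hg h1

/-- every element of `x Q` is `Q`-conjugate to `x` when `x` is fixed-point-free on the finite `Q` -/
theorem AFP_conj_coset [Finite G] (Q : Subgroup G) [hn : Q.Normal] (x : G)
    (hfpf : ∀ q ∈ Q, x * q * x⁻¹ = q → q = 1) (z : G) (hz : z ∈ Q) :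
    ∃ w ∈ Q, x * z = w * x * w⁻¹ := by
  have hmem : ∀ w : Q, x⁻¹ * (w : G) * x * (w : G)⁻¹ ∈ Q := by
    intro w
    have h1 : x⁻¹ * (w : G) * x⁻¹⁻¹ ∈ Q := hn.conj_mem _ w.2 x⁻¹
    rw [inv_inv] at h1
    exact mul_mem h1 (inv_mem w.2)
  have hinj : Function.Injective (fun w : Q => (⟨x⁻¹ * (w : G) * x * (w : G)⁻¹, hmem w⟩ : Q)) := by
    intro w w' h
    have h1 : x⁻¹ * (w : G) * x * (w : G)⁻¹ = x⁻¹ * (w' : G) * x * (w' : G)⁻¹ :=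
      congrArg Subtype.val h
    have h1' : (w : G) * x * (w : G)⁻¹ = (w' : G) * x * (w' : G)⁻¹ := by
      calc (w : G) * x * (w : G)⁻¹ = x * (x⁻¹ * (w : G) * x * (w : G)⁻¹) := by group
        _ = x * (x⁻¹ * (w' : G) * x * (w' : G)⁻¹) := by rw [h1]
        _ = (w' : G) * x * (w' : G)⁻¹ := by group
    have h2 : x * ((w' : G)⁻¹ * (w : G)) * x⁻¹ = (w' : G)⁻¹ * (w : G) := by
      calc x * ((w' : G)⁻¹ * (w : G)) * x⁻¹
          = (w' : G)⁻¹ * ((w' : G) * x * (w' : G)⁻¹) * (w : G) * x⁻¹ := by group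
        _ = (w' : G)⁻¹ * ((w : G) * x * (w : G)⁻¹) * (w : G) * x⁻¹ := by rw [h1']
        _ = (w' : G)⁻¹ * (w : G) := by group
    have h3 := hfpf _ (mul_mem (inv_mem w'.2) w.2) h2
    apply Subtype.ext
    have : (w : G) = (w' : G) * ((w' : G)⁻¹ * (w : G)) := by group
    rw [this, h3, mul_one]
  have hsurj := Finite.injective_iff_surjective.mp hinj
  obtain ⟨w, hw⟩ := hsurj ⟨z, hz⟩
  have hw' : x⁻¹ * (w : G) * x * (w : G)⁻¹ = z := congrArg Subtype.val hw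
  refine ⟨w, w.2, ?_⟩
  rw [← hw']
  group

variable {K : Type u} [Field K]

/-- (AFP) one fixed-point-free element of order 3 ⇒ all elements of order 3 are fixed-point-free -/
theorem afp [Finite G] (Q : Subgroup G) [Q.Normal] (hQ : IsPGroup 2 ↥Q)
    (e : G ⧸ Q ≃* SL2 K)
    (hcj : ∀ g h : SL2 K, orderOf g = 3 → orderOf h = 3 → ∃ a : SL2 K, a * g * a⁻¹ = h)
    (x : G) (hx : orderOf x = 3)
    (hfpf : ∀ q ∈ Q, x * q * x⁻¹ = q → q = 1) :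
    ∀ g : G, orderOf g = 3 → ∀ q ∈ Q, g * q * g⁻¹ = q → q = 1 := by
  intro g hg q hq hgq
  have hn : Q.Normal := inferInstance
  have hog : orderOf (e (QuotientGroup.mk g : G ⧸ Q)) = 3 := by
    rw [MulEquiv.orderOf_eq]
    exact AFP_orderOf_mk Q hQ g hg
  have hox : orderOf (e (QuotientGroup.mk x : G ⧸ Q)) = 3 := by
    rw [MulEquiv.orderOf_eq]
    exact AFP_orderOf_mk Q hQ x hx
  obtain ⟨a, ha⟩ := hcj _ _ hog hox
  obtain ⟨h, hh⟩ := QuotientGroup.mk_surjective (s := Q) (e.symm a)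
  -- `h g h⁻¹ ∈ x Q`
  have h1 : (QuotientGroup.mk (h * g * h⁻¹) : G ⧸ Q) = QuotientGroup.mk x := by
    apply e.injective
    rw [← ha, QuotientGroup.mk_mul, QuotientGroup.mk_mul, QuotientGroup.mk_inv, hh, map_mul,
      map_mul, map_inv, MulEquiv.apply_symm_apply]
  have hz : x⁻¹ * (h * g * h⁻¹) ∈ Q := by
    rw [← QuotientGroup.eq]
    exact h1.symm
  obtain ⟨w, hw, hxw⟩ := AFP_conj_coset Q x hfpf _ hz
  rw [mul_inv_cancel_left] at hxw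
  -- `g = k x k⁻¹` with `k = h⁻¹ w`
  have hgk : g = (h⁻¹ * w) * x * (h⁻¹ * w)⁻¹ := by
    calc g = h⁻¹ * (h * g * h⁻¹) * h := by group
      _ = h⁻¹ * (w * x * w⁻¹) * h := by rw [hxw]
      _ = (h⁻¹ * w) * x * (h⁻¹ * w)⁻¹ := by group
  have hq' : (h⁻¹ * w)⁻¹ * q * (h⁻¹ * w)⁻¹⁻¹ ∈ Q := hn.conj_mem q hq _
  have hfix : x * ((h⁻¹ * w)⁻¹ * q * (h⁻¹ * w)⁻¹⁻¹) * x⁻¹ = (h⁻¹ * w)⁻¹ * q * (h⁻¹ * w)⁻¹⁻¹ := by
    have e1 : x * ((h⁻¹ * w)⁻¹ * q * (h⁻¹ * w)⁻¹⁻¹) * x⁻¹ =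
        (h⁻¹ * w)⁻¹ * (((h⁻¹ * w) * x * (h⁻¹ * w)⁻¹) * q * ((h⁻¹ * w) * x * (h⁻¹ * w)⁻¹)⁻¹) *
          (h⁻¹ * w) := by group
    rw [e1, ← hgk, hgq]
    group
  have h2 := hfpf _ hq' hfix
  have : q = (h⁻¹ * w) * ((h⁻¹ * w)⁻¹ * q * (h⁻¹ * w)⁻¹⁻¹) * (h⁻¹ * w)⁻¹ := by group
  rw [this, h2]
  group

end grp

end Cfsg.Agent.Helper59.Hig
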