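-- helper59: piece (FQ) `fq` of helper95's HIG farm for S3050 (#14698).
import Cfsg.Agent.Helper95.Hig.Basic
import Cfsg.Prelude.Def_Transfer
import Cfsg.Prelude.Def_BaumannBlocks

set_option autoImplicit false

namespace Cfsg.Agent.Helper59.Hig

open Cfsg.Agent.Helper40.SL2Hom Cfsg.Agent.Helper95.Hig

universe u v

section grp
variable {G : Type v} [Group G]

/-- an element of order 3 of `G ⧸ M` (`M` a 2-group) lifts to an element of order 3 -/
theorem FQ_lift (M : Subgroup G) [M.Normal] (hM : IsPGroup 2 ↥M) (gbar : G ⧸ M)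
    (h : orderOf gbar = 3) : ∃ g : G, orderOf g = 3 ∧ (QuotientGroup.mk g : G ⧸ M) = gbar := by
  obtain ⟨g0, rfl⟩ := QuotientGroup.mk_surjective gbar
  have h3 : g0 ^ 3 ∈ M := by
    rw [← QuotientGroup.eq_one_iff, QuotientGroup.mk_pow, ← h, pow_orderOf_eq_one]
  obtain ⟨k, hk⟩ := hM ⟨g0 ^ 3, h3⟩
  have hk' : (g0 ^ 3) ^ 2 ^ k = 1 := congrArg Subtype.val hk
  have h4 : (4 : ℕ) ^ k = 2 ^ k * 2 ^ k := by
    rw [← mul_pow]
    norm_num
  have hmod : 4 ^ k % 3 = 1 := by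
    rw [Nat.pow_mod]
    norm_num
  have hmk : (QuotientGroup.mk (g0 ^ 4 ^ k) : G ⧸ M) = QuotientGroup.mk g0 := by
    rw [QuotientGroup.mk_pow, ← pow_mod_orderOf, h, hmod, pow_one]
  refine ⟨g0 ^ 4 ^ k, ?_, hmk⟩
  have : Fact (Nat.Prime 3) := ⟨by norm_num⟩
  apply orderOf_eq_prime
  · rw [← pow_mul, mul_comm, pow_mul, h4, pow_mul, hk', one_pow]
  · intro h1
    rw [h1] at hmk
    have : orderOf (QuotientGroup.mk g0 : G ⧸ M) = 1 := by
      rw [← hmk]
      exact orderOf_one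
    omega

/-- an element of order dividing 3 normalising the coset `y M` of a finite 2-group `M` fixes a point of it -/
theorem FQ_fixed [Finite G] (M : Subgroup G) [hn : M.Normal] (hM : IsPGroup 2 ↥M) (g y : G)
    (hg3 : g ^ 3 = 1) (hy : y⁻¹ * (g * y * g⁻¹) ∈ M) :
    ∃ w : G, y⁻¹ * w ∈ M ∧ g * w * g⁻¹ = w := by
  classical
  have : Fact (Nat.Prime 3) := ⟨by norm_num⟩
  have hmem : ∀ w : {w : G // y⁻¹ * w ∈ M}, y⁻¹ * (g * (w : G) * g⁻¹) ∈ M := by
    intro w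
    have h1 : g * (y⁻¹ * (w : G)) * g⁻¹ ∈ M := hn.conj_mem _ w.2 g
    have h2 : y⁻¹ * (g * (w : G) * g⁻¹) = (y⁻¹ * (g * y * g⁻¹)) * (g * (y⁻¹ * (w : G)) * g⁻¹) := by
      group
    rw [h2]
    exact mul_mem hy h1
  have : Fintype {w : G // y⁻¹ * w ∈ M} := Fintype.ofFinite _
  obtain ⟨f, hf⟩ : ∃ f : Function.End {w : G // y⁻¹ * w ∈ M},
      ∀ w, ((f w : {w : G // y⁻¹ * w ∈ M}) : G) = g * (w : G) * g⁻¹ :=
    ⟨fun w => ⟨g * (w : G) * g⁻¹, hmem w⟩, fun _ => rfl⟩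
  have hf3 : f ^ 3 ^ 1 = 1 := by
    rw [pow_one, pow_succ, pow_succ, pow_one]
    funext w
    apply Subtype.ext
    show ((f (f (f w)) : {w : G // y⁻¹ * w ∈ M}) : G) = w
    rw [hf, hf, hf]
    have hggg : g * g * g = 1 := by rw [← pow_three', hg3]
    have e : g * (g * (g * (w : G) * g⁻¹) * g⁻¹) * g⁻¹ = (g * g * g) * (w : G) * (g * g * g)⁻¹ := by
      group
    rw [e, hggg, one_mul, inv_one, mul_one]
  have hmodeq := Equiv.Perm.card_fixedPoints_modEq (p := 3) (n := 1) hf3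
  by_contra hcon
  push Not at hcon
  have hempty : IsEmpty (Function.fixedPoints f) := by
    constructor
    rintro ⟨w, hw⟩
    have h1 : f w = w := hw
    have h2 : g * (w : G) * g⁻¹ = w := by
      rw [← hf, h1]
    exact hcon w w.2 h2
  have h0 : ∀ (inst : Fintype ↑(Function.fixedPoints f)), @Fintype.card _ inst = 0 :=
    fun inst => @Fintype.card_eq_zero _ inst hempty
  rw [h0] at hmodeq
  have hcard : Fintype.card {w : G // y⁻¹ * w ∈ M} = Nat.card M := by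
    rw [← Nat.card_eq_fintype_card]
    apply Nat.card_congr
    exact
      { toFun := fun w => ⟨y⁻¹ * (w : G), w.2⟩
        invFun := fun m => ⟨y * (m : G), by rw [inv_mul_cancel_left]; exact m.2⟩
        left_inv := fun w => by
          apply Subtype.ext
          show y * (y⁻¹ * (w : G)) = w
          rw [mul_inv_cancel_left]
        right_inv := fun m => by
          apply Subtype.ext
          show y⁻¹ * (y * (m : G)) = m
          rw [inv_mul_cancel_left] }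
  obtain ⟨n, hn2⟩ := IsPGroup.iff_card.mp hM
  rw [hcard, hn2] at hmodeq
  have hdvd : 3 ∣ 2 ^ n := (Nat.modEq_zero_iff_dvd).mp hmodeq
  have h32 : 3 ∣ 2 := Nat.Prime.dvd_of_dvd_pow (by norm_num) hdvd
  omega

/-- (FQ) fixed-point-freeness of all elements of order 3 passes to `G ⧸ M` for `M ≤ Q` normal -/
theorem fq [Finite G] (Q M : Subgroup G) [Q.Normal] [M.Normal] (hMQ : M ≤ Q) (hQ : IsPGroup 2 ↥Q)
    (hfpf : ∀ g : G, orderOf g = 3 → ∀ y ∈ Q, g * y * g⁻¹ = y → y = 1) :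
    ∀ g : G ⧸ M, orderOf g = 3 → ∀ y ∈ Q.map (QuotientGroup.mk' M), g * y * g⁻¹ = y → y = 1 := by
  intro gbar hgbar ybar hybar hfix
  have hM : IsPGroup 2 ↥M := hQ.to_le hMQ
  obtain ⟨y, hyQ, rfl⟩ := hybar
  obtain ⟨g, hg, rfl⟩ := FQ_lift M hM gbar hgbar
  have hg3 : g ^ 3 = 1 := by rw [← hg]; exact pow_orderOf_eq_one g
  have h1 : (QuotientGroup.mk y : G ⧸ M) = QuotientGroup.mk (g * y * g⁻¹) := by
    rw [QuotientGroup.mk_mul, QuotientGroup.mk_mul, QuotientGroup.mk_inv]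
    exact hfix.symm
  have hy : y⁻¹ * (g * y * g⁻¹) ∈ M := QuotientGroup.eq.mp h1
  obtain ⟨w, hwM, hw⟩ := FQ_fixed M hM g y hg3 hy
  have hwQ : w ∈ Q := by
    have : w = y * (y⁻¹ * w) := by group
    rw [this]
    exact mul_mem hyQ (hMQ hwM)
  have hw1 := hfpf g hg w hwQ hw
  rw [hw1, mul_one] at hwM
  have hyM : y ∈ M := by
    have := inv_mem hwM
    rwa [inv_inv] at this
  exact (QuotientGroup.eq_one_iff y).mpr hyM

end grp

end Cfsg.Agent.Helper59.Hig
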