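import Mathlib
import Cfsg.Agent.Helper12.OrbitalGen
import Cfsg.Agent.Helper12.PermCharBasics

/-! # Orbital counting over a conjugation-invariant set (piece (U4) for S0420) -/

set_option autoImplicit false

namespace Cfsg.Agent.Helper59.M11U4

open Cfsg Module LinearMap Cfsg.Agent.Helper12.Orbital Cfsg.Agent.Helper12.OrbitalGen
  Cfsg.Agent.Helper12.PermCharBasics
open scoped ComplexConjugate

universe u v

variable {G : Type u} [Group G] [Fintype G] {Ω : Type v} [Fintype Ω] [DecidableEq Ω] [MulAction G Ω]

open Classical in
theorem sum_theta_orbRel [MulAction.IsPretransitive G Ω] (a b : Ω) (S : Finset G)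
    (hS : ∀ g t : G, t ∈ S → g * t * g⁻¹ ∈ S) :
    ∑ t ∈ S, (Finset.univ.filter fun x : Ω => orbRel G a b x (t • x)).card =
      Fintype.card Ω * Nat.card (MulAction.orbit (MulAction.stabilizer G a) b) *
        (S.filter fun t => t • a = b).card := by
  set k := Nat.card (MulAction.orbit (MulAction.stabilizer G a) b) with hk
  set c := (S.filter fun t => t • a = b).card with hc
  have hswap : ∑ t ∈ S, (Finset.univ.filter fun x : Ω => orbRel G a b x (t • x)).card =
      ∑ x : Ω, (S.filter fun t => orbRel G a b x (t • x)).card := by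
    simp only [Finset.card_filter]
    exact Finset.sum_comm
  have hpair : ∀ x y : Ω, orbRel G a b x y → (S.filter fun t => t • x = y).card = c := by
    rintro x y ⟨g, rfl, rfl⟩
    refine Finset.card_bij (fun t _ => g⁻¹ * t * g) ?_ ?_ ?_
    · intro t ht
      simp only [Finset.mem_filter] at ht ⊢
      refine ⟨?_, ?_⟩
      · have := hS g⁻¹ t ht.1
        simpa using this
      · rw [mul_smul, mul_smul, ht.2, inv_smul_smul]
    · intro t _ t' _ h
      simpa using h
    · intro t ht
      simp only [Finset.mem_filter] at ht
      refine ⟨g * t * g⁻¹, ?_, by group⟩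
      simp only [Finset.mem_filter]
      exact ⟨hS g t ht.1, by rw [mul_smul, mul_smul, inv_smul_smul, ht.2]⟩
  have hx : ∀ x : Ω, (S.filter fun t => orbRel G a b x (t • x)).card = k * c := by
    intro x
    have hmaps : ∀ t ∈ S.filter (fun t => orbRel G a b x (t • x)),
        t • x ∈ Finset.univ.filter (fun y => orbRel G a b x y) := by
      intro t ht
      simpa using (Finset.mem_filter.mp ht).2
    rw [Finset.card_eq_sum_card_fiberwise hmaps]
    have hfib : ∀ y ∈ Finset.univ.filter (fun y => orbRel G a b x y),
        ((S.filter fun t => orbRel G a b x (t • x)).filter fun t => t • x = y).card = c := by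
      intro y hy
      have hy' : orbRel G a b x y := by simpa using hy
      rw [← hpair x y hy']
      congr 1
      ext t
      simp only [Finset.mem_filter]
      constructor
      · rintro ⟨⟨h1, _⟩, h2⟩
        exact ⟨h1, h2⟩
      · rintro ⟨h1, h2⟩
        exact ⟨⟨h1, by rw [h2]; exact hy'⟩, h2⟩
    rw [Finset.sum_congr rfl hfib, Finset.sum_const, card_orbRel_row, smul_eq_mul]
  rw [hswap, Finset.sum_congr rfl (fun x _ => hx x), Finset.sum_const, Finset.card_univ,
    smul_eq_mul, mul_assoc]

end Cfsg.Agent.Helper59.M11U4
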