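import Mathlib
import Cfsg.Agent.Helper20.U11.Cfg
import Cfsg.Agent.Helper20.U11.Defs

/-! # The 12-point representation of a simple group of order 7920 (piece (B1) for S0420) -/

set_option autoImplicit false

namespace Cfsg.Agent.Helper59.M11B1

open Cfsg Subgroup Cfsg.Agent.Helper20.U11

universe u

/-- powers of an element of order 11 indexed by `ZMod 11`. -/
theorem pow_val_natCast {G : Type u} [Group G] {x : G} (hx : orderOf x = 11) (n : ℕ) :
    x ^ ((n : ZMod 11).val) = x ^ n := by
  rw [ZMod.val_natCast, ← hx, pow_mod_orderOf]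

theorem mk_mul_mem {G : Type u} [Group G] (L : Subgroup G) (a l : G) (hl : l ∈ L) :
    ((a * l : G) : G ⧸ L) = (a : G ⧸ L) := by
  rw [QuotientGroup.eq]
  simpa using hl

theorem exists_perm_rep {G : Type u} [Group G] [Finite G] [IsSimpleGroup G]
    (h : Nat.card G = 7920) {x v c : G} (hx : orderOf x = 11) (hv : orderOf v = 5)
    (hc : orderOf c = 4) (hvx : v * x * v⁻¹ = x ^ 3) (hcv : c * v * c⁻¹ = v ^ 2)
    (L : Subgroup G) (hL : Nat.card L = 660) (hxL : x ∈ L) (hvL : v ∈ L) (hc2L : c ^ 2 ∈ L)
    (hcL : c ∉ L) :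
    ∃ ρ : G →* Equiv.Perm (Option (ZMod 11)), Function.Injective ρ ∧ (∀ p, ρ x p = x0f p) ∧
      (∀ p, ρ v p = v0f p) ∧ ρ c none = some 0 ∧ ρ c (some 0) = none := by
  classical
  have hx11 : x ^ 11 = 1 := by rw [← hx]; exact pow_orderOf_eq_one x
  have hv5 : v ^ 5 = 1 := by rw [← hv]; exact pow_orderOf_eq_one v
  letI : Fintype (G ⧸ L) := Fintype.ofFinite _
  have hidx : L.index = 12 := by
    have := Subgroup.card_mul_index L
    rw [hL, h] at this
    omega
  have hcardΩ : Fintype.card (G ⧸ L) = 12 := by
    rw [← Nat.card_eq_fintype_card, ← Subgroup.index_eq_card, hidx]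
  have hLtop : L ≠ ⊤ := by
    intro ht
    rw [ht, Subgroup.card_top, h] at hL
    omega
  have hker : (MulAction.toPermHom G (G ⧸ L)).ker = ⊥ := by
    rcases IsSimpleGroup.eq_bot_or_eq_top_of_normal _ (MonoidHom.normal_ker
      (MulAction.toPermHom G (G ⧸ L))) with h0 | h0
    · exact h0
    · exfalso
      apply hLtop
      rw [eq_top_iff, ← h0, ← Subgroup.normalCore_eq_ker]
      exact Subgroup.normalCore_le L
  have hinj : Function.Injective (MulAction.toPermHom G (G ⧸ L)) :=
    (MonoidHom.ker_eq_bot_iff _).mp hker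
  have hne1c : ((1 : G) : G ⧸ L) ≠ (c : G ⧸ L) := by
    intro he
    rw [QuotientGroup.eq] at he
    apply hcL
    simpa using he
  -- an element of order dividing 11 fixing the two points `L` and `cL` is trivial
  have hkey : ∀ y : G, y ∈ L → y ^ 11 = 1 → c⁻¹ * y * c ∈ L → y = 1 := by
    intro y hyL hy11 hyc
    set π := MulAction.toPermHom G (G ⧸ L) y with hπ
    by_contra hy1
    have hπ1 : π ≠ 1 := by
      intro h1
      apply hy1
      apply hinj
      rw [← hπ, h1, map_one]
    have hπ11 : π ^ 11 = 1 := by rw [hπ, ← map_pow, hy11, map_one]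
    have hord : orderOf π = 11 := by
      have := orderOf_dvd_of_pow_eq_one hπ11
      rcases (Nat.dvd_prime (by norm_num)).mp this with h1 | h1
      · exact absurd (orderOf_eq_one_iff.mp h1) hπ1
      · exact h1
    obtain ⟨k, hk⟩ := Equiv.Perm.cycleType_prime_order (σ := π) (by rw [hord]; norm_num)
    rw [hord] at hk
    have hsum : π.cycleType.sum = π.support.card := Equiv.Perm.sum_cycleType π
    rw [hk, Multiset.sum_replicate, smul_eq_mul] at hsum
    have hf1 : ((1 : G) : G ⧸ L) ∉ π.support := by
      rw [Equiv.Perm.notMem_support]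
      show y • ((1 : G) : G ⧸ L) = _
      rw [MulAction.Quotient.smul_coe, smul_eq_mul, mul_one]
      have := mk_mul_mem L 1 y hyL
      rwa [one_mul] at this
    have hf2 : ((c : G) : G ⧸ L) ∉ π.support := by
      rw [Equiv.Perm.notMem_support]
      show y • ((c : G) : G ⧸ L) = _
      rw [MulAction.Quotient.smul_coe, smul_eq_mul]
      have := mk_mul_mem L c (c⁻¹ * y * c) hyc
      rw [← this]
      congr 1
      group
    have hsub : π.support ⊆ ({((1 : G) : G ⧸ L), (c : G ⧸ L)} : Finset (G ⧸ L))ᶜ := by
      intro ω hω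
      rw [Finset.mem_compl, Finset.mem_insert, Finset.mem_singleton]
      rintro (rfl | rfl)
      · exact hf1 hω
      · exact hf2 hω
    have hle := Finset.card_le_card hsub
    rw [Finset.card_compl, Finset.card_pair hne1c, hcardΩ] at hle
    omega
  -- the labelling of the points
  let e : Option (ZMod 11) → G ⧸ L := fun p =>
    p.elim ((1 : G) : G ⧸ L) (fun j => ((x ^ j.val * c : G) : G ⧸ L))
  have he_none : e none = ((1 : G) : G ⧸ L) := rfl
  have he_some : ∀ j : ZMod 11, e (some j) = ((x ^ j.val * c : G) : G ⧸ L) := fun _ => rfl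
  have hxpL : ∀ n : ℕ, x ^ n ∈ L := fun n => L.pow_mem hxL n
  have hnone_some : ∀ j : ZMod 11, e none ≠ e (some j) := by
    intro j he
    rw [he_none, he_some, QuotientGroup.eq] at he
    apply hcL
    have h1 : x ^ j.val * c ∈ L := by simpa using he
    have := L.mul_mem (L.inv_mem (hxpL j.val)) h1
    simpa using this
  have he_inj : Function.Injective e := by
    intro p q hpq
    cases p with
    | none =>
      cases q with
      | none => rfl
      | some j => exact absurd hpq (hnone_some j)
    | some i =>
      cases q with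
      | none => exact absurd hpq.symm (hnone_some i)
      | some j =>
        rw [he_some, he_some, QuotientGroup.eq] at hpq
        set y := (x ^ i.val)⁻¹ * x ^ j.val with hy
        have hyL : y ∈ L := L.mul_mem (L.inv_mem (hxpL _)) (hxpL _)
        have hcomm : Commute ((x ^ i.val)⁻¹) (x ^ j.val) :=
          ((Commute.refl x).pow_pow _ _).inv_left
        have hy11 : y ^ 11 = 1 := by
          rw [hy, hcomm.mul_pow, inv_pow, ← pow_mul, ← pow_mul, mul_comm i.val, mul_comm j.val,
            pow_mul, pow_mul, hx11, one_pow, one_pow, inv_one, one_mul]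
        have hyc : c⁻¹ * y * c ∈ L := by
          have : (x ^ i.val * c)⁻¹ * (x ^ j.val * c) = c⁻¹ * y * c := by rw [hy]; group
          rwa [this] at hpq
        have hy1 := hkey y hyL hy11 hyc
        have hpow : x ^ i.val = x ^ j.val := by
          rw [hy, inv_mul_eq_one] at hy1
          exact hy1
        rw [pow_eq_pow_iff_modEq, hx] at hpow
        have hi := ZMod.val_lt i
        have hj := ZMod.val_lt j
        have : i.val = j.val := by
          unfold Nat.ModEq at hpow
          rw [Nat.mod_eq_of_lt hi, Nat.mod_eq_of_lt hj] at hpow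
          exact hpow
        rw [ZMod.val_injective 11 this]
  have he_bij : Function.Bijective e := by
    rw [Fintype.bijective_iff_injective_and_card]
    refine ⟨he_inj, ?_⟩
    rw [hcardΩ, Fintype.card_option, ZMod.card]
  let E : Option (ZMod 11) ≃ G ⧸ L := Equiv.ofBijective e he_bij
  have hE : ∀ p, E p = e p := fun _ => rfl
  let ρ : G →* Equiv.Perm (Option (ZMod 11)) :=
    { toFun := fun g => (E.trans (MulAction.toPerm g)).trans E.symm
      map_one' := by ext p; simp
      map_mul' := by intro g g'; ext p; simp [mul_smul] }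
  have hρ : ∀ (g : G) (p q : Option (ZMod 11)), g • e p = e q → ρ g p = q := by
    intro g p q hgq
    show E.symm (g • E p) = q
    rw [hE, hgq, ← hE, Equiv.symm_apply_apply]
  refine ⟨ρ, ?_, ?_, ?_, ?_, ?_⟩
  · intro g g' hgg
    apply hinj
    ext ω
    obtain ⟨p, rfl⟩ := E.surjective ω
    have := congrArg (fun f : Equiv.Perm (Option (ZMod 11)) => E (f p)) hgg
    simpa [ρ] using this
  · intro p
    cases p with
    | none =>
      apply hρ
      rw [he_none, MulAction.Quotient.smul_coe, smul_eq_mul, mul_one]
      have := mk_mul_mem L 1 x hxL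
      rwa [one_mul] at this
    | some j =>
      apply hρ
      show x • e (some j) = e (some (j + 1))
      rw [he_some, he_some, MulAction.Quotient.smul_coe, smul_eq_mul, ← mul_assoc, ← pow_succ']
      have h6 : ((j.val + 1 : ℕ) : ZMod 11) = j + 1 := by
        rw [Nat.cast_add, ZMod.natCast_zmod_val, Nat.cast_one]
      rw [← pow_val_natCast hx (j.val + 1), h6]
  · intro p
    cases p with
    | none =>
      apply hρ
      rw [he_none, MulAction.Quotient.smul_coe, smul_eq_mul, mul_one]
      have := mk_mul_mem L 1 v hvL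
      rwa [one_mul] at this
    | some j =>
      apply hρ
      show v • e (some j) = e (some (3 * j))
      rw [he_some, he_some, MulAction.Quotient.smul_coe, smul_eq_mul]
      -- `v x^j c = x^(3j) c v^3`
      have h1 : v * x ^ j.val * v⁻¹ = x ^ (3 * j.val) := conj_pow_right hvx j.val
      have h2 : v * c = c * v ^ 3 := by
        have h3 : c * v ^ 3 * c⁻¹ = v := by
          rw [← conj_pow, hcv, ← pow_mul]
          calc v ^ (2 * 3) = v ^ 5 * v := by rw [← pow_succ]
            _ = v := by rw [hv5, one_mul]
        calc v * c = (c * v ^ 3 * c⁻¹) * c := by rw [h3]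
          _ = c * v ^ 3 := by group
      have h4 : v * (x ^ j.val * c) = x ^ (3 * j.val) * c * v ^ 3 := by
        calc v * (x ^ j.val * c) = (v * x ^ j.val * v⁻¹) * (v * c) := by group
          _ = x ^ (3 * j.val) * c * v ^ 3 := by rw [h1, h2, mul_assoc]
      rw [h4, mk_mul_mem L _ _ (L.pow_mem hvL 3)]
      have h6 : ((3 * j.val : ℕ) : ZMod 11) = 3 * j := by
        rw [Nat.cast_mul, ZMod.natCast_zmod_val, Nat.cast_ofNat]
      rw [← pow_val_natCast hx (3 * j.val), h6]
  · apply hρ
    rw [he_none, he_some, MulAction.Quotient.smul_coe, smul_eq_mul, mul_one, ZMod.val_zero,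
      pow_zero, one_mul]
  · apply hρ
    rw [he_none, he_some, MulAction.Quotient.smul_coe, smul_eq_mul, ZMod.val_zero, pow_zero,
      one_mul, ← pow_two]
    have := mk_mul_mem L 1 (c ^ 2) hc2L
    rwa [one_mul] at this

end Cfsg.Agent.Helper59.M11B1
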