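import Mathlib

/-!
# S2500 part 7, piece (A1)/(S) for helper24: the split case

A self-adjoint endomorphism `ℓ` of a 6-dimensional symplectic space whose minimal polynomial splits
into two coprime non-unit factors has a `g`-invariant hyperbolic plane, for every `g` commuting with `ℓ`.
-/

set_option autoImplicit false

namespace Cfsg.Agent.Helper59.Cov2.P7

open Matrix Polynomial

section abstract

variable {F V : Type*} [Field F] [AddCommGroup V] [Module F V]

theorem S_det_one (M : Matrix (Fin 1) (Fin 1) F) (h0 : ∀ i, M i i = 0) : M.det = 0 := by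
  rw [Matrix.det_fin_one, h0]

theorem S_det_three (M : Matrix (Fin 3) (Fin 3) F) (h0 : ∀ i, M i i = 0)
    (h1 : ∀ i j, M i j = -M j i) : M.det = 0 := by
  rw [Matrix.det_fin_three, h0 0, h0 1, h0 2, h1 1 0, h1 2 0, h1 2 1]
  ring

/-- a subspace on which an alternating form is nondegenerate has dimension `≠ 1, 3` -/
theorem S_finrank_ne [FiniteDimensional F V] (B : LinearMap.BilinForm F V) (hA : B.IsAlt) (W : Submodule F V)
    (hW : ∀ x ∈ W, (∀ y ∈ W, B x y = 0) → x = 0) :
    Module.finrank F W ≠ 1 ∧ Module.finrank F W ≠ 3 := by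
  have hnd : (B.restrict W).Nondegenerate := by
    constructor
    · intro x hx
      apply Subtype.ext
      apply hW x x.2
      intro y hy
      exact hx ⟨y, hy⟩
    · intro y hy
      apply Subtype.ext
      apply hW y y.2
      intro x hx
      have h1 := hy ⟨x, hx⟩
      have h2 : B x y = 0 := h1
      rw [← hA.neg_eq, h2, neg_zero]
  have key : ∀ d : ℕ, Module.finrank F W = d →
      (∀ M : Matrix (Fin d) (Fin d) F, (∀ i, M i i = 0) → (∀ i j, M i j = -M j i) → M.det = 0) →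
      False := by
    intro d hd hdet
    let b : Module.Basis (Fin d) F W := (Module.finBasis F W).reindex (finCongr hd)
    have h1 := (LinearMap.BilinForm.nondegenerate_iff_det_ne_zero b).1 hnd
    apply h1
    apply hdet
    · intro i
      rw [LinearMap.BilinForm.toMatrix_apply]
      exact hA _
    · intro i j
      rw [LinearMap.BilinForm.toMatrix_apply, LinearMap.BilinForm.toMatrix_apply]
      show B (b i : V) (b j : V) = -B (b j : V) (b i : V)
      rw [hA.neg_eq]
  exact ⟨fun h => key 1 h (fun M h0 _ => S_det_one M h0),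
    fun h => key 3 h (fun M h0 h1 => S_det_three M h0 h1)⟩

/-- a `g`-invariant plane on which the alternating form is nondegenerate -/
theorem S_plane [FiniteDimensional F V] (B : LinearMap.BilinForm F V) (hA : B.IsAlt) (g : Module.End F V)
    (W : Submodule F V) (hW : ∀ x ∈ W, (∀ y ∈ W, B x y = 0) → x = 0)
    (hWg : ∀ x ∈ W, g x ∈ W) (hd : Module.finrank F W = 2) :
    ∃ x y : V, B x y ≠ 0 ∧ (∃ a b : F, g x = a • x + b • y) ∧ (∃ c d : F, g y = c • x + d • y) := by
  let b : Module.Basis (Fin 2) F W := (Module.finBasis F W).reindex (finCongr hd)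
  have hrepr : ∀ w : W, (w : V) = (b.repr w 0) • (b 0 : V) + (b.repr w 1) • (b 1 : V) := by
    intro w
    have h1 := b.sum_repr w
    rw [Fin.sum_univ_two] at h1
    have h2 := congrArg (Subtype.val) h1
    rw [← h2]
    simp
  refine ⟨(b 0 : V), (b 1 : V), ?_, ?_, ?_⟩
  · intro h0
    have hb0 : (b 0 : W) ≠ 0 := b.ne_zero 0
    apply hb0
    apply Subtype.ext
    apply hW _ (b 0).2
    intro y hy
    have h3 := hrepr ⟨y, hy⟩
    rw [show ((⟨y, hy⟩ : W) : V) = y from rfl] at h3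
    rw [h3, map_add, map_smul, map_smul, hA, h0, smul_zero, smul_zero, add_zero]
  · exact ⟨_, _, hrepr ⟨g (b 0 : V), hWg _ (b 0).2⟩⟩
  · exact ⟨_, _, hrepr ⟨g (b 1 : V), hWg _ (b 1).2⟩⟩

theorem S_sa_pow (B : LinearMap.BilinForm F V) (ℓ : Module.End F V)
    (hsa : ∀ x y, B (ℓ x) y = B x (ℓ y)) (n : ℕ) (x y : V) :
    B ((ℓ ^ n) x) y = B x ((ℓ ^ n) y) := by
  induction n generalizing x y with
  | zero => simp
  | succ n ih =>
    rw [pow_succ, Module.End.mul_apply, Module.End.mul_apply, ih, hsa]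
    rw [← Module.End.mul_apply, ← Module.End.mul_apply, ← pow_succ, ← pow_succ']

theorem S_sa_aeval (B : LinearMap.BilinForm F V) (ℓ : Module.End F V)
    (hsa : ∀ x y, B (ℓ x) y = B x (ℓ y)) (p : F[X]) (x y : V) :
    B (aeval ℓ p x) y = B x (aeval ℓ p y) := by
  rw [aeval_eq_sum_range]
  simp only [LinearMap.sum_apply, map_sum, LinearMap.smul_apply, map_smul, S_sa_pow B ℓ hsa]

theorem S_comm_pow (ℓ g : Module.End F V) (hcomm : ∀ x, g (ℓ x) = ℓ (g x)) (n : ℕ) (x : V) :
    g ((ℓ ^ n) x) = (ℓ ^ n) (g x) := by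
  induction n generalizing x with
  | zero => simp
  | succ n ih =>
    rw [pow_succ', Module.End.mul_apply, Module.End.mul_apply, hcomm, ih]

theorem S_comm_aeval (ℓ g : Module.End F V) (hcomm : ∀ x, g (ℓ x) = ℓ (g x)) (p : F[X]) (x : V) :
    g (aeval ℓ p x) = aeval ℓ p (g x) := by
  rw [aeval_eq_sum_range]
  simp only [LinearMap.sum_apply, map_sum, LinearMap.smul_apply, map_smul, S_comm_pow ℓ g hcomm]

/-- the facts about one of the two primary components -/
theorem S_component (B : LinearMap.BilinForm F V) (hB : B.Nondegenerate)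
    (ℓ g : Module.End F V) (hsa : ∀ x y, B (ℓ x) y = B x (ℓ y))
    (hcomm : ∀ x, g (ℓ x) = ℓ (g x)) (m₁ m₂ a b : F[X]) (hzero : aeval ℓ (m₁ * m₂) = 0)
    (hab : a * m₁ + b * m₂ = 1) :
    (∀ x ∈ LinearMap.ker (aeval ℓ m₁), (∀ y ∈ LinearMap.ker (aeval ℓ m₁), B x y = 0) → x = 0) ∧
      (∀ x ∈ LinearMap.ker (aeval ℓ m₁), g x ∈ LinearMap.ker (aeval ℓ m₁)) := by
  have hsplit : ∀ v : V, v = aeval ℓ (a * m₁) v + aeval ℓ (b * m₂) v := by
    intro v
    have := congrArg (fun p : F[X] => aeval ℓ p v) hab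
    simp only [map_add, map_one, LinearMap.add_apply, Module.End.one_apply] at this
    exact this.symm
  constructor
  · intro x hx hxW
    rw [LinearMap.mem_ker] at hx
    apply hB.1
    intro v
    rw [hsplit v, map_add]
    have h1 : B x (aeval ℓ (a * m₁) v) = 0 := by
      rw [← S_sa_aeval B ℓ hsa, map_mul, Module.End.mul_apply, hx, map_zero, map_zero,
        LinearMap.zero_apply]
    have h2 : B x (aeval ℓ (b * m₂) v) = 0 := by
      apply hxW
      rw [LinearMap.mem_ker, ← Module.End.mul_apply, ← map_mul]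
      have : m₁ * (b * m₂) = b * (m₁ * m₂) := by ring
      rw [this, map_mul, hzero, mul_zero, LinearMap.zero_apply]
    rw [h1, h2, add_zero]
  · intro x hx
    rw [LinearMap.mem_ker] at hx ⊢
    rw [← S_comm_aeval ℓ g hcomm, hx, map_zero]

/-- (S) the split case -/
theorem split_piece [FiniteDimensional F V] (B : LinearMap.BilinForm F V) (hB : B.Nondegenerate) (hA : B.IsAlt)
    (hdim : Module.finrank F V = 6) (ℓ g : Module.End F V) (hsa : ∀ x y, B (ℓ x) y = B x (ℓ y))
    (hcomm : ∀ x, g (ℓ x) = ℓ (g x)) (m₁ m₂ : F[X]) (hm : minpoly F ℓ = m₁ * m₂)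
    (hcop : IsCoprime m₁ m₂) (h1 : ¬ IsUnit m₁) (h2 : ¬ IsUnit m₂) :
    ∃ x y : V, B x y ≠ 0 ∧ (∃ a b : F, g x = a • x + b • y) ∧ (∃ c d : F, g y = c • x + d • y) := by
  have hint : IsIntegral F ℓ := Algebra.IsIntegral.isIntegral ℓ
  have hne : minpoly F ℓ ≠ 0 := minpoly.ne_zero hint
  have hm1 : m₁ ≠ 0 := by
    rintro rfl
    rw [zero_mul] at hm
    exact hne hm
  have hm2 : m₂ ≠ 0 := by
    rintro rfl
    rw [mul_zero] at hm
    exact hne hm
  have hzero : aeval ℓ (m₁ * m₂) = 0 := by rw [← hm, minpoly.aeval]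
  have hzero' : aeval ℓ (m₂ * m₁) = 0 := by rw [mul_comm]; exact hzero
  obtain ⟨a, b, hab⟩ := hcop
  have hab' : b * m₂ + a * m₁ = 1 := by rw [add_comm]; exact hab
  obtain ⟨hW1, hg1⟩ := S_component B hB ℓ g hsa hcomm m₁ m₂ a b hzero hab
  obtain ⟨hW2, hg2⟩ := S_component B hB ℓ g hsa hcomm m₂ m₁ b a hzero' hab'
  have hcop' : IsCoprime m₁ m₂ := ⟨a, b, hab⟩
  have hdisj := Polynomial.disjoint_ker_aeval_of_isCoprime ℓ hcop'
  have hsup : LinearMap.ker (aeval ℓ m₁) ⊔ LinearMap.ker (aeval ℓ m₂) = ⊤ := by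
    rw [Polynomial.sup_ker_aeval_eq_ker_aeval_mul_of_coprime ℓ hcop', hzero, LinearMap.ker_zero]
  have hsum : Module.finrank F (LinearMap.ker (aeval ℓ m₁)) +
      Module.finrank F (LinearMap.ker (aeval ℓ m₂)) = 6 := by
    rw [← hdim]
    exact Submodule.finrank_add_eq_of_isCompl ⟨hdisj, codisjoint_iff.2 hsup⟩
  -- neither component is zero
  have hne1 : Module.finrank F (LinearMap.ker (aeval ℓ m₁)) ≠ 0 := by
    intro h0
    have hbot : LinearMap.ker (aeval ℓ m₁) = ⊥ := Submodule.finrank_eq_zero.1 h0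
    rw [hbot, bot_sup_eq] at hsup
    have h3 : aeval ℓ m₂ = 0 := LinearMap.ker_eq_top.1 hsup
    have h4 : minpoly F ℓ ∣ m₂ := minpoly.dvd F ℓ h3
    rw [hm] at h4
    have h5 : m₁ * m₂ ∣ 1 * m₂ := by rwa [one_mul]
    exact h1 (isUnit_of_dvd_one ((mul_dvd_mul_iff_right hm2).1 h5))
  have hne2 : Module.finrank F (LinearMap.ker (aeval ℓ m₂)) ≠ 0 := by
    intro h0
    have hbot : LinearMap.ker (aeval ℓ m₂) = ⊥ := Submodule.finrank_eq_zero.1 h0
    rw [hbot, sup_bot_eq] at hsup
    have h3 : aeval ℓ m₁ = 0 := LinearMap.ker_eq_top.1 hsup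
    have h4 : minpoly F ℓ ∣ m₁ := minpoly.dvd F ℓ h3
    rw [hm] at h4
    have h5 : m₁ * m₂ ∣ m₁ * 1 := by rwa [mul_one]
    exact h2 (isUnit_of_dvd_one ((mul_dvd_mul_iff_left hm1).1 h5))
  obtain ⟨h11, h13⟩ := S_finrank_ne B hA _ hW1
  obtain ⟨h21, h23⟩ := S_finrank_ne B hA _ hW2
  have hcases : Module.finrank F (LinearMap.ker (aeval ℓ m₁)) = 2 ∨
      Module.finrank F (LinearMap.ker (aeval ℓ m₂)) = 2 := by omega
  rcases hcases with hd | hd
  · exact S_plane B hA g _ hW1 hg1 hd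
  · exact S_plane B hA g _ hW2 hg2 hd

end abstract

end Cfsg.Agent.Helper59.Cov2.P7
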