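import Mathlib
import Cfsg.Prelude.Def_Blocks
import Cfsg.Agent.Helper16.LocalRing
import Cfsg.Agent.Helper77.LocalRing
import Cfsg.Agent.Helper78.IrrBasic

/-!
# (C2) of helper25's S4484 farm (#10864): `β = χ(g) d / χ(1)` is integral and `≡ d` modulo `M`
-/

set_option autoImplicit false

namespace Cfsg.Agent.Helper59.Bli

open Cfsg Cfsg.Agent.Helper16

variable {G : Type*} [Group G] [Finite G] {M : Ideal AlgInt} {p : ℕ}

/-- (C2) `β = χ(g) / (χ(1)/d)`, `d = gcd(χ(1), |cl g|)`, is an algebraic integer, and `β ≡ d`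
modulo `M` when `χ` lies in the principal block and `p ∤ |cl g|`. -/
theorem beta_spec (hM : IsPModular p M) (χ : IrrCharacter G) (hχ : χ ∈ principalBlock M G) (g : G)
    (hk : ¬ p ∣ (Subgroup.centralizer ({g} : Set G)).index) :
    IsIntegral ℤ ((χ : G → ℂ) g *
        (Nat.gcd (charDegree (χ : G → ℂ)) (Subgroup.centralizer ({g} : Set G)).index : ℂ) /
        (charDegree (χ : G → ℂ) : ℂ)) ∧
      MemLocalIdeal M ((χ : G → ℂ) g *
        (Nat.gcd (charDegree (χ : G → ℂ)) (Subgroup.centralizer ({g} : Set G)).index : ℂ) /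
        (charDegree (χ : G → ℂ) : ℂ) -
        (Nat.gcd (charDegree (χ : G → ℂ)) (Subgroup.centralizer ({g} : Set G)).index : ℂ)) := by
  have hMp : M.IsPrime := hM.2.1.isPrime
  set n := charDegree (χ : G → ℂ) with hn
  set k := (Subgroup.centralizer ({g} : Set G)).index with hkdef
  set d := Nat.gcd n k with hd
  have hnpos : 0 < n := Helper78.charDegree_pos_of_isIrrCharacter χ.2
  have hn0 : (n : ℂ) ≠ 0 := by exact_mod_cast hnpos.ne'
  have hχ1 : (χ : G → ℂ) 1 = (n : ℂ) := Helper78.irrChar_one_eq_charDegree χ.2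
  have hωint : IsIntegral ℤ (centralChar (χ : G → ℂ) g) := Helper78.isIntegral_centralChar χ.2 g
  have hω : centralChar (χ : G → ℂ) g = (k : ℂ) * (χ : G → ℂ) g / (n : ℂ) := by
    unfold centralChar
    rw [hχ1]
  have hχint : IsIntegral ℤ ((χ : G → ℂ) g) := Helper78.isIntegral_irrChar_apply χ.2 g
  -- Bezout
  have hbez : (d : ℤ) = (n : ℤ) * Nat.gcdA n k + (k : ℤ) * Nat.gcdB n k := Nat.gcd_eq_gcd_ab n k
  have hbezC : (d : ℂ) = (n : ℂ) * (Nat.gcdA n k : ℂ) + (k : ℂ) * (Nat.gcdB n k : ℂ) := by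
    have := congrArg (fun z : ℤ => (z : ℂ)) hbez
    push_cast at this
    exact this
  have hβeq : (χ : G → ℂ) g * (d : ℂ) / (n : ℂ)
      = (Nat.gcdA n k : ℂ) * (χ : G → ℂ) g + (Nat.gcdB n k : ℂ) * centralChar (χ : G → ℂ) g := by
    rw [hω, hbezC]
    field_simp
  have hβint : IsIntegral ℤ ((χ : G → ℂ) g * (d : ℂ) / (n : ℂ)) := by
    rw [hβeq]
    exact (isIntegral_algebraMap.mul hχint).add (isIntegral_algebraMap.mul hωint)
  refine ⟨hβint, ?_⟩
  -- the block condition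
  have hblock : MemLocalIdeal M ((k : ℂ) - centralChar (χ : G → ℂ) g) := by
    have h1 := hχ g
    have h2 : centralChar (fun _ : G => (1 : ℂ)) g = (k : ℂ) := by
      show ((Subgroup.centralizer ({g} : Set G)).index : ℂ) * 1 / 1 = (k : ℂ)
      rw [mul_one, div_one]
    rw [h2] at h1
    exact h1
  obtain ⟨k', hk'⟩ : d ∣ k := Nat.gcd_dvd_right n k
  have hpk' : ¬ p ∣ k' := fun h => hk (by rw [hk']; exact Dvd.dvd.mul_left h d)
  have hdint : IsIntegral ℤ ((χ : G → ℂ) g * (d : ℂ) / (n : ℂ) - (d : ℂ)) :=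
    hβint.sub isIntegral_algebraMap
  let B : AlgInt := ⟨(χ : G → ℂ) g * (d : ℂ) / (n : ℂ) - (d : ℂ), hdint⟩
  have hprod : MemLocalIdeal M (((k' : AlgInt) * B : AlgInt) : ℂ) := by
    have h3 : (((k' : AlgInt) * B : AlgInt) : ℂ)
        = -((k : ℂ) - centralChar (χ : G → ℂ) g) := by
      push_cast
      show (k' : ℂ) * ((χ : G → ℂ) g * (d : ℂ) / (n : ℂ) - (d : ℂ)) = _
      rw [hω]
      have : (k : ℂ) = (d : ℂ) * (k' : ℂ) := by rw [hk']; push_cast; ring
      rw [this]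
      field_simp
      ring
    rw [h3]
    exact memLocalIdeal_neg hblock
  rw [memLocalIdeal_algInt_iff] at hprod
  rcases hMp.mem_or_mem hprod with h | h
  · exfalso
    apply hpk'
    have h4 : MemLocalIdeal M (((k' : AlgInt)) : ℂ) := (memLocalIdeal_algInt_iff _).mpr h
    have h5 : (((k' : AlgInt)) : ℂ) = (k' : ℂ) := by simp
    rw [h5] at h4
    exact (Helper77.memLocalIdeal_natCast_iff hM k').mp h4
  · exact (memLocalIdeal_algInt_iff B).mpr h

end Cfsg.Agent.Helper59.Bli
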