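import Mathlib
import Cfsg.Prelude.Def_Blocks
import Cfsg.Agent.Helper16.LocalRing
import Cfsg.Agent.Helper77.LocalRing

/-!
# (C4) of helper25's S4484 farm (#10864): the arithmetic step `n' ∣ m`
-/

set_option autoImplicit false

namespace Cfsg.Agent.Helper59.Bli

open Cfsg Cfsg.Agent.Helper16

/-- a `p`-th root of unity is congruent to `1` modulo `M` -/
theorem memLocalIdeal_root_sub_one {M : Ideal AlgInt} {p : ℕ} (hM : IsPModular p M) (c : ℂ)
    (hc : c ^ p = 1) : MemLocalIdeal M (c - 1) := by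
  have hMp : M.IsPrime := hM.2.1.isPrime
  have hp : p.Prime := hM.1
  have hcint : IsIntegral ℤ c := by
    apply IsIntegral.of_pow hp.pos
    rw [hc]
    exact isIntegral_one
  let C : AlgInt := ⟨c, hcint⟩
  have hCp : C ^ p = 1 := Subtype.ext (by push_cast; exact hc)
  obtain ⟨r, hr⟩ := exists_add_pow_prime_eq hp (C - 1) 1
  rw [sub_add_cancel, hCp, one_pow] at hr
  have hX : (C - 1) ^ p = -((p : AlgInt) * ((C - 1) * 1 * r)) := by
    linear_combination -hr
  have hmem : (C - 1) ^ p ∈ M := by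
    rw [hX]
    exact M.neg_mem (M.mul_mem_right _ hM.2.2)
  have h1 : C - 1 ∈ M := hMp.mem_of_pow_mem p hmem
  have := (memLocalIdeal_algInt_iff (C - 1)).mpr h1
  simpa [C] using this

/-- (C4) arithmetic: if `β k` are algebraic integers, all `≡ d` modulo `M`, `c ^ p = 1`, and
`p * m = n' * ∑_{k < p} β k * c ^ k`, then `n' ∣ m`. -/
theorem dvd_of_congr {M : Ideal AlgInt} {p : ℕ} (hM : IsPModular p M) (c : ℂ) (hc : c ^ p = 1)
    (d n' m : ℕ) (β : ℕ → ℂ)
    (hβ : ∀ k < p, IsIntegral ℤ (β k) ∧ MemLocalIdeal M (β k - (d : ℂ)))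
    (h : (p : ℂ) * (m : ℂ) = (n' : ℂ) * ∑ k ∈ Finset.range p, β k * c ^ k) : n' ∣ m := by
  have hMp : M.IsPrime := hM.2.1.isPrime
  have hp : p.Prime := hM.1
  have hp0 : (p : ℂ) ≠ 0 := by exact_mod_cast hp.ne_zero
  have hcint : IsIntegral ℤ c := by
    apply IsIntegral.of_pow hp.pos
    rw [hc]
    exact isIntegral_one
  set z : ℂ := ∑ k ∈ Finset.range p, β k * c ^ k with hz
  have hzint : IsIntegral ℤ z := by
    apply IsIntegral.sum
    intro k hk
    exact (hβ k (Finset.mem_range.mp hk)).1.mul (hcint.pow k)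
  -- `z ∈ M`
  have hc1 := memLocalIdeal_root_sub_one hM c hc
  have hck : ∀ k : ℕ, MemLocalIdeal M (c ^ k - 1) := by
    intro k
    rw [← mul_geom_sum]
    apply memLocalIdeal_mul_right hc1
    apply memLocalRing_of_isIntegral
    apply IsIntegral.sum
    intro i _
    exact hcint.pow i
  have hzM : MemLocalIdeal M z := by
    have h1 : z = ∑ k ∈ Finset.range p, ((β k - d) * c ^ k + d * (c ^ k - 1)) + (p : ℂ) * d := by
      rw [hz]
      have : ∀ k ∈ Finset.range p, (β k - d) * c ^ k + d * (c ^ k - 1) = β k * c ^ k - d := by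
        intro k _
        ring
      rw [Finset.sum_congr rfl this, Finset.sum_sub_distrib, Finset.sum_const, Finset.card_range,
        nsmul_eq_mul]
      ring
    rw [h1]
    apply memLocalIdeal_add
    · apply memLocalIdeal_sum
      intro k hk
      apply memLocalIdeal_add
      · exact memLocalIdeal_mul_right (hβ k (Finset.mem_range.mp hk)).2
          (memLocalRing_of_isIntegral (hcint.pow k))
      · exact memLocalIdeal_mul_left (memLocalRing_natCast d) (hck k)
    · exact memLocalIdeal_mul_right ((Helper77.memLocalIdeal_natCast_iff hM p).mpr dvd_rfl)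
        (memLocalRing_natCast d)
  rcases Nat.eq_zero_or_pos n' with hn0 | hnpos
  · subst hn0
    rw [Nat.cast_zero, zero_mul] at h
    rcases mul_eq_zero.mp h with h' | h'
    · exact absurd h' hp0
    · have : m = 0 := by exact_mod_cast h'
      rw [this]
  · have hn0 : (n' : ℂ) ≠ 0 := by exact_mod_cast hnpos.ne'
    -- `z` is rational, hence an integer
    have hzq : z = (((p * m : ℕ) : ℚ) / (n' : ℚ) : ℚ) := by
      push_cast
      rw [h]
      field_simp
    have hq : IsIntegral ℤ (((p * m : ℕ) : ℚ) / (n' : ℚ) : ℚ) := by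
      rw [hzq] at hzint
      exact (isIntegral_algebraMap_iff (algebraMap ℚ ℂ).injective).mp hzint
    obtain ⟨t, ht⟩ := IsIntegrallyClosed.isIntegral_iff.mp hq
    have hzt : z = (t : ℂ) := by
      rw [hzq, ← ht]
      simp
    rw [hzt, Helper77.memLocalIdeal_intCast_iff hM] at hzM
    obtain ⟨t', rfl⟩ := hzM
    rw [hzt] at h
    have h2 : (m : ℤ) = (n' : ℤ) * t' := by
      have h3 : ((p : ℤ) : ℂ) * ((m : ℤ) : ℂ) = ((p : ℤ) : ℂ) * (((n' : ℤ) * t' : ℤ) : ℂ) := by
        push_cast
        push_cast at h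
        rw [h]
        ring
      have h4 : (p : ℤ) * (m : ℤ) = (p : ℤ) * ((n' : ℤ) * t') := by exact_mod_cast h3
      exact mul_left_cancel₀ (by exact_mod_cast hp.ne_zero) h4
    have : (n' : ℤ) ∣ (m : ℤ) := ⟨t', h2⟩
    exact Int.natCast_dvd_natCast.mp this

end Cfsg.Agent.Helper59.Bli
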