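import Mathlib
import Cfsg.Agent.S0751
import Cfsg.Agent.Helper3.Cov2Ops

/-!
# S2500 part (4), piece (CASE2) for helper3: an isometry of a 4-dimensional hermitian space
without eigenvectors stabilises a totally isotropic plane.
-/

set_option autoImplicit false

namespace Cfsg.Agent.Helper59.Cov2P4

open Polynomial Module Matrix Cfsg.Agent.Helper3.Cov2

section abstract

variable {F V : Type*} [Field F] [Finite F] [AddCommGroup V] [Module F V] [FiniteDimensional F V]
  {σ : F →+* F} (B : V →ₛₗ[σ] V →ₗ[F] F)

/-- (CASE2) -/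
theorem case_no_eigen (hS : B.IsSymm) (hB : B.SeparatingLeft) (hdim : finrank F V = 4)
    (hscr : ∀ f : F[X], Irreducible f → f.coeff 0 ≠ 0 → f ∣ conjRev σ f → Odd f.natDegree)
    (T : V →ₗ[F] V) (hT : ∀ x y, B (T x) (T y) = B x y)
    (hno : ∀ v : V, v ≠ 0 → ∀ c : F, T v ≠ c • v) :
    ∃ W : Submodule F V, finrank F W = 2 ∧ (∀ x ∈ W, ∀ y ∈ W, B x y = 0) ∧ ∀ x ∈ W, T x ∈ W := by
  classical
  have hVnt : Nontrivial V := Module.nontrivial_of_finrank_pos (R := F) (by omega)
  have hint : IsIntegral F T := LinearMap.isIntegral T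
  have hμ0 : minpoly F T ≠ 0 := minpoly.ne_zero hint
  have hμu : ¬ IsUnit (minpoly F T) := minpoly.not_isUnit F T
  -- no eigenvalues
  have hnoev : ∀ c : F, ¬ Module.End.HasEigenvalue T c := by
    intro c hc
    obtain ⟨v, hv⟩ := hc.exists_hasEigenvector
    exact hno v hv.2 c hv.apply_eq_smul
  have hnoroot : ∀ c : F, ¬ (minpoly F T).IsRoot c := fun c hc =>
    hnoev c (Module.End.hasEigenvalue_of_isRoot hc)
  have hnoroot' : ∀ c : F, ¬ (LinearMap.charpoly T).IsRoot c := fun c hc =>
    hnoev c ((Module.End.hasEigenvalue_iff_isRoot_charpoly T c).2 hc)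
  obtain ⟨f, hfirr, g, hg⟩ := WfDvdMonoid.exists_irreducible_factor hμu hμ0
  have hf0 : f ≠ 0 := hfirr.ne_zero
  have hg0 : g ≠ 0 := by
    rintro rfl
    rw [mul_zero] at hg
    exact hμ0 hg
  have hfroot : ∀ c : F, ¬ f.IsRoot c := by
    intro c hc
    apply hnoroot c
    rw [hg]
    exact Polynomial.root_mul_right_of_isRoot g hc
  have hfdeg1 : 1 ≤ f.natDegree := hfirr.natDegree_pos
  have hfdeg2 : 2 ≤ f.natDegree := by
    by_contra hlt
    have h1 : f.natDegree = 1 := by omega
    have h2 : f.degree = 1 := by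
      rw [Polynomial.degree_eq_natDegree hf0, h1]; rfl
    obtain ⟨c, hc⟩ := Polynomial.exists_root_of_degree_eq_one h2
    exact hfroot c hc
  -- the kernel of f(T)
  let W : Submodule F V := LinearMap.ker (aeval T f)
  have hWne : W ≠ ⊥ := by
    intro hbot
    have hinj : Function.Injective (aeval T f) := LinearMap.ker_eq_bot.1 hbot
    have hzero : aeval T g = 0 := by
      ext x
      apply hinj
      have h1 : aeval T (minpoly F T) x = 0 := by rw [minpoly.aeval]; rfl
      rw [hg, map_mul] at h1
      rw [LinearMap.zero_apply, map_zero]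
      exact h1
    have hdvd : minpoly F T ∣ g := minpoly.dvd F T hzero
    have hle := Polynomial.natDegree_le_of_dvd hdvd hg0
    rw [hg, Polynomial.natDegree_mul hf0 hg0] at hle
    omega
  have hWinv : ∀ x ∈ W, T x ∈ W := by
    intro x hx
    rw [LinearMap.mem_ker] at hx ⊢
    have hcomm : aeval T f * T = T * aeval T f := by
      have h1 : aeval T (f * X) = aeval T (X * f) := by rw [mul_comm]
      rwa [map_mul, map_mul, aeval_X] at h1
    have := LinearMap.congr_fun hcomm x
    rw [Module.End.mul_apply, Module.End.mul_apply, hx, map_zero] at this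
    exact this
  rcases hfirr.isCoprime_or_dvd (conjRev σ f) with hcop | hdvd
  · -- coprime: `W` is totally isotropic
    have hti : ∀ x ∈ W, ∀ y ∈ W, B x y = 0 := fun x hx y hy =>
      ker_ti B T hT f hcop x (LinearMap.mem_ker.1 hx) y (LinearMap.mem_ker.1 hy)
    have hle : W ≤ W.orthogonalBilin B := by
      intro y hy
      rw [Submodule.mem_orthogonalBilin_iff]
      intro x hx
      exact hti x hx y hy
    have h1 := Cfsg.Agent.S0751.finrank_orth B hS hB W
    have h2 := Submodule.finrank_mono hle
    have h3 : 0 < finrank F W := by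
      have : Nontrivial W := (Submodule.nontrivial_iff_ne_bot).2 hWne
      exact Module.finrank_pos
    have h4 : finrank F W ≠ 1 := by
      intro h1'
      obtain ⟨v, hv0, hv⟩ := finrank_eq_one_iff'.1 h1'
      obtain ⟨c, hc⟩ := hv ⟨T v, hWinv v v.2⟩
      apply hno (v : V) (fun h => hv0 (Subtype.ext h)) c
      have := congrArg Subtype.val hc
      simpa using this.symm
    refine ⟨W, by omega, hti, hWinv⟩
  · -- `f ∣ conjRev σ f`: impossible
    exfalso
    have hc0 : f.coeff 0 ≠ 0 := by
      intro h0
      apply hfroot 0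
      rw [Polynomial.IsRoot.def, ← Polynomial.coeff_zero_eq_eval_zero, h0]
    have hodd := hscr f hfirr hc0 hdvd
    obtain ⟨k, hk⟩ : minpoly F T ∣ LinearMap.charpoly T := LinearMap.minpoly_dvd_charpoly T
    have hchar : LinearMap.charpoly T = f * (g * k) := by rw [hk, hg, mul_assoc]
    have hchar0 : LinearMap.charpoly T ≠ 0 := (LinearMap.charpoly_monic T).ne_zero
    have hgk0 : g * k ≠ 0 := by
      intro h
      rw [h, mul_zero] at hchar
      exact hchar0 hchar
    have hdeg : f.natDegree + (g * k).natDegree = 4 := by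
      rw [← Polynomial.natDegree_mul hf0 hgk0, ← hchar, LinearMap.charpoly_natDegree, hdim]
    have hf3 : f.natDegree = 3 := by
      obtain ⟨j, hj⟩ := hodd
      omega
    have hgk1 : (g * k).degree = 1 := by
      rw [Polynomial.degree_eq_natDegree hgk0]
      have : (g * k).natDegree = 1 := by omega
      rw [this]; rfl
    obtain ⟨c, hc⟩ := Polynomial.exists_root_of_degree_eq_one hgk1
    apply hnoroot' c
    rw [hchar]
    exact Polynomial.root_mul_left_of_isRoot f hc

end abstract

end Cfsg.Agent.Helper59.Cov2P4
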