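import Mathlib

set_option autoImplicit false

/-!
# Transitive groups generated by 3-cycles contain the alternating group
-/

namespace Cfsg.Agent.Helper59.ThreeCyc

open Equiv Equiv.Perm MulAction
open scoped Pointwise

variable {β : Type*} [Fintype β] [DecidableEq β]

/-- a 3-cycle of `G` preserves every block of `G` with at least two points -/
theorem smul_block_eq_of_isThreeCycle {G : Subgroup (Perm β)} {B : Set β} (hB : IsBlock G B)
    (hB2 : ¬ B.Subsingleton) (t : Perm β) (htG : t ∈ G) (ht : t.IsThreeCycle) : t • B = B := by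
  rcases hB.smul_eq_or_disjoint ⟨t, htG⟩ with h | h
  · exact h
  · exfalso
    have h' : Disjoint (t • B) B := h
    rw [Set.not_subsingleton_iff] at hB2
    obtain ⟨b₁, hb₁, b₂, hb₂, hne⟩ := hB2
    have hmoved : ∀ b ∈ B, t b ∉ B := by
      intro b hb hb'
      exact Set.disjoint_left.mp h' ⟨b, hb, rfl⟩ hb'
    have hs1 : b₁ ∈ t.support := by
      rw [mem_support]; intro he; exact hmoved b₁ hb₁ (he.symm ▸ hb₁)
    have hs2 : b₂ ∈ t.support := by
      rw [mem_support]; intro he; exact hmoved b₂ hb₂ (he.symm ▸ hb₂)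
    have hs3 : t b₁ ∈ t.support := by rwa [apply_mem_support]
    have hs4 : t b₂ ∈ t.support := by rwa [apply_mem_support]
    have hsub : ({b₁, b₂, t b₁, t b₂} : Finset β) ⊆ t.support := by
      intro x hx
      simp only [Finset.mem_insert, Finset.mem_singleton] at hx
      rcases hx with rfl | rfl | rfl | rfl <;> assumption
    have hcard : ({b₁, b₂, t b₁, t b₂} : Finset β).card = 4 := by
      have n1 : t b₁ ≠ t b₂ := fun h => hne (t.injective h)
      have n2 : b₂ ≠ t b₁ := fun h => hmoved b₁ hb₁ (h ▸ hb₂)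
      have n3 : b₂ ≠ t b₂ := fun h => hmoved b₂ hb₂ (h ▸ hb₂)
      have n4 : b₁ ≠ t b₁ := fun h => hmoved b₁ hb₁ (h ▸ hb₁)
      have n5 : b₁ ≠ t b₂ := fun h => hmoved b₂ hb₂ (h ▸ hb₁)
      rw [Finset.card_insert_of_notMem, Finset.card_insert_of_notMem,
        Finset.card_insert_of_notMem, Finset.card_singleton]
      · simpa using n1
      · simp [n2, n3]
      · simp [hne, n4, n5]
    have := Finset.card_le_card hsub
    rw [hcard, ht.card_support] at this
    omega

/-- a transitive group generated by 3-cycles is primitive -/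
theorem isPreprimitive_of_closure_threeCycles (T₀ : Set (Perm β))
    (h3 : ∀ t ∈ T₀, t.IsThreeCycle) [htrans : IsPretransitive (Subgroup.closure T₀) β] :
    IsPreprimitive (Subgroup.closure T₀) β where
  toIsPretransitive := htrans
  isTrivialBlock_of_isBlock := by
    intro B hB
    by_cases hB2 : B.Subsingleton
    · exact Or.inl hB2
    right
    have hall : ∀ g ∈ Subgroup.closure T₀, g • B = B := by
      intro g hg
      induction hg using Subgroup.closure_induction with
      | mem x hx => exact smul_block_eq_of_isThreeCycle hB hB2 x (Subgroup.subset_closure hx) (h3 x hx)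
      | one => exact one_smul _ B
      | mul x y _ _ hx hy => rw [mul_smul, hy, hx]
      | inv x _ hx => rw [inv_smul_eq_iff, hx]
    rw [Set.not_subsingleton_iff] at hB2
    obtain ⟨b, hb, -⟩ := hB2
    apply Set.eq_univ_of_forall
    intro x
    obtain ⟨g, hg⟩ := exists_smul_eq (Subgroup.closure T₀) b x
    have h1 := hall g.1 g.2
    rw [← h1]
    exact ⟨b, hb, hg⟩

/-- **Jordan-type lemma**: a transitive group generated by 3-cycles contains the alternating group. -/
theorem alternatingGroup_le_closure_threeCycles (T₀ : Set (Perm β))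
    (h3 : ∀ t ∈ T₀, t.IsThreeCycle) (hne : T₀.Nonempty)
    [IsPretransitive (Subgroup.closure T₀) β] :
    alternatingGroup β ≤ Subgroup.closure T₀ := by
  obtain ⟨t, ht⟩ := hne
  exact alternatingGroup_le_of_isPreprimitive_of_isThreeCycle_mem
    (isPreprimitive_of_closure_threeCycles T₀ h3) (h3 t ht) (Subgroup.subset_closure ht)

section transfer

variable {α : Type*} [Fintype α] [DecidableEq α]

/-- invariance of a predicate containing the support -/
theorem iff_of_moved_imp {p : α → Prop} (f : Perm α) (h₂ : ∀ x, f x ≠ x → p x) :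
    ∀ x, p (f x) ↔ p x := by
  intro x
  by_cases hx : f x = x
  · rw [hx]
  · have h1 : p x := h₂ x hx
    have h2 : p (f x) := h₂ (f x) (fun h => hx (f.injective h))
    exact ⟨fun _ => h1, fun _ => h2⟩

/-- Let `T₁` be a set of 3-cycles whose supports lie in `p`, generating a group transitive on
`p`. Then every even permutation supported in `p` lies in `closure T₁`. -/
theorem mem_closure_of_supported (p : α → Prop) [DecidablePred p] (T₁ : Set (Perm α))
    (h3 : ∀ t ∈ T₁, t.IsThreeCycle) (hsupp : ∀ t ∈ T₁, ∀ x, t x ≠ x → p x)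
    (hne : T₁.Nonempty)
    (htrans : ∀ x, p x → ∀ y, p y → ∃ g ∈ Subgroup.closure T₁, g x = y)
    (π : Perm α) (hπ : ∀ x, π x ≠ x → p x) (hsign : sign π = 1) :
    π ∈ Subgroup.closure T₁ := by
  classical
  let T₀ : Set (Perm (Subtype p)) := (ofSubtype : Perm (Subtype p) →* Perm α) ⁻¹' T₁
  have himage : (ofSubtype : Perm (Subtype p) →* Perm α) '' T₀ = T₁ := by
    apply Set.Subset.antisymm
    · rintro _ ⟨s, hs, rfl⟩
      exact hs
    · intro t ht
      refine ⟨subtypePerm t (iff_of_moved_imp t (hsupp t ht)), ?_, ?_⟩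
      · show ofSubtype (subtypePerm t _) ∈ T₁
        rw [ofSubtype_subtypePerm _ (hsupp t ht)]
        exact ht
      · exact ofSubtype_subtypePerm _ (hsupp t ht)
  have hmap : (Subgroup.closure T₀).map (ofSubtype : Perm (Subtype p) →* Perm α) =
      Subgroup.closure T₁ := by
    rw [MonoidHom.map_closure, himage]
  have h3' : ∀ s ∈ T₀, s.IsThreeCycle := by
    intro s hs
    have := h3 _ hs
    unfold IsThreeCycle at this ⊢
    rwa [cycleType_ofSubtype] at this
  have hne' : T₀.Nonempty := by
    obtain ⟨t, ht⟩ := hne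
    rw [← himage] at ht
    obtain ⟨s, hs, -⟩ := ht
    exact ⟨s, hs⟩
  haveI : IsPretransitive (Subgroup.closure T₀) (Subtype p) := by
    constructor
    rintro ⟨x, hx⟩ ⟨y, hy⟩
    obtain ⟨g, hg, hgxy⟩ := htrans x hx y hy
    rw [← hmap] at hg
    obtain ⟨g', hg', rfl⟩ := hg
    refine ⟨⟨g', hg'⟩, ?_⟩
    apply Subtype.ext
    show ((g' ⟨x, hx⟩ : Subtype p) : α) = y
    rw [← hgxy]
    exact (ofSubtype_apply_of_mem g' hx).symm
  have halt := alternatingGroup_le_closure_threeCycles T₀ h3' hne'
  have hπ' : subtypePerm π (iff_of_moved_imp π hπ) ∈ alternatingGroup (Subtype p) := by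
    rw [mem_alternatingGroup, sign_subtypePerm _ _ hπ, hsign]
  have := halt hπ'
  rw [← hmap]
  exact ⟨_, this, ofSubtype_subtypePerm _ hπ⟩

end transfer

end Cfsg.Agent.Helper59.ThreeCyc
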