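import Mathlib
import Cfsg.Agent.Helper59.ThreeCycGen

set_option autoImplicit false

/-!
# The subgroup generated by the 3-cycles of a permutation group, orbit by orbit
-/

namespace Cfsg.Agent.Helper59.ThreeCyc

open Equiv Equiv.Perm

variable {α : Type*} [Fintype α] [DecidableEq α]

/-- the 3-cycles of `H` -/
def T3 (H : Subgroup (Perm α)) : Set (Perm α) := {t | t ∈ H ∧ t.IsThreeCycle}

/-- the subgroup generated by the 3-cycles of `H` -/
def N3 (H : Subgroup (Perm α)) : Subgroup (Perm α) := Subgroup.closure (T3 H)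

/-- `x` is in the `N3 H`-orbit of `ω` -/
def Orb (H : Subgroup (Perm α)) (ω x : α) : Prop := ∃ g ∈ N3 H, g ω = x

/-- the 3-cycles of `H` supported in the orbit of `ω` -/
def TO (H : Subgroup (Perm α)) (ω : α) : Set (Perm α) :=
  {t | t ∈ T3 H ∧ ∀ x, t x ≠ x → Orb H ω x}

/-- the subgroup they generate -/
def NO (H : Subgroup (Perm α)) (ω : α) : Subgroup (Perm α) := Subgroup.closure (TO H ω)

variable {H : Subgroup (Perm α)} {ω : α}

theorem N3_le : N3 H ≤ H := by
  rw [N3, Subgroup.closure_le]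
  intro t ht
  exact ht.1

theorem T3_subset_N3 : T3 H ⊆ N3 H := Subgroup.subset_closure

theorem NO_le_N3 : NO H ω ≤ N3 H := Subgroup.closure_mono (fun _ ht => ht.1)

theorem orb_refl : Orb H ω ω := ⟨1, one_mem _, rfl⟩

theorem orb_apply {x : α} (hx : Orb H ω x) {g : Perm α} (hg : g ∈ N3 H) : Orb H ω (g x) := by
  obtain ⟨h, hh, rfl⟩ := hx
  exact ⟨g * h, mul_mem hg hh, rfl⟩

theorem orb_of_apply {x : α} {g : Perm α} (hg : g ∈ N3 H) (hx : Orb H ω (g x)) : Orb H ω x := by
  have := orb_apply hx (inv_mem hg)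
  simpa using this

/-- conjugation by `H` preserves the 3-cycles of `H` -/
theorem conj_mem_T3 {h t : Perm α} (hh : h ∈ H) (ht : t ∈ T3 H) : h * t * h⁻¹ ∈ T3 H := by
  refine ⟨mul_mem (mul_mem hh ht.1) (inv_mem hh), ?_⟩
  have := ht.2
  unfold IsThreeCycle at this ⊢
  rwa [cycleType_conj]

/-- `H` normalizes `N3 H` -/
theorem conj_mem_N3 {h g : Perm α} (hh : h ∈ H) (hg : g ∈ N3 H) : h * g * h⁻¹ ∈ N3 H := by
  unfold N3 at hg ⊢
  induction hg using Subgroup.closure_induction with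
  | mem x hx => exact Subgroup.subset_closure (conj_mem_T3 hh hx)
  | one => simp
  | mul x y _ _ hx hy =>
    have : h * (x * y) * h⁻¹ = (h * x * h⁻¹) * (h * y * h⁻¹) := by group
    rw [this]; exact mul_mem hx hy
  | inv x _ hx =>
    have : h * x⁻¹ * h⁻¹ = (h * x * h⁻¹)⁻¹ := by group
    rw [this]; exact inv_mem hx

/-- a 3-cycle of `H` moving a point of the orbit has its whole support in the orbit -/
theorem orb_of_moved {t : Perm α} (ht : t ∈ T3 H) {x : α} (hx : Orb H ω x) (hmx : t x ≠ x)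
    {y : α} (hmy : t y ≠ y) : Orb H ω y := by
  obtain ⟨i, hi⟩ := ht.2.isCycle.exists_zpow_eq hmx hmy
  rw [← hi]
  exact orb_apply hx (zpow_mem (T3_subset_N3 ht) i)

theorem mem_TO_of_moved {t : Perm α} (ht : t ∈ T3 H) {x : α} (hx : Orb H ω x) (hmx : t x ≠ x) :
    t ∈ TO H ω := ⟨ht, fun _ hy => orb_of_moved ht hx hmx hy⟩

/-- elements of `NO` are supported in the orbit -/
theorem NO_supp {g : Perm α} (hg : g ∈ NO H ω) : ∀ x, g x ≠ x → Orb H ω x := by
  have key : ∀ x, ¬ Orb H ω x → g x = x := by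
    unfold NO at hg
    induction hg using Subgroup.closure_induction with
    | mem t ht =>
      intro x hx
      by_contra h
      exact hx (ht.2 x h)
    | one => intro x _; rfl
    | mul a b _ _ ha hb =>
      intro x hx
      rw [Perm.mul_apply, hb x hx, ha x hx]
    | inv a _ ha =>
      intro x hx
      rw [Perm.inv_eq_iff_eq, ha x hx]
  intro x hx
  by_contra h
  exact hx (key x h)

/-- `NO` is transitive on the orbit -/
theorem NO_base {x : α} (hx : Orb H ω x) : ∃ h ∈ NO H ω, h ω = x := by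
  obtain ⟨g, hg, rfl⟩ := hx
  have key : ∀ y, (∃ h ∈ NO H ω, h ω = y) →
      (∃ h ∈ NO H ω, h ω = g y) ∧ (∃ h ∈ NO H ω, h ω = g⁻¹ y) := by
    unfold N3 at hg
    induction hg using Subgroup.closure_induction with
    | mem t ht =>
      rintro y ⟨h, hh, rfl⟩
      by_cases htO : t ∈ TO H ω
      · have htN : t ∈ NO H ω := Subgroup.subset_closure htO
        exact ⟨⟨t * h, mul_mem htN hh, rfl⟩, ⟨t⁻¹ * h, mul_mem (inv_mem htN) hh, rfl⟩⟩
      · have hy : Orb H ω (h ω) := ⟨h, NO_le_N3 hh, rfl⟩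
        have hfix : t (h ω) = h ω := by
          by_contra hne
          exact htO (mem_TO_of_moved ht hy hne)
        refine ⟨⟨h, hh, hfix.symm⟩, ⟨h, hh, ?_⟩⟩
        rw [eq_comm, Perm.inv_eq_iff_eq, hfix]
    | one =>
      intro y hy
      exact ⟨hy, by simpa using hy⟩
    | mul a b _ _ ha hb =>
      intro y hy
      refine ⟨?_, ?_⟩
      · rw [Perm.mul_apply]
        exact (ha _ (hb y hy).1).1
      · rw [mul_inv_rev, Perm.mul_apply]
        exact (hb _ (ha y hy).2).2
    | inv a _ ha =>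
      intro y hy
      refine ⟨(ha y hy).2, ?_⟩
      rw [inv_inv]
      exact (ha y hy).1
  exact (key ω ⟨1, one_mem _, rfl⟩).1

theorem NO_trans {x y : α} (hx : Orb H ω x) (hy : Orb H ω y) : ∃ g ∈ NO H ω, g x = y := by
  obtain ⟨h₁, hh₁, rfl⟩ := NO_base hx
  obtain ⟨h₂, hh₂, rfl⟩ := NO_base hy
  exact ⟨h₂ * h₁⁻¹, mul_mem hh₂ (inv_mem hh₁), by simp⟩

/-- `N3 H` normalizes `NO` -/
theorem conj_mem_NO {g t : Perm α} (hg : g ∈ N3 H) (ht : t ∈ NO H ω) : g * t * g⁻¹ ∈ NO H ω := by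
  unfold NO at ht ⊢
  induction ht using Subgroup.closure_induction with
  | mem x hx =>
    apply Subgroup.subset_closure
    refine ⟨conj_mem_T3 (N3_le hg) hx.1, ?_⟩
    intro y hy
    have h1 : x (g⁻¹ y) ≠ g⁻¹ y := by
      intro h
      apply hy
      rw [Perm.mul_apply, Perm.mul_apply, h]
      simp
    have h2 := hx.2 _ h1
    have h3 := orb_apply h2 hg
    simpa using h3
  | one => simp
  | mul x y _ _ hx hy =>
    have : g * (x * y) * g⁻¹ = (g * x * g⁻¹) * (g * y * g⁻¹) := by group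
    rw [this]; exact mul_mem hx hy
  | inv x _ hx =>
    have : g * x⁻¹ * g⁻¹ = (g * x * g⁻¹)⁻¹ := by group
    rw [this]; exact inv_mem hx

/-- **Jordan**: every even permutation supported in the orbit lies in `NO`. -/
theorem mem_NO_of_even [DecidablePred (Orb H ω)] (hω : ∃ t ∈ T3 H, t ω ≠ ω) (π : Perm α)
    (hπ : ∀ x, π x ≠ x → Orb H ω x) (hsign : sign π = 1) : π ∈ NO H ω := by
  obtain ⟨t, ht, htω⟩ := hω
  exact mem_closure_of_supported (Orb H ω) (TO H ω) (fun s hs => hs.1.2) (fun s hs => hs.2)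
    ⟨t, mem_TO_of_moved ht orb_refl htω⟩ (fun x hx y hy => NO_trans hx hy) π hπ hsign

end Cfsg.Agent.Helper59.ThreeCyc
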