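import Mathlib
import Cfsg.Prelude.Def_Local
import Cfsg.Agent.Helper21.Quasisimple
import Cfsg.Agent.Lib.BurnsidePQ
import Cfsg.Agent.Helper59.ThreeCycGen
import Cfsg.Agent.Helper59.AltOrbit

set_option autoImplicit false

/-!
# Permutation groups with quasisimple generalized Fitting subgroup containing many 3-cycles
-/

namespace Cfsg.Agent.Helper59.ThreeCyc

open Equiv Equiv.Perm
open scoped commutatorElement

variable {α : Type*} [Fintype α] [DecidableEq α]

section ClaimA

/-- if `x`, `y` commute with a cycle `s` then they commute on the support of `s` -/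
theorem comm_on_support {s x y : Perm α} (hs : s.IsCycle) (hx : x * s = s * x)
    (hy : y * s = s * y) {ω : α} (hω : s ω ≠ ω) : x (y ω) = y (x ω) := by
  have hxω : s (x ω) ≠ x ω := by
    intro h
    have : x (s ω) = x ω := by rw [← Perm.mul_apply, hx, Perm.mul_apply, h]
    exact hω (x.injective this)
  have hyω : s (y ω) ≠ y ω := by
    intro h
    have : y (s ω) = y ω := by rw [← Perm.mul_apply, hy, Perm.mul_apply, h]
    exact hω (y.injective this)
  obtain ⟨e, he⟩ := hs.exists_zpow_eq hω hxω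
  obtain ⟨f, hf⟩ := hs.exists_zpow_eq hω hyω
  have hxf : x * s ^ f = s ^ f * x := (Commute.zpow_right (show Commute x s from hx) f).eq
  have hye : y * s ^ e = s ^ e * y := (Commute.zpow_right (show Commute y s from hy) e).eq
  calc x (y ω) = x ((s ^ f) ω) := by rw [hf]
    _ = (s ^ f) (x ω) := by rw [← Perm.mul_apply, hxf, Perm.mul_apply]
    _ = (s ^ f) ((s ^ e) ω) := by rw [he]
    _ = (s ^ e) ((s ^ f) ω) := by
        rw [← Perm.mul_apply, ← Perm.mul_apply, ← zpow_add, ← zpow_add, add_comm]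
    _ = (s ^ e) (y ω) := by rw [hf]
    _ = y ((s ^ e) ω) := by rw [← Perm.mul_apply, ← hye, Perm.mul_apply]
    _ = y (x ω) := by rw [he]

theorem eq_of_card_le_two {Z : Finset α} (hZ : Z.card ≤ 2) {u v w : α} (hu : u ∈ Z)
    (hv : v ∈ Z) (hw : w ∈ Z) : u = v ∨ u = w ∨ v = w := by
  by_contra h
  push Not at h
  obtain ⟨h1, h2, h3⟩ := h
  have hsub : ({u, v, w} : Finset α) ⊆ Z := by
    intro a ha
    simp only [Finset.mem_insert, Finset.mem_singleton] at ha
    rcases ha with rfl | rfl | rfl <;> assumption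
  have hcard : ({u, v, w} : Finset α).card = 3 := by
    rw [Finset.card_insert_of_notMem, Finset.card_insert_of_notMem, Finset.card_singleton]
    · simpa using h3
    · simp [h1, h2]
  have := Finset.card_le_card hsub
  omega

/-- two permutations preserving a set with at most two points commute on it -/
theorem comm_on_small (Z : Finset α) (hZ : Z.card ≤ 2) {x y : Perm α}
    (hxZ : ∀ ω ∈ Z, x ω ∈ Z) (hyZ : ∀ ω ∈ Z, y ω ∈ Z) {ω : α} (hω : ω ∈ Z) :
    x (y ω) = y (x ω) := by
  by_cases hu : x ω = ω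
  · rw [hu]
    by_cases hv : y ω = ω
    · rw [hv, hu]
    · have h1 : x (y ω) ≠ ω := by
        intro h
        exact hv (x.injective (h.trans hu.symm))
      rcases eq_of_card_le_two hZ hω (hyZ ω hω) (hxZ _ (hyZ ω hω)) with h | h | h
      · exact absurd h.symm hv
      · exact absurd h.symm h1
      · exact h.symm
  · by_cases hv : y ω = ω
    · rw [hv]
      have h1 : y (x ω) ≠ ω := by
        intro h
        exact hu (y.injective (h.trans hv.symm))
      rcases eq_of_card_le_two hZ hω (hxZ ω hω) (hyZ _ (hxZ ω hω)) with h | h | h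
      · exact absurd h.symm hu
      · exact absurd h.symm h1
      · exact h
    · have huv : x ω = y ω := by
        rcases eq_of_card_le_two hZ hω (hxZ ω hω) (hyZ ω hω) with h | h | h
        · exact absurd h.symm hu
        · exact absurd h.symm hv
        · exact h
      have hxu : x (x ω) = ω := by
        have h1 : x (x ω) ≠ x ω := fun h => hu (x.injective h)
        rcases eq_of_card_le_two hZ hω (hxZ ω hω) (hxZ _ (hxZ ω hω)) with h | h | h
        · exact absurd h.symm hu
        · exact h.symm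
        · exact absurd h.symm h1
      have hyu : y (y ω) = ω := by
        have h1 : y (y ω) ≠ y ω := fun h => hv (y.injective h)
        rcases eq_of_card_le_two hZ hω (hyZ ω hω) (hyZ _ (hyZ ω hω)) with h | h | h
        · exact absurd h.symm hv
        · exact h.symm
        · exact absurd h.symm h1
      rw [← huv, hxu, huv, hyu]

/-- **Claim A**: a group centralizing `a` pairwise disjoint 3-cycles covering all but at most two
points is abelian. -/
theorem abelian_of_centralizes (K : Subgroup (Perm α)) (a : ℕ) (c : Fin a → Perm α)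
    (hc3 : ∀ j, (c j).IsThreeCycle) (hdisj : ∀ i j, i ≠ j → Perm.Disjoint (c i) (c j))
    (hcover : Fintype.card α ≤ 3 * a + 2) (hall : ∀ j, ∀ k ∈ K, k * c j = c j * k) :
    ∀ x ∈ K, ∀ y ∈ K, x * y = y * x := by
  intro x hx y hy
  ext ω
  rw [Perm.mul_apply, Perm.mul_apply]
  by_cases h : ∃ j, c j ω ≠ ω
  · obtain ⟨j, hj⟩ := h
    exact comm_on_support (hc3 j).isCycle (hall j x hx) (hall j y hy) hj
  · push Not at h
    let U : Finset α := Finset.univ.biUnion (fun j => (c j).support)
    have hUcard : U.card = 3 * a := by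
      rw [Finset.card_biUnion]
      · rw [Finset.sum_congr rfl (fun j _ => (hc3 j).card_support), Finset.sum_const,
          Finset.card_univ, Fintype.card_fin, smul_eq_mul, mul_comm]
      · intro i _ j _ hij
        exact (hdisj i j hij).disjoint_support
    have hZcard : Uᶜ.card ≤ 2 := by
      rw [Finset.card_compl, hUcard]; omega
    have hmemZ : ∀ z, z ∈ Uᶜ ↔ ∀ j, c j z = z := by
      intro z
      simp only [U, Finset.mem_compl, Finset.mem_biUnion, Finset.mem_univ, true_and, not_exists,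
        Perm.mem_support, not_not]
    have hpres : ∀ k ∈ K, ∀ z ∈ Uᶜ, k z ∈ Uᶜ := by
      intro k hk z hz
      rw [hmemZ] at hz ⊢
      intro j
      rw [← Perm.mul_apply, ← hall j k hk, Perm.mul_apply, hz j]
    exact comm_on_small Uᶜ hZcard (hpres x hx) (hpres y hy) ((hmemZ ω).mpr h)

end ClaimA

section ClaimB

omit [Fintype α] [DecidableEq α] in
theorem comm_mul_left {a b z : Perm α} (hz : z * b = b * z) : ⁅a * z, b⁆ = ⁅a, b⁆ := by
  rw [commutatorElement_def, commutatorElement_def]
  calc a * z * b * (a * z)⁻¹ * b⁻¹ = a * (z * b) * z⁻¹ * a⁻¹ * b⁻¹ := by group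
    _ = a * (b * z) * z⁻¹ * a⁻¹ * b⁻¹ := by rw [hz]
    _ = a * b * a⁻¹ * b⁻¹ := by group

omit [Fintype α] [DecidableEq α] in
theorem comm_mul_right {a b z : Perm α} (hz : z * a = a * z) : ⁅a, b * z⁆ = ⁅a, b⁆ := by
  rw [commutatorElement_def, commutatorElement_def]
  have hz' : z * a⁻¹ = a⁻¹ * z := (Commute.inv_right (show Commute z a from hz)).eq
  calc a * (b * z) * a⁻¹ * (b * z)⁻¹ = a * b * (z * a⁻¹) * z⁻¹ * b⁻¹ := by group
    _ = a * b * (a⁻¹ * z) * z⁻¹ * b⁻¹ := by rw [hz']
    _ = a * b * a⁻¹ * b⁻¹ := by group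

/-- **Claim B (three subgroups)**: if `K ∩ N3 H` is central in the perfect group `K`, then `N3 H`
centralizes `K`. -/
theorem commutes_of_inf_central (H K : Subgroup (Perm α)) (hKH : K ≤ H)
    (hnorm : ∀ h ∈ H, ∀ k ∈ K, h * k * h⁻¹ ∈ K) (hperf : ⁅K, K⁆ = K)
    (hcentral : ∀ m ∈ K ⊓ N3 H, ∀ k ∈ K, m * k = k * m) :
    ∀ g ∈ N3 H, ∀ k ∈ K, g * k = k * g := by
  intro g hg
  have hgH : g ∈ H := N3_le hg
  have hle : ⁅K, K⁆ ≤ Subgroup.centralizer {g} := by
    rw [Subgroup.commutator_le]
    intro a ha b hb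
    rw [Subgroup.mem_centralizer_singleton_iff]
    -- central correction terms
    have hz : ∀ u ∈ K, u⁻¹ * (g * u * g⁻¹) ∈ K ⊓ N3 H := by
      intro u hu
      refine Subgroup.mem_inf.mpr ⟨K.mul_mem (K.inv_mem hu) (hnorm g hgH u hu), ?_⟩
      have h1 : u⁻¹ * g * (u⁻¹)⁻¹ ∈ N3 H := conj_mem_N3 (hKH (K.inv_mem hu)) hg
      have h2 : u⁻¹ * (g * u * g⁻¹) = (u⁻¹ * g * (u⁻¹)⁻¹) * g⁻¹ := by group
      rw [h2]
      exact (N3 H).mul_mem h1 ((N3 H).inv_mem hg)
    have ea : g * a * g⁻¹ = a * (a⁻¹ * (g * a * g⁻¹)) := by group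
    have eb : g * b * g⁻¹ = b * (b⁻¹ * (g * b * g⁻¹)) := by group
    have key : g * ⁅a, b⁆ * g⁻¹ = ⁅g * a * g⁻¹, g * b * g⁻¹⁆ := by
      rw [commutatorElement_def, commutatorElement_def]; group
    have hza := hz a ha
    have hzb := hz b hb
    have h3 : g * ⁅a, b⁆ * g⁻¹ = ⁅a, b⁆ := by
      rw [key, ea, eb]
      rw [comm_mul_right (hcentral _ hzb _ (K.mul_mem ha (Subgroup.mem_inf.mp hza).1)),
        comm_mul_left (hcentral _ hza _ hb)]
    calc ⁅a, b⁆ * g = (g * ⁅a, b⁆ * g⁻¹) * g := by rw [h3]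
      _ = g * ⁅a, b⁆ := by group
  rw [hperf] at hle
  intro k hk
  have := hle hk
  rw [Subgroup.mem_centralizer_singleton_iff] at this
  exact this.symm

end ClaimB

section Main

open Cfsg Cfsg.Agent.Helper21

theorem isSolvable_perm_of_card_le_four {β : Type*} [Fintype β] [DecidableEq β]
    (h : Fintype.card β ≤ 4) : Group.IsSolvable (Perm β) := by
  have hcard : Nat.card (Perm β) = (Fintype.card β).factorial := by
    rw [Nat.card_perm, Nat.card_eq_fintype_card]
  have hc : Fintype.card β = 0 ∨ Fintype.card β = 1 ∨ Fintype.card β = 2 ∨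
      Fintype.card β = 3 ∨ Fintype.card β = 4 := by omega
  rcases hc with hc | hc | hc | hc | hc <;> rw [hc] at hcard
  · exact Cfsg.Agent.Lib.burnside_pq 2 3 0 0 Nat.prime_two Nat.prime_three (by rw [hcard]; rfl)
  · exact Cfsg.Agent.Lib.burnside_pq 2 3 0 0 Nat.prime_two Nat.prime_three (by rw [hcard]; rfl)
  · exact Cfsg.Agent.Lib.burnside_pq 2 3 1 0 Nat.prime_two Nat.prime_three (by rw [hcard]; rfl)
  · exact Cfsg.Agent.Lib.burnside_pq 2 3 1 1 Nat.prime_two Nat.prime_three (by rw [hcard]; rfl)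
  · exact Cfsg.Agent.Lib.burnside_pq 2 3 3 1 Nat.prime_two Nat.prime_three (by rw [hcard]; rfl)

/-- **Main theorem** (permutation form). -/
theorem main_perm (H K : Subgroup (Perm α)) (hKH : K ≤ H)
    (hnorm : ∀ h ∈ H, ∀ k ∈ K, h * k * h⁻¹ ∈ K)
    (hKq : Cfsg.IsQuasisimple ↥K)
    (hcent : ∀ h ∈ H, (∀ k ∈ K, h * k = k * h) → h ∈ K)
    (a : ℕ) (c : Fin a → Perm α) (hc3 : ∀ j, (c j).IsThreeCycle) (hcH : ∀ j, c j ∈ H)
    (hdisj : ∀ i j, i ≠ j → Perm.Disjoint (c i) (c j))
    (hcover : Fintype.card α ≤ 3 * a + 2) :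
    ∃ (p : α → Prop) (_ : DecidablePred p), 5 ≤ Fintype.card (Subtype p) ∧
      Fintype.card α ≤ Fintype.card (Subtype p) + 2 ∧
      K = (alternatingGroup (Subtype p)).map (ofSubtype : Perm (Subtype p) →* Perm α) := by
  classical
  have hperfK : Group.IsPerfect ↥K := hKq.1
  have hperf : ⁅K, K⁆ = K := Subgroup.isPerfect_iff.mp hperfK
  haveI hnt : Nontrivial ↥K := IsQuasisimple.nontrivial hKq
  have hnab : ¬ ∀ x ∈ K, ∀ y ∈ K, x * y = y * x := by
    intro hab
    have hc : IsMulCommutative ↥K := ⟨⟨fun x y => Subtype.ext (hab x.1 x.2 y.1 y.2)⟩⟩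
    exact Group.IsPerfect.not_isMulCommutative ↥K hc
  have hA : ¬ ∀ j, ∀ k ∈ K, k * c j = c j * k := fun hall =>
    hnab (abelian_of_centralizes K a c hc3 hdisj hcover hall)
  have hcT : ∀ j, c j ∈ T3 H := fun j => ⟨hcH j, hc3 j⟩
  -- Claim B
  have hKN : K ≤ N3 H := by
    have hMn : ((K ⊓ N3 H).subgroupOf K).Normal := by
      constructor
      intro m hm k
      rw [Subgroup.mem_subgroupOf] at hm ⊢
      refine Subgroup.mem_inf.mpr ⟨(k * m * k⁻¹).2, ?_⟩
      have := conj_mem_N3 (hKH k.2) (Subgroup.mem_inf.mp hm).2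
      simpa using this
    rcases IsQuasisimple.normal_eq_top_or_le_center hKq ((K ⊓ N3 H).subgroupOf K) with h | h
    · intro k hk
      have : (⟨k, hk⟩ : ↥K) ∈ (K ⊓ N3 H).subgroupOf K := by rw [h]; trivial
      exact (Subgroup.mem_inf.mp (Subgroup.mem_subgroupOf.mp this)).2
    · exfalso
      apply hA
      have hcentral : ∀ m ∈ K ⊓ N3 H, ∀ k ∈ K, m * k = k * m := by
        intro m hm k hk
        have h1 : (⟨m, (Subgroup.mem_inf.mp hm).1⟩ : ↥K) ∈ Subgroup.center ↥K :=
          h (by rw [Subgroup.mem_subgroupOf]; exact hm)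
        have h2 := Subgroup.mem_center_iff.mp h1 ⟨k, hk⟩
        exact (congrArg Subtype.val h2).symm
      have hcomm := commutes_of_inf_central H K hKH hnorm hperf hcentral
      intro j k hk
      exact (hcomm (c j) (T3_subset_N3 (hcT j)) k hk).symm
  -- a moved point
  obtain ⟨k₀, hk₀K, ω, hk₀ω⟩ : ∃ k₀ ∈ K, ∃ ω, k₀ ω ≠ ω := by
    obtain ⟨⟨k, hk⟩, hne⟩ := exists_ne (1 : ↥K)
    have hk1 : k ≠ 1 := fun h => hne (Subtype.ext h)
    obtain ⟨ω, hω⟩ := not_forall.mp (fun h => hk1 (Perm.ext h))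
    exact ⟨k, hk, ω, hω⟩
  have hω3 : ∃ t ∈ T3 H, t ω ≠ ω := by
    by_contra hcon
    push Not at hcon
    have hfix : ∀ g ∈ N3 H, g ω = ω := by
      intro g hg
      unfold N3 at hg
      induction hg using Subgroup.closure_induction with
      | mem t ht => exact hcon t ht
      | one => rfl
      | mul x y _ _ hx hy => rw [Perm.mul_apply, hy, hx]
      | inv x _ hx => rw [Perm.inv_eq_iff_eq, hx]
    exact hk₀ω (hfix k₀ (hKN hk₀K))
  have hKp : ∀ k ∈ K, ∀ x, Orb H ω (k x) ↔ Orb H ω x := fun k hk x =>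
    ⟨fun h => orb_of_apply (hKN hk) h, fun h => orb_apply h (hKN hk)⟩
  -- the orbit has at least five points
  have h5 : 5 ≤ Fintype.card (Subtype (Orb H ω)) := by
    by_contra hlt
    push Not at hlt
    have hsol : Group.IsSolvable (Perm (Subtype (Orb H ω))) :=
      isSolvable_perm_of_card_le_four (by omega)
    let ρ : ↥K →* Perm (Subtype (Orb H ω)) :=
      { toFun := fun k => subtypePerm k.1 (hKp k.1 k.2)
        map_one' := by ext; rfl
        map_mul' := fun k₁ k₂ => by ext; rfl }
    haveI : Group.IsPerfect ρ.range := Group.IsPerfect.range ρ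
    have hsolr : Group.IsSolvable ρ.range := inferInstance
    have htriv : Subsingleton ρ.range := by
      by_contra hns
      rw [not_subsingleton_iff_nontrivial] at hns
      exact Group.IsPerfect.not_isSolvable ρ.range hsolr
    have h1 : ρ ⟨k₀, hk₀K⟩ = 1 := by
      have := Subsingleton.elim (⟨ρ ⟨k₀, hk₀K⟩, ⟨_, rfl⟩⟩ : ρ.range) 1
      exact congrArg Subtype.val this
    have h2 := congrArg (fun f => ((f ⟨ω, orb_refl⟩ : Subtype (Orb H ω)) : α)) h1
    exact hk₀ω h2
  -- identification of `NO`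
  have hA_eq : NO H ω = (alternatingGroup (Subtype (Orb H ω))).map
      (ofSubtype : Perm (Subtype (Orb H ω)) →* Perm α) := by
    apply le_antisymm
    · unfold NO
      rw [Subgroup.closure_le]
      intro t ht
      refine ⟨subtypePerm t (iff_of_moved_imp t ht.2), ?_, ofSubtype_subtypePerm _ ht.2⟩
      rw [SetLike.mem_coe, mem_alternatingGroup, sign_subtypePerm _ _ ht.2]
      exact ht.1.2.sign
    · rintro _ ⟨s, hs, rfl⟩
      apply mem_NO_of_even hω3
      · intro x hx
        by_contra hpx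
        exact hx (ofSubtype_apply_of_not_mem s hpx)
      · rw [sign_ofSubtype]; exact mem_alternatingGroup.mp hs
  have hAsimple : IsSimpleGroup ↥(NO H ω) := by
    rw [hA_eq]
    haveI := alternatingGroup.isSimpleGroup (α := Subtype (Orb H ω))
      (by rw [Nat.card_eq_fintype_card]; exact h5)
    exact ((alternatingGroup (Subtype (Orb H ω))).equivMapOfInjective _
      ofSubtype_injective).symm.isSimpleGroup
  -- an element of `NO` not commuting with `k₀`
  obtain ⟨π, hπA, hπk⟩ : ∃ π ∈ NO H ω, k₀ * π ≠ π * k₀ := by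
    have hpω' : Orb H ω (k₀ ω) := orb_apply orb_refl (hKN hk₀K)
    let S : Finset α := Finset.univ.filter (Orb H ω)
    have hScard : 5 ≤ S.card := by
      rw [← Fintype.card_subtype] at *
      exact h5
    have hS1 : 3 ≤ ((S.erase ω).erase (k₀ ω)).card := by
      have h1 := Finset.pred_card_le_card_erase (s := S) (a := ω)
      have h2 := Finset.pred_card_le_card_erase (s := S.erase ω) (a := k₀ ω)
      omega
    obtain ⟨z, hz⟩ := Finset.card_pos.mp (by omega : 0 < ((S.erase ω).erase (k₀ ω)).card)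
    have hS2 : 2 ≤ (((S.erase ω).erase (k₀ ω)).erase z).card := by
      have h1 := Finset.pred_card_le_card_erase (s := (S.erase ω).erase (k₀ ω)) (a := z)
      omega
    obtain ⟨w, hw⟩ := Finset.card_pos.mp
      (by omega : 0 < (((S.erase ω).erase (k₀ ω)).erase z).card)
    simp only [Finset.mem_erase, Finset.mem_filter, Finset.mem_univ, true_and, S] at hz hw
    obtain ⟨hzω', hzω, hpz⟩ := hz
    obtain ⟨hwz, hwω', hwω, hpw⟩ := hw
    refine ⟨swap (k₀ ω) z * swap (k₀ ω) w, ?_, ?_⟩
    · apply mem_NO_of_even hω3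
      · intro x hx
        by_contra hpx
        apply hx
        have h1 : x ≠ k₀ ω := fun h => hpx (h ▸ hpω')
        have h2 : x ≠ z := fun h => hpx (h ▸ hpz)
        have h3 : x ≠ w := fun h => hpx (h ▸ hpw)
        rw [Perm.mul_apply, swap_apply_of_ne_of_ne h1 h3, swap_apply_of_ne_of_ne h1 h2]
      · exact (isThreeCycle_swap_mul_swap_same (Ne.symm hzω') (Ne.symm hwω')
          (Ne.symm hwz)).sign
    · intro hcomm
      have h1 := congrArg (fun f : Perm α => f ω) hcomm
      simp only [Perm.mul_apply] at h1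
      rw [swap_apply_of_ne_of_ne (Ne.symm hk₀ω) (Ne.symm hwω),
        swap_apply_of_ne_of_ne (Ne.symm hk₀ω) (Ne.symm hzω), swap_apply_left,
        swap_apply_of_ne_of_ne hwω' hwz] at h1
      exact hwω' h1.symm
  have hNOH : NO H ω ≤ H := NO_le_N3.trans N3_le
  -- `NO ≤ K`
  have hAK : NO H ω ≤ K := by
    have hJn : ((K ⊓ NO H ω).subgroupOf (NO H ω)).Normal := by
      constructor
      intro m hm b
      rw [Subgroup.mem_subgroupOf] at hm ⊢
      refine Subgroup.mem_inf.mpr ⟨?_, (b * m * b⁻¹).2⟩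
      have := hnorm b.1 (hNOH b.2) m.1 (Subgroup.mem_inf.mp hm).1
      simpa using this
    rcases hJn.eq_bot_or_eq_top with h | h
    · exfalso
      apply hπk
      -- `k₀` centralizes `NO`
      have he : k₀ * π * k₀⁻¹ * π⁻¹ ∈ K ⊓ NO H ω := by
        refine Subgroup.mem_inf.mpr ⟨?_, ?_⟩
        · have h1 : π * k₀⁻¹ * π⁻¹ ∈ K := hnorm π (hNOH hπA) k₀⁻¹ (K.inv_mem hk₀K)
          have h2 : k₀ * π * k₀⁻¹ * π⁻¹ = k₀ * (π * k₀⁻¹ * π⁻¹) := by group
          rw [h2]
          exact K.mul_mem hk₀K h1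
        · exact (NO H ω).mul_mem (conj_mem_NO (hKN hk₀K) hπA) ((NO H ω).inv_mem hπA)
      have h1 : (⟨k₀ * π * k₀⁻¹ * π⁻¹, (Subgroup.mem_inf.mp he).2⟩ : ↥(NO H ω)) ∈
          (K ⊓ NO H ω).subgroupOf (NO H ω) := by
        rw [Subgroup.mem_subgroupOf]; exact he
      rw [h, Subgroup.mem_bot] at h1
      have h2 : k₀ * π * k₀⁻¹ * π⁻¹ = 1 := congrArg Subtype.val h1
      calc k₀ * π = (k₀ * π * k₀⁻¹ * π⁻¹) * (π * k₀) := by group
        _ = π * k₀ := by rw [h2, one_mul]
    · intro b hb
      have : (⟨b, hb⟩ : ↥(NO H ω)) ∈ (K ⊓ NO H ω).subgroupOf (NO H ω) := by rw [h]; trivial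
      exact (Subgroup.mem_inf.mp (Subgroup.mem_subgroupOf.mp this)).1
  -- `K ≤ NO`
  have hKA : K ≤ NO H ω := by
    have hn : ((NO H ω).subgroupOf K).Normal := by
      constructor
      intro m hm k
      rw [Subgroup.mem_subgroupOf] at hm ⊢
      have := conj_mem_NO (hKN k.2) hm
      simpa using this
    rcases IsQuasisimple.normal_eq_top_or_le_center hKq ((NO H ω).subgroupOf K) with h | h
    · intro k hk
      have : (⟨k, hk⟩ : ↥K) ∈ (NO H ω).subgroupOf K := by rw [h]; trivial
      exact Subgroup.mem_subgroupOf.mp this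
    · exfalso
      apply hπk
      have h1 : (⟨π, hAK hπA⟩ : ↥K) ∈ Subgroup.center ↥K :=
        h (by rw [Subgroup.mem_subgroupOf]; exact hπA)
      have h2 := Subgroup.mem_center_iff.mp h1 ⟨k₀, hk₀K⟩
      exact congrArg Subtype.val h2
  have hKeq : K = NO H ω := le_antisymm hKA hAK
  -- every `c j` is supported in the orbit
  have hcsupp : ∀ j, ∀ x, c j x ≠ x → Orb H ω x := by
    intro j
    by_cases hmeet : ∃ x, c j x ≠ x ∧ Orb H ω x
    · obtain ⟨x, hmx, hpx⟩ := hmeet
      intro y hy
      exact orb_of_moved (hcT j) hpx hmx hy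
    · push Not at hmeet
      have hcomm : ∀ k ∈ K, c j * k = k * c j := by
        intro k hk
        have hd : Perm.Disjoint (c j) k := by
          intro x
          by_cases hpx : Orb H ω x
          · left
            by_contra hne
            exact hmeet x hne hpx
          · right
            by_contra hne
            exact hpx (NO_supp (hKA hk) x hne)
        exact hd.commute.eq
      have hcK : c j ∈ K := hcent (c j) (hcH j) hcomm
      intro x hx
      exact NO_supp (hKA hcK) x hx
  -- counting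
  have hcount : 3 * a ≤ Fintype.card (Subtype (Orb H ω)) := by
    let U : Finset α := Finset.univ.biUnion (fun j => (c j).support)
    have hUcard : U.card = 3 * a := by
      rw [Finset.card_biUnion]
      · rw [Finset.sum_congr rfl (fun j _ => (hc3 j).card_support), Finset.sum_const,
          Finset.card_univ, Fintype.card_fin, smul_eq_mul, mul_comm]
      · intro i _ j _ hij
        exact (hdisj i j hij).disjoint_support
    have hsub : U ⊆ Finset.univ.filter (Orb H ω) := by
      intro x hx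
      simp only [U, Finset.mem_biUnion, Finset.mem_univ, true_and, Perm.mem_support] at hx
      obtain ⟨j, hj⟩ := hx
      simp only [Finset.mem_filter, Finset.mem_univ, true_and]
      exact hcsupp j x hj
    have := Finset.card_le_card hsub
    rw [hUcard, ← Fintype.card_subtype] at this
    exact this
  exact ⟨Orb H ω, inferInstance, h5, by omega, hKeq.trans hA_eq⟩

end Main

end Cfsg.Agent.Helper59.ThreeCyc
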