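import Mathlib

/-! # An 11-cycle and a 13-cycle on 13 points generate a 3-transitive group -/

set_option autoImplicit false

namespace Cfsg.Agent.Helper59.GenD13

open Equiv Equiv.Perm MulAction

/-- a subgroup containing a cycle with full support is transitive. -/
theorem isPretransitive_of_full_cycle {α : Type*} [Fintype α] [DecidableEq α]
    (H : Subgroup (Perm α)) {τ : Perm α} (hτ : τ ∈ H) (hτc : τ.IsCycle)
    (hfull : τ.support = Finset.univ) : MulAction.IsPretransitive H α := by
  refine ⟨fun a b => ?_⟩
  have ha : τ a ≠ a := by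
    rw [← Equiv.Perm.mem_support, hfull]; exact Finset.mem_univ a
  have hb : τ b ≠ b := by
    rw [← Equiv.Perm.mem_support, hfull]; exact Finset.mem_univ b
  obtain ⟨k, hk⟩ := hτc.sameCycle ha hb
  exact ⟨⟨τ ^ k, H.zpow_mem hτ k⟩, hk⟩

theorem three_trans_of_deg13 {α : Type*} [Fintype α] [DecidableEq α]
    (hα : Fintype.card α = 13) (H : Subgroup (Perm α)) {σ τ : Perm α} (hσ : σ ∈ H) (hτ : τ ∈ H)
    (hσc : σ.IsCycle) (hσ11 : σ.support.card = 11) (hτc : τ.IsCycle)
    (hτ13 : τ.support.card = 13) : MulAction.IsMultiplyPretransitive H α 3 := by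
  classical
  have hfull : τ.support = Finset.univ := by
    apply Finset.eq_univ_of_card
    rw [hτ13, hα]
  haveI : MulAction.IsPretransitive H α := isPretransitive_of_full_cycle H hτ hτc hfull
  have hp13 : (Nat.card α).Prime := by
    rw [Nat.card_eq_fintype_card, hα]; norm_num
  have hG : IsPreprimitive H α := IsPreprimitive.of_prime_card hp13
  have hsc : ((σ.support : Set α)ᶜ).ncard = 1 + 1 := by
    have := Set.ncard_add_ncard_compl (σ.support : Set α)
    rw [Set.ncard_coe_finset, hσ11, Nat.card_eq_fintype_card, hα] at this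
    omega
  have hlt : 1 + 2 < Nat.card α := by
    rw [Nat.card_eq_fintype_card, hα]; norm_num
  have htr := isPretransitive_of_isCycle_mem hσc hσ
  have hprim : IsPreprimitive (fixingSubgroup H ((σ.support : Set α)ᶜ))
      (SubMulAction.ofFixingSubgroup H ((σ.support : Set α)ᶜ)) := by
    apply IsPreprimitive.of_prime_card
    have h11 : Nat.Prime 11 := by norm_num
    convert h11
    rw [Nat.card_eq_fintype_card, Fintype.card_subtype, ← hσ11]
    apply congr_arg
    ext x
    simp [SubMulAction.mem_ofFixingSubgroup_iff]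
  have hmp := hG.isMultiplyPreprimitive hsc hlt hprim
  have hmt : IsMultiplyPretransitive H α (1 + 2) :=
    IsMultiplyPreprimitive.isMultiplyPretransitive ..
  exact hmt

end Cfsg.Agent.Helper59.GenD13
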