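import Mathlib.GroupTheory.GroupAction.Jordan
import Mathlib.GroupTheory.GroupAction.Primitive

/-! Helper lemmas on multiply transitive groups and their normal subgroups (helper59). -/

set_option autoImplicit false

namespace Cfsg.Agent.Helper59

open MulAction SubMulAction

section

variable {G : Type*} {Ω : Type*} [Group G] [MulAction G Ω]


/-- stabilizer acts faithfully on the complement of the point -/
theorem faithful_ofStabilizer [FaithfulSMul G Ω] (a : Ω) :
    FaithfulSMul (stabilizer G a) (ofStabilizer G a) := by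
  constructor
  intro g h hgh
  apply Subtype.ext
  apply FaithfulSMul.eq_of_smul_eq_smul (α := Ω)
  intro x
  by_cases hx : x = a
  · rw [hx, g.2, h.2]
  · have := hgh ⟨x, hx⟩
    exact congrArg Subtype.val this

/-- a nontrivial normal subgroup of a faithful preprimitive action is pretransitive -/
theorem normal_pretransitive_of_preprimitive [FaithfulSMul G Ω] [IsPreprimitive G Ω]
    (N : Subgroup G) [N.Normal] (hN : N ≠ ⊥) : IsPretransitive N Ω := by
  apply IsQuasiPreprimitive.isPretransitive_of_normal (G := G)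
  intro h
  apply hN
  rw [Subgroup.eq_bot_iff_forall]
  intro n hn
  apply FaithfulSMul.eq_of_smul_eq_smul (α := Ω)
  intro x
  have hx : x ∈ fixedPoints N Ω := by rw [h]; trivial
  rw [one_smul]
  exact hx ⟨n, hn⟩



/-- group map from `N ∩ G_a` (as a subgroup of `G_a`) to `N_a` (as a subgroup of `N`) -/
def stabMap (N : Subgroup G) (a : Ω) :
    (N.subgroupOf (stabilizer G a)) → (stabilizer N a) :=
  fun g => ⟨⟨g.1.1, g.2⟩, by
    rw [mem_stabilizer_iff]
    exact g.1.2⟩

theorem stabMap_surjective (N : Subgroup G) (a : Ω) : Function.Surjective (stabMap N a) := by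
  intro h
  refine ⟨⟨⟨h.1.1, ?_⟩, ?_⟩, ?_⟩
  · rw [mem_stabilizer_iff]
    exact h.2
  · rw [Subgroup.mem_subgroupOf]
    exact h.1.2
  · rfl

/-- the identity map on the complement of `a`, equivariant along `stabMap` -/
def stabEquivMap (N : Subgroup G) (a : Ω) :
    (ofStabilizer G a) →ₑ[stabMap N a] (ofStabilizer N a) where
  toFun x := ⟨x.1, x.2⟩
  map_smul' _ _ := rfl

theorem stabEquivMap_bijective (N : Subgroup G) (a : Ω) :
    Function.Bijective (stabEquivMap N a) := by
  constructor
  · intro x y hxy
    apply Subtype.ext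
    exact congrArg Subtype.val hxy
  · intro y
    exact ⟨⟨y.1, y.2⟩, rfl⟩

theorem isMultiplyPretransitive_stab_iff (N : Subgroup G) (a : Ω) (m : ℕ) :
    IsMultiplyPretransitive (N.subgroupOf (stabilizer G a)) (ofStabilizer G a) m ↔
      IsMultiplyPretransitive (stabilizer N a) (ofStabilizer N a) m :=
  IsPretransitive.of_embedding_congr (stabMap_surjective N a) (stabEquivMap_bijective N a)



theorem exists_notMem_list [Finite Ω] (l : List Ω) (h : l.length < Nat.card Ω) : ∃ d, d ∉ l := by
  classical
  by_contra hcon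
  push Not at hcon
  have : Fintype Ω := Fintype.ofFinite Ω
  have hS : l.toFinset = Finset.univ := Finset.eq_univ_iff_forall.mpr (fun d => by simpa using hcon d)
  have h1 : l.toFinset.card ≤ l.length := List.toFinset_card_le l
  rw [hS, Finset.card_univ, ← Nat.card_eq_fintype_card] at h1
  omega

theorem exists_smul_of_injective {n : ℕ} [IsMultiplyPretransitive G Ω n] (x y : Fin n → Ω)
    (hx : Function.Injective x) (hy : Function.Injective y) : ∃ g : G, ∀ i, g • x i = y i := by
  obtain ⟨g, hg⟩ := exists_smul_eq G (⟨x, hx⟩ : Fin n ↪ Ω) ⟨y, hy⟩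
  refine ⟨g, fun i => ?_⟩
  have := DFunLike.congr_fun hg i
  simpa using this

theorem injective_vec3 {a b c : Ω} (hab : a ≠ b) (hac : a ≠ c) (hbc : b ≠ c) :
    Function.Injective ![a, b, c] := by
  intro i j h
  fin_cases i <;> fin_cases j <;> simp_all

theorem injective_vec4 {a b c d : Ω} (hab : a ≠ b) (hac : a ≠ c) (had : a ≠ d) (hbc : b ≠ c)
    (hbd : b ≠ d) (hcd : c ≠ d) :
    Function.Injective ![a, b, c, d] := by
  intro i j h
  fin_cases i <;> fin_cases j <;> simp_all

theorem exists_smul_three [IsMultiplyPretransitive G Ω 3] {a b c a' b' c' : Ω}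
    (hab : a ≠ b) (hac : a ≠ c) (hbc : b ≠ c) (hab' : a' ≠ b') (hac' : a' ≠ c') (hbc' : b' ≠ c') :
    ∃ g : G, g • a = a' ∧ g • b = b' ∧ g • c = c' := by
  obtain ⟨g, hg⟩ := exists_smul_of_injective (G := G) _ _ (injective_vec3 hab hac hbc)
    (injective_vec3 hab' hac' hbc')
  exact ⟨g, by simpa using hg 0, by simpa using hg 1, by simpa using hg 2⟩

theorem exists_smul_four [IsMultiplyPretransitive G Ω 4] {a b c d a' b' c' d' : Ω}
    (hab : a ≠ b) (hac : a ≠ c) (had : a ≠ d) (hbc : b ≠ c) (hbd : b ≠ d) (hcd : c ≠ d)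
    (hab' : a' ≠ b') (hac' : a' ≠ c') (had' : a' ≠ d') (hbc' : b' ≠ c') (hbd' : b' ≠ d')
    (hcd' : c' ≠ d') :
    ∃ g : G, g • a = a' ∧ g • b = b' ∧ g • c = c' ∧ g • d = d' := by
  obtain ⟨g, hg⟩ := exists_smul_of_injective (G := G) _ _ (injective_vec4 hab hac had hbc hbd hcd)
    (injective_vec4 hab' hac' had' hbc' hbd' hcd')
  exact ⟨g, by simpa using hg 0, by simpa using hg 1, by simpa using hg 2, by simpa using hg 3⟩

/-- if `g` fixes `a` and `x • a`, where `x` lies in a semiregular normal subgroup, then `g`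
commutes with `x`. -/
theorem commute_of_fix_of_semiregular (N : Subgroup G) [N.Normal]
    (hsr : ∀ n ∈ N, ∀ a : Ω, n • a = a → n = 1) {g x : G} (hx : x ∈ N) {a : Ω}
    (hga : g • a = a) (hgx : g • x • a = x • a) : g * x = x * g := by
  have hmem : x⁻¹ * (g * x * g⁻¹) ∈ N := N.mul_mem (N.inv_mem hx) (‹N.Normal›.conj_mem x hx g)
  have hfix : (x⁻¹ * (g * x * g⁻¹)) • a = a := by
    have hginv : g⁻¹ • a = a := by rw [inv_smul_eq_iff, hga]
    rw [mul_smul, mul_smul, mul_smul, hginv, hgx, inv_smul_smul]
  have := hsr _ hmem a hfix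
  have h2 : g * x * g⁻¹ = x := by
    have h3 := congrArg (fun z => x * z) this
    simpa using h3
  calc g * x = g * x * g⁻¹ * g := by group
    _ = x * g := by rw [h2]

/-- A semiregular normal subgroup of a 3-transitive group of degree at least 4 has exponent 2. -/
theorem sq_eq_one_of_semiregular_normal [Finite Ω] [IsMultiplyPretransitive G Ω 3]
    (hcard : 4 ≤ Nat.card Ω) (N : Subgroup G) [N.Normal]
    (hsr : ∀ n ∈ N, ∀ a : Ω, n • a = a → n = 1) : ∀ n ∈ N, n ^ 2 = 1 := by
  intro x hx
  by_contra hx2
  have hne : Nonempty Ω := by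
    rw [← Finite.card_pos_iff]; omega
  obtain ⟨a⟩ := hne
  have hx1 : x ≠ 1 := by
    intro h; apply hx2; rw [h]; simp
  have h1 : x • a ≠ a := fun h => hx1 (hsr x hx a h)
  have h2 : x⁻¹ • a ≠ a := by
    intro h
    apply h1
    rw [inv_smul_eq_iff] at h
    exact h.symm
  have h3 : x • a ≠ x⁻¹ • a := by
    intro h
    apply hx2
    apply hsr _ (N.pow_mem hx 2) a
    rw [pow_two, mul_smul, h, smul_inv_smul]
  obtain ⟨d, hd⟩ := exists_notMem_list [a, x • a, x⁻¹ • a] (by simp; omega)
  simp only [List.mem_cons, List.not_mem_nil, or_false, not_or] at hd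
  obtain ⟨hda, hdx, hdxi⟩ := hd
  obtain ⟨g, hga, hgx, hgxi⟩ := exists_smul_three (G := G) (a := a) (b := x • a) (c := x⁻¹ • a)
    (a' := a) (b' := x • a) (c' := d) (Ne.symm h1) (Ne.symm h2) h3 (Ne.symm h1)
    (Ne.symm hda) (Ne.symm hdx)
  have hcomm := commute_of_fix_of_semiregular N hsr hx hga hgx
  have hcomm' : g * x⁻¹ = x⁻¹ * g := by
    calc g * x⁻¹ = x⁻¹ * (x * g) * x⁻¹ := by group
      _ = x⁻¹ * (g * x) * x⁻¹ := by rw [hcomm]
      _ = x⁻¹ * g := by group
  apply hdxi
  rw [← hgxi, ← mul_smul, hcomm', mul_smul, hga]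

/-- A semiregular normal subgroup of a 4-transitive group of degree at least 5 has at most
two elements: more precisely there are no two distinct non-identity elements. -/
theorem not_semiregular_normal_of_four [Finite Ω] [IsMultiplyPretransitive G Ω 4]
    (hcard : 5 ≤ Nat.card Ω) (N : Subgroup G) [N.Normal]
    (hsr : ∀ n ∈ N, ∀ a : Ω, n • a = a → n = 1) {x y : G} (hx : x ∈ N) (hy : y ∈ N)
    (hx1 : x ≠ 1) (hy1 : y ≠ 1) (hxy : x ≠ y) : False := by
  have h3t : IsMultiplyPretransitive G Ω 3 :=
    isMultiplyPretransitive_of_le (n := 4) (by omega) (by omega)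
  have hexp := sq_eq_one_of_semiregular_normal (G := G) (by omega) N hsr
  have hne : Nonempty Ω := by
    rw [← Finite.card_pos_iff]; omega
  obtain ⟨a⟩ := hne
  have hxinv : x⁻¹ = x := by
    have := hexp x hx
    rw [pow_two] at this
    exact inv_eq_of_mul_eq_one_left this
  have hxy1 : x * y ≠ 1 := by
    intro h
    apply hxy
    have : y = x⁻¹ := by
      have h2 := congrArg (fun z => x⁻¹ * z) h
      simpa using h2
    rw [this, hxinv]
  have hxyN : x * y ∈ N := N.mul_mem hx hy
  have h1 : x • a ≠ a := fun h => hx1 (hsr x hx a h)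
  have h2 : y • a ≠ a := fun h => hy1 (hsr y hy a h)
  have h3 : (x * y) • a ≠ a := fun h => hxy1 (hsr _ hxyN a h)
  have h4 : x • a ≠ y • a := by
    intro h
    apply hxy
    have : x⁻¹ * y = 1 := by
      apply hsr _ (N.mul_mem (N.inv_mem hx) hy) a
      rw [mul_smul, ← h, inv_smul_smul]
    have h2 := congrArg (fun z => x * z) this
    simpa using h2.symm
  have h5 : (x * y) • a ≠ x • a := by
    intro h
    apply h2
    rw [mul_smul] at h
    exact smul_left_cancel x h
  have h6 : (x * y) • a ≠ y • a := by
    intro h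
    apply hx1
    have : y⁻¹ * x * y = 1 := by
      apply hsr _ ?_ a
      · rw [mul_smul, mul_smul, ← mul_smul x y, h, inv_smul_smul]
      · have := ‹N.Normal›.conj_mem x hx y⁻¹
        simpa using this
    have h2 := congrArg (fun z => y * z * y⁻¹) this
    simpa [mul_assoc] using h2
  obtain ⟨d, hd⟩ := exists_notMem_list [a, x • a, y • a, (x * y) • a] (by simp; omega)
  simp only [List.mem_cons, List.not_mem_nil, or_false, not_or] at hd
  obtain ⟨hda, hdx, hdy, hdxy⟩ := hd
  obtain ⟨g, hga, hgx, hgy, hgxy⟩ := exists_smul_four (G := G) (a := a) (b := x • a) (c := y • a)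
    (d := (x * y) • a) (a' := a) (b' := x • a) (c' := y • a) (d' := d)
    (Ne.symm h1) (Ne.symm h2) (Ne.symm h3) h4 (Ne.symm h5) (Ne.symm h6)
    (Ne.symm h1) (Ne.symm h2) (Ne.symm hda) h4 (Ne.symm hdx) (Ne.symm hdy)
  have hcx := commute_of_fix_of_semiregular N hsr hx hga hgx
  have hcy := commute_of_fix_of_semiregular N hsr hy hga hgy
  apply hdxy
  rw [← hgxy, ← mul_smul, ← mul_assoc, hcx, mul_assoc, hcy, ← mul_assoc, mul_smul, hga]

/-- A transitive subgroup whose point stabilizer is transitive and semiregular off the point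
and of exponent 2 has degree at most 3. -/
theorem false_of_sharply_two_exponent_two [Finite Ω] (N : Subgroup G) (a : Ω)
    (h1 : ∀ b : Ω, ∃ n ∈ N, n • a = b)
    (h2 : ∀ b c : Ω, b ≠ a → c ≠ a → ∃ u ∈ N, u • a = a ∧ u • b = c)
    (h3 : ∀ u ∈ N, u • a = a → u ^ 2 = 1)
    (h4 : ∀ u ∈ N, u • a = a → ∀ b : Ω, b ≠ a → u • b = b → u = 1)
    (h5 : 4 ≤ Nat.card Ω) : False := by
  obtain ⟨b, hb⟩ := exists_notMem_list [a] (by simp; omega)
  simp only [List.mem_cons, List.not_mem_nil, or_false] at hb
  obtain ⟨c, hc⟩ := exists_notMem_list [a, b] (by simp; omega)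
  simp only [List.mem_cons, List.not_mem_nil, or_false, not_or] at hc
  obtain ⟨hca, hcb⟩ := hc
  obtain ⟨t, htN, hta, htb⟩ := h2 b c hb hca
  have htc : t • c = b := by
    rw [← htb, ← mul_smul, ← pow_two, h3 t htN hta, one_smul]
  obtain ⟨d, hd⟩ := exists_notMem_list [a, b, c] (by simp; omega)
  simp only [List.mem_cons, List.not_mem_nil, or_false, not_or] at hd
  obtain ⟨hda, hdb, hdc⟩ := hd
  obtain ⟨g, hgN, hga⟩ := h1 d
  have hgb : g⁻¹ • b ≠ a := by
    intro h
    rw [inv_smul_eq_iff, hga] at h
    exact hdb h.symm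
  have hgc : g⁻¹ • c ≠ a := by
    intro h
    rw [inv_smul_eq_iff, hga] at h
    exact hdc h.symm
  obtain ⟨u₀, hu₀N, hu₀a, hu₀b⟩ := h2 _ _ hgb hgc
  set u := g * u₀ * g⁻¹ with hu
  have huN : u ∈ N := N.mul_mem (N.mul_mem hgN hu₀N) (N.inv_mem hgN)
  have hgia : g⁻¹ • d = a := by rw [inv_smul_eq_iff, hga]
  have hud : u • d = d := by
    rw [hu, mul_smul, mul_smul, hgia, hu₀a, hga]
  have hub : u • b = c := by
    rw [hu, mul_smul, mul_smul, hu₀b, smul_inv_smul]
  have hu2 : u ^ 2 = 1 := by
    rw [hu]
    have := h3 u₀ hu₀N hu₀a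
    calc (g * u₀ * g⁻¹) ^ 2 = g * u₀ ^ 2 * g⁻¹ := by
          rw [pow_two, pow_two]; group
      _ = 1 := by rw [this]; group
  have huc : u • c = b := by
    rw [← hub, ← mul_smul, ← pow_two, hu2, one_smul]
  -- w = t⁻¹ * u fixes b and c
  set w := t⁻¹ * u with hw
  have hwN : w ∈ N := N.mul_mem (N.inv_mem htN) huN
  have hwb : w • b = b := by
    rw [hw, mul_smul, hub, inv_smul_eq_iff, htb]
  have hwc : w • c = c := by
    rw [hw, mul_smul, huc, inv_smul_eq_iff, htc]
  -- conjugate b to a
  obtain ⟨h, hhN, hha⟩ := h1 b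
  have hhib : h⁻¹ • b = a := by rw [inv_smul_eq_iff, hha]
  have hw1 : h⁻¹ * w * h = 1 := by
    apply h4 _ (N.mul_mem (N.mul_mem (N.inv_mem hhN) hwN) hhN) ?_ (h⁻¹ • c) ?_ ?_
    · rw [mul_smul, mul_smul, hha, hwb, hhib]
    · intro hcon
      rw [inv_smul_eq_iff, hha] at hcon
      exact hcb hcon
    · rw [mul_smul, mul_smul, smul_inv_smul, hwc]
  have hw1' : w = 1 := by
    have := congrArg (fun z => h * z * h⁻¹) hw1
    simpa [mul_assoc] using this
  have hut : u = t := by
    have := congrArg (fun z => t * z) hw1'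
    simpa [hw] using this
  -- t fixes d
  have htd : t • d = d := by rw [← hut]; exact hud
  have ht1 : t = 1 := h4 t htN hta d hda htd
  apply hcb
  rw [← htb, ht1, one_smul]


end

universe u v

/-- Jordan's theorem on normal subgroups of multiply transitive groups,
abstract version for faithful actions. -/
theorem jordan_normal_aux (k : ℕ) (hk : 2 ≤ k) :
    ∀ {G : Type u} {Ω : Type v} [Group G] [MulAction G Ω] [FaithfulSMul G Ω] [Finite Ω],
      k < Nat.card Ω → IsMultiplyPretransitive G Ω k → ∀ (N : Subgroup G) [N.Normal], N ≠ ⊥ →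
      IsMultiplyPretransitive N Ω (k - 1) ∨
        (k = 3 ∧ (∀ x ∈ N, ∀ y ∈ N, x * y = y * x) ∧ ∀ n ∈ N, n ^ 2 = 1) := by
  induction k, hk using Nat.le_induction with
  | base =>
    intro G Ω _ _ _ _ hcard hG N _ hN
    left
    have hprim : IsPreprimitive G Ω := isPreprimitive_of_is_two_pretransitive hG
    have : IsPretransitive N Ω := normal_pretransitive_of_preprimitive (Ω := Ω) N hN
    exact is_one_pretransitive_iff.mpr this
  | succ k hk ih =>
    intro G Ω _ _ _ _ hcard hG N _ hN
    have h2t : IsMultiplyPretransitive G Ω 2 :=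
      isMultiplyPretransitive_of_le (n := k + 1) (by omega) (by omega)
    have h3t : IsMultiplyPretransitive G Ω 3 :=
      isMultiplyPretransitive_of_le (n := k + 1) (by omega) (by omega)
    have hprim : IsPreprimitive G Ω := isPreprimitive_of_is_two_pretransitive h2t
    have hGt : IsPretransitive G Ω := hprim.toIsPretransitive
    have hNt : IsPretransitive N Ω := normal_pretransitive_of_preprimitive (Ω := Ω) N hN
    have hne : Nonempty Ω := by
      rw [← Finite.card_pos_iff]; omega
    obtain ⟨a⟩ := hne
    -- the stabilizer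
    have hfa : FaithfulSMul (stabilizer G a) (ofStabilizer G a) := faithful_ofStabilizer a
    have hGa : IsMultiplyPretransitive (stabilizer G a) (ofStabilizer G a) k :=
      ofStabilizer.isMultiplyPretransitive.mp hG
    have hcarda : k < Nat.card (ofStabilizer G a) := by
      rw [nat_card_ofStabilizer_eq]; omega
    have hNan : (N.subgroupOf (stabilizer G a)).Normal := inferInstance
    by_cases hNa : N.subgroupOf (stabilizer G a) = ⊥
    · -- regular case
      right
      have hsr : ∀ n ∈ N, ∀ b : Ω, n • b = b → n = 1 := by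
        intro n hn b hb
        obtain ⟨g, hg⟩ := exists_smul_eq N a b
        -- conjugate
        have hmem : (g : G)⁻¹ * n * g ∈ N := by
          have := ‹N.Normal›.conj_mem n hn (g : G)⁻¹
          simpa using this
        have hfix : ((g : G)⁻¹ * n * g) • a = a := by
          have hg' : (g : G) • a = b := hg
          rw [mul_smul, mul_smul, hg', hb, inv_smul_eq_iff, hg']
        have hmem' : (⟨(g : G)⁻¹ * n * g, hfix⟩ : stabilizer G a) ∈
            N.subgroupOf (stabilizer G a) := by
          rw [Subgroup.mem_subgroupOf]; exact hmem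
        rw [hNa, Subgroup.mem_bot] at hmem'
        have h1 : (g : G)⁻¹ * n * g = 1 := congrArg Subtype.val hmem'
        have := congrArg (fun z => (g : G) * z * (g : G)⁻¹) h1
        simpa [mul_assoc] using this
      have hexp := sq_eq_one_of_semiregular_normal (G := G) (by omega) N hsr
      refine ⟨?_, ?_, hexp⟩
      · -- k + 1 = 3
        by_contra hk3
        have hk3' : 3 ≤ k := by omega
        have h4t : IsMultiplyPretransitive G Ω 4 :=
          isMultiplyPretransitive_of_le (n := k + 1) (by omega) (by omega)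
        obtain ⟨b, hb⟩ := exists_notMem_list [a] (by simp; omega)
        simp only [List.mem_cons, List.not_mem_nil, or_false] at hb
        obtain ⟨c, hc⟩ := exists_notMem_list [a, b] (by simp; omega)
        simp only [List.mem_cons, List.not_mem_nil, or_false, not_or] at hc
        obtain ⟨x, hx⟩ := exists_smul_eq N a b
        obtain ⟨y, hy⟩ := exists_smul_eq N a c
        have hx' : (x : G) • a = b := hx
        have hy' : (y : G) • a = c := hy
        apply not_semiregular_normal_of_four (G := G) (by omega) N hsr x.2 y.2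
        · intro h
          rw [h, one_smul] at hx'
          exact hb hx'.symm
        · intro h
          rw [h, one_smul] at hy'
          exact hc.1 hy'.symm
        · intro h
          rw [h, hy'] at hx'
          exact hc.2 hx'
      · intro x hx y hy
        have hx2 := hexp x hx
        have hy2 := hexp y hy
        have hxy2 := hexp (x * y) (N.mul_mem hx hy)
        have hxi : x⁻¹ = x := by
          rw [pow_two] at hx2; exact inv_eq_of_mul_eq_one_left hx2
        have hyi : y⁻¹ = y := by
          rw [pow_two] at hy2; exact inv_eq_of_mul_eq_one_left hy2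
        have hxyi : (x * y)⁻¹ = x * y := by
          rw [pow_two] at hxy2; exact inv_eq_of_mul_eq_one_left hxy2
        rw [← hxyi, mul_inv_rev, hxi, hyi]
    · -- non-regular case
      left
      have hprima : IsPreprimitive (stabilizer G a) (ofStabilizer G a) := by
        have h2a : IsMultiplyPretransitive (stabilizer G a) (ofStabilizer G a) 2 :=
          isMultiplyPretransitive_of_le (n := k) (by omega) (by omega)
        exact isPreprimitive_of_is_two_pretransitive h2a
      have hNat : IsPretransitive (N.subgroupOf (stabilizer G a)) (ofStabilizer G a) :=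
        normal_pretransitive_of_preprimitive (Ω := ofStabilizer G a) _ hNa
      rcases ih hcarda hGa (N.subgroupOf (stabilizer G a)) hNa with hA | ⟨hk3, hcomm, hexp⟩
      · -- transfer
        have h1 : IsMultiplyPretransitive (stabilizer N a) (ofStabilizer N a) (k - 1) :=
          (isMultiplyPretransitive_stab_iff N a (k - 1)).mp hA
        have h2 : IsMultiplyPretransitive N Ω (k - 1).succ :=
          ofStabilizer.isMultiplyPretransitive.mpr h1
        have hkk : (k - 1).succ = k + 1 - 1 := by omega
        rw [hkk] at h2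
        exact h2
      · -- impossible case
        exfalso
        apply false_of_sharply_two_exponent_two N a
        · intro b
          obtain ⟨n, hn⟩ := exists_smul_eq N a b
          exact ⟨n, n.2, hn⟩
        · intro b c hb hc
          obtain ⟨u, hu⟩ := exists_smul_eq (N.subgroupOf (stabilizer G a))
            (⟨b, hb⟩ : ofStabilizer G a) ⟨c, hc⟩
          refine ⟨u.1.1, u.2, u.1.2, ?_⟩
          exact congrArg Subtype.val hu
        · intro u hu hua
          have := hexp ⟨u, hua⟩ (by rw [Subgroup.mem_subgroupOf]; exact hu)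
          exact congrArg Subtype.val this
        · intro u hu hua b hb hub
          have hu' : (⟨u, hua⟩ : stabilizer G a) ∈ N.subgroupOf (stabilizer G a) := by
            rw [Subgroup.mem_subgroupOf]; exact hu
          have : (⟨u, hua⟩ : stabilizer G a) = 1 := by
            apply FaithfulSMul.eq_of_smul_eq_smul (α := ofStabilizer G a)
            intro c
            rw [one_smul]
            obtain ⟨v, hv⟩ := exists_smul_eq (N.subgroupOf (stabilizer G a))
              (⟨b, hb⟩ : ofStabilizer G a) c
            have hv' : (v : stabilizer G a) • (⟨b, hb⟩ : ofStabilizer G a) = c := hv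
            rw [← hv', ← mul_smul, hcomm _ hu' _ v.2, mul_smul]
            congr 1
            apply Subtype.ext
            exact hub
          exact congrArg Subtype.val this
        · omega

end Cfsg.Agent.Helper59
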