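import Mathlib
import Cfsg.Agent.Helper48.GenGAL
import Cfsg.Agent.Helper60.PermKit
import Cfsg.Agent.S0675
import Cfsg.Agent.S0680
import Cfsg.Agent.Helper59.MultTrans

/-! # A 3-transitive group of even permutations of degree 13 containing an 11-cycle has order
divisible by 5 -/

set_option autoImplicit false
set_option linter.unusedSectionVars false

namespace Cfsg.Agent.Helper59.GenD13

open Equiv Equiv.Perm MulAction

variable {α : Type*} [Fintype α] [DecidableEq α]

/-- the elements of `H` fixing every point outside `S`. -/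
def fixOut (H : Subgroup (Perm α)) (S : Finset α) : Subgroup (Perm α) where
  carrier := {g | g ∈ H ∧ ∀ x, x ∉ S → g x = x}
  mul_mem' := by
    rintro a b ⟨ha, ha'⟩ ⟨hb, hb'⟩
    exact ⟨H.mul_mem ha hb, fun x hx => by rw [Perm.mul_apply, hb' x hx, ha' x hx]⟩
  one_mem' := ⟨H.one_mem, fun _ _ => rfl⟩
  inv_mem' := by
    rintro a ⟨ha, ha'⟩
    exact ⟨H.inv_mem ha, fun x hx => by rw [Perm.inv_eq_iff_eq, ha' x hx]⟩

theorem mem_fixOut {H : Subgroup (Perm α)} {S : Finset α} {g : Perm α} :
    g ∈ fixOut H S ↔ g ∈ H ∧ ∀ x, x ∉ S → g x = x := Iff.rfl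

theorem fixOut_le (H : Subgroup (Perm α)) (S : Finset α) : fixOut H S ≤ H := fun _ h => h.1

theorem fixOut_preserves {H : Subgroup (Perm α)} {S : Finset α} {g : Perm α}
    (hg : g ∈ fixOut H S) (x : α) : g x ∈ S ↔ x ∈ S := by
  constructor
  · intro h
    by_contra hx
    rw [hg.2 x hx] at h
    exact hx h
  · intro h
    by_contra hx
    have h1 := hg.2 (g x) hx
    have h2 : g x = x := g.injective h1
    rw [h2] at hx
    exact hx h

/-- restriction to `S`. -/
def restr (H : Subgroup (Perm α)) (S : Finset α) : fixOut H S →* Perm {x // x ∈ S} where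
  toFun g := (g : Perm α).subtypePerm (fun x => fixOut_preserves g.2 x)
  map_one' := by ext x; rfl
  map_mul' := by intro g h; ext x; rfl

theorem restr_apply (H : Subgroup (Perm α)) (S : Finset α) (g : fixOut H S) (x : {x // x ∈ S}) :
    ((restr H S g) x : α) = (g : Perm α) x := rfl

theorem restr_injective (H : Subgroup (Perm α)) (S : Finset α) :
    Function.Injective (restr H S) := by
  rw [injective_iff_map_eq_one]
  intro g hg
  apply Subtype.ext
  ext x
  by_cases hx : x ∈ S
  · have := congrArg (fun f => ((f ⟨x, hx⟩ : {x // x ∈ S}) : α)) hg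
    simpa [restr_apply] using this
  · exact g.2.2 x hx

/-- in a finite group, a nontrivial power of an element of prime order generates the same
cyclic group. -/
theorem mem_zpowers_of_prime_order {G : Type*} [Group G] [Finite G] {x y : G} {p : ℕ}
    (hp : p.Prime) (hx : orderOf x = p) (hy : y ∈ Subgroup.zpowers x) (hy1 : y ≠ 1) :
    x ∈ Subgroup.zpowers y := by
  have hle : Subgroup.zpowers y ≤ Subgroup.zpowers x := by
    rw [Subgroup.zpowers_le]; exact hy
  have hoy : orderOf y = p := by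
    have hdvd : orderOf y ∣ p := by
      have h0 := orderOf_dvd_of_mem_zpowers hy
      rwa [hx] at h0
    rcases (Nat.dvd_prime hp).mp hdvd with h | h
    · exact absurd (orderOf_eq_one_iff.mp h) hy1
    · exact h
  have heq : Subgroup.zpowers y = Subgroup.zpowers x := by
    apply Subgroup.eq_of_le_of_card_ge hle
    rw [Nat.card_zpowers, Nat.card_zpowers, hoy, hx]
  rw [heq]
  exact Subgroup.mem_zpowers x

/-- an element of `⟨σ⟩`, `σ` a cycle, fixing a point of the support of `σ` is trivial. -/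
theorem eq_one_of_mem_zpowers_of_fix {σ g : Perm α} (hσc : σ.IsCycle)
    (hg : g ∈ Subgroup.zpowers σ) {c : α} (hc : c ∈ σ.support) (hgc : g c = c) : g = 1 := by
  rw [← mem_powers_iff_mem_zpowers] at hg
  obtain ⟨n, rfl⟩ := (Submonoid.mem_powers_iff _ _).mp hg
  exact (hσc.pow_eq_one_iff' (mem_support.mp hc)).mpr hgc

/-- if `τ` normalises `⟨σ⟩`, `σ` a cycle of prime length, and fixes two points of the support
of `σ`, then `τ` commutes with `σ`. -/
theorem commute_of_two_fixed {σ τ : Perm α} (hσc : σ.IsCycle) (hprime : (σ.support.card).Prime)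
    (hnorm : ∀ i : ℕ, τ * σ ^ i * τ⁻¹ ∈ Subgroup.zpowers σ) {c d : α} (hc : c ∈ σ.support)
    (hd : d ∈ σ.support) (hcd : c ≠ d) (hτc : τ c = c) (hτd : τ d = d) : Commute τ σ := by
  obtain ⟨i, hi⟩ := hσc.exists_pow_eq (mem_support.mp hc) (mem_support.mp hd)
  set u := τ * σ ^ i * τ⁻¹ with hu
  have huz : u ∈ Subgroup.zpowers σ := hnorm i
  have hτinv : τ⁻¹ c = c := by rw [Perm.inv_eq_iff_eq, hτc]
  have huc : u c = d := by
    rw [hu, Perm.mul_apply, Perm.mul_apply, hτinv, hi, hτd]
  have hvz : u⁻¹ * σ ^ i ∈ Subgroup.zpowers σ :=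
    Subgroup.mul_mem _ (Subgroup.inv_mem _ huz) (Subgroup.pow_mem _ (Subgroup.mem_zpowers σ) i)
  have hvc : (u⁻¹ * σ ^ i) c = c := by
    rw [Perm.mul_apply, hi, Perm.inv_eq_iff_eq, huc]
  have hv1 := eq_one_of_mem_zpowers_of_fix hσc hvz hc hvc
  have hui : u = σ ^ i := by
    rw [inv_mul_eq_one] at hv1
    exact hv1
  have hcomm_i : Commute τ (σ ^ i) := by
    show τ * σ ^ i = σ ^ i * τ
    calc τ * σ ^ i = u * τ := by rw [hu]; group
      _ = σ ^ i * τ := by rw [hui]
  have hne : σ ^ i ≠ 1 := by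
    intro h1
    rw [h1] at hi
    exact hcd hi
  have hmem := mem_zpowers_of_prime_order hprime (hσc.orderOf)
    (Subgroup.pow_mem _ (Subgroup.mem_zpowers σ) i) hne
  obtain ⟨k, hk⟩ := Subgroup.mem_zpowers_iff.mp hmem
  rw [← hk]
  exact hcomm_i.zpow_right k

/-- a permutation commuting with a cycle `σ` and fixing all points outside its support is a power
of `σ`. -/
theorem mem_zpowers_of_commute {σ τ : Perm α} (hσc : σ.IsCycle) (hcomm : Commute τ σ)
    (hτ : ∀ x, x ∉ σ.support → τ x = x) : τ ∈ Subgroup.zpowers σ := by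
  obtain ⟨j, hj⟩ := Cfsg.Agent.Helper60.exists_zpow_mul_fix_support hσc hcomm
  have h1 : σ ^ j * τ = 1 := by
    ext y
    by_cases hy : y ∈ σ.support
    · exact hj y hy
    · rw [Perm.mul_apply, hτ y hy]
      have : y ∉ (σ ^ j).support := fun h => hy (support_zpow_le σ j h)
      simpa using notMem_support.mp this
  have : τ = σ ^ (-j) := by
    rw [zpow_neg, eq_inv_iff_mul_eq_one, (hcomm.zpow_right j).eq]
    exact h1
  rw [this]
  exact Subgroup.zpow_mem_zpowers σ (-j)

/-- the order of the two-point stabiliser `L`: 11 or 22 unless `5 ∣ |H|`. -/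
theorem card_fixOut_of_cycle11 (H : Subgroup (Perm α))
    (h5 : ¬ 5 ∣ Nat.card H) {σ : Perm α} (hσ : σ ∈ H) (hσc : σ.IsCycle)
    (hσ11 : σ.support.card = 11) :
    Nat.card (fixOut H σ.support) = 11 ∨ Nat.card (fixOut H σ.support) = 22 := by
  classical
  set S := σ.support with hS
  set L := fixOut H S with hL
  have hσL : σ ∈ L := ⟨hσ, fun x hx => notMem_support.mp hx⟩
  set G' : Subgroup (Perm {x // x ∈ S}) := (restr H S).range with hG'
  have hcardΛ : Fintype.card {x // x ∈ S} = 11 := by rw [Fintype.card_coe, hσ11]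
  have hcardG : Nat.card G' = Nat.card L :=
    (Nat.card_congr (MonoidHom.ofInjective (restr_injective H S)).toEquiv).symm
  haveI : IsPretransitive G' {x // x ∈ S} := by
    constructor
    intro x y
    obtain ⟨i, hi⟩ := hσc.exists_pow_eq (mem_support.mp x.2) (mem_support.mp y.2)
    refine ⟨⟨restr H S ((⟨σ, hσL⟩ : L) ^ i), MonoidHom.mem_range.mpr ⟨_, rfl⟩⟩, ?_⟩
    apply Subtype.ext
    show ((restr H S ((⟨σ, hσL⟩ : L) ^ i)) x : α) = y
    rw [restr_apply]
    simpa using hi
  have h5L : ¬ 5 ∣ Nat.card L :=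
    fun h => h5 (h.trans (Subgroup.card_dvd_of_le (fixOut_le H S)))
  have h11L : 11 ∣ Nat.card L := by
    have : orderOf (⟨σ, hσL⟩ : L) = 11 := by rw [Subgroup.orderOf_mk, hσc.orderOf, hσ11]
    rw [← this]
    exact orderOf_dvd_natCard _
  rcases Cfsg.Agent.S0675.result (by rw [hcardΛ]; norm_num) G' with hs | h2
  · have hdvd := Cfsg.Agent.Helper48.GenGAL.card_dvd_of_solvable_prime_degree (p := 11)
      (by norm_num) hcardΛ G' hs
    rw [hcardG] at hdvd
    obtain ⟨k, hk⟩ := h11L
    rw [hk] at hdvd h5L ⊢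
    have hk10 : k ∣ 10 := Nat.dvd_of_mul_dvd_mul_left (by norm_num : 0 < 11) hdvd
    have hkle : k ≤ 10 := Nat.le_of_dvd (by norm_num) hk10
    have hk5 : ¬ 5 ∣ k := fun h => h5L (Dvd.dvd.mul_left h 11)
    interval_cases k <;> omega
  · exfalso
    haveI : Nontrivial {x // x ∈ S} := by
      rw [← Fintype.one_lt_card_iff_nontrivial, hcardΛ]
      norm_num
    obtain ⟨x, y, hxy⟩ := exists_pair_ne {x // x ∈ S}
    have hidx := h2.index_of_fixingSubgroup_mul (s := {x, y}) (Set.ncard_pair hxy)
    rw [Nat.card_eq_fintype_card, hcardΛ] at hidx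
    have h110 : (fixingSubgroup G' ({x, y} : Set {x // x ∈ S})).index = 110 := by
      apply Nat.eq_of_mul_eq_mul_right (Nat.factorial_pos (11 - 2))
      rw [hidx]
      decide
    have hdvd : 110 ∣ Nat.card G' := by
      rw [← h110]
      exact Subgroup.index_dvd_card _
    rw [hcardG] at hdvd
    exact h5L (Dvd.dvd.trans (by norm_num) hdvd)

/-- `|L| = 22` is impossible inside the alternating group. -/
theorem false_of_card_22 (H : Subgroup (Perm α)) (hH : H ≤ alternatingGroup α)
    {σ : Perm α} (hσ : σ ∈ H) (hσc : σ.IsCycle) (hσ11 : σ.support.card = 11)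
    (h22 : Nat.card (fixOut H σ.support) = 22) : False := by
  classical
  set S := σ.support with hS
  set L := fixOut H S with hL
  have hσL : σ ∈ L := ⟨hσ, fun x hx => notMem_support.mp hx⟩
  haveI : Fact (Nat.Prime 2) := ⟨Nat.prime_two⟩
  obtain ⟨t, ht⟩ := exists_prime_orderOf_dvd_card' (G := L) 2 (by rw [h22]; norm_num)
  set τ : Perm α := (t : Perm α) with hτ
  have hτ2 : orderOf τ = 2 := by rw [← ht]; exact Subgroup.orderOf_coe t
  have hτL : τ ∈ L := t.2
  have hτout : ∀ x, x ∉ σ.support → τ x = x := hτL.2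
  set σL : L := ⟨σ, hσL⟩ with hσLdef
  have hoσ' : orderOf σ = 11 := by rw [hσc.orderOf, hσ11]
  have hoσ : orderOf σL = 11 := by rw [← hoσ']; exact Subgroup.orderOf_mk σ hσL
  have hidx : (Subgroup.zpowers σL).index = 2 := by
    have := Subgroup.card_mul_index (Subgroup.zpowers σL)
    rw [Nat.card_zpowers, hoσ, h22] at this
    omega
  have hnorm := Subgroup.normal_of_index_eq_two hidx
  have hconj : ∀ i : ℕ, τ * σ ^ i * τ⁻¹ ∈ Subgroup.zpowers σ := by
    intro i
    have h1 : t * σL ^ i * t⁻¹ ∈ Subgroup.zpowers σL :=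
      hnorm.conj_mem _ (Subgroup.pow_mem _ (Subgroup.mem_zpowers σL) i) t
    obtain ⟨k, hk⟩ := Subgroup.mem_zpowers_iff.mp h1
    refine Subgroup.mem_zpowers_iff.mpr ⟨k, ?_⟩
    have := congrArg (fun u : L => (u : Perm α)) hk
    simpa using this
  -- `τ` is not a power of `σ`
  have hτnot : τ ∉ Subgroup.zpowers σ := by
    intro hmem
    have := orderOf_dvd_of_mem_zpowers hmem
    rw [hτ2, hoσ'] at this
    norm_num at this
  -- `τ` fixes at most one point of the support of `σ`
  have hfix : (S \ τ.support).card ≤ 1 := by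
    rw [Finset.card_le_one]
    intro c hc d hd
    by_contra hcd
    rw [Finset.mem_sdiff, notMem_support] at hc hd
    have hcomm := commute_of_two_fixed hσc (by rw [hσ11]; norm_num) hconj hc.1 hd.1 hcd hc.2 hd.2
    exact hτnot (mem_zpowers_of_commute hσc hcomm hτout)
  have hsub : τ.support ⊆ S := by
    intro x hx
    by_contra hxS
    exact (mem_support.mp hx) (hτout x hxS)
  have hcard : τ.support.card + (S \ τ.support).card = 11 := by
    rw [← hσ11, ← Finset.card_sdiff_add_card_eq_card hsub, add_comm]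
  obtain ⟨n, hn⟩ := cycleType_prime_order (σ := τ) (by rw [hτ2]; exact Nat.prime_two)
  rw [hτ2] at hn
  have hsum : τ.cycleType.sum = τ.support.card := sum_cycleType τ
  rw [hn, Multiset.sum_replicate, smul_eq_mul] at hsum
  have hn4 : n + 1 = 5 := by omega
  have hsign : sign τ = -1 := by
    rw [sign_of_cycleType, hn, Multiset.sum_replicate, Multiset.card_replicate, hn4]
    decide
  have hτH : τ ∈ H := hτL.1
  have := mem_alternatingGroup.mp (hH hτH)
  rw [hsign] at this
  exact absurd this (by decide)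

/-- `|L| = 11` is impossible: `H` would be sharply 3-transitive of degree 13. -/
theorem false_of_card_11 (hα : Fintype.card α = 13) (H : Subgroup (Perm α))
    (h3 : MulAction.IsMultiplyPretransitive H α 3)
    {σ : Perm α} (hσ : σ ∈ H) (hσc : σ.IsCycle) (hσ11 : σ.support.card = 11)
    (h11 : Nat.card (fixOut H σ.support) = 11) : False := by
  classical
  set S := σ.support with hS
  set L := fixOut H S with hL
  have hσL : σ ∈ L := ⟨hσ, fun x hx => notMem_support.mp hx⟩
  have hoσ' : orderOf σ = 11 := by rw [hσc.orderOf, hσ11]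
  have hLeq : Subgroup.zpowers σ = L := by
    apply Subgroup.eq_of_le_of_card_ge ((Subgroup.zpowers_le).mpr hσL)
    rw [h11, Nat.card_zpowers, hoσ']
  -- the two fixed points of `σ`
  have hcompl : Sᶜ.card = 2 := by rw [Finset.card_compl, hα, hσ11]
  obtain ⟨a, b, hab, hSc⟩ := Finset.card_eq_two.mp hcompl
  have haS : a ∉ S := by
    have : a ∈ Sᶜ := by rw [hSc]; simp
    exact Finset.mem_compl.mp this
  have hbS : b ∉ S := by
    have : b ∈ Sᶜ := by rw [hSc]; simp
    exact Finset.mem_compl.mp this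
  have hout : ∀ x, x ∉ S → x = a ∨ x = b := by
    intro x hx
    have : x ∈ Sᶜ := Finset.mem_compl.mpr hx
    rw [hSc] at this
    simpa using this
  obtain ⟨c₀, hc₀⟩ : S.Nonempty := by
    rw [← Finset.card_pos, hσ11]; norm_num
  have hac : a ≠ c₀ := fun h => haS (h ▸ hc₀)
  have hbc : b ≠ c₀ := fun h => hbS (h ▸ hc₀)
  -- sharpness
  have hsharp : ∀ h ∈ H, ∀ x y z : α, x ≠ y → x ≠ z → y ≠ z → h x = x → h y = y → h z = z →
      h = 1 := by
    intro h hh x y z hxy hxz hyz hx hy hz
    obtain ⟨g, hgx, hgy, hgz⟩ := Cfsg.Agent.Helper59.exists_smul_three (G := H) hxy hxz hyz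
      hab hac hbc
    have hgx' : (g : Perm α) x = a := hgx
    have hgy' : (g : Perm α) y = b := hgy
    have hgz' : (g : Perm α) z = c₀ := hgz
    have hinv : ∀ {u v : α}, (g : Perm α) u = v → (g : Perm α)⁻¹ v = u := by
      intro u v huv
      rw [Perm.inv_eq_iff_eq, huv]
    set k : Perm α := (g : Perm α) * h * (g : Perm α)⁻¹ with hk
    have hkL : k ∈ L := by
      refine ⟨H.mul_mem (H.mul_mem g.2 hh) (H.inv_mem g.2), ?_⟩
      intro w hw
      rcases hout w hw with rfl | rfl
      · rw [hk, Perm.mul_apply, Perm.mul_apply, hinv hgx', hx, hgx']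
      · rw [hk, Perm.mul_apply, Perm.mul_apply, hinv hgy', hy, hgy']
    have hkc : k c₀ = c₀ := by
      rw [hk, Perm.mul_apply, Perm.mul_apply, hinv hgz', hz, hgz']
    rw [← hLeq] at hkL
    have hk1 := eq_one_of_mem_zpowers_of_fix hσc hkL hc₀ hkc
    have : h = (g : Perm α)⁻¹ * k * (g : Perm α) := by rw [hk]; group
    rw [this, hk1]
    group
  -- the stabiliser of `a` is sharply 2-transitive on the remaining 12 points
  let G₁ := stabilizer H a
  let Ω := SubMulAction.ofStabilizer H a
  letI : Fintype G₁ := Fintype.ofFinite _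
  letI : Fintype Ω := Fintype.ofFinite _
  have hval : ∀ (g : G₁) (x : Ω), ((g • x : Ω) : α) = ((g : H) : Perm α) (x : α) := fun _ _ => rfl
  have hT : ∀ x y z w : Ω, x ≠ y → z ≠ w → ∃ g : G₁, g • x = z ∧ g • y = w := by
    intro x y z w hxy hzw
    have hx : (x : α) ≠ a := x.2
    have hy : (y : α) ≠ a := y.2
    have hz : (z : α) ≠ a := z.2
    have hw : (w : α) ≠ a := w.2
    have hxy' : (x : α) ≠ y := fun h => hxy (Subtype.ext h)
    have hzw' : (z : α) ≠ w := fun h => hzw (Subtype.ext h)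
    obtain ⟨g, hga, hgx, hgy⟩ := Cfsg.Agent.Helper59.exists_smul_three (G := H) hx.symm hy.symm
      hxy' hz.symm hw.symm hzw'
    refine ⟨⟨g, mem_stabilizer_iff.mpr hga⟩, Subtype.ext ?_, Subtype.ext ?_⟩
    · exact hgx
    · exact hgy
  have hF : ∀ g : G₁, g ≠ 1 → ∀ x y : Ω, g • x = x → g • y = y → x = y := by
    intro g hg1 x y hgx hgy
    by_contra hxy
    apply hg1
    have hx : (x : α) ≠ a := x.2
    have hy : (y : α) ≠ a := y.2
    have hxy' : (x : α) ≠ y := fun h => hxy (Subtype.ext h)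
    have hga : ((g : H) : Perm α) a = a := mem_stabilizer_iff.mp g.2
    have hgx' : ((g : H) : Perm α) (x : α) = x := by rw [← hval, hgx]
    have hgy' : ((g : H) : Perm α) (y : α) = y := by rw [← hval, hgy]
    have := hsharp _ (g : H).2 a x y hx.symm hy.symm hxy' hga hgx' hgy'
    apply Subtype.ext
    apply Subtype.ext
    exact this
  have hcardΩ : Fintype.card Ω = 12 := by
    rw [← Nat.card_eq_fintype_card, SubMulAction.nat_card_ofStabilizer_eq,
      Nat.card_eq_fintype_card, hα]
  obtain ⟨p, j, hp, hj1, hcard, -⟩ := Cfsg.Agent.S0680.kernelSub_structure hT hF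
    (by rw [hcardΩ]; norm_num)
  rw [hcardΩ] at hcard
  -- `12` is not a prime power
  have hp12 : p ∣ 12 := by
    rw [hcard]
    exact dvd_pow_self p (by omega)
  have hp23 : p = 2 ∨ p = 3 := by
    have : p ∣ 2 ^ 2 * 3 := by norm_num; exact hp12
    rcases (Nat.Prime.dvd_mul hp).mp this with h | h
    · left
      exact (Nat.prime_dvd_prime_iff_eq hp Nat.prime_two).mp (hp.dvd_of_dvd_pow h)
    · right
      exact (Nat.prime_dvd_prime_iff_eq hp Nat.prime_three).mp h
  rcases hp23 with rfl | rfl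
  · have : 3 ∣ 2 ^ j := by rw [← hcard]; norm_num
    have := Nat.Prime.dvd_of_dvd_pow Nat.prime_three this
    norm_num at this
  · have : 2 ∣ 3 ^ j := by rw [← hcard]; norm_num
    have := Nat.Prime.dvd_of_dvd_pow Nat.prime_two this
    norm_num at this

theorem five_dvd_card_of_deg13 (hα : Fintype.card α = 13) (H : Subgroup (Perm α))
    (hH : H ≤ alternatingGroup α) (h3 : MulAction.IsMultiplyPretransitive H α 3)
    {σ : Perm α} (hσ : σ ∈ H) (hσc : σ.IsCycle) (hσ11 : σ.support.card = 11) :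
    5 ∣ Nat.card H := by
  by_contra h5
  rcases card_fixOut_of_cycle11 H h5 hσ hσc hσ11 with h | h
  · exact false_of_card_11 hα H h3 hσ hσc hσ11 h
  · exact false_of_card_22 H hH hσ hσc hσ11 h

end Cfsg.Agent.Helper59.GenD13
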