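import Mathlib
import Cfsg.Agent.Helper60.PermKit

/-! # A 3-transitive group of degree 13 containing an element of order 5 contains `A_13` -/

set_option autoImplicit false

namespace Cfsg.Agent.Helper59.GenD13

open Equiv Equiv.Perm MulAction

variable {α : Type*} [Fintype α] [DecidableEq α]

/-- the cycle type of an element of order 5 on 13 points. -/
theorem cycleType_of_order_five (hα : Fintype.card α = 13) {w : Perm α} (hw5 : orderOf w = 5) :
    w.cycleType = {5} ∨ w.cycleType = {5, 5} := by
  have hall : ∀ n ∈ w.cycleType, n = 5 := by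
    intro n hn
    have h1 : n ∣ 5 := by rw [← hw5]; exact dvd_of_mem_cycleType hn
    have h2 := two_le_of_mem_cycleType hn
    rcases (Nat.dvd_prime (by norm_num : Nat.Prime 5)).mp h1 with h | h
    · omega
    · exact h
  have hrep : w.cycleType = Multiset.replicate (Multiset.card w.cycleType) 5 :=
    Multiset.eq_replicate.mpr ⟨rfl, hall⟩
  have hsum : w.cycleType.sum ≤ 13 := by
    rw [sum_cycleType, ← hα]
    exact Finset.card_le_univ _
  rw [hrep, Multiset.sum_replicate, smul_eq_mul] at hsum
  have hne : Multiset.card w.cycleType ≠ 0 := by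
    intro h0
    rw [Multiset.card_eq_zero, cycleType_eq_zero] at h0
    rw [h0, orderOf_one] at hw5
    omega
  have hc : Multiset.card w.cycleType = 1 ∨ Multiset.card w.cycleType = 2 := by omega
  rcases hc with h | h
  · left
    rw [hrep, h]
    rfl
  · right
    rw [hrep, h]
    rfl

/-- a permutation commuting with a cycle of length 5 has fifth power fixing its support. -/
theorem pow_five_fix_of_commute {c u : Perm α} (hc : c.IsCycle) (hc5 : c.support.card = 5)
    (hcomm : Commute u c) : ∀ y ∈ c.support, (u ^ 5) y = y := by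
  obtain ⟨j, hj⟩ := Cfsg.Agent.Helper60.exists_zpow_mul_fix_support hc hcomm
  set v := c ^ j * u with hv
  have hu : u = c ^ (-j) * v := by rw [hv, ← mul_assoc, ← zpow_add]; simp
  have hvc : Commute (c ^ (-j)) v := by
    have h1 : Commute (c ^ (-j)) u := hcomm.symm.zpow_left (-j)
    have h2 : Commute (c ^ (-j)) (c ^ j) := (Commute.refl c).zpow_zpow (-j) j
    exact h2.mul_right h1
  have hord : orderOf c = 5 := by rw [hc.orderOf, hc5]
  have hc5' : (c ^ (-j)) ^ 5 = 1 := by
    rw [← zpow_natCast, ← zpow_mul, mul_comm, zpow_mul, zpow_natCast, ← hord, pow_orderOf_eq_one,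
      one_zpow]
  intro y hy
  rw [hu, hvc.mul_pow, hc5', one_mul]
  have : ∀ m : ℕ, (v ^ m) y = y := by
    intro m
    induction m with
    | zero => simp
    | succ m ih => rw [pow_succ, Perm.mul_apply, hj y hy, ih]
  exact this 5

/-- a permutation commuting with `w`, which has exactly two cycles, has square commuting with each
cycle of `w`. -/
theorem sq_commute_factor {w c₁ h : Perm α} (hcard : w.cycleFactorsFinset.card = 2)
    (hc₁ : c₁ ∈ w.cycleFactorsFinset) (hcomm : Commute h w) : Commute (h * h) c₁ := by
  have hconj : ∀ c ∈ w.cycleFactorsFinset, h * c * h⁻¹ ∈ w.cycleFactorsFinset := by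
    intro c hc
    have := (mem_cycleFactorsFinset_conj w h c).mpr hc
    have e : h * w * h⁻¹ = w := by rw [hcomm.eq, mul_inv_cancel_right]
    rwa [e] at this
  obtain ⟨a, b, hab, hset⟩ := Finset.card_eq_two.mp hcard
  have hd₁ := hconj c₁ hc₁
  have hd₂ := hconj _ hd₁
  have key : h * (h * c₁ * h⁻¹) * h⁻¹ = c₁ := by
    by_cases h1 : h * c₁ * h⁻¹ = c₁
    · rw [h1]; exact h1
    · have h2 : h * (h * c₁ * h⁻¹) * h⁻¹ ≠ h * c₁ * h⁻¹ := by
        intro he
        apply h1
        have := congrArg (fun x => h⁻¹ * x * h) he
        simpa [mul_assoc] using this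
      rw [hset] at hc₁ hd₁ hd₂
      simp only [Finset.mem_insert, Finset.mem_singleton] at hc₁ hd₁ hd₂
      rcases hc₁ with e0 | e0 <;> rcases hd₁ with e1 | e1 <;> rcases hd₂ with e2 | e2
      all_goals first
        | exact e2.trans e0.symm
        | exact absurd (e1.trans e0.symm) h1
        | exact absurd (e2.trans e1.symm) h2
  show h * h * c₁ = c₁ * (h * h)
  calc h * h * c₁ = h * (h * c₁ * h⁻¹) * h⁻¹ * (h * h) := by group
    _ = c₁ * (h * h) := by rw [key]

/-- a `5`-element supported on at most five points is a `5`-cycle. -/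
theorem isCycle_of_five_elt {s : Perm α} (hs1 : s ≠ 1) (hs : ∃ m : ℕ, s ^ 5 ^ m = 1)
    (hsupp : s.support.card ≤ 5) : s.IsCycle ∧ s.support.card = 5 := by
  obtain ⟨m, hm⟩ := hs
  have hord : orderOf s ∣ 5 ^ m := orderOf_dvd_of_pow_eq_one hm
  have hall : ∀ n ∈ s.cycleType, 5 ≤ n := by
    intro n hn
    have h1 : n ∣ 5 ^ m := (dvd_of_mem_cycleType hn).trans hord
    have h2 := two_le_of_mem_cycleType hn
    obtain ⟨k, -, rfl⟩ := (Nat.dvd_prime_pow (by norm_num : Nat.Prime 5)).mp h1
    rcases k with _ | k
    · omega
    · calc 5 = 5 ^ 1 := by norm_num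
        _ ≤ 5 ^ (k + 1) := Nat.pow_le_pow_right (by norm_num) (by omega)
  have hpos : 0 < Multiset.card s.cycleType := card_cycleType_pos.mpr hs1
  have hsum : s.cycleType.sum = s.support.card := sum_cycleType s
  have hge : Multiset.card s.cycleType * 5 ≤ s.cycleType.sum := by
    have := Multiset.card_nsmul_le_sum (s := s.cycleType) (a := 5) hall
    simpa [smul_eq_mul] using this
  have hc1 : Multiset.card s.cycleType = 1 := by omega
  exact ⟨card_cycleType_eq_one.mp hc1, by omega⟩

theorem zmod_five_pow_four : ∀ x : ZMod 5, x ≠ 0 → x ^ 4 = 1 := by decide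

theorem alt_le_of_order_five_deg13 (hα : Fintype.card α = 13) (H : Subgroup (Perm α))
    (h3 : MulAction.IsMultiplyPretransitive H α 3) {w : Perm α} (hw : w ∈ H)
    (hw5 : orderOf w = 5) : alternatingGroup α ≤ H := by
  classical
  have h2 : IsMultiplyPretransitive H α 2 :=
    isMultiplyPretransitive_of_le (m := 2) (n := 3) (by norm_num)
      (by rw [Nat.card_eq_fintype_card, hα]; norm_num)
  have hprim : IsPreprimitive H α := isPreprimitive_of_is_two_pretransitive h2
  have hw1 : w ≠ 1 := by
    rintro rfl
    rw [orderOf_one] at hw5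
    omega
  have hwpow : w ^ 5 = 1 := by rw [← hw5]; exact pow_orderOf_eq_one w
  rcases cycleType_of_order_five hα hw5 with hct | hct
  · -- a 5-cycle: Jordan
    have hcyc : w.IsCycle := card_cycleType_eq_one.mp (by rw [hct]; rfl)
    have hsupp : w.support.card = 5 := by
      rw [← sum_cycleType, hct]; rfl
    exact Cfsg.Agent.Helper60.alternatingGroup_le_of_isPreprimitive_of_prime_cycle H hprim (p := 5)
      (by norm_num) (by rw [hα]; norm_num) hcyc hsupp hw
  · -- two 5-cycles
    have hcard2 : w.cycleFactorsFinset.card = 2 := by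
      have : Multiset.card w.cycleType = 2 := by rw [hct]; rfl
      rw [cycleType_def, Multiset.card_map] at this
      exact this
    obtain ⟨c₁, hc₁⟩ : ∃ c₁, c₁ ∈ w.cycleFactorsFinset :=
      Finset.card_pos.mp (by rw [hcard2]; norm_num)
    have hc₁cyc : c₁.IsCycle := (mem_cycleFactorsFinset_iff.mp hc₁).1
    have hc₁5 : c₁.support.card = 5 := by
      have hle := cycleType_le_of_mem_cycleFactorsFinset hc₁
      rw [hc₁cyc.cycleType, hct, Multiset.singleton_le] at hle
      simpa using hle
    set c₂ := w * c₁⁻¹ with hc₂def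
    have hc₂ct : c₂.cycleType = {5} := by
      rw [hc₂def, cycleType_mul_inv_mem_cycleFactorsFinset_eq_sub hc₁, hct, hc₁cyc.cycleType, hc₁5]
      rfl
    have hc₂cyc : c₂.IsCycle := card_cycleType_eq_one.mp (by rw [hc₂ct]; rfl)
    have hc₂5 : c₂.support.card = 5 := by rw [← sum_cycleType, hc₂ct]; rfl
    have hdisj : Perm.Disjoint c₂ c₁ := disjoint_mul_inv_of_mem_cycleFactorsFinset hc₁
    have hw21 : w = c₂ * c₁ := by rw [hc₂def, inv_mul_cancel_right]
    have hsuppw : w.support = c₂.support ∪ c₁.support := by rw [hw21, hdisj.support_mul]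
    have hsuppcard : w.support.card = 10 := by rw [← sum_cycleType, hct]; rfl
    set F := w.supportᶜ with hF
    have hFcard : F.card = 3 := by rw [hF, Finset.card_compl, hsuppcard, hα]
    have hFfix : ∀ g : Perm α, (∀ f ∈ F, g f = f) → g.support ⊆ w.support := by
      intro g hg a ha
      by_contra hna
      have : a ∈ F := by rw [hF, Finset.mem_compl]; exact hna
      exact (mem_support.mp ha) (hg a this)
    -- the pointwise stabiliser of `F` in `H`
    let K : Subgroup (Perm α) :=
      { carrier := {g | g ∈ H ∧ ∀ f ∈ F, g f = f}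
        mul_mem' := by
          rintro a b ⟨ha, ha'⟩ ⟨hb, hb'⟩
          exact ⟨H.mul_mem ha hb, fun f hf => by rw [Perm.mul_apply, hb' f hf, ha' f hf]⟩
        one_mem' := ⟨H.one_mem, fun f _ => rfl⟩
        inv_mem' := by
          rintro a ⟨ha, ha'⟩
          exact ⟨H.inv_mem ha, fun f hf => by rw [Perm.inv_eq_iff_eq, ha' f hf]⟩ }
    have hKmem : ∀ g, g ∈ K ↔ g ∈ H ∧ ∀ f ∈ F, g f = f := fun g => Iff.rfl
    have hwF : ∀ f ∈ F, w f = f := by
      intro f hf
      rw [hF, Finset.mem_compl, notMem_support] at hf
      exact hf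
    have hwK : w ∈ K := ⟨hw, hwF⟩
    -- commuting elements: squares commute with both cycles
    have hsq : ∀ h : Perm α, Commute h w → Commute (h * h) c₁ ∧ Commute (h * h) c₂ := by
      intro h hh
      have h1 := sq_commute_factor hcard2 hc₁ hh
      refine ⟨h1, ?_⟩
      rw [hc₂def]
      exact (hh.mul_left hh).mul_right h1.inv_right
    haveI : Fact (Nat.Prime 5) := ⟨by norm_num⟩
    by_cases h25 : 5 ^ 2 ∣ Nat.card K
    · -- a Sylow 5-subgroup of `K` of order at least 25 containing `w`
      set wK : K := ⟨w, hwK⟩ with hwKdef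
      have hzp : IsPGroup 5 (Subgroup.zpowers wK) := by
        apply IsPGroup.of_card (n := 1)
        rw [Nat.card_zpowers, pow_one]
        rw [← hw5]
        exact (Subgroup.orderOf_mk w hwK)
      obtain ⟨P, hP⟩ := hzp.exists_le_sylow
      have hPcard : 5 ^ 2 ∣ Nat.card P := by
        rw [Sylow.card_eq_multiplicity]
        apply pow_dvd_pow
        have hK0 : Nat.card K ≠ 0 := Nat.card_pos.ne'
        exact (padicValNat_dvd_iff_le hK0).mp h25 |>.trans (by
          rw [Nat.factorization_def _ (by norm_num : Nat.Prime 5)])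
      have hPgroup : IsPGroup 5 P := P.2
      have hwP : wK ∈ (P : Subgroup K) := hP (Subgroup.mem_zpowers wK)
      -- an element `z ∈ P` commuting with `w`, outside `⟨w⟩`
      obtain ⟨z, hzP, hzw, hzcomm⟩ : ∃ z : K, z ∈ (P : Subgroup K) ∧
          z ∉ Subgroup.zpowers wK ∧ Commute z wK := by
        haveI : Nontrivial (P : Subgroup K) := by
          rw [← Finite.one_lt_card_iff_nontrivial]
          have := Nat.le_of_dvd Nat.card_pos hPcard
          omega
        by_cases hcen : ∀ y : K, y ∈ (P : Subgroup K) → Commute y wK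
        · -- `w` central in `P`: any element outside `⟨w⟩`
          have hlt : Subgroup.zpowers wK < (P : Subgroup K) := by
            refine lt_of_le_of_ne hP ?_
            intro he
            have h5 : Nat.card (Subgroup.zpowers wK) = 5 := by
              rw [Nat.card_zpowers, ← hw5]
              exact (Subgroup.orderOf_mk w hwK)
            rw [he] at h5
            rw [h5] at hPcard
            norm_num at hPcard
          obtain ⟨z, hzP, hz⟩ := SetLike.exists_of_lt hlt
          exact ⟨z, hzP, hz, hcen z hzP⟩
        · push Not at hcen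
          obtain ⟨y, hyP, hy⟩ := hcen
          -- a nontrivial central element of `P`
          haveI : Nontrivial (Subgroup.center (P : Subgroup K)) := hPgroup.center_nontrivial
          obtain ⟨⟨z₀, hz₀c⟩, hz₀1⟩ := exists_ne (1 : Subgroup.center (P : Subgroup K))
          have hz₀comm : ∀ u : (P : Subgroup K), z₀ * u = u * z₀ := fun u =>
            ((Subgroup.mem_center_iff.mp hz₀c) u).symm
          refine ⟨(z₀ : K), z₀.2, ?_, ?_⟩
          · intro hmem
            -- then `⟨z₀⟩ = ⟨w⟩` and `w` would be central
            apply hy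
            have hz₀ne : (z₀ : K) ≠ 1 := by
              intro h1
              apply hz₀1
              apply Subtype.ext
              apply Subtype.ext
              exact h1
            -- `wK ∈ zpowers z₀` since `zpowers wK` has prime order
            have hord : orderOf wK = 5 := by rw [← hw5]; exact Subgroup.orderOf_mk w hwK
            have hz₀le : Subgroup.zpowers (z₀ : K) ≤ Subgroup.zpowers wK := by
              rw [Subgroup.zpowers_le]; exact hmem
            have hoz : orderOf (z₀ : K) = 5 := by
              have hdvd : orderOf (z₀ : K) ∣ 5 := by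
                have h0 := orderOf_dvd_of_mem_zpowers hmem
                rwa [hord] at h0
              rcases (Nat.dvd_prime (by norm_num)).mp hdvd with h | h
              · exact absurd (orderOf_eq_one_iff.mp h) hz₀ne
              · exact h
            have heq : Subgroup.zpowers (z₀ : K) = Subgroup.zpowers wK := by
              apply Subgroup.eq_of_le_of_card_ge hz₀le
              rw [Nat.card_zpowers, Nat.card_zpowers, hoz, hord]
            have hgen : wK ∈ Subgroup.zpowers (z₀ : K) := by
              rw [heq]; exact Subgroup.mem_zpowers wK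
            obtain ⟨k', hk'⟩ := Subgroup.mem_zpowers_iff.mp hgen
            rw [← hk']
            have : Commute y (z₀ : K) := by
              have := hz₀comm ⟨y, hyP⟩
              have h' := congrArg Subtype.val this
              exact h'.symm
            exact this.zpow_right k'
          · have := hz₀comm ⟨wK, hwP⟩
            exact congrArg Subtype.val this
      -- now work in `Perm α`
      set zz : Perm α := (z : Perm α) with hzz
      have hzK : zz ∈ K := z.2
      have hzH : zz ∈ H := hzK.1
      have hzF : ∀ f ∈ F, zz f = f := hzK.2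
      have hzcomm' : Commute zz w := by
        have := congrArg Subtype.val hzcomm.eq
        exact this
      have hznot : zz ∉ Subgroup.zpowers w := by
        intro hmem
        apply hzw
        obtain ⟨k, hk⟩ := Subgroup.mem_zpowers_iff.mp hmem
        refine Subgroup.mem_zpowers_iff.mpr ⟨k, ?_⟩
        apply Subtype.ext
        rw [Subgroup.coe_zpow]
        exact hk
      -- `z` is a 5-element
      obtain ⟨m, hm⟩ : ∃ m : ℕ, zz ^ 5 ^ m = 1 := by
        obtain ⟨m, hm⟩ := hPgroup ⟨z, hzP⟩
        refine ⟨m, ?_⟩
        have := congrArg (fun u : (P : Subgroup K) => ((u : K) : Perm α)) hm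
        simpa using this
      -- hence `z` itself commutes with `c₁`
      have hzc₁ : Commute zz c₁ := by
        have h1 := (hsq zz hzcomm').1
        obtain ⟨e, he⟩ : ∃ e, 2 * e = 5 ^ m + 1 := by
          have hodd : Odd (5 ^ m) := Odd.pow (by decide)
          obtain ⟨t, ht⟩ := hodd
          exact ⟨t + 1, by omega⟩
        have h3 : (zz * zz) ^ e = zz := by
          rw [← pow_two, ← pow_mul, he, pow_succ, hm, one_mul]
        rw [← h3]
        exact h1.pow_left e
      obtain ⟨j, hj⟩ := Cfsg.Agent.Helper60.exists_zpow_mul_fix_support hc₁cyc hzc₁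
      -- `s = w^j z` fixes `supp c₁` and `F`
      set s := w ^ j * zz with hs
      have hsH : s ∈ H := H.mul_mem (H.zpow_mem hw j) hzH
      have hs1 : s ≠ 1 := by
        intro h1
        apply hznot
        have : zz = w ^ (-j) := by
          rw [hs] at h1
          rw [zpow_neg, eq_inv_iff_mul_eq_one, (hzcomm'.zpow_right j).eq]
          exact h1
        rw [this]
        exact Subgroup.zpow_mem_zpowers w (-j)
      have hwj : w ^ j = c₂ ^ j * c₁ ^ j := by
        rw [hw21, hdisj.commute.mul_zpow]
      have hs_c₁ : ∀ y ∈ c₁.support, s y = y := by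
        intro y hy
        have h1 := hj y hy
        rw [hs, hwj, mul_assoc, Perm.mul_apply, h1]
        have : y ∉ (c₂ ^ j).support := by
          intro hy2
          have := support_zpow_le c₂ j hy2
          exact (Finset.disjoint_left.mp hdisj.disjoint_support this) hy
        exact notMem_support.mp this
      have hs_F : ∀ f ∈ F, s f = f := by
        intro f hf
        rw [hs, Perm.mul_apply, hzF f hf]
        have : f ∉ (w ^ j).support := by
          intro hf2
          have := support_zpow_le w j hf2
          rw [hF, Finset.mem_compl] at hf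
          exact hf this
        exact notMem_support.mp this
      have hs_supp : s.support ⊆ c₂.support := by
        intro a ha
        have h1 := hFfix s hs_F ha
        rw [hsuppw, Finset.mem_union] at h1
        rcases h1 with h1 | h1
        · exact h1
        · exact absurd (hs_c₁ a h1) (mem_support.mp ha)
      have hs5 : ∃ m' : ℕ, s ^ 5 ^ m' = 1 := by
        refine ⟨m, ?_⟩
        rw [hs, ((hzcomm'.zpow_right j).symm).mul_pow, hm, mul_one, ← zpow_natCast, ← zpow_mul,
          mul_comm, zpow_mul, zpow_natCast]
        have : w ^ 5 ^ m = 1 := by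
          rcases m with _ | m
          · exfalso
            rw [pow_zero, pow_one] at hm
            apply hznot
            rw [hm]
            exact Subgroup.one_mem _
          · rw [pow_succ', pow_mul, hwpow, one_pow]
        rw [this, one_zpow]
      obtain ⟨hscyc, hssupp⟩ := isCycle_of_five_elt hs1 hs5
        ((Finset.card_le_card hs_supp).trans hc₂5.le)
      exact Cfsg.Agent.Helper60.alternatingGroup_le_of_isPreprimitive_of_prime_cycle H hprim (p := 5)
        (by norm_num) (by rw [hα]; norm_num) hscyc hssupp hsH
    · -- `⟨w⟩` is a Sylow 5-subgroup of `K`: Frattini argument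
      obtain ⟨f₁, f₂, f₃, h12, h13, h23, hFeq⟩ := Finset.card_eq_three.mp hFcard
      set t : Perm α := swap f₁ f₂ * swap f₁ f₃ with ht
      have ht3 : IsThreeCycle t := isThreeCycle_swap_mul_swap_same h12 h13 h23
      have htF : ∀ f ∈ F, t f ∈ F := by
        intro f hf
        rw [hFeq] at hf ⊢
        simp only [Finset.mem_insert, Finset.mem_singleton] at hf ⊢
        rcases hf with rfl | rfl | rfl
        · right; right
          rw [ht, Perm.mul_apply, swap_apply_left, swap_apply_of_ne_of_ne h13.symm h23.symm]
        · left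
          rw [ht, Perm.mul_apply, swap_apply_of_ne_of_ne h12.symm h23, swap_apply_right]
        · right; left
          rw [ht, Perm.mul_apply, swap_apply_right, swap_apply_left]
      have htout : ∀ a, a ∉ F → t a = a := by
        intro a ha
        rw [hFeq] at ha
        simp only [Finset.mem_insert, Finset.mem_singleton, not_or] at ha
        rw [ht, Perm.mul_apply, swap_apply_of_ne_of_ne ha.1 ha.2.2,
          swap_apply_of_ne_of_ne ha.1 ha.2.1]
      obtain ⟨g₀, hg₀H, hg₀⟩ := Cfsg.Agent.Helper60.exists_mem_agree_on F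
        (by rw [hFcard]; exact h3) t
      have hg₀F : ∀ f ∈ F, g₀ f ∈ F := fun f hf => by rw [hg₀ f hf]; exact htF f hf
      have hg₀inv : ∀ f ∈ F, g₀⁻¹ f ∈ F := by
        have hmap : F.map g₀.toEmbedding = F := by
          apply Finset.eq_of_subset_of_card_le
          · intro y hy
            rw [Finset.mem_map] at hy
            obtain ⟨δ, hδ, rfl⟩ := hy
            exact hg₀F δ hδ
          · rw [Finset.card_map]
        intro f hf
        rw [← hmap, Finset.mem_map] at hf
        obtain ⟨δ, hδ, rfl⟩ := hf
        simpa using hδ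
      -- the conjugate `w' = g₀ w g₀⁻¹` lies in `K`
      have hw'K : g₀ * w * g₀⁻¹ ∈ K := by
        refine ⟨H.mul_mem (H.mul_mem hg₀H hw) (H.inv_mem hg₀H), ?_⟩
        intro f hf
        rw [Perm.mul_apply, Perm.mul_apply, hwF _ (hg₀inv f hf)]
        simp
      have ho1 : orderOf (⟨w, hwK⟩ : K) = 5 := by rw [← hw5]; exact Subgroup.orderOf_mk w hwK
      have ho2 : orderOf (⟨g₀ * w * g₀⁻¹, hw'K⟩ : K) = 5 := by
        rw [Subgroup.orderOf_mk, ← hw5]
        symm
        apply SemiconjBy.orderOf_eq g₀
        show g₀ * w = g₀ * w * g₀⁻¹ * g₀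
        group
      obtain ⟨k, hk⟩ := Cfsg.Agent.Helper60.exists_conj_mem_zpowers_of_not_sq_dvd (p := 5) h25
        (⟨w, hwK⟩ : K) ⟨g₀ * w * g₀⁻¹, hw'K⟩ ho1 ho2
      set g : Perm α := (k : Perm α) * g₀ with hg
      have hgH : g ∈ H := H.mul_mem k.2.1 hg₀H
      have hgF : ∀ f ∈ F, g f = t f := by
        intro f hf
        rw [hg, Perm.mul_apply, hg₀ f hf, k.2.2 _ (htF f hf)]
      obtain ⟨j, hj⟩ : ∃ j : ℤ, w ^ j = g * w * g⁻¹ := by
        obtain ⟨j, hj⟩ := Subgroup.mem_zpowers_iff.mp hk
        refine ⟨j, ?_⟩
        have := congrArg (fun u : K => (u : Perm α)) hj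
        simp only [Subgroup.coe_zpow, Subgroup.coe_mul, Subgroup.coe_inv] at this
        rw [this, hg]
        group
      -- `g⁴` centralises `w`
      have hiter : ∀ m : ℕ, g ^ m * w * (g ^ m)⁻¹ = w ^ (j ^ m) := by
        intro m
        induction m with
        | zero => simp
        | succ m ih =>
          have : g ^ (m + 1) * w * (g ^ (m + 1))⁻¹ = g * (g ^ m * w * (g ^ m)⁻¹) * g⁻¹ := by
            rw [pow_succ']; group
          rw [this, ih, ← conj_zpow, ← hj, ← zpow_mul, pow_succ, mul_comm]
      have hj5 : ¬ (5 : ℤ) ∣ j := by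
        intro hdvd
        obtain ⟨u, rfl⟩ := hdvd
        rw [zpow_mul, zpow_ofNat, hwpow, one_zpow] at hj
        apply hw1
        have h1 : g * w * g⁻¹ = 1 := hj.symm
        have h' := congrArg (fun x => g⁻¹ * x * g) h1
        simpa [mul_assoc] using h'
      -- `j ^ 4 ≡ 1 (mod 5)`
      have hj4 : w ^ (j ^ 4) = w := by
        have hz := zmod_five_pow_four
        have hjne : ((j : ℤ) : ZMod 5) ≠ 0 := by
          rw [Ne, ZMod.intCast_zmod_eq_zero_iff_dvd]
          exact hj5
        have h1 := hz _ hjne
        have h2 : (((j ^ 4 : ℤ)) : ZMod 5) = ((1 : ℤ) : ZMod 5) := by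
          push_cast
          exact h1
        rw [ZMod.intCast_eq_intCast_iff_dvd_sub] at h2
        obtain ⟨u, hu⟩ := h2
        have h3 : j ^ 4 = 1 - 5 * u := by
          have : (5 : ℤ) = ((5 : ℕ) : ℤ) := rfl
          rw [← this] at hu
          linarith
        rw [h3, zpow_sub, zpow_one, zpow_mul, zpow_ofNat, hwpow, one_zpow, inv_one, mul_one]
      have hcomm4 : Commute (g ^ 4) w := by
        have h1 := hiter 4
        rw [hj4] at h1
        show g ^ 4 * w = w * g ^ 4
        calc g ^ 4 * w = g ^ 4 * w * (g ^ 4)⁻¹ * g ^ 4 := by group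
          _ = w * g ^ 4 := by rw [h1]
      obtain ⟨hk₁, hk₂⟩ := hsq (g ^ 4) hcomm4
      have hfix₁ := pow_five_fix_of_commute hc₁cyc hc₁5 hk₁
      have hfix₂ := pow_five_fix_of_commute hc₂cyc hc₂5 hk₂
      have hg40 : (g ^ 4 * g ^ 4) ^ 5 = g ^ 40 := by
        rw [← pow_add, ← pow_mul]
      rw [hg40] at hfix₁ hfix₂
      -- on `F`, `g ^ m` agrees with `t ^ m`
      have hgtm : ∀ m : ℕ, ∀ f ∈ F, (g ^ m) f = (t ^ m) f ∧ (t ^ m) f ∈ F := by
        intro m
        induction m with
        | zero => intro f hf; exact ⟨rfl, hf⟩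
        | succ m ih =>
          intro f hf
          obtain ⟨e1, e2⟩ := ih f hf
          refine ⟨?_, ?_⟩
          · calc (g ^ (m + 1)) f = g ((g ^ m) f) := by rw [pow_succ', Perm.mul_apply]
              _ = t ((t ^ m) f) := by rw [e1, hgF _ e2]
              _ = (t ^ (m + 1)) f := by rw [pow_succ' t m, Perm.mul_apply t (t ^ m) f]
          · rw [pow_succ', Perm.mul_apply]
            exact htF _ e2
      have ht40 : t ^ 40 = t := by
        have h3 : t ^ 3 = 1 := by rw [← ht3.orderOf]; exact pow_orderOf_eq_one t
        calc t ^ 40 = (t ^ 3) ^ 13 * t := by rw [← pow_mul, ← pow_succ]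
          _ = t := by rw [h3, one_pow, one_mul]
      have hgt : g ^ 40 = t := by
        ext a
        by_cases ha : a ∈ F
        · rw [(hgtm 40 a ha).1, ht40]
        · rw [htout a ha]
          have : a ∈ w.support := by
            rw [hF, Finset.mem_compl, not_not] at ha
            exact ha
          rw [hsuppw, Finset.mem_union] at this
          rcases this with h | h
          · exact hfix₂ a h
          · exact hfix₁ a h
      have htH : t ∈ H := by rw [← hgt]; exact H.pow_mem hgH 40
      exact alternatingGroup_le_of_isPreprimitive_of_isThreeCycle_mem hprim ht3 htH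

end Cfsg.Agent.Helper59.GenD13
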