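import Mathlib
import Cfsg.Agent.Helper30.ThreeMin.Defs
import Cfsg.Agent.Helper65.ThreeMinT1
import Cfsg.Agent.Helper65.ThreeMinT4

/-!
# (T-3b) for helper30 (S2930): a `3`-group with exactly two orbits, of sizes `≥ 9` and `≥ 3`,
lies in two subgroups of `Perm α` whose even parts generate the alternating group.
-/

set_option autoImplicit false
set_option linter.unusedSectionVars false
set_option linter.unusedVariables false
open Equiv Equiv.Perm MulAction Subgroup Cfsg.Agent.Helper30.ThreeMin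
open scoped Pointwise
universe u

namespace Cfsg.Agent.Helper59.ThreeMin

variable {α : Type u} [Fintype α] [DecidableEq α]


/-- a swap of two points that are both inside or both outside `t` stabilizes `t`. -/
theorem swap_smul_set_eq (u v : α) (t : Set α) (h : u ∈ t ↔ v ∈ t) :
    (swap u v) • t = t := by
  ext z
  rw [Set.mem_smul_set_iff_inv_smul_mem, swap_inv, Perm.smul_def]
  by_cases hzu : z = u
  · subst hzu; rw [swap_apply_left]; exact h.symm
  by_cases hzv : z = v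
  · subst hzv; rw [swap_apply_right]; exact h
  rw [swap_apply_of_ne_of_ne hzu hzv]

theorem exists_triple_of_mem {t : Set α} (h : t.ncard = 3) {x : α} (hx : x ∈ t) :
    ∃ a b, x ≠ a ∧ x ≠ b ∧ a ≠ b ∧ t = {x, a, b} := by
  have h2 : (t \ {x}).ncard = 2 := by
    rw [Set.ncard_sdiff_singleton_of_mem hx, h]
  obtain ⟨a, b, hab, he⟩ := Set.ncard_eq_two.1 h2
  have ha : a ∈ t \ {x} := by rw [he]; simp
  have hb : b ∈ t \ {x} := by rw [he]; simp
  refine ⟨a, b, fun h => ha.2 h.symm, fun h => hb.2 h.symm, hab, ?_⟩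
  rw [← he]
  ext z
  by_cases hz : z = x
  · subst hz; simp [hx]
  · simp [hz]

theorem mem_stab_family (Sg : Set (Set α)) (g : Perm α) (h : ∀ t ∈ Sg, g • t ∈ Sg) :
    g ∈ stabilizer (Perm α) Sg :=
  (mem_stabilizer_set' (Set.toFinite Sg)).2 h

theorem mem_stab_set (T : Set α) (g : Perm α) (h : ∀ t ∈ T, g t ∈ T) :
    g ∈ stabilizer (Perm α) T :=
  (mem_stabilizer_set' (Set.toFinite T)).2 h



theorem pgroup_le_alt (S : Subgroup (Perm α)) (hS : IsPGroup 3 S) :
    S ≤ alternatingGroup α := by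
  intro s hs
  rw [mem_alternatingGroup]
  obtain ⟨k, hk⟩ := hS ⟨s, hs⟩
  have h1 : s ^ 3 ^ k = 1 := by
    have := congrArg Subtype.val hk
    simpa using this
  have h2 : (sign s) ^ 3 ^ k = 1 := by
    rw [← map_pow, h1, map_one]
  rcases Int.units_eq_one_or (sign s) with h | h
  · exact h
  · rw [h, Odd.neg_one_pow (Odd.pow (by decide))] at h2
    exact absurd h2 (by decide)

theorem exch_smul (x a b y c d : α)
    (hxa : x ≠ a) (hxb : x ≠ b) (hab : a ≠ b) (hyc : y ≠ c) (hyd : y ≠ d) (hcd : c ≠ d)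
    (hxy : x ≠ y) (hxc : x ≠ c) (hxd : x ≠ d) (hay : a ≠ y) (hac : a ≠ c) (had : a ≠ d)
    (hby : b ≠ y) (hbc : b ≠ c) (hbd : b ≠ d) :
    (swap x y * swap a c * swap b d) • ({x, a, b} : Set α) = {y, c, d} ∧
    (swap x y * swap a c * swap b d) • ({y, c, d} : Set α) = {x, a, b} ∧
    (swap x y * swap a c * swap b d) x = y := by
  have e1 : (swap x y * swap a c * swap b d) x = y := by
    simp [swap_apply_def, hxa, hxb, hxc, hxd]
  have e2 : (swap x y * swap a c * swap b d) a = c := by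
    simp [swap_apply_def, hab, had, hxc.symm, hyc.symm]
  have e3 : (swap x y * swap a c * swap b d) b = d := by
    simp [swap_apply_def, hxd.symm, hyd.symm, had.symm, hcd.symm]
  have e4 : (swap x y * swap a c * swap b d) y = x := by
    simp [swap_apply_def, hyd, hby.symm, hay.symm, hyc]
  have e5 : (swap x y * swap a c * swap b d) c = a := by
    simp [swap_apply_def, hbc.symm, hcd, hxa.symm, hay]
  have e6 : (swap x y * swap a c * swap b d) d = b := by
    simp [swap_apply_def, hab.symm, hbc, hxb.symm, hby]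
  refine ⟨?_, ?_, e1⟩
  · simp only [Set.smul_set_insert, Set.smul_set_singleton, Perm.smul_def, e1, e2, e3]
  · simp only [Set.smul_set_insert, Set.smul_set_singleton, Perm.smul_def, e4, e5, e6]



theorem exists_alt_fixing_map (T : Set α) (h3 : 3 ≤ T.ncard) {x z : α} (hx : x ∈ T)
    (hz : z ∈ T) :
    ∃ g ∈ alternatingGroup α ⊓ fixingSubgroup (Perm α) Tᶜ, g x = z := by
  by_cases hxz : x = z
  · exact ⟨1, one_mem _, by simpa using hxz⟩
  have hlt : ({x, z} : Set α).ncard < T.ncard := by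
    rw [Set.ncard_pair hxz]
    omega
  obtain ⟨a, haT, ha⟩ := Set.exists_mem_notMem_of_ncard_lt_ncard hlt
  have hax : a ≠ x := fun h => ha (by simp [h])
  have haz : a ≠ z := fun h => ha (by simp [h])
  refine ⟨swap a z * swap a x, ⟨?_, ?_⟩, ?_⟩
  · show swap a z * swap a x ∈ alternatingGroup α
    rw [mem_alternatingGroup, map_mul, sign_swap haz, sign_swap hax]
    decide
  · show swap a z * swap a x ∈ fixingSubgroup (Perm α) Tᶜ
    rw [mem_fixingSubgroup_iff]
    intro w hw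
    have hwa : w ≠ a := by rintro rfl; exact hw haT
    have hwx : w ≠ x := by rintro rfl; exact hw hx
    have hwz : w ≠ z := by rintro rfl; exact hw hz
    rw [Perm.smul_def, Perm.mul_apply, swap_apply_of_ne_of_ne hwa hwx,
      swap_apply_of_ne_of_ne hwa hwz]
  · rw [Perm.mul_apply, swap_apply_right, swap_apply_left]

theorem fixing_compl_le_stabilizer (T : Set α) :
    fixingSubgroup (Perm α) Tᶜ ≤ stabilizer (Perm α) T := by
  intro g hg
  rw [mem_fixingSubgroup_iff] at hg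
  rw [mem_stabilizer_set' (Set.toFinite T)]
  intro z hz
  by_contra hgz
  have h1 : g • (g • z) = g • z := hg _ hgz
  have h2 : g • z = z := smul_left_cancel g h1
  rw [h2] at hgz
  exact hgz hz

theorem twoOver_core (S : Subgroup (Perm α)) (hS : IsPGroup 3 S) (x y : α)
    (hxy : orbit S x ≠ orbit S y) (hall : ∀ z : α, z ∈ orbit S x ∨ z ∈ orbit S y)
    (hx : 9 ≤ (orbit S x).ncard) (hy : 3 ≤ (orbit S y).ncard)
    (hle : (orbit S y).ncard ≤ (orbit S x).ncard)
    (hT4 : ∀ (J : Subgroup (Perm α)) (htr : IsPretransitive J α) (T : Set α) (h3 : 3 ≤ T.ncard)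
      (hle : alternatingGroup α ⊓ fixingSubgroup (Perm α) Tᶜ ≤ J)
      (hnb : ∃ g ∈ J, (g • T ∩ T).Nonempty ∧ g • T ≠ T)
      (hdiv : ∀ d : ℕ, d ∣ Fintype.card α → T.ncard < d → d = Fintype.card α),
      IsPreprimitive J α) :
    TwoOver S := by
  haveI : Fact (Nat.Prime 3) := ⟨Nat.prime_three⟩
  -- blocks of size three
  obtain ⟨B, hxB, hBΘ, hBblk, hB3⟩ :=
    Cfsg.Agent.Helper65.ThreeMin.exists_block_card_prime S hS x (by omega)
  obtain ⟨B', hyB', hB'Θ, hB'blk, hB'3⟩ :=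
    Cfsg.Agent.Helper65.ThreeMin.exists_block_card_prime S hS y (by omega)
  -- orbit facts
  have horb : ∀ (w : α) (z : α), z ∈ orbit S w → ∀ s ∈ S, s z ∈ orbit S w := by
    rintro w z ⟨s', rfl⟩ s hs
    exact ⟨⟨s, hs⟩ * s', by show (⟨s, hs⟩ * s' : S) • w = s (s' • w); rw [mul_smul]; rfl⟩
  have hdisj : ∀ z, z ∈ orbit S x → z ∈ orbit S y → False := by
    intro z h1 h2
    apply hxy
    rw [← orbit_eq_iff.2 h1, ← orbit_eq_iff.2 h2]
  have hcompl : (orbit S x)ᶜ = orbit S y := by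
    ext z; constructor
    · intro h; exact (hall z).resolve_left h
    · intro h h'; exact hdisj z h' h
  have hne : ∀ p q, p ∈ orbit S x → q ∈ orbit S y → p ≠ q := by
    rintro p q hp hq rfl; exact hdisj p hp hq
  -- the family of triples
  obtain ⟨Sg, hSg⟩ : ∃ Sg : Set (Set α), ∀ t, t ∈ Sg ↔ ∃ s ∈ S, t = s • B ∨ t = s • B' :=
    ⟨{t | ∃ s ∈ S, t = s • B ∨ t = s • B'}, fun t => Iff.rfl⟩
  have hsmulB : ∀ s ∈ S, s • B ⊆ orbit S x := by
    rintro s hs _ ⟨b, hb, rfl⟩
    exact horb x b (hBΘ hb) s hs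
  have hsmulB' : ∀ s ∈ S, s • B' ⊆ orbit S y := by
    rintro s hs _ ⟨b, hb, rfl⟩
    exact horb y b (hB'Θ hb) s hs
  have P1 : ∀ t ∈ Sg, t.ncard = 3 := by
    intro t ht
    obtain ⟨s, hs, rfl | rfl⟩ := (hSg t).1 ht
    · rw [Set.ncard_smul_set]; exact hB3
    · rw [Set.ncard_smul_set]; exact hB'3
  have P5 : ∀ t ∈ Sg, t ⊆ orbit S x ∨ t ⊆ orbit S y := by
    intro t ht
    obtain ⟨s, hs, rfl | rfl⟩ := (hSg t).1 ht
    · exact Or.inl (hsmulB s hs)
    · exact Or.inr (hsmulB' s hs)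
  have P2 : ∀ t ∈ Sg, ∀ t' ∈ Sg, (t ∩ t').Nonempty → t = t' := by
    intro t ht t' ht' hne'
    obtain ⟨s, hs, rfl | rfl⟩ := (hSg t).1 ht <;> obtain ⟨s', hs', rfl | rfl⟩ := (hSg t').1 ht'
    · by_contra hcon
      have := @hBblk ⟨s, hs⟩ ⟨s', hs'⟩ hcon
      exact (Set.not_disjoint_iff_nonempty_inter.2 hne') this
    · obtain ⟨z, hz1, hz2⟩ := hne'
      exact (hdisj z (hsmulB s hs hz1) (hsmulB' s' hs' hz2)).elim
    · obtain ⟨z, hz1, hz2⟩ := hne'
      exact (hdisj z (hsmulB s' hs' hz2) (hsmulB' s hs hz1)).elim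
    · by_contra hcon
      have := @hB'blk ⟨s, hs⟩ ⟨s', hs'⟩ hcon
      exact (Set.not_disjoint_iff_nonempty_inter.2 hne') this
  have P3 : ∀ z, ∃ t ∈ Sg, z ∈ t := by
    intro z
    rcases hall z with ⟨s, rfl⟩ | ⟨s, rfl⟩
    · exact ⟨(s : Perm α) • B, (hSg _).2 ⟨s, s.2, Or.inl rfl⟩, Set.smul_mem_smul_set hxB⟩
    · exact ⟨(s : Perm α) • B', (hSg _).2 ⟨s, s.2, Or.inr rfl⟩, Set.smul_mem_smul_set hyB'⟩
  have P4 : ∀ s ∈ S, ∀ t ∈ Sg, s • t ∈ Sg := by
    intro s hs t ht
    obtain ⟨s', hs', rfl | rfl⟩ := (hSg t).1 ht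
    · exact (hSg _).2 ⟨s * s', S.mul_mem hs hs', Or.inl (smul_smul _ _ _)⟩
    · exact (hSg _).2 ⟨s * s', S.mul_mem hs hs', Or.inr (smul_smul _ _ _)⟩
  have hBSg : B ∈ Sg := (hSg B).2 ⟨1, S.one_mem, Or.inl (one_smul _ _).symm⟩
  have hB'Sg : B' ∈ Sg := (hSg B').2 ⟨1, S.one_mem, Or.inr (one_smul _ _).symm⟩
  -- names for the six points
  obtain ⟨a, b, hxa, hxb, hab, hBe⟩ := exists_triple_of_mem hB3 hxB
  obtain ⟨c, d, hyc, hyd, hcd, hB'e⟩ := exists_triple_of_mem hB'3 hyB'
  have haB : a ∈ B := by rw [hBe]; simp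
  have hbB : b ∈ B := by rw [hBe]; simp
  have hcB' : c ∈ B' := by rw [hB'e]; simp
  have hdB' : d ∈ B' := by rw [hB'e]; simp
  have hxΘ : x ∈ orbit S x := mem_orbit_self x
  have hyΘ : y ∈ orbit S y := mem_orbit_self y
  have haΘ := hBΘ haB
  have hbΘ := hBΘ hbB
  have hcΘ := hB'Θ hcB'
  have hdΘ := hB'Θ hdB'
  have hBB' : B ≠ B' := by
    intro h
    exact hdisj x hxΘ (hB'Θ (h ▸ hxB))
  -- a set of the family not meeting B or B'
  have hnotmem : ∀ t ∈ Sg, t ≠ B → ∀ p ∈ B, p ∉ t := by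
    intro t ht htB p hp hpt
    exact htB (P2 t ht B hBSg ⟨p, hpt, hp⟩)
  have hnotmem' : ∀ t ∈ Sg, t ≠ B' → ∀ p ∈ B', p ∉ t := by
    intro t ht htB p hp hpt
    exact htB (P2 t ht B' hB'Sg ⟨p, hpt, hp⟩)
  -- the exchange of B and B'
  obtain ⟨hτ1, hτ2, hτx⟩ := exch_smul x a b y c d hxa hxb hab hyc hyd hcd
    (hne x y hxΘ hyΘ) (hne x c hxΘ hcΘ) (hne x d hxΘ hdΘ) (hne a y haΘ hyΘ) (hne a c haΘ hcΘ)
    (hne a d haΘ hdΘ) (hne b y hbΘ hyΘ) (hne b c hbΘ hcΘ) (hne b d hbΘ hdΘ)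
  rw [← hBe, ← hB'e] at hτ1 hτ2
  have hτSg : ∀ t ∈ Sg, (swap x y * swap a c * swap b d) • t ∈ Sg := by
    intro t ht
    by_cases h1 : t = B
    · rw [h1, hτ1]; exact hB'Sg
    by_cases h2 : t = B'
    · rw [h2, hτ2]; exact hBSg
    have n1 := hnotmem t ht h1
    have n2 := hnotmem' t ht h2
    rw [mul_smul, mul_smul, swap_smul_set_eq b d t (by simp [n1 b hbB, n2 d hdB']),
      swap_smul_set_eq a c t (by simp [n1 a haB, n2 c hcB']),
      swap_smul_set_eq x y t (by simp [n1 x hxB, n2 y hyB'])]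
    exact ht
  have hσSg : ∀ t ∈ Sg, (swap a b) • t ∈ Sg := by
    intro t ht
    by_cases h1 : t = B
    · rw [h1, swap_smul_set_eq a b B (by simp [haB, hbB])]; exact hBSg
    have n1 := hnotmem t ht h1
    rw [swap_smul_set_eq a b t (by simp [n1 a haB, n1 b hbB])]
    exact ht
  have hxy' : x ≠ y := hne x y hxΘ hyΘ
  have hac' : a ≠ c := hne a c haΘ hcΘ
  have hbd' : b ≠ d := hne b d hbΘ hdΘ
  -- the element ρ
  have hρL2 : swap x y * swap a c * swap b d * swap a b ∈ stabilizer (Perm α) Sg := by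
    apply mem_stab_family
    intro t ht
    rw [mul_smul]
    exact hτSg _ (hσSg t ht)
  have hρA : swap x y * swap a c * swap b d * swap a b ∈ alternatingGroup α := by
    rw [mem_alternatingGroup, map_mul, map_mul, map_mul, sign_swap hxy', sign_swap hac',
      sign_swap hbd', sign_swap hab]
    decide
  have hρx : (swap x y * swap a c * swap b d * swap a b) x = y := by
    rw [Perm.mul_apply, swap_apply_of_ne_of_ne hxa hxb]
    exact hτx
  have hρfix : ∀ u, u ∉ B → u ∉ B' → (swap x y * swap a c * swap b d * swap a b) u = u := by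
    intro u hu hu'
    have u1 : u ≠ x := by rintro rfl; exact hu hxB
    have u2 : u ≠ a := by rintro rfl; exact hu haB
    have u3 : u ≠ b := by rintro rfl; exact hu hbB
    have u4 : u ≠ y := by rintro rfl; exact hu' hyB'
    have u5 : u ≠ c := by rintro rfl; exact hu' hcB'
    have u6 : u ≠ d := by rintro rfl; exact hu' hdB'
    simp only [Perm.mul_apply, swap_apply_of_ne_of_ne u2 u3, swap_apply_of_ne_of_ne u3 u6,
      swap_apply_of_ne_of_ne u2 u5, swap_apply_of_ne_of_ne u1 u4]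
  -- S lies in both stabilizers
  have hSL1 : S ≤ stabilizer (Perm α) (orbit S x) := by
    intro s hs
    apply mem_stab_set
    intro z hz
    exact horb x z hz s hs
  have hSL2 : S ≤ stabilizer (Perm α) Sg := by
    intro s hs
    apply mem_stab_family
    intro t ht
    exact P4 s hs t ht
  -- a 3-cycle in neither stabilizer
  have hay' : a ≠ y := hne a y haΘ hyΘ
  have hby' : b ≠ y := hne b y hbΘ hyΘ
  have hgA : swap x y * swap x a ∈ alternatingGroup α := by
    rw [mem_alternatingGroup, map_mul, sign_swap hxy', sign_swap hxa]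
    decide
  have hga : (swap x y * swap x a) a = y := by
    rw [Perm.mul_apply, swap_apply_right, swap_apply_left]
  have hgb : (swap x y * swap x a) b = b := by
    rw [Perm.mul_apply, swap_apply_of_ne_of_ne hxb.symm hab.symm,
      swap_apply_of_ne_of_ne hxb.symm hby']
  have hnot1 : ¬ alternatingGroup α ≤ stabilizer (Perm α) (orbit S x) := by
    intro h
    have h1 := (mem_stabilizer_set' (Set.toFinite _)).1 (h hgA) haΘ
    rw [Perm.smul_def, hga] at h1
    exact hdisj y h1 hyΘ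
  have hnot2 : ¬ alternatingGroup α ≤ stabilizer (Perm α) Sg := by
    intro h
    have h1 := (mem_stabilizer_set' (Set.toFinite _)).1 (h hgA) hBSg
    have h2 : y ∈ (swap x y * swap x a) • B := ⟨a, haB, hga⟩
    have h3 : b ∈ (swap x y * swap x a) • B := ⟨b, hbB, hgb⟩
    have h4 := P2 _ h1 B' hB'Sg ⟨y, h2, hyB'⟩
    rw [h4] at h3
    exact hdisj b hbΘ (hB'Θ h3)
  refine ⟨stabilizer (Perm α) (orbit S x), stabilizer (Perm α) Sg, hSL1, hSL2, hnot1, hnot2, ?_⟩
  -- the join
  obtain ⟨J, hJ⟩ : ∃ J : Subgroup (Perm α), J = (stabilizer (Perm α) (orbit S x) ⊓ alternatingGroup α) ⊔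
      (stabilizer (Perm α) Sg ⊓ alternatingGroup α) := ⟨_, rfl⟩
  rw [← hJ]
  have hJ1 : stabilizer (Perm α) (orbit S x) ⊓ alternatingGroup α ≤ J := by
    rw [hJ]; exact le_sup_left
  have hJ2 : stabilizer (Perm α) Sg ⊓ alternatingGroup α ≤ J := by
    rw [hJ]; exact le_sup_right
  have hAltJ : alternatingGroup α ⊓ fixingSubgroup (Perm α) (orbit S x)ᶜ ≤ J := by
    intro g hg
    exact hJ1 ⟨fixing_compl_le_stabilizer _ hg.2, hg.1⟩
  have hSA := pgroup_le_alt S hS
  have hSJ : S ≤ J := fun s hs => hJ2 ⟨hSL2 hs, hSA hs⟩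
  have hρJ : swap x y * swap a c * swap b d * swap a b ∈ J := hJ2 ⟨hρL2, hρA⟩
  -- transitivity
  have hreach : ∀ z, ∃ g ∈ J, g x = z := by
    intro z
    rcases hall z with hz | hz
    · obtain ⟨g, hg, hgx⟩ := exists_alt_fixing_map (orbit S x) (by omega) hxΘ hz
      exact ⟨g, hAltJ hg, hgx⟩
    · obtain ⟨s, rfl⟩ := hz
      refine ⟨(s : Perm α) * (swap x y * swap a c * swap b d * swap a b),
        J.mul_mem (hSJ s.2) hρJ, ?_⟩
      rw [Perm.mul_apply, hρx]
      rfl
  have htr : IsPretransitive J α := by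
    constructor
    intro z w
    obtain ⟨gz, hgz, hz⟩ := hreach z
    obtain ⟨gw, hgw, hw⟩ := hreach w
    refine ⟨⟨gw * gz⁻¹, J.mul_mem hgw (J.inv_mem hgz)⟩, ?_⟩
    show (gw * gz⁻¹) z = w
    have hinv : gz⁻¹ z = x := Equiv.Perm.inv_eq_iff_eq.mpr hz.symm
    rw [Perm.mul_apply, hinv, hw]
  -- Θ is not a block
  have hnb : ∃ g ∈ J, (g • orbit S x ∩ orbit S x).Nonempty ∧ g • orbit S x ≠ orbit S x := by
    have hlt : B.ncard < (orbit S x).ncard := by omega
    obtain ⟨u, huΘ, huB⟩ := Set.exists_mem_notMem_of_ncard_lt_ncard hlt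
    have huB' : u ∉ B' := fun h => hdisj u huΘ (hB'Θ h)
    refine ⟨_, hρJ, ⟨u, ⟨u, huΘ, hρfix u huB huB'⟩, huΘ⟩, ?_⟩
    intro h
    have : y ∈ (swap x y * swap a c * swap b d * swap a b) • orbit S x := ⟨x, hxΘ, hρx⟩
    rw [h] at this
    exact hdisj y this hyΘ
  -- divisors
  have hcard : (orbit S x).ncard + (orbit S y).ncard = Fintype.card α := by
    rw [← hcompl, Set.ncard_add_ncard_compl, Nat.card_eq_fintype_card]
  have hdiv : ∀ d : ℕ, d ∣ Fintype.card α → (orbit S x).ncard < d → d = Fintype.card α := by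
    rintro d ⟨k, hk⟩ hd
    rcases k with _ | _ | k
    · omega
    · omega
    · have : d * (k + 1 + 1) = d * k + 2 * d := by ring
      omega
  have hprim := hT4 J htr (orbit S x) (by omega) hAltJ hnb hdiv
  -- a 3-cycle in J
  have h3c : IsThreeCycle (swap x a * swap x b) := isThreeCycle_swap_mul_swap_same hxa hxb hab
  have h3J : swap x a * swap x b ∈ J := by
    apply hAltJ
    refine ⟨?_, ?_⟩
    · show swap x a * swap x b ∈ alternatingGroup α
      rw [mem_alternatingGroup, map_mul, sign_swap hxa, sign_swap hxb]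
      decide
    · show swap x a * swap x b ∈ fixingSubgroup (Perm α) (orbit S x)ᶜ
      rw [mem_fixingSubgroup_iff]
      intro w hw
      have w1 : w ≠ x := by rintro rfl; exact hw hxΘ
      have w2 : w ≠ a := by rintro rfl; exact hw haΘ
      have w3 : w ≠ b := by rintro rfl; exact hw hbΘ
      rw [Perm.smul_def, Perm.mul_apply, swap_apply_of_ne_of_ne w1 w3,
        swap_apply_of_ne_of_ne w1 w2]
  exact alternatingGroup_le_of_isPreprimitive_of_isThreeCycle_mem hprim h3c h3J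

/-- (T-3b): a `3`-group with exactly two orbits, one of size `≥ 9` and one of size `≥ 3`. -/
theorem twoOver_of_two_orbits {α : Type u} [Fintype α] [DecidableEq α] (S : Subgroup (Perm α))
    (hS : IsPGroup 3 S) (x y : α) (hxy : orbit S x ≠ orbit S y)
    (hall : ∀ z : α, z ∈ orbit S x ∨ z ∈ orbit S y) (hx : 9 ≤ (orbit S x).ncard)
    (hy : 3 ≤ (orbit S y).ncard) : TwoOver S := by
  by_cases hle : (orbit S y).ncard ≤ (orbit S x).ncard
  · exact twoOver_core S hS x y hxy hall hx hy hle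
      Cfsg.Agent.Helper65.ThreeMin.isPreprimitive_of_alt_le
  · exact twoOver_core S hS y x hxy.symm (fun z => (hall z).symm) (by omega) (by omega) (by omega)
      Cfsg.Agent.Helper65.ThreeMin.isPreprimitive_of_alt_le

end Cfsg.Agent.Helper59.ThreeMin
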