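import Mathlib
import Cfsg.Agent.Helper43.Cov2.Defs

set_option autoImplicit false

namespace Cfsg.Agent.Helper59.Cov2

open Cfsg.Agent.Helper43.Cov2 Matrix Module

section general

variable {F : Type*} [Field F] {E : Type*} [Field E] [Algebra F E] {n : ℕ}

/-- Skolem–Noether for a maximal subfield: an algebra hom `E → M_n(F)` with `[E:F] = n` is
conjugate to the regular representation. -/
theorem exists_conj_leftMulMatrix [NeZero n] (b : Basis (Fin n) F E)
    (ψ : E →ₐ[F] Matrix (Fin n) (Fin n) F) :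
    ∃ Y Y' : Matrix (Fin n) (Fin n) F, Y * Y' = 1 ∧ Y' * Y = 1 ∧
      ∀ e : E, Y * Algebra.leftMulMatrix b e = ψ e * Y := by
  classical
  have : Module.Finite F E := Module.Finite.of_basis b
  let v0 : Fin n → F := Pi.single 0 1
  have hv0 : v0 ≠ 0 := by
    intro h
    have := congrFun h 0
    simp [v0] at this
  let T : E →ₗ[F] (Fin n → F) :=
    { toFun := fun e => ψ e *ᵥ v0
      map_add' := by intro x y; rw [map_add, Matrix.add_mulVec]
      map_smul' := by intro c x; rw [map_smul, Matrix.smul_mulVec]; rfl }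
  have hT : ∀ e e', T (e * e') = ψ e *ᵥ T e' := by
    intro e e'
    show ψ (e * e') *ᵥ v0 = ψ e *ᵥ (ψ e' *ᵥ v0)
    rw [map_mul, Matrix.mulVec_mulVec]
  have hT1 : T 1 = v0 := by
    show ψ 1 *ᵥ v0 = v0
    rw [map_one, Matrix.one_mulVec]
  have hinj : Function.Injective T := by
    rw [injective_iff_map_eq_zero]
    intro e he
    by_contra hne
    apply hv0
    have := hT e⁻¹ e
    rw [inv_mul_cancel₀ hne, he, hT1, Matrix.mulVec_zero] at this
    exact this
  have hfr : finrank F E = finrank F (Fin n → F) := by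
    rw [Module.finrank_eq_card_basis b, Module.finrank_fin_fun, Fintype.card_fin]
  have hsurj := (LinearMap.injective_iff_surjective_of_finrank_eq_finrank hfr).1 hinj
  let Te : E ≃ₗ[F] (Fin n → F) := LinearEquiv.ofBijective T ⟨hinj, hsurj⟩
  have hTe : (Te : E →ₗ[F] (Fin n → F)) = T := by ext; rfl
  refine ⟨LinearMap.toMatrix b (Pi.basisFun F (Fin n)) T,
    LinearMap.toMatrix (Pi.basisFun F (Fin n)) b Te.symm, ?_, ?_, ?_⟩
  · rw [← hTe, ← LinearMap.toMatrix_comp, LinearEquiv.comp_coe, LinearEquiv.symm_trans_self,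
      LinearEquiv.refl_toLinearMap, LinearMap.toMatrix_id]
  · rw [← hTe, ← LinearMap.toMatrix_comp, LinearEquiv.comp_coe, LinearEquiv.self_trans_symm,
      LinearEquiv.refl_toLinearMap, LinearMap.toMatrix_id]
  · intro e
    have h1 : ψ e = LinearMap.toMatrix (Pi.basisFun F (Fin n)) (Pi.basisFun F (Fin n))
        (Matrix.toLin' (ψ e)) := by
      rw [LinearMap.toMatrix_eq_toMatrix', LinearMap.toMatrix'_toLin']
    rw [Algebra.leftMulMatrix_apply, ← LinearMap.toMatrix_comp]
    conv_rhs => rw [h1, ← LinearMap.toMatrix_comp]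
    congr 1
    ext y : 1
    simp only [LinearMap.comp_apply, Matrix.toLin'_apply]
    exact hT e y

/-- A matrix with irreducible characteristic polynomial lies in the image of an algebra hom
from any finite field extension of degree `n`. -/
theorem exists_algHom_of_irreducible_charpoly [Finite E] (hE : finrank F E = n)
    (g : Matrix (Fin n) (Fin n) F) (hg : Irreducible g.charpoly) :
    ∃ (ψ : E →ₐ[F] Matrix (Fin n) (Fin n) F) (e : E), ψ e = g := by
  classical
  have : Fact (Irreducible g.charpoly) := ⟨hg⟩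
  have hne : g.charpoly ≠ 0 := hg.ne_zero
  let L := AdjoinRoot g.charpoly
  let pb := AdjoinRoot.powerBasis hne
  have : Module.Finite F L := pb.finite
  have hfrL : finrank F L = n := by
    rw [pb.finrank, AdjoinRoot.powerBasis_dim, Matrix.charpoly_natDegree_eq_dim, Fintype.card_fin]
  have : Finite F := Finite.of_injective _ (algebraMap F E).injective
  have : Finite L := Module.finite_of_finite F
  have : Module.Finite F E := Module.Finite.of_finite
  obtain ⟨ι⟩ := FiniteField.nonempty_algHom_of_finrank_dvd (F := F) (K := E) (L := L)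
    (by rw [hE, hfrL])
  have hιinj : Function.Injective ι := ι.toRingHom.injective
  have hιsurj : Function.Surjective ι :=
    (LinearMap.injective_iff_surjective_of_finrank_eq_finrank (f := ι.toLinearMap)
      (by rw [hE, hfrL])).1 hιinj
  obtain ⟨e, he⟩ := hιsurj (AdjoinRoot.root g.charpoly)
  have hI : ∀ a : Polynomial F, a ∈ Ideal.span {g.charpoly} → Polynomial.aeval g a = 0 := by
    intro a ha
    obtain ⟨c, rfl⟩ := Ideal.mem_span_singleton.1 ha
    rw [map_mul, Matrix.aeval_self_charpoly, zero_mul]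
  let φ : L →ₐ[F] Matrix (Fin n) (Fin n) F :=
    Ideal.Quotient.liftₐ (Ideal.span {g.charpoly}) (Polynomial.aeval g) hI
  refine ⟨φ.comp ι, e, ?_⟩
  rw [AlgHom.comp_apply, he]
  have h1 : φ (Ideal.Quotient.mk _ Polynomial.X) = Polynomial.aeval g Polynomial.X :=
    Ideal.Quotient.lift_mk _ _ _
  rw [Polynomial.aeval_X] at h1
  exact h1

/-- An element of `SL_n(F)` with irreducible characteristic polynomial is `SL_n(F)`-conjugate
into the Singer torus `E^* ∩ SL_n(F)` (regular representation of a degree-`n` extension). -/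
theorem exists_conj_mem_torus [Finite E] [NeZero n] (b : Basis (Fin n) F E)
    (g : Matrix.SpecialLinearGroup (Fin n) F)
    (hg : Irreducible (g : Matrix (Fin n) (Fin n) F).charpoly) :
    ∃ (x : Matrix.SpecialLinearGroup (Fin n) F) (e : E),
      ((x * g * x⁻¹ : Matrix.SpecialLinearGroup (Fin n) F) : Matrix (Fin n) (Fin n) F) =
        Algebra.leftMulMatrix b e := by
  have hE : finrank F E = n := by rw [Module.finrank_eq_card_basis b, Fintype.card_fin]
  obtain ⟨ψ, e, hψ⟩ := exists_algHom_of_irreducible_charpoly hE g.1 hg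
  obtain ⟨Y, Y', hYY', hY'Y, hconj⟩ := exists_conj_leftMulMatrix b ψ
  have hdet : Y.det * Y'.det = 1 := by rw [← Matrix.det_mul, hYY', Matrix.det_one]
  obtain ⟨c, hc⟩ := FiniteField.norm_surjective F E (Y.det)
  have hcdet : (Algebra.leftMulMatrix b c).det = Y.det := by
    rw [← Algebra.norm_eq_matrix_det b, hc]
  let x : Matrix.SpecialLinearGroup (Fin n) F :=
    ⟨Algebra.leftMulMatrix b c * Y', by rw [Matrix.det_mul, hcdet, hdet]⟩
  have hLe : Algebra.leftMulMatrix b e = Y' * g.1 * Y := by
    rw [← hψ, Matrix.mul_assoc, ← hconj e, ← Matrix.mul_assoc, hY'Y, Matrix.one_mul]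
  let k : Matrix.SpecialLinearGroup (Fin n) F :=
    ⟨Algebra.leftMulMatrix b e, by
      rw [hLe, Matrix.det_mul, Matrix.det_mul, g.2, mul_one, mul_comm, hdet]⟩
  have hxk : x * g = k * x := by
    apply Subtype.ext
    show Algebra.leftMulMatrix b c * Y' * g.1 =
      Algebra.leftMulMatrix b e * (Algebra.leftMulMatrix b c * Y')
    rw [← Matrix.mul_assoc, ← map_mul, mul_comm e c, map_mul, Matrix.mul_assoc, Matrix.mul_assoc]
    congr 1
    rw [hLe, Matrix.mul_assoc, hYY', Matrix.mul_one]
  refine ⟨x, e, ?_⟩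
  rw [hxk, mul_inv_cancel_right]

end general

section sl2

variable {F : Type*} [Field F] [Fintype F]

/-- The upper triangular subgroup of `SL₂(F)`. -/
def borel2 (F : Type*) [Field F] : Subgroup (Matrix.SpecialLinearGroup (Fin 2) F) where
  carrier := {g | (g : Matrix (Fin 2) (Fin 2) F) 1 0 = 0}
  one_mem' := by simp
  mul_mem' := by
    intro a b ha hb
    simp only [Set.mem_ofPred_eq] at ha hb ⊢
    rw [Matrix.SpecialLinearGroup.coe_mul, Matrix.mul_apply, Fin.sum_univ_two, ha, hb]
    ring
  inv_mem' := by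
    intro a ha
    simp only [Set.mem_ofPred_eq] at ha ⊢
    rw [Matrix.SpecialLinearGroup.coe_inv, Matrix.adjugate_fin_two]
    simp [ha]

/-- The torus subgroup of `SL_n(F)` attached to a basis of a degree-`n` extension. -/
def torus {E : Type*} [Field E] [Algebra F E] {n : ℕ} [NeZero n] (b : Basis (Fin n) F E) :
    Subgroup (Matrix.SpecialLinearGroup (Fin n) F) where
  carrier := {g | ∃ e : E, (g : Matrix (Fin n) (Fin n) F) = Algebra.leftMulMatrix b e}
  one_mem' := ⟨1, by rw [map_one]; rfl⟩
  mul_mem' := by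
    rintro a c ⟨e, he⟩ ⟨e', he'⟩
    exact ⟨e * e', by rw [Matrix.SpecialLinearGroup.coe_mul, he, he', map_mul]⟩
  inv_mem' := by
    rintro a ⟨e, he⟩
    have hdet : (Algebra.leftMulMatrix b e).det = 1 := by rw [← he]; exact a.2
    have hne : e ≠ 0 := by
      rintro rfl
      rw [map_zero, Matrix.det_zero] at hdet
      exact zero_ne_one hdet
    have hmul : Algebra.leftMulMatrix b e * Algebra.leftMulMatrix b e⁻¹ = 1 := by
      rw [← map_mul, mul_inv_cancel₀ hne, map_one]
    have hdet' : (Algebra.leftMulMatrix b e⁻¹).det = 1 := by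
      have := congrArg Matrix.det hmul
      rwa [Matrix.det_mul, hdet, one_mul, Matrix.det_one] at this
    have hinv : a⁻¹ = ⟨Algebra.leftMulMatrix b e⁻¹, hdet'⟩ := by
      apply inv_eq_of_mul_eq_one_right
      apply Subtype.ext
      show (a : Matrix (Fin n) (Fin n) F) * Algebra.leftMulMatrix b e⁻¹ = 1
      rw [he, hmul]
    exact ⟨e⁻¹, by rw [hinv]⟩

theorem conj_mem_borel2 {F : Type*} [Field F] (g z : Matrix.SpecialLinearGroup (Fin 2) F)
    (v : Fin 2 → F) (μ : F) (hv : (g : Matrix (Fin 2) (Fin 2) F) *ᵥ v = μ • v)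
    (hz : ∀ i, (z : Matrix (Fin 2) (Fin 2) F) i 0 = v i) :
    z⁻¹ * g * (z⁻¹)⁻¹ ∈ borel2 F := by
  rw [inv_inv]
  show ((z⁻¹ * g * z : Matrix.SpecialLinearGroup (Fin 2) F) : Matrix (Fin 2) (Fin 2) F) 1 0 = 0
  have hz0 : (z : Matrix (Fin 2) (Fin 2) F) *ᵥ (Pi.single 0 1) = v := by
    ext i
    rw [Matrix.mulVec_single_one]
    exact hz i
  have h1 : ((z⁻¹ * g * z : Matrix.SpecialLinearGroup (Fin 2) F) : Matrix (Fin 2) (Fin 2) F) *ᵥ
      (Pi.single 0 1) = μ • Pi.single 0 1 := by
    rw [Matrix.SpecialLinearGroup.coe_mul, Matrix.SpecialLinearGroup.coe_mul,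
      ← Matrix.mulVec_mulVec, hz0, ← Matrix.mulVec_mulVec, hv, Matrix.mulVec_smul, ← hz0,
      Matrix.mulVec_mulVec, ← Matrix.SpecialLinearGroup.coe_mul, inv_mul_cancel,
      Matrix.SpecialLinearGroup.coe_one, Matrix.one_mulVec]
  have h2 := congrFun h1 1
  rw [Matrix.mulVec_single_one] at h2
  simpa using h2

theorem part1 (h : 4 ≤ Fintype.card F) : Cover2Z (Matrix.SpecialLinearGroup (Fin 2) F) := by
  classical
  have _ := h
  obtain ⟨p, hp⟩ := CharP.exists F
  have : Fact p.Prime := ⟨CharP.char_is_prime F p⟩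
  let E := FiniteField.Extension F p 2
  have hfr : finrank F E = 2 := FiniteField.finrank_extension F p 2
  let b : Basis (Fin 2) F E := (Module.finBasis F E).reindex (finCongr hfr)
  refine ⟨borel2 F, torus b, ?_, ?_, ?_, ?_, ?_⟩
  · intro z hz
    rw [Matrix.SpecialLinearGroup.mem_center_iff] at hz
    obtain ⟨r, -, hr⟩ := hz
    show (z : Matrix (Fin 2) (Fin 2) F) 1 0 = 0
    rw [← hr]
    simp
  · intro z hz
    rw [Matrix.SpecialLinearGroup.mem_center_iff] at hz
    obtain ⟨r, -, hr⟩ := hz
    refine ⟨algebraMap F E r, ?_⟩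
    rw [AlgHom.commutes, ← hr]
    rfl
  · intro htop
    have hmem : (⟨!![1, 0; 1, 1], by simp [Matrix.det_fin_two]⟩ :
        Matrix.SpecialLinearGroup (Fin 2) F) ∈ borel2 F := by rw [htop]; trivial
    have h10 : (1 : F) = 0 := hmem
    exact one_ne_zero h10
  · intro htop
    have hmem : (⟨!![1, 1; 0, 1], by simp [Matrix.det_fin_two]⟩ :
        Matrix.SpecialLinearGroup (Fin 2) F) ∈ torus b := by rw [htop]; trivial
    obtain ⟨e, he⟩ := hmem
    have he' : Algebra.leftMulMatrix b e = !![1, 1; 0, 1] := he.symm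
    have h1 : Algebra.leftMulMatrix b (e - 1) = !![0, 1; 0, 0] := by
      rw [map_sub, map_one, he']
      ext i j
      fin_cases i <;> fin_cases j <;> simp
    have h2 : Algebra.norm F (e - 1) = 0 := by
      rw [Algebra.norm_eq_matrix_det b, h1]
      simp [Matrix.det_fin_two]
    have h3 : e - 1 = 0 := Algebra.norm_eq_zero_iff.1 h2
    rw [h3, map_zero] at h1
    have := congrFun (congrFun h1 0) 1
    simp at this
  · intro g
    by_cases hev : ∃ v : Fin 2 → F, v ≠ 0 ∧ ∃ μ : F, (g : Matrix (Fin 2) (Fin 2) F) *ᵥ v = μ • v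
    · obtain ⟨v, hv0, μ, hv⟩ := hev
      by_cases hv00 : v 0 = 0
      · have hv1 : v 1 ≠ 0 := by
          intro hv1
          apply hv0
          ext i
          fin_cases i
          · exact hv00
          · exact hv1
        let z : Matrix.SpecialLinearGroup (Fin 2) F :=
          ⟨!![0, -(v 1)⁻¹; v 1, 0], by simp [Matrix.det_fin_two, hv1]⟩
        refine ⟨z⁻¹, Or.inl (conj_mem_borel2 g z v μ hv ?_)⟩
        intro i
        fin_cases i
        · simp [z, hv00]
        · simp [z]
      · let z : Matrix.SpecialLinearGroup (Fin 2) F :=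
          ⟨!![v 0, 0; v 1, (v 0)⁻¹], by simp [Matrix.det_fin_two, hv00]⟩
        refine ⟨z⁻¹, Or.inl (conj_mem_borel2 g z v μ hv ?_)⟩
        intro i
        fin_cases i
        · simp [z]
        · simp [z]
    · have hirr : Irreducible (g : Matrix (Fin 2) (Fin 2) F).charpoly := by
        apply Polynomial.irreducible_of_degree_le_three_of_not_isRoot
        · rw [Matrix.charpoly_natDegree_eq_dim, Fintype.card_fin]
          decide
        · intro μ hμ
          apply hev
          rw [Polynomial.IsRoot.def, Matrix.eval_charpoly] at hμ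
          obtain ⟨v, hv0, hv⟩ := Matrix.exists_mulVec_eq_zero_iff.2 hμ
          refine ⟨v, hv0, μ, ?_⟩
          rw [Matrix.sub_mulVec, sub_eq_zero] at hv
          rw [← hv]
          ext i
          simp [Matrix.mulVec, dotProduct, Matrix.scalar_apply, Matrix.diagonal_apply]
      obtain ⟨x, e, hx⟩ := exists_conj_mem_torus b g hirr
      exact ⟨x, Or.inr ⟨e, hx⟩⟩

end sl2

end Cfsg.Agent.Helper59.Cov2
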