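import Mathlib
import Cfsg.Agent.Helper40.StCLiftDefs

/-!
# (LG6) for helper40 (S2092, part II): the relation (R5) for the lifts

`r5_lift_of` takes the sibling pieces (`map_Zs`, `Zs_add`, `Ll_eq_Zl`, `map_Zl`, `Zl_add`) as hypotheses.
-/

set_option autoImplicit false
set_option linter.unusedSectionVars false

namespace Cfsg.Agent.Helper59.StCLG6

open scoped commutatorElement
open Cfsg.Agent.Helper96.StN Cfsg.Agent.Helper96.StC Cfsg.Agent.Helper96.StLift
  Cfsg.Agent.Helper40.StCLift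

universe u v v' w

variable {K : Type u} [Field K] {D : Type v} [Group D] {E : Type v'} [Group E] {π : E →* D}
  {ι : Type w} [DecidableEq ι] {X : ι ⊕ ι → ι ⊕ ι → K → D}

/-- cancellation in a group with two commutation relations -/
theorem cancel_aux {G : Type*} [Group G] (A A' L1 M L2 C : G) (c1 : A' * L1 = L1 * A')
    (c2 : A' * M = M * A') (H : A * L1 * (C * A' * L2) = A * A' * (L1 * M * L2)) : C = M := by
  have h1 : A * A' * (L1 * M * L2) = A * L1 * (M * A' * L2) := by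
    simp only [mul_assoc]
    rw [← mul_assoc A' L1, c1, mul_assoc, ← mul_assoc A' M, c2, mul_assoc]
  rw [h1] at H
  exact mul_right_cancel (mul_right_cancel (mul_left_cancel H))

/-- the key identity: `lc (X ā b u) (X a b u') = Zl b̄ (2 e_ab u u')` -/
theorem lc_bar_eq_Zl (hπ : Function.Surjective π) (hc : π.ker ≤ Subgroup.center E)
    (hX : SpRel X) (hCL : CLC hπ X) (h3 : ∀ p q : ι ⊕ ι, ∃ k, AbsNe k p ∧ AbsNe k q)
    (hmapZs : ∀ {p s : ι ⊕ ι}, AbsNe p s → ∀ t : K, π (Zs hπ X h3 p s t) = X p s t)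
    (hZsadd : ∀ {p s : ι ⊕ ι}, AbsNe p s → ∀ t u : K,
      Zs hπ X h3 p s (t + u) = Zs hπ X h3 p s t * Zs hπ X h3 p s u)
    (hLZ : ∀ {p q : ι ⊕ ι}, AbsNe p q → ∀ t u : K,
      Ll hπ X h3 p q t u = Zl hπ X h3 (bar q) (eps K p q * t * u ^ 2))
    (hmapZl : ∀ (r : ι ⊕ ι) (w : K), π (Zl hπ X h3 r w) = X r (bar r) w)
    (hZladd : ∀ (r : ι ⊕ ι) (w w' : K),
      Zl hπ X h3 r (w + w') = Zl hπ X h3 r w * Zl hπ X h3 r w')
    {a b : ι ⊕ ι} (hab : AbsNe a b) (u u' : K) :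
    lc hπ (X (bar a) b u) (X a b u') = Zl hπ X h3 (bar b) (2 * eps K a b * u * u') := by
  have hmapZl' : ∀ w, π (Zl hπ X h3 (bar b) w) = X (bar b) b w := by
    intro w
    have := hmapZl (bar b) w
    rwa [bar_bar] at this
  -- the symbol `T`
  have hT : ∀ v, lc hπ (X a (bar a) 1) (X (bar a) b v) =
      Zs hπ X h3 a b v * Zl hπ X h3 (bar b) (eps K a b * v ^ 2) := by
    intro v
    have h := hLZ hab 1 v
    unfold Ll at h
    rw [inv_mul_eq_iff_eq_mul, one_mul, mul_one] at h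
    exact h
  obtain ⟨y, hy⟩ := hπ (X (bar a) b u)
  have H := hT (u + u')
  rw [hX.add (bar a) b hab.bar_left.1 u u', ← hy, lc_mul_right hπ hc, hy, hT u, hT u'] at H
  -- conjugation by `y`
  have hyL : ∀ w, y * Zl hπ X h3 (bar b) w * y⁻¹ = Zl hπ X h3 (bar b) w := by
    intro w
    refine conj_lift_eq hπ hc ?_ hy (hmapZl' w)
    exact hCL (bar a) b (bar b) b hab.bar_left.1 (bar_ne b) (bar_ne b).symm (bar_ne b).symm
      (by rw [bar_bar]; exact hab.bar_left.1) hab.bar_left.1 u w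
  have hyA : y * Zs hπ X h3 a b u' * y⁻¹ =
      lc hπ (X (bar a) b u) (X a b u') * Zs hπ X h3 a b u' := by
    rw [← lc_eq' hπ hc hy (hmapZs hab u'), commutatorElement_def]
    group
  have hconj : y * (Zs hπ X h3 a b u' * Zl hπ X h3 (bar b) (eps K a b * u' ^ 2)) * y⁻¹ =
      lc hπ (X (bar a) b u) (X a b u') * Zs hπ X h3 a b u' *
        Zl hπ X h3 (bar b) (eps K a b * u' ^ 2) := by
    have : y * (Zs hπ X h3 a b u' * Zl hπ X h3 (bar b) (eps K a b * u' ^ 2)) * y⁻¹ =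
        (y * Zs hπ X h3 a b u' * y⁻¹) * (y * Zl hπ X h3 (bar b) (eps K a b * u' ^ 2) * y⁻¹) := by
      group
    rw [this, hyL, hyA]
  rw [hconj] at H
  -- expand the right-hand side
  have hsq : eps K a b * (u + u') ^ 2 =
      eps K a b * u ^ 2 + 2 * eps K a b * u * u' + eps K a b * u' ^ 2 := by ring
  rw [hZsadd hab, hsq, hZladd, hZladd] at H
  -- commutations
  have hAL : ∀ v w, Commute (Zs hπ X h3 a b v) (Zl hπ X h3 (bar b) w) := by
    intro v w
    refine commute_of_lc_eq_one hπ hc ?_ (hmapZs hab v) (hmapZl' w)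
    exact hCL a b (bar b) b hab.1 (bar_ne b) (bar_ne b).symm (bar_ne b).symm
      (by rw [bar_bar]; exact hab.1) hab.1 v w
  exact cancel_aux _ _ _ _ _ _ (hAL u' (eps K a b * u ^ 2)).eq
    (hAL u' (2 * eps K a b * u * u')).eq H

/-- (LG6), from the sibling pieces as hypotheses -/
theorem r5_lift_of (hπ : Function.Surjective π) (hc : π.ker ≤ Subgroup.center E)
    (hX : SpRel X) (hCL : CLC hπ X) (h3 : ∀ p q : ι ⊕ ι, ∃ k, AbsNe k p ∧ AbsNe k q)
    (hmapZs : ∀ {p s : ι ⊕ ι}, AbsNe p s → ∀ t : K, π (Zs hπ X h3 p s t) = X p s t)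
    (hZsadd : ∀ {p s : ι ⊕ ι}, AbsNe p s → ∀ t u : K,
      Zs hπ X h3 p s (t + u) = Zs hπ X h3 p s t * Zs hπ X h3 p s u)
    (hLZ : ∀ {p q : ι ⊕ ι}, AbsNe p q → ∀ t u : K,
      Ll hπ X h3 p q t u = Zl hπ X h3 (bar q) (eps K p q * t * u ^ 2))
    (hmapZl : ∀ (r : ι ⊕ ι) (w : K), π (Zl hπ X h3 r w) = X r (bar r) w)
    (hZladd : ∀ (r : ι ⊕ ι) (w w' : K),
      Zl hπ X h3 r (w + w') = Zl hπ X h3 r w * Zl hπ X h3 r w')
    {p q : ι ⊕ ι} (hpq : AbsNe p q) (t u : K) :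
    lc hπ (X p q t) (X q (bar p) u) = Zl hπ X h3 p (2 * t * u) := by
  have hab : AbsNe (bar q) (bar p) := hpq.symm.bar_left.bar_right
  have key := lc_bar_eq_Zl hπ hc hX hCL h3 hmapZs hZsadd hLZ hmapZl hZladd hab u
    (-(eps K p q * t))
  rw [bar_bar, bar_bar] at key
  have hZl0 : Zl hπ X h3 p 0 = 1 := by
    have h := hZladd p 0 0
    rw [add_zero] at h
    exact left_eq_mul.mp h
  rw [hX.sym p q hpq.1 hpq.ne_bar' t, ← lc_inv, key, inv_eq_iff_mul_eq_one, ← hZladd]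
  have e1 : eps K (bar q) (bar p) = eps K p q := by rw [eps_bar_bar, eps_comm]
  have e2 : eps K p q * eps K p q = (1 : K) := eps_mul_self p q
  have : 2 * eps K (bar q) (bar p) * u * -(eps K p q * t) + 2 * t * u = 0 := by
    rw [e1]
    linear_combination (-2 * u * t) * e2
  rw [this, hZl0]

end Cfsg.Agent.Helper59.StCLG6
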