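import Mathlib
import Cfsg.Agent.Helper40.StCLiftDefs

/-!
# (SH4) for helper40 (S2092, part II): additivity and symmetry of the short root lifts `Zs`

`Zs_add` is complete; `Zs_sym_of` takes the sibling piece `symbol_eq_Zs` (SH3) as a hypothesis.
-/

set_option autoImplicit false
set_option linter.unusedSectionVars false

namespace Cfsg.Agent.Helper59.StCSH4

open scoped commutatorElement
open Cfsg.Agent.Helper96.StN Cfsg.Agent.Helper96.StC Cfsg.Agent.Helper96.StLift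
  Cfsg.Agent.Helper40.StCLift

universe u v v' w

variable {K : Type u} [Field K] {D : Type v} [Group D] {E : Type v'} [Group E] {π : E →* D}
  {ι : Type w} [DecidableEq ι] {X : ι ⊕ ι → ι ⊕ ι → K → D}

/-- the symbol lifts the product root element -/
theorem map_symbol (hπ : Function.Surjective π) (hX : SpRel X) {p k s : ι ⊕ ι} (hpk : AbsNe p k)
    (hps : AbsNe p s) (hks : AbsNe k s) (a b : K) :
    π (lc hπ (X p k a) (X k s b)) = X p s (a * b) := by
  rw [map_lc, commutatorElement_def]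
  exact hX.mul p k s hpk.1 hks.1 hps.1 hpk.2 hks.2 hps.2 a b

/-- additivity of the symbol in the first variable (reversed order) -/
theorem symbol_add_left_rev (hπ : Function.Surjective π) (hc : π.ker ≤ Subgroup.center E)
    (hX : SpRel X) (hCL : CLC hπ X) {p k s : ι ⊕ ι} (hpk : AbsNe p k) (hps : AbsNe p s)
    (hks : AbsNe k s) (a a' b : K) :
    lc hπ (X p k (a + a')) (X k s b) = lc hπ (X p k a') (X k s b) * lc hπ (X p k a) (X k s b) := by
  obtain ⟨x, hx⟩ := hπ (X p k a)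
  rw [hX.add p k hpk.1, ← hx, lc_mul_left hπ hc, hx]
  have h1 : lc hπ (X p k a) (X p s (a' * b)) = 1 :=
    hCL p k p s hpk.1 hps.1 hpk.1.symm hks.2 (bar_ne p).symm hps.1 a (a' * b)
  have h2 := conj_lift_eq hπ hc h1 hx (map_symbol hπ hX hpk hps hks a' b)
  rw [h2]

theorem symbol_add_left' (hπ : Function.Surjective π) (hc : π.ker ≤ Subgroup.center E)
    (hX : SpRel X) (hCL : CLC hπ X) {p k s : ι ⊕ ι} (hpk : AbsNe p k) (hps : AbsNe p s)
    (hks : AbsNe k s) (a a' b : K) :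
    lc hπ (X p k (a + a')) (X k s b) = lc hπ (X p k a) (X k s b) * lc hπ (X p k a') (X k s b) := by
  rw [add_comm, symbol_add_left_rev hπ hc hX hCL hpk hps hks]

/-- (SH4) -/
theorem Zs_add (hπ : Function.Surjective π) (hc : π.ker ≤ Subgroup.center E)
    (hX : SpRel X) (hCL : CLC hπ X) (h3 : ∀ p q : ι ⊕ ι, ∃ k, AbsNe k p ∧ AbsNe k q)
    {p s : ι ⊕ ι} (hps : AbsNe p s) (t u : K) :
    Zs hπ X h3 p s (t + u) = Zs hπ X h3 p s t * Zs hπ X h3 p s u := by
  unfold Zs
  obtain ⟨hkp, hks⟩ := Classical.choose_spec (h3 p s)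
  exact symbol_add_left' hπ hc hX hCL hkp.symm hps hks t u 1

theorem Zs_zero (hπ : Function.Surjective π) (hc : π.ker ≤ Subgroup.center E)
    (hX : SpRel X) (hCL : CLC hπ X) (h3 : ∀ p q : ι ⊕ ι, ∃ k, AbsNe k p ∧ AbsNe k q)
    {p s : ι ⊕ ι} (hps : AbsNe p s) : Zs hπ X h3 p s 0 = 1 := by
  have h := Zs_add hπ hc hX hCL h3 hps 0 0
  rw [add_zero] at h
  exact left_eq_mul.mp h

theorem Zs_neg (hπ : Function.Surjective π) (hc : π.ker ≤ Subgroup.center E)
    (hX : SpRel X) (hCL : CLC hπ X) (h3 : ∀ p q : ι ⊕ ι, ∃ k, AbsNe k p ∧ AbsNe k q)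
    {p s : ι ⊕ ι} (hps : AbsNe p s) (t : K) :
    (Zs hπ X h3 p s t)⁻¹ = Zs hπ X h3 p s (-t) := by
  rw [inv_eq_iff_mul_eq_one, ← Zs_add hπ hc hX hCL h3 hps, add_neg_cancel,
    Zs_zero hπ hc hX hCL h3 hps]

/-- (SH4), from `symbol_eq_Zs` as a hypothesis -/
theorem Zs_sym_of (hπ : Function.Surjective π) (hc : π.ker ≤ Subgroup.center E)
    (hX : SpRel X) (hCL : CLC hπ X) (h3 : ∀ p q : ι ⊕ ι, ∃ k, AbsNe k p ∧ AbsNe k q)
    (hsym : ∀ {p k s : ι ⊕ ι}, AbsNe p k → AbsNe p s → AbsNe k s → ∀ a b : K,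
      lc hπ (X p k a) (X k s b) = Zs hπ X h3 p s (a * b))
    {p s : ι ⊕ ι} (hps : AbsNe p s) (t : K) :
    Zs hπ X h3 p s t = Zs hπ X h3 (bar s) (bar p) (-(eps K p s * t)) := by
  obtain ⟨k, hkp, hks⟩ := h3 p s
  have hpk := hkp.symm
  -- the three `AbsNe` for the barred indices
  have h1 : AbsNe (bar s) (bar k) := hks.symm.bar_left.bar_right
  have h2 : AbsNe (bar s) (bar p) := hps.symm.bar_left.bar_right
  have h3' : AbsNe (bar k) (bar p) := hkp.bar_left.bar_right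
  have e1 := hsym h1 h2 h3' (-(eps K p s * t)) 1
  rw [mul_one] at e1
  rw [← e1, sym' hX hks.1 hks.ne_bar', sym' hX hpk.1 hpk.ne_bar', ← lc_inv,
    hsym hpk hps hks, Zs_neg hπ hc hX hCL h3 hps]
  congr 1
  have e2 : eps K p k * eps K k s = eps K p s := eps_mul_eps p k s
  have e3 : eps K p s * eps K p s = (1 : K) := eps_mul_self p s
  linear_combination (-t) * e3 - (eps K p s * t) * e2

end Cfsg.Agent.Helper59.StCSH4
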