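-- helper59: leaf (LA1) `card_dual_vanishing_pair` of helper38's S3777 (Vaughan-Lee) farm #13454/#13477.
import Mathlib
import Cfsg.Agent.Helper38.VL.Defs

set_option autoImplicit false

namespace Cfsg.Agent.Helper59.VL

open Subgroup

universe u

/-- (LA1) functionals vanishing on two independent vectors. -/
theorem card_dual_vanishing_pair {p : ℕ} [Fact p.Prime] {V : Type*} [AddCommGroup V]
    [Module (ZMod p) V] [Finite V] {v w : V} (hv : v ≠ 0)
    (hw : w ∉ Submodule.span (ZMod p) {v}) :
    Nat.card {α : Module.Dual (ZMod p) V // α v = 0 ∧ α w = 0} * p ^ 2 = Nat.card V := by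
  have hfin : Module.Finite (ZMod p) V := Module.Finite.of_finite
  have hli : LinearIndependent (ZMod p) ![v, w] := by
    rw [LinearIndependent.pair_iff' hv]
    intro a ha
    apply hw
    rw [Submodule.mem_span_singleton]
    exact ⟨a, ha⟩
  have hrange : Set.range ![v, w] = {v, w} := by
    ext x
    simp [eq_comm]
    tauto
  have hrank : Module.finrank (ZMod p) ↥(Submodule.span (ZMod p) ({v, w} : Set V)) = 2 := by
    have := finrank_span_eq_card hli
    rw [hrange] at this
    simpa using this
  have hmem : ∀ α : Module.Dual (ZMod p) V,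
      α ∈ (Submodule.span (ZMod p) ({v, w} : Set V)).dualAnnihilator ↔ (α v = 0 ∧ α w = 0) := by
    intro α
    rw [Submodule.mem_dualAnnihilator]
    constructor
    · intro h
      exact ⟨h v (Submodule.subset_span (by simp)), h w (Submodule.subset_span (by simp))⟩
    · rintro ⟨h1, h2⟩ x hx
      have hle : Submodule.span (ZMod p) ({v, w} : Set V) ≤ LinearMap.ker α := by
        rw [Submodule.span_le]
        intro y hy
        simp only [Set.mem_insert_iff, Set.mem_singleton_iff] at hy
        rcases hy with rfl | rfl
        · exact h1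
        · exact h2
      exact hle hx
  have hcongr : Nat.card {α : Module.Dual (ZMod p) V // α v = 0 ∧ α w = 0} =
      Nat.card ↥(Submodule.span (ZMod p) ({v, w} : Set V)).dualAnnihilator :=
    Nat.card_congr (Equiv.subtypeEquivRight (fun α => (hmem α).symm))
  have hsum := Subspace.finrank_add_finrank_dualAnnihilator_eq
    (Submodule.span (ZMod p) ({v, w} : Set V))
  rw [hrank] at hsum
  rw [hcongr, Module.natCard_eq_pow_finrank (K := ZMod p) (V := V),
    Module.natCard_eq_pow_finrank (K := ZMod p)
      (V := ↥(Submodule.span (ZMod p) ({v, w} : Set V)).dualAnnihilator),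
    Nat.card_zmod, ← hsum, ← pow_add, add_comm]

end Cfsg.Agent.Helper59.VL
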