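-- helper59: leaf (TR1) `exists_frattini_module` of helper38's S3777 (Vaughan-Lee) farm #13454/#13469.
import Mathlib
import Cfsg.Agent.Helper38.VL.Defs
import Cfsg.Agent.Helper2.Basic
import Cfsg.Agent.Helper63.Frattini

set_option autoImplicit false

namespace Cfsg.Agent.Helper59.VL

open Subgroup
open scoped commutatorElement

universe u

/-- the Frattini quotient of a finite nilpotent group is commutative -/
theorem TR1_mul_comm {G : Type u} [Group G] [Finite G] [Group.IsNilpotent G]
    (a b : G ⧸ frattini G) : a * b = b * a := by
  have hcomm : commutator G ≤ frattini G := Cfsg.Agent.Helper2.commutator_le_frattini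
  induction a using QuotientGroup.induction_on with
  | H a =>
    induction b using QuotientGroup.induction_on with
    | H b =>
      rw [← QuotientGroup.mk_mul, ← QuotientGroup.mk_mul, QuotientGroup.eq]
      apply hcomm
      have h : (a * b)⁻¹ * (b * a) = ⁅b⁻¹, a⁻¹⁆ := by
        rw [commutatorElement_def]
        group
      rw [h]
      exact Subgroup.commutator_mem_commutator (Subgroup.mem_top _) (Subgroup.mem_top _)

/-- (TR1) the Frattini quotient of a finite `p`-group as an `𝔽_p`-vector space. -/
theorem exists_frattini_module {G : Type u} [Group G] [Finite G] {p : ℕ} [Fact p.Prime]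
    (hG : IsPGroup p G) :
    ∃ (V : Type u) (_ : AddCommGroup V) (_ : Module (ZMod p) V) (_ : Finite V)
      (π : G →* Multiplicative V), Function.Surjective π ∧ π.ker = frattini G := by
  have hnil : Group.IsNilpotent G := hG.isNilpotent
  let instC : CommGroup (G ⧸ frattini G) :=
    { (inferInstance : Group (G ⧸ frattini G)) with
      mul_comm := TR1_mul_comm }
  have hpow : ∀ x : Additive (G ⧸ frattini G), p • x = 0 := by
    intro x
    obtain ⟨g, hg⟩ := QuotientGroup.mk_surjective (Additive.toMul x)
    have h1 : (Additive.toMul x) ^ p = 1 := by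
      rw [← hg, ← QuotientGroup.mk_pow, QuotientGroup.eq_one_iff]
      exact Cfsg.Agent.Helper63.pow_prime_mem_frattini hG g
    have h2 : Additive.toMul (p • x) = 1 := by
      rw [toMul_nsmul]
      exact h1
    exact Additive.toMul.injective h2
  let instM : Module (ZMod p) (Additive (G ⧸ frattini G)) := AddCommGroup.zmodModule hpow
  refine ⟨Additive (G ⧸ frattini G), inferInstance, instM, inferInstance,
    { toFun := fun g => Multiplicative.ofAdd (Additive.ofMul (QuotientGroup.mk g : G ⧸ frattini G))
      map_one' := rfl
      map_mul' := fun a b => rfl }, ?_, ?_⟩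
  · intro y
    obtain ⟨g, hg⟩ := QuotientGroup.mk_surjective (Additive.toMul (Multiplicative.toAdd y))
    refine ⟨g, ?_⟩
    show Multiplicative.ofAdd (Additive.ofMul (QuotientGroup.mk g : G ⧸ frattini G)) = y
    rw [hg]
    rfl
  · ext g
    rw [MonoidHom.mem_ker]
    show Multiplicative.ofAdd (Additive.ofMul (QuotientGroup.mk g : G ⧸ frattini G)) = 1 ↔ _
    rw [← QuotientGroup.eq_one_iff (N := frattini G)]
    exact Iff.rfl

end Cfsg.Agent.Helper59.VL
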