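import Cfsg.Agent.Helper39.C320.Conc

/-!
# Helper59: piece (C3) `card_closure_ge` of helper39's S1903 plan

`H = closure {X0, A0}` fixes the point `6` and is transitive on the other 64 isotropic points, so
`64 ∣ |H|`; `X0 ∈ H` has order 5, so `320 ∣ |H|`.
-/

set_option autoImplicit false

namespace Cfsg.Agent.Helper59.C320

open Cfsg.Agent.Helper39.U34 Cfsg.Agent.Helper23.U34E Cfsg.Agent.Helper39.C320

/-- the permutation of the points induced by `X0` -/
def x0Tab : List ℕ :=
  [2, 4, 1, 0, 3, 5, 6, 7, 8, 9, 53, 48, 49, 50, 51, 52, 36, 37, 38, 39, 40, 26, 27, 28, 29, 30,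
   42, 43, 44, 45, 46, 59, 60, 61, 62, 63, 11, 12, 13, 14, 15, 47, 31, 32, 33, 34, 35, 10, 54, 55,
   56, 57, 58, 64, 16, 17, 18, 19, 20, 21, 22, 23, 24, 25, 41]

/-- the permutation of the points induced by `A0` -/
def a0Tab : List ℕ :=
  [15, 7, 36, 21, 45, 37, 6, 10, 35, 1, 9, 63, 11, 38, 32, 41, 14, 29, 3, 17, 23, 64, 12, 61, 27,
   58, 13, 57, 0, 46, 31, 55, 34, 25, 16, 5, 47, 8, 42, 4, 20, 28, 26, 44, 54, 53, 19, 60, 24, 33,
   30, 59, 43, 39, 52, 50, 51, 48, 49, 62, 2, 40, 56, 22, 18]

/-- for each point `i ≠ 6` a word (base-3 digits, lowest first: `1 = X0`, `2 = A0`) taking the point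
`0` to `i` -/
def wordTab : List ℕ :=
  [0, 4, 1, 40, 13, 17215, 0, 22, 5495, 238, 76, 16, 718, 1903, 2092, 2, 634, 392, 2146, 6280, 41,
   202, 232, 203, 205, 151, 445, 691, 26, 448, 394, 1852, 50, 230, 148, 4093, 7, 1121, 6277, 715,
   122, 8, 1174, 23, 77, 67, 1906, 25, 43, 68, 635, 6223, 5, 229, 124, 149, 1849, 2149, 14, 4039,
   79, 689, 391, 70, 688]

/-- `X0` on point numbers -/
def xN (n : ℕ) : ℕ := x0Tab.getD n 0

/-- `A0` on point numbers -/
def aN (n : ℕ) : ℕ := a0Tab.getD n 0

set_option maxRecDepth 100000 in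
theorem act_X0 (i : Fin 65) : (act X0 i).1 = xN i.1 := by
  unfold act xN
  rw [mat_X0]
  revert i
  decide +kernel

set_option maxRecDepth 100000 in
theorem act_A0 (i : Fin 65) : (act A0 i).1 = aN i.1 := by
  unfold act aN
  rw [mat_A0]
  revert i
  decide +kernel

/-- run a word on a point number (with fuel) -/
def run : ℕ → ℕ → ℕ → ℕ
  | 0, _, i => i
  | f + 1, n, i => if n = 0 then i else run f (n / 3) (if n % 3 = 1 then xN i else aN i)

/-- the group element of a word (with fuel) -/
def wordElt : ℕ → ℕ → G0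
  | 0, _ => 1
  | f + 1, n => if n = 0 then 1 else wordElt f (n / 3) * (if n % 3 = 1 then X0 else A0)

theorem act_wordElt (f : ℕ) : ∀ (n : ℕ) (i : Fin 65), (act (wordElt f n) i).1 = run f n i.1 := by
  induction f with
  | zero => intro n i; simp only [wordElt, run, act_one]
  | succ f ih =>
    intro n i
    by_cases hn : n = 0
    · simp only [wordElt, run, hn, if_true, act_one]
    · simp only [wordElt, run, hn, if_false]
      rw [act_mul, ih]
      by_cases h3 : n % 3 = 1
      · simp only [h3, if_true, act_X0]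
      · simp only [h3, if_false, act_A0]

theorem wordElt_mem (f : ℕ) : ∀ n : ℕ, wordElt f n ∈ Subgroup.closure ({X0, A0} : Set G0) := by
  induction f with
  | zero => intro n; exact Subgroup.one_mem _
  | succ f ih =>
    intro n
    by_cases hn : n = 0
    · simp only [wordElt, hn, if_true]; exact Subgroup.one_mem _
    · simp only [wordElt, hn, if_false]
      refine Subgroup.mul_mem _ (ih _) ?_
      by_cases h3 : n % 3 = 1
      · simp only [h3, if_true]; exact Subgroup.subset_closure (Set.mem_insert _ _)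
      · simp only [h3, if_false]
        exact Subgroup.subset_closure (Set.mem_insert_of_mem _ rfl)

theorem check3 : ∀ i : Fin 65, i.1 ≠ 6 → run 12 (wordTab.getD i.1 0) 0 = i.1 := by
  decide +kernel

/-- the action of `G0` on the points as a `MulAction` -/
@[reducible] def actMulAction : MulAction G0 (Fin 65) where
  smul g i := act g i
  one_smul := act_one
  mul_smul := act_mul

theorem closure_le_Stab : Subgroup.closure ({X0, A0} : Set G0) ≤ Stab := by
  rw [Subgroup.closure_le]
  intro g hg
  rcases hg with rfl | hg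
  · exact Fin.ext (by rw [act_X0]; rfl)
  · rw [Set.mem_singleton_iff] at hg
    subst hg
    exact Fin.ext (by rw [act_A0]; rfl)

theorem X0_pow_five : X0 ^ 5 = 1 := by
  rw [pow_eq_one_iff, mat_X0]
  decide +kernel

theorem X0_ne_one : X0 ≠ 1 := by
  intro e
  have := congrArg mat e
  rw [mat_X0, Cfsg.Agent.Helper39.U34.mat_one] at this
  revert this
  decide +kernel

/-- (C3) 320 distinct elements -/
theorem card_closure_ge : 320 ≤ Nat.card (Subgroup.closure ({X0, A0} : Set G0)) := by
  let _ : MulAction G0 (Fin 65) := actMulAction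
  set H : Subgroup G0 := Subgroup.closure ({X0, A0} : Set G0) with hH
  have hsm : ∀ (g : G0) (i : Fin 65), g • i = act g i := fun _ _ => rfl
  -- the orbit of `0`
  have horb : MulAction.orbit H (0 : Fin 65) = ↑(Finset.univ.erase (6 : Fin 65)) := by
    ext i
    simp only [Finset.coe_erase, Finset.coe_univ, Set.mem_sdiff, Set.mem_univ,
      Set.mem_singleton_iff, true_and]
    constructor
    · rintro ⟨⟨h, hh⟩, rfl⟩ h6
      have h1 : act h 6 = 6 := closure_le_Stab hh
      have h2 : act h 0 = 6 := h6
      have h3 : act h (0 : Fin 65) = act h 6 := by rw [h1, h2]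
      have h4 : (0 : Fin 65) = 6 := by
        have := congrArg (act h⁻¹) h3
        rwa [← act_mul, ← act_mul, inv_mul_cancel, act_one, act_one] at this
      exact absurd h4 (by decide)
    · intro h6
      have h6' : i.1 ≠ 6 := fun h => h6 (Fin.ext h)
      refine ⟨⟨wordElt 12 (wordTab.getD i.1 0), wordElt_mem _ _⟩, ?_⟩
      show act (wordElt 12 (wordTab.getD i.1 0)) 0 = i
      exact Fin.ext (by rw [act_wordElt]; exact check3 i h6')
  have h64 : 64 ∣ Nat.card H := by
    have h1 : (MulAction.stabilizer H (0 : Fin 65)).index = 64 := by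
      rw [MulAction.index_stabilizer, horb, Set.ncard_coe_finset,
        Finset.card_erase_of_mem (Finset.mem_univ _), Finset.card_univ, Fintype.card_fin]
    rw [← h1]
    exact Subgroup.index_dvd_card _
  have h5 : 5 ∣ Nat.card H := by
    have hmem : X0 ∈ H := Subgroup.subset_closure (Set.mem_insert _ _)
    have : Fact (Nat.Prime 5) := ⟨by norm_num⟩
    have ho : orderOf X0 = 5 := orderOf_eq_prime X0_pow_five X0_ne_one
    have h1 : orderOf (⟨X0, hmem⟩ : H) = 5 := by rw [Subgroup.orderOf_mk, ho]
    rw [← h1]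
    exact orderOf_dvd_natCard _
  have h320 : 320 ∣ Nat.card H :=
    Nat.Coprime.mul_dvd_of_dvd_of_dvd (by norm_num : Nat.Coprime 64 5) h64 h5
  exact Nat.le_of_dvd Nat.card_pos h320

end Cfsg.Agent.Helper59.C320
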