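import Cfsg.Agent.Helper39.C320.Conc

/-!
# Helper59: piece (C4) `exists_act_eq` of helper39's S1903 plan

`SU_3(4)` is transitive on the 65 isotropic points: every point is
`X13 ^ m * Z10 * X13 ^ k` applied to the point `6`, checked on the permutation tables.
-/

set_option autoImplicit false

namespace Cfsg.Agent.Helper59.C320

open Cfsg.Agent.Helper39.U34 Cfsg.Agent.Helper23.U34E Cfsg.Agent.Helper39.C320

/-- the permutation of the points induced by `Z10` -/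
def z10Tab : List ℕ :=
  [47, 53, 10, 41, 64, 8, 6, 9, 5, 7, 4, 27, 25, 31, 62, 44, 60, 35, 26, 45, 23, 38, 48, 15, 19,
   55, 13, 54, 52, 39, 17, 56, 36, 20, 51, 12, 22, 63, 42, 34, 28, 2, 50, 16, 58, 14, 37, 1, 43,
   30, 59, 24, 33, 3, 32, 46, 21, 29, 61, 18, 11, 40, 57, 49, 0]

/-- exponents `k`: the point `i` is `X13 ^ m * Z10 * X13 ^ k` applied to `6` -/
def kTab : List ℕ :=
  [7, 2, 2, 7, 3, 4, 0, 2, 0, 2, 0, 7, 4, 4, 7, 0, 7, 3, 0, 7, 3, 2, 4, 2, 4, 7, 0, 2, 2, 3, 0, 2,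
   7, 7, 2, 3, 0, 2, 4, 0, 2, 4, 0, 4, 7, 4, 7, 4, 0, 3, 3, 4, 0, 3, 3, 4, 3, 4, 2, 7, 7, 3, 3, 0,
   3]

/-- exponents `m` -/
def mTab : List ℕ :=
  [5, 12, 3, 3, 0, 0, 0, 8, 4, 2, 3, 7, 7, 9, 12, 10, 10, 2, 1, 4, 4, 1, 5, 11, 10, 9, 8, 5, 7, 5,
   11, 9, 2, 0, 0, 10, 6, 10, 2, 2, 4, 4, 9, 8, 11, 6, 6, 11, 12, 3, 7, 1, 7, 9, 11, 3, 12, 12, 6,
   8, 1, 8, 6, 5, 1]

/-- `X13` on point numbers -/
def sN (n : ℕ) : ℕ := sigTab.getD n 0

/-- `Z10` on point numbers -/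
def zN (n : ℕ) : ℕ := z10Tab.getD n 0

set_option maxRecDepth 100000 in
theorem act_Z10 (i : Fin 65) : (act Z10 i).1 = zN i.1 := by
  unfold act zN
  rw [mat_Z10]
  revert i
  decide +kernel

theorem act_X13 (i : Fin 65) : (act X13 i).1 = sN i.1 := act_m13 X13 mat_X13 i

theorem act_X13_pow (k : ℕ) (i : Fin 65) : (act (X13 ^ k) i).1 = sN^[k] i.1 := by
  induction k with
  | zero => rw [pow_zero, act_one]; rfl
  | succ k ih => rw [pow_succ', act_mul, act_X13, ih, Function.iterate_succ_apply']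

theorem check4 : ∀ i : Fin 65, sN^[mTab.getD i.1 0] (zN (sN^[kTab.getD i.1 0] 6)) = i.1 := by
  decide +kernel

/-- (C4) transitivity on the 65 points -/
theorem exists_act_eq : ∀ i : Fin 65, ∃ g : G0, act g 6 = i := by
  intro i
  refine ⟨X13 ^ (mTab.getD i.1 0) * Z10 * X13 ^ (kTab.getD i.1 0), Fin.ext ?_⟩
  rw [mul_assoc, act_mul, act_X13_pow, act_mul, act_Z10, act_X13_pow]
  exact check4 i

end Cfsg.Agent.Helper59.C320
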