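import Cfsg.Agent.Helper39.X648.Conc

/-!
# (K2) of helper39's S3366 farm (#11032): the relations hold for the matrices
-/

set_option autoImplicit false

namespace Cfsg.Agent.Helper59.X648

open Matrix Cfsg.Agent.Helper39.X648

/-- (K2) the relations hold for the matrices -/
theorem rel_conc : Rel gR1 gR2 gI gJ gD where
  r1_3 := Subtype.ext (by decide +kernel)
  r2_3 := Subtype.ext (by decide +kernel)
  c_3 := Subtype.ext (by decide +kernel)
  c_r1 := Subtype.ext (by decide +kernel)
  c_r2 := Subtype.ext (by decide +kernel)
  c_i := Subtype.ext (by decide +kernel)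
  c_j := Subtype.ext (by decide +kernel)
  c_d := Subtype.ext (by decide +kernel)
  i_4 := Subtype.ext (by decide +kernel)
  j_sq := Subtype.ext (by decide +kernel)
  j_i := Subtype.ext (by decide +kernel)
  d_3 := Subtype.ext (by decide +kernel)
  i_r1 := Subtype.ext (by decide +kernel)
  i_r2 := Subtype.ext (by decide +kernel)
  j_r1 := Subtype.ext (by decide +kernel)
  j_r2 := Subtype.ext (by decide +kernel)
  d_r1 := Subtype.ext (by decide +kernel)
  d_r2 := Subtype.ext (by decide +kernel)
  d_i := Subtype.ext (by decide +kernel)
  d_j := Subtype.ext (by decide +kernel)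

end Cfsg.Agent.Helper59.X648
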