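import Cfsg.Agent.Helper39.X648.Conc

/-!
# (K3) of helper39's S3366 farm (#11032): the matrices generate at least 648 elements

`f(a,b,e,k,l,m) = c^a r1^b r2^e · i^k j^l d^m` is injective: `i, j, d` fix `v0 = e_{inr 0}`, the
27 vectors `c^a r1^b r2^e v0` are distinct and the 24 matrices `i^k j^l d^m` are distinct.
-/

set_option autoImplicit false

namespace Cfsg.Agent.Helper59.X648

open Matrix Cfsg.Agent.Helper39.X648

/-- the vector fixed by `i, j, d` -/
def v0 : I4 → ZMod 3 := Pi.single (Sum.inr 0) 1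

/-- a vector as a number -/
def vcode (v : I4 → ZMod 3) : ℕ :=
  (v (Sum.inl 0)).val + 3 * (v (Sum.inl 1)).val + 9 * (v (Sum.inr 0)).val +
    27 * (v (Sum.inr 1)).val

/-- a matrix as a number -/
def mcode (A : Matrix I4 I4 (ZMod 3)) : ℕ :=
  vcode (A (Sum.inl 0)) + 81 * vcode (A (Sum.inl 1)) + 6561 * vcode (A (Sum.inr 0)) +
    531441 * vcode (A (Sum.inr 1))

theorem vcode_injective : Function.Injective vcode := by
  intro v w h
  unfold vcode at h
  have h0 := ZMod.val_lt (v (Sum.inl 0))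
  have h1 := ZMod.val_lt (v (Sum.inl 1))
  have h2 := ZMod.val_lt (v (Sum.inr 0))
  have h3 := ZMod.val_lt (v (Sum.inr 1))
  have k0 := ZMod.val_lt (w (Sum.inl 0))
  have k1 := ZMod.val_lt (w (Sum.inl 1))
  have k2 := ZMod.val_lt (w (Sum.inr 0))
  have k3 := ZMod.val_lt (w (Sum.inr 1))
  funext x
  apply ZMod.val_injective 3
  rcases x with x | x <;> fin_cases x <;> simp <;> omega

theorem vcode_lt (v : I4 → ZMod 3) : vcode v < 81 := by
  unfold vcode
  have h0 := ZMod.val_lt (v (Sum.inl 0))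
  have h1 := ZMod.val_lt (v (Sum.inl 1))
  have h2 := ZMod.val_lt (v (Sum.inr 0))
  have h3 := ZMod.val_lt (v (Sum.inr 1))
  omega

theorem mcode_injective : Function.Injective mcode := by
  intro A B h
  unfold mcode at h
  have a0 := vcode_lt (A (Sum.inl 0))
  have a1 := vcode_lt (A (Sum.inl 1))
  have a2 := vcode_lt (A (Sum.inr 0))
  have a3 := vcode_lt (A (Sum.inr 1))
  have b0 := vcode_lt (B (Sum.inl 0))
  have b1 := vcode_lt (B (Sum.inl 1))
  have b2 := vcode_lt (B (Sum.inr 0))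
  have b3 := vcode_lt (B (Sum.inr 1))
  funext x
  apply vcode_injective
  rcases x with x | x <;> fin_cases x <;> simp <;> omega

/-- the `3`-part -/
def elN (t : Fin 3 × Fin 3 × Fin 3) : Sp3 :=
  cm gR1 gR2 ^ t.1.1 * gR1 ^ t.2.1.1 * gR2 ^ t.2.2.1

/-- the `SL_2(3)`-part -/
def elK (s : Fin 4 × Fin 2 × Fin 3) : Sp3 :=
  gI ^ s.1.1 * gJ ^ s.2.1.1 * gD ^ s.2.2.1

def tabN : List ℕ :=
  [9, 63, 36, 15, 70, 44, 12, 68, 40, 11, 65, 38, 17, 69, 43, 14, 67, 39, 10, 64, 37, 16, 71, 42,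
   13, 66, 41]

def tabK : List ℕ :=
  [14408200, 14410387, 14412574, 30353617, 1657990, 16002523, 1657747, 16006654, 30355561,
   16004953, 30351673, 1658233, 28757350, 28761724, 28759537, 17601463, 3250369, 31945996, 3249883,
   31947697, 17598790, 31950127, 17596846, 3250126]

theorem elK_fix : ∀ s : Fin 4 × Fin 2 × Fin 3,
    (elK s : Matrix I4 I4 (ZMod 3)) *ᵥ v0 = v0 := by
  decide +kernel

theorem elN_tab : ∀ t : Fin 3 × Fin 3 × Fin 3,
    vcode ((elN t : Matrix I4 I4 (ZMod 3)) *ᵥ v0) = tabN.getD (9 * t.1.1 + 3 * t.2.1.1 + t.2.2.1) 0 := by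
  decide +kernel

theorem elK_tab : ∀ s : Fin 4 × Fin 2 × Fin 3,
    mcode (elK s : Matrix I4 I4 (ZMod 3)) = tabK.getD (6 * s.1.1 + 3 * s.2.1.1 + s.2.2.1) 0 := by
  decide +kernel

theorem tabN_inj : ∀ i j : Fin 27, tabN.getD i.1 0 = tabN.getD j.1 0 → i = j := by
  decide +kernel

theorem tabK_inj : ∀ i j : Fin 24, tabK.getD i.1 0 = tabK.getD j.1 0 → i = j := by
  decide +kernel

theorem elN_inj (t t' : Fin 3 × Fin 3 × Fin 3)
    (h : (elN t : Matrix I4 I4 (ZMod 3)) *ᵥ v0 = (elN t' : Matrix I4 I4 (ZMod 3)) *ᵥ v0) :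
    t = t' := by
  have h1 := congrArg vcode h
  rw [elN_tab, elN_tab] at h1
  obtain ⟨a, b, e⟩ := t
  obtain ⟨a', b', e'⟩ := t'
  have ha := a.2
  have hb := b.2
  have he := e.2
  have ha' := a'.2
  have hb' := b'.2
  have he' := e'.2
  have h2 := tabN_inj ⟨9 * a.1 + 3 * b.1 + e.1, by omega⟩ ⟨9 * a'.1 + 3 * b'.1 + e'.1, by omega⟩ h1
  have h3 : 9 * a.1 + 3 * b.1 + e.1 = 9 * a'.1 + 3 * b'.1 + e'.1 := congrArg Fin.val h2
  have e1 : a = a' := Fin.ext (by omega)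
  have e2 : b = b' := Fin.ext (by omega)
  have e3 : e = e' := Fin.ext (by omega)
  rw [e1, e2, e3]

theorem elK_inj (s s' : Fin 4 × Fin 2 × Fin 3) (h : elK s = elK s') : s = s' := by
  have h1 := congrArg (fun g : Sp3 => mcode (g : Matrix I4 I4 (ZMod 3))) h
  simp only [elK_tab] at h1
  obtain ⟨a, b, e⟩ := s
  obtain ⟨a', b', e'⟩ := s'
  have ha := a.2
  have hb := b.2
  have he := e.2
  have ha' := a'.2
  have hb' := b'.2
  have he' := e'.2
  have h2 := tabK_inj ⟨6 * a.1 + 3 * b.1 + e.1, by omega⟩ ⟨6 * a'.1 + 3 * b'.1 + e'.1, by omega⟩ h1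
  have h3 : 6 * a.1 + 3 * b.1 + e.1 = 6 * a'.1 + 3 * b'.1 + e'.1 := congrArg Fin.val h2
  have e1 : a = a' := Fin.ext (by omega)
  have e2 : b = b' := Fin.ext (by omega)
  have e3 : e = e' := Fin.ext (by omega)
  rw [e1, e2, e3]

theorem elN_mem (t : Fin 3 × Fin 3 × Fin 3) :
    elN t ∈ Subgroup.closure ({gR1, gR2, gI, gJ, gD} : Set Sp3) := by
  have h1 : gR1 ∈ Subgroup.closure ({gR1, gR2, gI, gJ, gD} : Set Sp3) :=
    Subgroup.subset_closure (by simp)
  have h2 : gR2 ∈ Subgroup.closure ({gR1, gR2, gI, gJ, gD} : Set Sp3) :=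
    Subgroup.subset_closure (by simp)
  unfold elN cm
  exact Subgroup.mul_mem _ (Subgroup.mul_mem _ (Subgroup.pow_mem _ (Subgroup.mul_mem _
    (Subgroup.mul_mem _ (Subgroup.mul_mem _ h1 h2) (Subgroup.inv_mem _ h1))
    (Subgroup.inv_mem _ h2)) _) (Subgroup.pow_mem _ h1 _)) (Subgroup.pow_mem _ h2 _)

theorem elK_mem (s : Fin 4 × Fin 2 × Fin 3) :
    elK s ∈ Subgroup.closure ({gR1, gR2, gI, gJ, gD} : Set Sp3) := by
  have h1 : gI ∈ Subgroup.closure ({gR1, gR2, gI, gJ, gD} : Set Sp3) :=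
    Subgroup.subset_closure (by simp)
  have h2 : gJ ∈ Subgroup.closure ({gR1, gR2, gI, gJ, gD} : Set Sp3) :=
    Subgroup.subset_closure (by simp)
  have h3 : gD ∈ Subgroup.closure ({gR1, gR2, gI, gJ, gD} : Set Sp3) :=
    Subgroup.subset_closure (by simp)
  unfold elK
  exact Subgroup.mul_mem _ (Subgroup.mul_mem _ (Subgroup.pow_mem _ h1 _) (Subgroup.pow_mem _ h2 _))
    (Subgroup.pow_mem _ h3 _)

/-- (K3) the matrices generate at least 648 elements -/
theorem card_closure_ge :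
    648 ≤ Nat.card ↥(Subgroup.closure ({gR1, gR2, gI, gJ, gD} : Set Sp3)) := by
  let f : (Fin 3 × Fin 3 × Fin 3) × (Fin 4 × Fin 2 × Fin 3) →
      ↥(Subgroup.closure ({gR1, gR2, gI, gJ, gD} : Set Sp3)) :=
    fun p => ⟨elN p.1 * elK p.2, Subgroup.mul_mem _ (elN_mem p.1) (elK_mem p.2)⟩
  have hf : Function.Injective f := by
    rintro ⟨t, s⟩ ⟨t', s'⟩ h
    have h1 : elN t * elK s = elN t' * elK s' := congrArg Subtype.val h
    have h2 := congrArg (fun g : Sp3 => (g : Matrix I4 I4 (ZMod 3)) *ᵥ v0) h1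
    have hmul : ∀ a b : Sp3, ((a * b : Sp3) : Matrix I4 I4 (ZMod 3)) *ᵥ v0
        = (a : Matrix I4 I4 (ZMod 3)) *ᵥ ((b : Matrix I4 I4 (ZMod 3)) *ᵥ v0) := by
      intro a b
      rw [Matrix.mulVec_mulVec]
      rfl
    simp only [hmul, elK_fix] at h2
    have ht : t = t' := elN_inj t t' h2
    subst ht
    have hs : s = s' := elK_inj s s' (mul_left_cancel h1)
    rw [hs]
  have hcard := Nat.card_le_card_of_injective f hf
  have h648 : Nat.card ((Fin 3 × Fin 3 × Fin 3) × (Fin 4 × Fin 2 × Fin 3)) = 648 := by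
    simp [Nat.card_eq_fintype_card]
  rw [h648] at hcard
  exact hcard

end Cfsg.Agent.Helper59.X648
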