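-- helper59: leaf (T6) `not_six` of helper42's S4385 (Goldschmidt dihedral lemma) farm #14513.
import Mathlib
import Cfsg.Agent.Helper42.GD.Core
import Cfsg.Agent.Helper50.Sims3_P5a
import Cfsg.Agent.Helper93.Glaub_GB1b

set_option autoImplicit false

universe u

namespace Cfsg.Agent.Helper59.GD

open Pointwise Cfsg Cfsg.Agent.Helper8.Sims3 Cfsg.Agent.Helper8.Glaub Cfsg.Agent.Helper42.GD
open Cfsg.Agent.Helper50.Sims3

section tower

variable {G : Type*} [Group G] [Finite G] {H P : Subgroup G} {h : G} {x : ℤ → G}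

omit [Finite G] in
/-- the `P5Data` of helper50's argument, from the tower with `t = 6` -/
theorem T6_data (T : Tow H P h 6 x) : P5Data x := by
  have hl : IsLam x 4 := T.lam_six
  have h1 : (1 : ℕ) ≤ 6 := by norm_num
  have hP1b : ∀ (a : ℤ) (d : ℕ), d + 2 ≤ 6 →
      x a * x (a + (d + 1 : ℕ)) * x a * x (a + (d + 1 : ℕ)) ∈ U x (a + 1) d := by
    intro a d hd
    have := Cfsg.Agent.Helper93.Glaub.ptower_comm_mem Nat.prime_two T.pt a d hd (x a)
      (x (a + (d + 1 : ℕ))) (Subgroup.mem_zpowers _) (Subgroup.mem_zpowers _)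
    rwa [T.inv h1, T.inv h1] at this
  exact
  { sq := T.sq h1
    cm := by
      intro i j h1 h2
      rcases le_total i j with hij | hij
      · have h3 := hl.comm i (j - i).toNat (by omega)
        rwa [show i + ((j - i).toNat : ℤ) = j by omega] at h3
      · have h3 := hl.comm j (i - j).toNat (by omega)
        rw [show j + ((i - j).toNat : ℤ) = i by omega] at h3
        exact h3.symm
    nc := by
      intro i j hj
      have h3 := hl.ncomm i
      rwa [show i + ((4 : ℕ) : ℤ) = j by rw [hj]; norm_num] at h3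
    hC := by
      intro i j hj
      have h3 := hP1b i 3 (by norm_num)
      rw [show i + ((3 + 1 : ℕ) : ℤ) = j by rw [hj]; norm_num] at h3
      unfold U at h3
      refine Subgroup.closure_mono ?_ h3
      rintro z ⟨k, ⟨hk1, hk2⟩, rfl⟩
      have hk : k = i + 1 ∨ k = i + 2 ∨ k = i + 3 := by
        push_cast at hk2
        omega
      rcases hk with rfl | rfl | rfl <;> simp
    hD := by
      intro i j hj
      have h3 := hP1b i 4 (by norm_num)
      rw [show i + ((4 + 1 : ℕ) : ℤ) = j by rw [hj]; norm_num] at h3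
      unfold U at h3
      refine Subgroup.closure_mono ?_ h3
      rintro z ⟨k, ⟨hk1, hk2⟩, rfl⟩
      have hk : k = i + 1 ∨ k = i + 2 ∨ k = i + 3 ∨ k = i + 4 := by
        push_cast at hk2
        omega
      rcases hk with rfl | rfl | rfl | rfl <;> simp }

/-- (T6) `t = 6` is impossible -/
theorem not_six (T : Tow H P h 6 x) : False := by
  have D : P5Data x := T6_data T
  have h1 : (1 : ℕ) ≤ 6 := by norm_num
  obtain ⟨N, hN⟩ : ∃ N : Subgroup G, N = Subgroup.closure (x '' Set.Icc 2 5) := ⟨_, rfl⟩
  have hnorm : ∀ k : ℤ, 0 ≤ k → k ≤ 7 → x k ∈ Subgroup.normalizer (N : Set G) := by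
    intro k hk0 hk7
    rw [hN]
    apply p5_mem_normalizer (D.sq k)
    rintro z ⟨m, ⟨hm2, hm5⟩, rfl⟩
    rcases le_or_gt k m with hkm | hkm
    · exact Subgroup.closure_mono (Set.image_mono (Set.Icc_subset_Icc (by omega) (by omega)))
        (p5_W D k m hkm (by omega))
    · have e : x k * x m * x k * x m = (x m * x k * x m * x k)⁻¹ := by
        have e' : (x m * x k * x m * x k)⁻¹ = (x k)⁻¹ * (x m)⁻¹ * (x k)⁻¹ * (x m)⁻¹ := by group
        rw [e', D.inv, D.inv]
      rw [e]
      exact inv_mem (Subgroup.closure_mono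
        (Set.image_mono (Set.Icc_subset_Icc (by omega) (by omega))) (p5_W D m k hkm.le (by omega)))
  have hNP : N ≤ P := by
    rw [← T.hP, hN]
    unfold U
    apply Subgroup.closure_mono
    apply Set.image_mono
    intro k hk
    rw [Set.mem_Icc] at hk
    rw [Set.mem_Ico]
    constructor
    · omega
    · push_cast
      omega
  have hH : H ≤ Subgroup.normalizer (N : Set G) := by
    rw [← T.hH, U_le_iff]
    intro k hk1 hk2
    push_cast at hk2
    exact hnorm k hk1 (by omega)
  have hH1 : MulAut.conj h • H ≤ Subgroup.normalizer (N : Set G) := by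
    rw [← T.hH1, U_le_iff]
    intro k hk1 hk2
    push_cast at hk2
    exact hnorm k (by omega) (by omega)
  have hbot := T.sw N hNP hH hH1
  have h2 : x 2 ∈ N := by
    rw [hN]
    exact Subgroup.subset_closure ⟨2, ⟨le_rfl, by norm_num⟩, rfl⟩
  rw [hbot, Subgroup.mem_bot] at h2
  exact T.ne_one h1 2 h2

end tower

end Cfsg.Agent.Helper59.GD
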