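import Mathlib

set_option autoImplicit false

namespace Cfsg.Agent.Helper59.StLL6

theorem exists_cube_ne_one {K : Type*} [Field K] [Fintype K] (h2 : Fintype.card K ≠ 2)
    (h4 : Fintype.card K ≠ 4) : ∃ a : K, a ≠ 0 ∧ a ^ 3 ≠ 1 := by
  classical
  by_contra hcon
  push Not at hcon
  obtain ⟨g, hg⟩ := IsCyclic.exists_generator (α := Kˣ)
  have hord : orderOf g = Fintype.card Kˣ := by
    rw [← Nat.card_eq_fintype_card]
    exact orderOf_eq_card_of_forall_mem_zpowers hg
  have hg3 : g ^ 3 = 1 := by
    apply Units.ext
    rw [Units.val_pow_eq_pow_val, Units.val_one]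
    exact hcon g g.ne_zero
  have hdvd : orderOf g ∣ 3 := orderOf_dvd_of_pow_eq_one hg3
  rw [hord, Fintype.card_units] at hdvd
  have hq : 1 < Fintype.card K := Fintype.one_lt_card
  have : Fintype.card K - 1 = 1 ∨ Fintype.card K - 1 = 3 :=
    (Nat.dvd_prime Nat.prime_three).mp hdvd
  omega

theorem subring_cubes_eq_top {K : Type*} [Field K] [Fintype K] (h4 : Fintype.card K ≠ 4)
    (S : Subring K) (hS : ∀ a : K, a ^ 3 ∈ S) : S = ⊤ := by
  classical
  set q := Fintype.card K with hq
  have hq1 : 1 < q := Fintype.one_lt_card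
  -- inverses
  have hinv : ∀ a ∈ S, a ≠ 0 → a⁻¹ ∈ S := by
    intro a ha ha0
    have h1 : a ^ (q - 1) = 1 := FiniteField.pow_card_sub_one_eq_one a ha0
    have h2 : a⁻¹ = a ^ (q - 2) := by
      apply inv_eq_of_mul_eq_one_right
      rw [← pow_succ']
      have : q - 2 + 1 = q - 1 := by omega
      rw [this, h1]
    rw [h2]
    exact Subring.pow_mem S ha _
  set T : Finset K := Finset.univ.filter (fun x => x ∈ S) with hT
  set s := T.card with hs
  have h0T : (0 : K) ∈ T := by rw [hT, Finset.mem_filter]; exact ⟨Finset.mem_univ _, S.zero_mem⟩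
  have h1T : (1 : K) ∈ T := by rw [hT, Finset.mem_filter]; exact ⟨Finset.mem_univ _, S.one_mem⟩
  have hs2 : 2 ≤ s := by
    have : ({0, 1} : Finset K) ⊆ T := by
      intro x hx
      simp only [Finset.mem_insert, Finset.mem_singleton] at hx
      rcases hx with rfl | rfl <;> assumption
    have h := Finset.card_le_card this
    rw [Finset.card_pair (zero_ne_one)] at h
    exact h
  -- additive Lagrange
  have hcardS : Nat.card S.toAddSubgroup = s := by
    rw [Nat.card_eq_fintype_card, hs, hT]
    exact Fintype.card_subtype _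
  have hlag : s ∣ q := by
    have := AddSubgroup.card_addSubgroup_dvd_card S.toAddSubgroup
    rw [hcardS, Nat.card_eq_fintype_card] at this
    exact this
  -- counting cubes
  have hcount : q - 1 ≤ 3 * (s - 1) := by
    set A : Finset K := Finset.univ.filter (fun x => x ≠ 0) with hA
    have hAcard : A.card = q - 1 := by
      rw [hA, Finset.filter_ne' Finset.univ (0 : K), Finset.card_erase_of_mem (Finset.mem_univ _),
        Finset.card_univ]
    have himg : A.image (fun x => x ^ 3) ⊆ T.erase 0 := by
      intro y hy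
      rw [Finset.mem_image] at hy
      obtain ⟨x, hx, rfl⟩ := hy
      rw [hA, Finset.mem_filter] at hx
      rw [Finset.mem_erase, hT, Finset.mem_filter]
      exact ⟨pow_ne_zero 3 hx.2, Finset.mem_univ _, hS x⟩
    have h1 : A.card ≤ 3 * (A.image (fun x => x ^ 3)).card := by
      apply Finset.card_le_mul_card_image
      intro b _
      calc (A.filter (fun x => x ^ 3 = b)).card
          ≤ (Polynomial.nthRoots 3 b).toFinset.card := by
            apply Finset.card_le_card
            intro x hx
            rw [Finset.mem_filter] at hx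
            rw [Multiset.mem_toFinset, Polynomial.mem_nthRoots (by norm_num)]
            exact hx.2
        _ ≤ Multiset.card (Polynomial.nthRoots 3 b) := Multiset.toFinset_card_le _
        _ ≤ 3 := Polynomial.card_nthRoots 3 b
    have h2 : (A.image (fun x => x ^ 3)).card ≤ s - 1 := by
      have := Finset.card_le_card himg
      rw [Finset.card_erase_of_mem h0T] at this
      exact this
    rw [← hAcard]
    calc A.card ≤ 3 * (A.image (fun x => x ^ 3)).card := h1
      _ ≤ 3 * (s - 1) := Nat.mul_le_mul_left 3 h2
  obtain ⟨k, hk⟩ := hlag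
  have hk2 : k = 1 ∨ k = 2 := by
    have hk0 : 0 < k := by
      rcases Nat.eq_zero_or_pos k with h | h
      · rw [h, mul_zero] at hk; omega
      · exact h
    by_contra hne
    have hk3 : 3 ≤ k := by omega
    have : s * 3 ≤ s * k := Nat.mul_le_mul_left s hk3
    omega
  have htop_of : s = q → S = ⊤ := by
    intro hsq
    have h1 : S.toAddSubgroup = ⊤ := by
      apply AddSubgroup.eq_top_of_card_eq
      rw [hcardS, Nat.card_eq_fintype_card, hsq]
    ext x
    simp only [Subring.mem_top, iff_true]
    have : x ∈ S.toAddSubgroup := by rw [h1]; trivial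
    exact this
  rcases hk2 with rfl | rfl
  · exact htop_of (by omega)
  · exfalso
    -- index two
    have hidx : S.toAddSubgroup.index = 2 := by
      have h1 := S.toAddSubgroup.card_mul_index
      rw [hcardS, Nat.card_eq_fintype_card, ← hq, hk] at h1
      have hs0 : 0 < s := by omega
      exact Nat.eq_of_mul_eq_mul_left hs0 h1
    rw [AddSubgroup.index_eq_two_iff] at hidx
    obtain ⟨x₀, hx₀⟩ := hidx
    have hx₀S : x₀ ∉ S := by
      have := hx₀ 0
      rw [zero_add] at this
      rcases this with ⟨h1, h2⟩ | ⟨h1, h2⟩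
      · exact absurd S.zero_mem h2
      · exact h2
    have hcoset : ∀ y, y ∉ S → y + x₀ ∈ S := by
      intro y hy
      rcases hx₀ y with ⟨h1, h2⟩ | ⟨h1, h2⟩
      · exact h1
      · exact absurd h1 hy
    have hmul : ∀ a ∈ S, a ≠ 0 → a * x₀ ∉ S := by
      intro a ha ha0 h
      apply hx₀S
      have := S.mul_mem (hinv a ha ha0) h
      rwa [← mul_assoc, inv_mul_cancel₀ ha0, one_mul] at this
    have hsmall : ∀ a ∈ S, a = 0 ∨ a = -1 := by
      intro a ha
      by_contra hne
      push Not at hne
      have h1 := hcoset _ (hmul a ha hne.1)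
      have h2 : a * x₀ + x₀ = (a + 1) * x₀ := by ring
      rw [h2] at h1
      have h3 : a + 1 ≠ 0 := by
        intro h
        exact hne.2 (eq_neg_of_add_eq_zero_left h)
      exact hmul (a + 1) (S.add_mem ha S.one_mem) h3 h1
    have hTsub : T ⊆ {0, -1} := by
      intro x hx
      rw [hT, Finset.mem_filter] at hx
      simp only [Finset.mem_insert, Finset.mem_singleton]
      exact hsmall x hx.2
    have : s ≤ 2 := (Finset.card_le_card hTsub).trans Finset.card_le_two
    omega

end Cfsg.Agent.Helper59.StLL6
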