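-- helper59: leaf (ASM) `sup_inf_ker_eq_bot` of helper43's S2089 block R round 2 (#14581).
import Cfsg.Agent.Helper43.PsuM.RDefs

set_option autoImplicit false

namespace Cfsg.Agent.Helper59.PsuM

open scoped commutatorElement
open Cfsg.Agent.Helper43.PsuM

universe u

section central

variable {Γ G : Type u} [Group Γ] [Group G] [Finite Γ] (τ : Γ →* G) (hτ : Function.Surjective τ)
  (hc : τ.ker ≤ Subgroup.center Γ)

include hτ hc

omit [Finite Γ] hτ hc in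
/-- if `W` normalises `C`, every element of `C ⊔ W` is a product `c * w` -/
theorem ASM_mem_sup (C W : Subgroup Γ) (hWC : ∀ w ∈ W, ∀ c ∈ C, w * c * w⁻¹ ∈ C) {x : Γ}
    (hx : x ∈ C ⊔ W) : ∃ c ∈ C, ∃ w ∈ W, x = c * w := by
  have hsup : C ⊔ W = Subgroup.closure ((C : Set Γ) ∪ (W : Set Γ)) := by
    rw [Subgroup.closure_union, Subgroup.closure_eq, Subgroup.closure_eq]
  rw [hsup] at hx
  induction hx using Subgroup.closure_induction with
  | mem z hz =>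
    rcases hz with hz | hz
    · exact ⟨z, hz, 1, one_mem _, (mul_one z).symm⟩
    · exact ⟨1, one_mem _, z, hz, (one_mul z).symm⟩
  | one => exact ⟨1, one_mem _, 1, one_mem _, (mul_one 1).symm⟩
  | mul a b _ _ iha ihb =>
    obtain ⟨c1, hc1, w1, hw1, rfl⟩ := iha
    obtain ⟨c2, hc2, w2, hw2, rfl⟩ := ihb
    refine ⟨c1 * (w1 * c2 * w1⁻¹), mul_mem hc1 (hWC w1 hw1 c2 hc2), w1 * w2, mul_mem hw1 hw2, ?_⟩
    group
  | inv a _ iha =>
    obtain ⟨c1, hc1, w1, hw1, rfl⟩ := iha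
    refine ⟨w1⁻¹ * c1⁻¹ * w1⁻¹⁻¹, hWC w1⁻¹ (inv_mem hw1) c1⁻¹ (inv_mem hc1), w1⁻¹, inv_mem hw1, ?_⟩
    group

omit [Finite Γ] hτ hc in
/-- (ASM) assembling: if `W` normalises `C`, both meet the kernel trivially and their images meet
trivially, then `C ⊔ W` meets the kernel trivially. -/
theorem sup_inf_ker_eq_bot (C W : Subgroup Γ) (hWC : ∀ w ∈ W, ∀ c ∈ C, w * c * w⁻¹ ∈ C)
    (hC : C ⊓ τ.ker = ⊥) (hW : W ⊓ τ.ker = ⊥) (hCW : C.map τ ⊓ W.map τ = ⊥) :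
    (C ⊔ W) ⊓ τ.ker = ⊥ := by
  rw [eq_bot_iff]
  intro x hx
  rw [Subgroup.mem_bot]
  obtain ⟨hx1, hx2⟩ := Subgroup.mem_inf.mp hx
  obtain ⟨c, hcC, w, hwW, rfl⟩ := ASM_mem_sup C W hWC hx1
  rw [MonoidHom.mem_ker, map_mul] at hx2
  have hcw : τ c = (τ w)⁻¹ := eq_inv_of_mul_eq_one_left hx2
  have h1 : τ c ∈ C.map τ ⊓ W.map τ := by
    refine Subgroup.mem_inf.mpr ⟨Subgroup.mem_map_of_mem τ hcC, ?_⟩
    rw [hcw]
    exact inv_mem (Subgroup.mem_map_of_mem τ hwW)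
  rw [hCW, Subgroup.mem_bot] at h1
  have hw1 : τ w = 1 := by
    rw [h1, one_mul] at hx2
    exact hx2
  have hc1 : c = 1 := by
    have : c ∈ C ⊓ τ.ker := Subgroup.mem_inf.mpr ⟨hcC, MonoidHom.mem_ker.mpr h1⟩
    rwa [hC, Subgroup.mem_bot] at this
  have hw1' : w = 1 := by
    have : w ∈ W ⊓ τ.ker := Subgroup.mem_inf.mpr ⟨hwW, MonoidHom.mem_ker.mpr hw1⟩
    rwa [hW, Subgroup.mem_bot] at this
  rw [hc1, hw1', mul_one]

end central

end Cfsg.Agent.Helper59.PsuM
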