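-- helper59: leaf (CPLG) `comm_comap_inf_ker` of helper43's S2089 block R round 2 (#14581).
import Cfsg.Agent.Helper43.PsuM.RDefs

set_option autoImplicit false

namespace Cfsg.Agent.Helper59.PsuM

open scoped commutatorElement
open Cfsg.Agent.Helper43.PsuM

universe u

/-- an abelian quotient of `M` with kernel `D` (as `⁅M, M⁆ ≤ D`) -/
theorem CPLG_exists_quot {Γ : Type u} [Group Γ] (M D : Subgroup Γ) (hMM : ⁅M, M⁆ ≤ D) :
    ∃ (Q : Type u) (_ : CommGroup Q) (π : M →* Q), ∀ x : M, π x = 1 ↔ (x : Γ) ∈ D := by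
  have hcomm : commutator ↥M ≤ D.subgroupOf M := by
    rw [commutator_def, Subgroup.commutator_le]
    intro a _ b _
    rw [Subgroup.mem_subgroupOf]
    have : ((⁅a, b⁆ : M) : Γ) = ⁅(a : Γ), (b : Γ)⁆ := by
      simp [commutatorElement_def]
    rw [this]
    exact hMM (Subgroup.commutator_mem_commutator a.2 b.2)
  refine ⟨Abelianization ↥M ⧸ (D.subgroupOf M).map Abelianization.of, inferInstance,
    (QuotientGroup.mk' _).comp Abelianization.of, fun x => ?_⟩
  rw [MonoidHom.comp_apply, QuotientGroup.mk'_apply, QuotientGroup.eq_one_iff]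
  constructor
  · rintro ⟨d, hd, hdx⟩
    have h1 : d⁻¹ * x ∈ (Abelianization.of : ↥M →* Abelianization ↥M).ker := by
      rw [MonoidHom.mem_ker, map_mul, map_inv, hdx, inv_mul_cancel]
    rw [Abelianization.ker_of] at h1
    have h2 := hcomm h1
    have h3 : x ∈ D.subgroupOf M := by
      have : x = d * (d⁻¹ * x) := by group
      rw [this]
      exact mul_mem hd h2
    exact Subgroup.mem_subgroupOf.mp h3
  · intro hx
    exact ⟨x, Subgroup.mem_subgroupOf.mpr hx, rfl⟩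

/-- conjugation by `g` restricted to a subgroup it normalises -/
def CPLG_cj {Γ : Type u} [Group Γ] (M : Subgroup Γ) (g : Γ) (hg : ∀ x ∈ M, g * x * g⁻¹ ∈ M) :
    M →* M where
  toFun x := ⟨g * x * g⁻¹, hg x x.2⟩
  map_one' := by
    apply Subtype.ext
    show g * ((1 : M) : Γ) * g⁻¹ = 1
    simp
  map_mul' x y := by
    apply Subtype.ext
    show g * ((x * y : M) : Γ) * g⁻¹ = (g * x * g⁻¹) * (g * y * g⁻¹)
    rw [Subgroup.coe_mul]
    group

theorem CPLG_cj_coe {Γ : Type u} [Group Γ] (M : Subgroup Γ) (g : Γ)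
    (hg : ∀ x ∈ M, g * x * g⁻¹ ∈ M) (x : M) : ((CPLG_cj M g hg x : M) : Γ) = g * x * g⁻¹ := rfl

section central

variable {Γ G : Type u} [Group Γ] [Group G] [Finite Γ] (τ : Γ →* G) (hτ : Function.Surjective τ)
  (hc : τ.ker ≤ Subgroup.center Γ)

include hτ hc

omit [Finite Γ] hτ in
/-- conjugation by `g` depends only on `τ g` -/
theorem CPLG_conj_eq {g g' : Γ} (h : τ g = τ g') (x : Γ) : g * x * g⁻¹ = g' * x * g'⁻¹ := by
  have hz : g'⁻¹ * g ∈ Subgroup.center Γ := by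
    apply hc
    rw [MonoidHom.mem_ker, map_mul, map_inv, h, inv_mul_cancel]
  have hcomm : (g'⁻¹ * g) * x = x * (g'⁻¹ * g) := (Subgroup.mem_center_iff.mp hz x).symm
  calc g * x * g⁻¹ = g' * ((g'⁻¹ * g) * x) * g⁻¹ := by group
    _ = g' * (x * (g'⁻¹ * g)) * g⁻¹ := by rw [hcomm]
    _ = g' * x * g'⁻¹ := by group

/-- (CPLG) complement from the action of a group of order prime to the kernel. -/
theorem comm_comap_inf_ker (M D : Subgroup Γ) (T : Subgroup G) (hDM : D ≤ M)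
    (hMM : ⁅M, M⁆ ≤ D)
    (hTM : ∀ g : Γ, τ g ∈ T → ∀ x ∈ M, g * x * g⁻¹ ∈ M)
    (hTD : ∀ g : Γ, τ g ∈ T → ∀ x ∈ D, g * x * g⁻¹ ∈ D)
    (hcop : (Nat.card T).Coprime (Nat.card τ.ker)) (hD : D ⊓ τ.ker = ⊥) :
    (D ⊔ ⁅M, T.comap τ⁆) ⊓ τ.ker = ⊥ := by
  classical
  have : Finite G := Finite.of_surjective τ hτ
  have : Fintype T := Fintype.ofFinite T
  obtain ⟨Q, _, π, hπ⟩ := CPLG_exists_quot M D hMM
  choose s hs using hτ
  have hsT : ∀ t : T, ∀ x ∈ M, s t * x * (s t)⁻¹ ∈ M := fun t =>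
    hTM (s t) (by rw [hs]; exact t.2)
  -- the norm map
  obtain ⟨N, hN⟩ : ∃ N : M →* Q, ∀ x : M, N x = ∏ t : T, π (CPLG_cj M (s t) (hsT t) x) := by
    refine ⟨∏ t : T, π.comp (CPLG_cj M (s t) (hsT t)), fun x => ?_⟩
    rw [MonoidHom.finsetProd_apply]
    rfl
  -- `N` kills `D`
  have hND : ∀ x : M, (x : Γ) ∈ D → N x = 1 := by
    intro x hx
    rw [hN]
    apply Finset.prod_eq_one
    intro t _
    rw [hπ, CPLG_cj_coe]
    exact hTD (s t) (by rw [hs]; exact t.2) x hx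
  -- `N` is invariant under conjugation by the preimage of `T`
  have hNinv : ∀ (g : Γ) (hg : τ g ∈ T) (x : M), N (CPLG_cj M g (hTM g hg) x) = N x := by
    intro g hg x
    rw [hN, hN]
    apply Fintype.prod_equiv (Equiv.mulRight (⟨τ g, hg⟩ : T))
    intro t
    congr 1
    apply Subtype.ext
    rw [CPLG_cj_coe, CPLG_cj_coe, CPLG_cj_coe]
    have h1 : s t * (g * (x : Γ) * g⁻¹) * (s t)⁻¹ = (s t * g) * (x : Γ) * (s t * g)⁻¹ := by group
    rw [h1]
    apply CPLG_conj_eq τ hc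
    rw [map_mul, hs, hs]
    rfl
  -- the kernel of `N` contains `D ⊔ ⁅M, T̂⁆`
  have hle : D ⊔ ⁅M, T.comap τ⁆ ≤ N.ker.map M.subtype := by
    apply sup_le
    · intro x hx
      exact ⟨⟨x, hDM hx⟩, MonoidHom.mem_ker.mpr (hND _ hx), rfl⟩
    · rw [Subgroup.commutator_le]
      intro x hx g hg
      rw [Subgroup.mem_comap] at hg
      refine ⟨⟨x, hx⟩ * CPLG_cj M g (hTM g hg) (⟨x, hx⟩⁻¹), ?_, ?_⟩
      · rw [SetLike.mem_coe, MonoidHom.mem_ker, map_mul, hNinv g hg, map_inv, mul_inv_cancel]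
      · show x * (g * x⁻¹ * g⁻¹) = ⁅x, g⁆
        rw [commutatorElement_def]
        group
  rw [eq_bot_iff]
  intro a ha
  rw [Subgroup.mem_bot]
  obtain ⟨ha1, ha2⟩ := Subgroup.mem_inf.mp ha
  obtain ⟨y, hy, hya⟩ := hle ha1
  have hya' : (y : Γ) = a := hya
  rw [SetLike.mem_coe, MonoidHom.mem_ker] at hy
  have hycen : ∀ g : Γ, g * (y : Γ) * g⁻¹ = y := by
    intro g
    rw [hya']
    have := Subgroup.mem_center_iff.mp (hc ha2) g
    rw [this, mul_inv_cancel_right]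
  have hNy : N y = π y ^ Fintype.card T := by
    rw [hN]
    have : ∀ t : T, π (CPLG_cj M (s t) (hsT t) y) = π y := by
      intro t
      congr 1
      apply Subtype.ext
      rw [CPLG_cj_coe]
      exact hycen _
    simp only [this]
    rw [Finset.prod_const, Finset.card_univ]
  rw [hNy, ← map_pow, hπ, Subgroup.coe_pow, hya'] at hy
  have h1 : a ^ Nat.card T = 1 := by
    have hmem : a ^ Fintype.card T ∈ D ⊓ τ.ker :=
      Subgroup.mem_inf.mpr ⟨hy, pow_mem ha2 _⟩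
    rw [hD, Subgroup.mem_bot] at hmem
    rw [Nat.card_eq_fintype_card]
    exact hmem
  have h2 : a ^ Nat.card τ.ker = 1 := by
    have := pow_card_eq_one' (G := τ.ker) (x := ⟨a, ha2⟩)
    exact congrArg Subtype.val this
  have h3 : a ^ Nat.gcd (Nat.card T) (Nat.card τ.ker) = 1 := pow_gcd_eq_one.mpr ⟨h1, h2⟩
  have hg1 : Nat.gcd (Nat.card T) (Nat.card τ.ker) = 1 := hcop
  rw [hg1, pow_one] at h3
  exact h3

end central

end Cfsg.Agent.Helper59.PsuM
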