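import Mathlib

/-!
# S6002 pieces (P3), (P5), (P7) for helper43: permutations of five points (helper59)
-/

set_option autoImplicit false
set_option maxRecDepth 100000
set_option maxHeartbeats 4000000

namespace Cfsg.Agent.Helper59.XS

/-- (P3) a permutation of five points with `σ ^ 3 = 1` has two fixed points -/
theorem perm_cube (σ : Equiv.Perm (Fin 5)) (h : σ ^ 3 = 1) :
    ∃ i j : Fin 5, i ≠ j ∧ σ i = i ∧ σ j = j := by
  revert σ
  decide

/-- (P5) a non-trivial permutation of five points with `σ ^ 5 = 1` is a 5-cycle -/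
theorem perm_five (σ : Equiv.Perm (Fin 5)) (h : σ ^ 5 = 1) (h1 : σ ≠ 1) :
    (∀ i, σ i ≠ i) ∧ ∀ i, σ (σ i) ≠ i := by
  revert σ
  decide

/-- (P7) a permutation of five points of order dividing a prime `r ≥ 7` is trivial -/
theorem perm_large (σ : Equiv.Perm (Fin 5)) (r : ℕ) (hr : r.Prime) (hr2 : r ≠ 2) (hr3 : r ≠ 3)
    (hr5 : r ≠ 5) (h : σ ^ r = 1) : σ = 1 := by
  have h1 : orderOf σ ∣ r := orderOf_dvd_of_pow_eq_one h
  rcases (Nat.dvd_prime hr).1 h1 with h1 | h1
  · exact orderOf_eq_one_iff.1 h1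
  · exfalso
    have h2 : orderOf σ ∣ Fintype.card (Equiv.Perm (Fin 5)) := orderOf_dvd_card
    rw [h1, Fintype.card_perm, Fintype.card_fin] at h2
    have h3 : r ∣ 2 ^ 3 * 3 * 5 := by
      have : Nat.factorial 5 = 2 ^ 3 * 3 * 5 := by decide
      rwa [this] at h2
    rcases (Nat.Prime.dvd_mul hr).1 h3 with h4 | h4
    · rcases (Nat.Prime.dvd_mul hr).1 h4 with h5 | h5
      · have := hr.dvd_of_dvd_pow h5
        exact hr2 ((Nat.prime_dvd_prime_iff_eq hr Nat.prime_two).1 this)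
      · exact hr3 ((Nat.prime_dvd_prime_iff_eq hr Nat.prime_three).1 h5)
    · exact hr5 ((Nat.prime_dvd_prime_iff_eq hr Nat.prime_five).1 h4)

end Cfsg.Agent.Helper59.XS
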