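import Mathlib
import Cfsg.Agent.Helper43.XS.Defs

/-!
# S6002 piece (X1) for helper43: the embedding of `2 × 2` matrices (helper59)

`embed2` here is a verbatim copy of the skeleton's definition (`rfl`-equal to it).
-/

set_option autoImplicit false
set_option linter.unusedSectionVars false
set_option linter.unusedVariables false

namespace Cfsg.Agent.Helper59.XS

open Matrix Cfsg Cfsg.Geo

variable {F : Type*} [Field F]

local notation "Mat" => Matrix (Fin 2 ⊕ Fin 2) (Fin 2 ⊕ Fin 2) F
local notation "GLn" => GL (Fin 2 ⊕ Fin 2) F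
local notation "Vec" => (Fin 2 ⊕ Fin 2 → F)

/-- the embedding of `2 × 2` matrices on the hyperbolic plane `⟨e₀, f₀⟩` -/
def embed2 (a b c d : F) : Mat :=
  Matrix.fromBlocks (Matrix.diagonal ![a, 1]) (Matrix.diagonal ![b, 0])
    (Matrix.diagonal ![c, 0]) (Matrix.diagonal ![d, 1])

/-- (X1) `embed2` is multiplicative, unital, and symplectic for determinant 1 -/
theorem embed2_mul (a b c d a' b' c' d' : F) :
    embed2 a b c d * embed2 a' b' c' d' =
      embed2 (a * a' + b * c') (a * b' + b * d') (c * a' + d * c') (c * b' + d * d') := by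
  unfold embed2
  rw [Matrix.fromBlocks_multiply]
  simp only [Matrix.diagonal_mul_diagonal, Matrix.diagonal_add]
  congr 1 <;> · congr 1; ext i; fin_cases i <;> simp

theorem embed2_one : embed2 (1 : F) 0 0 1 = 1 := by
  unfold embed2
  rw [← Matrix.fromBlocks_one]
  congr 1 <;> · ext i j; fin_cases i <;> fin_cases j <;> simp

theorem embed2_mem {g : GLn} {a b c d : F} (hg : (g : Mat) = embed2 a b c d)
    (hdet : a * d - b * c = 1) : g ∈ Cfsg.spGL 2 F := by
  rw [Cfsg.Agent.Helper13.mem_spGL_iff]
  apply (Cfsg.Agent.Helper13.mem_symplecticGroup_iff_preserves (g : Mat)).mp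
  rw [hg, SymplecticGroup.mem_iff]
  unfold embed2 Matrix.J
  rw [Matrix.fromBlocks_multiply, Matrix.fromBlocks_transpose, Matrix.fromBlocks_multiply]
  simp only [Matrix.diagonal_transpose, Matrix.mul_zero, Matrix.mul_one, Matrix.mul_neg,
    zero_add, add_zero, Matrix.diagonal_mul_diagonal]
  have h1 : d * a - c * b = 1 := by rw [← hdet]; ring
  have h2 : b * c - a * d = -1 := by rw [← hdet]; ring
  congr 1
  · ext i j; fin_cases i <;> fin_cases j <;> simp [mul_comm]
  · ext i j; fin_cases i <;> fin_cases j <;> simp [← sub_eq_add_neg, h2]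
  · ext i j; fin_cases i <;> fin_cases j <;> simp [← sub_eq_add_neg, h1]
  · ext i j; fin_cases i <;> fin_cases j <;> simp [mul_comm]

end Cfsg.Agent.Helper59.XS
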