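import Mathlib

/-!
# S0679 piece (DA) for helper54: the order of an even group of degree 11 divides `11!/2` (helper59)
-/

set_option autoImplicit false

namespace Cfsg.Agent.Helper59.D11

open Equiv MulAction

variable {α : Type*} [Fintype α] [DecidableEq α]

/-- (DA) -/
theorem card_dvd_of_even (hα : Fintype.card α = 11) (G : Subgroup (Perm α))
    (hev : ∀ g ∈ G, Perm.sign g = 1) : Nat.card G ∣ 19958400 := by
  haveI : Nontrivial α := Fintype.one_lt_card_iff_nontrivial.mp (by rw [hα]; norm_num)
  have hle : G ≤ alternatingGroup α := fun g hg => Perm.mem_alternatingGroup.mpr (hev g hg)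
  have h1 : Nat.card G ∣ Nat.card (alternatingGroup α) := Subgroup.card_dvd_of_le hle
  have h2 : Nat.card (alternatingGroup α) = 19958400 := by
    rw [nat_card_alternatingGroup, Nat.card_eq_fintype_card, hα]
    decide
  rwa [h2] at h1

end Cfsg.Agent.Helper59.D11
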