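import Cfsg.Agent.Helper74.A7Defs
import Cfsg.Agent.Helper79.CharComplete
import Cfsg.Agent.Helper79.PrincipalCrit
import Cfsg.Agent.Helper74.DefectZero
import Cfsg.Agent.Helper74.CharBasic
import Cfsg.Agent.S4441

/-!
# Helper59: piece (A1) of helper74's S0984 GLOBAL plan

The principal `p`-block of a group with Sylow `p`-subgroup of order `p`, in signed form at `g = 1`
(a restatement of `Cfsg.Agent.S4441.result` with `Finset`s and a single sign function).
-/

set_option autoImplicit false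

namespace Cfsg.Agent.Helper59.A7A1

open Cfsg Cfsg.Agent.Helper74.A7
open scoped ComplexConjugate

universe u

variable {G : Type u} [Group G]

/-- (A1) the principal `p`-block of a group with Sylow `p`-subgroup of order `p`, in signed form
at `g = 1` (from `Cfsg.Agent.S4441.result` = `Helper16.DefOne.principal_structure`):
`s = εX` on `X`, `s = -ε` on `Y` -/
theorem principal_block_signed [Fintype G] (p : ℕ) [Fact p.Prime] (hodd : p ≠ 2) (P : Sylow p G)
    (hP : Nat.card (P : Subgroup G) = p) (e : ℕ)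
    (he : (Subgroup.centralizer ((P : Subgroup G) : Set G)).relIndex
      (Subgroup.normalizer ((P : Subgroup G) : Set G)) = e) :
    ∃ (X Y : Finset (IrrCharacter G)) (s : IrrCharacter G → ℤ), Disjoint X Y ∧
      (Helper79.principalIrr G ∈ X ∨ Helper79.principalIrr G ∈ Y) ∧ X.card = e ∧ Y.card = (p - 1) / e ∧
      (∀ χ, s χ = 1 ∨ s χ = -1) ∧
      (∀ χ ∈ X, (charDegree (χ : G → ℂ) : ℤ) ≡ s χ [ZMOD p]) ∧
      (∀ θ ∈ Y, (charDegree (θ : G → ℂ) : ℤ) ≡ -(s θ * (e : ℤ)) [ZMOD p]) ∧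
      (∀ θ ∈ Y, ∀ θ' ∈ Y, charDegree (θ : G → ℂ) = charDegree (θ' : G → ℂ) ∧ s θ = s θ') ∧
      ∀ θ ∈ Y, ∑ χ ∈ X, s χ * (charDegree (χ : G → ℂ) : ℤ) +
        s θ * (charDegree (θ : G → ℂ) : ℤ) = 0 := by
  classical
  obtain ⟨M, hM⟩ := Helper74.exists_isPModular p Fact.out
  obtain ⟨X, Y, hXY, hdisj, hX, hY, εX, ε, hXs, hε, hYm, hYeq, hsum⟩ :=
    Cfsg.Agent.S4441.result p M hM hodd P hP e he
  have : Fintype (IrrCharacter G) := Helper74.irrFintype G
  have h1 : ¬ p ∣ orderOf (1 : G) := by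
    rw [orderOf_one, Nat.dvd_one]
    exact (Fact.out : p.Prime).ne_one
  set s : IrrCharacter G → ℤ := fun χ =>
    if χ ∈ Y then -ε else if εX χ = 1 ∨ εX χ = -1 then εX χ else 1 with hs
  have hsX : ∀ χ ∈ X, s χ = εX χ := by
    intro χ hχ
    have hnY : χ ∉ Y := fun hY' => (Set.disjoint_left.1 hdisj hχ hY')
    simp only [hs, if_neg hnY, if_pos (hXs χ hχ).1]
  have hsY : ∀ θ ∈ Y, s θ = -ε := by
    intro θ hθ
    simp only [hs, if_pos hθ]
  refine ⟨X.toFinset, Y.toFinset, s, Set.disjoint_toFinset.2 hdisj, ?_, ?_, ?_, ?_, ?_, ?_, ?_, ?_⟩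
  · have hmem : Helper79.principalIrr G ∈ principalBlock M G := Helper79.principalIrr_mem hM
    rw [hXY] at hmem
    rcases hmem with h | h
    · exact Or.inl (Set.mem_toFinset.2 h)
    · exact Or.inr (Set.mem_toFinset.2 h)
  · rw [Set.toFinset_card, ← Nat.card_eq_fintype_card, hX]
  · rw [Set.toFinset_card, ← Nat.card_eq_fintype_card, hY]
  · intro χ
    simp only [hs]
    split_ifs with h1 h2
    · rcases hε with h | h
      · right; rw [h]
      · left; rw [h]; norm_num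
    · exact h2
    · exact Or.inl rfl
  · intro χ hχ
    rw [Set.mem_toFinset] at hχ
    rw [hsX χ hχ]
    exact (hXs χ hχ).2.1
  · intro θ hθ
    rw [Set.mem_toFinset] at hθ
    rw [hsY θ hθ]
    have := hYm θ hθ
    rwa [neg_mul, neg_neg]
  · intro θ hθ θ' hθ'
    rw [Set.mem_toFinset] at hθ hθ'
    refine ⟨?_, by rw [hsY θ hθ, hsY θ' hθ']⟩
    have := hYeq θ hθ θ' hθ' 1 h1
    unfold charDegree
    rw [this]
  · intro θ hθ
    rw [Set.mem_toFinset] at hθ
    have h := hsum θ hθ 1 h1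
    rw [← Set.coe_toFinset X, finsum_mem_coe_finset] at h
    have h' : ε * (charDegree (θ : G → ℂ) : ℤ) =
        ∑ χ ∈ X.toFinset, εX χ * (charDegree (χ : G → ℂ) : ℤ) := by
      have hc : ((ε * (charDegree (θ : G → ℂ) : ℤ) : ℤ) : ℂ) =
          ((∑ χ ∈ X.toFinset, εX χ * (charDegree (χ : G → ℂ) : ℤ) : ℤ) : ℂ) := by
        push_cast
        rw [← Helper79.irr_one θ, h]
        refine Finset.sum_congr rfl fun χ _ => ?_
        rw [Helper79.irr_one χ]
      exact_mod_cast hc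
    have h'' : ∑ χ ∈ X.toFinset, s χ * (charDegree (χ : G → ℂ) : ℤ) =
        ∑ χ ∈ X.toFinset, εX χ * (charDegree (χ : G → ℂ) : ℤ) :=
      Finset.sum_congr rfl fun χ hχ => by rw [hsX χ (Set.mem_toFinset.1 hχ)]
    rw [h'', hsY θ hθ, ← h']
    ring

end Cfsg.Agent.Helper59.A7A1
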