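import Mathlib
import Cfsg.Agent.Helper71.Alp.Defs

/-!
# (Q6) for helper71 (S3782, Alperin): two lemmas on the power subgroups `pw`
-/

set_option autoImplicit false

namespace Cfsg.Agent.Helper59.Alp

open scoped commutatorElement
open Cfsg.Agent.Helper71.Alp

variable {G : Type*} [Group G]

/-- in a section `T / D` which is abelian, `m`-th powers multiply modulo `D` -/
theorem mul_pow_mem_of_commutator_le (T D : Subgroup G) (hDT : D ≤ T) (hTT : ⁅T, T⁆ ≤ D) (m : ℕ)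
    {x y : G} (hx : x ∈ T) (hy : y ∈ T) (hxm : x ^ m ∈ D) (hym : y ^ m ∈ D) :
    (x * y) ^ m ∈ D := by
  haveI hN : (D.subgroupOf T).Normal := by
    refine ⟨fun n hn g => ?_⟩
    rw [Subgroup.mem_subgroupOf] at hn ⊢
    have h1 : ⁅(g : G), (n : G)⁆ ∈ D := hTT (Subgroup.commutator_mem_commutator g.2 n.2)
    have h2 : ((g * n * g⁻¹ : ↥T) : G) = ⁅(g : G), (n : G)⁆ * n := by
      rw [commutatorElement_def]
      push_cast
      group
    rw [h2]
    exact D.mul_mem h1 hn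
  have key : ∀ z : ↥T, (QuotientGroup.mk' (D.subgroupOf T) z) ^ m = 1 ↔ (z : G) ^ m ∈ D := by
    intro z
    rw [← map_pow, QuotientGroup.mk'_apply, QuotientGroup.eq_one_iff, Subgroup.mem_subgroupOf,
      Subgroup.coe_pow]
  have hcomm : Commute (QuotientGroup.mk' (D.subgroupOf T) ⟨x, hx⟩)
      (QuotientGroup.mk' (D.subgroupOf T) ⟨y, hy⟩) := by
    have h1 : ⁅(⟨x, hx⟩ : ↥T), (⟨y, hy⟩ : ↥T)⁆ ∈ D.subgroupOf T := by
      rw [Subgroup.mem_subgroupOf]
      exact hTT (Subgroup.commutator_mem_commutator hx hy)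
    have h2 := (QuotientGroup.eq_one_iff (N := D.subgroupOf T) _).2 h1
    rw [← QuotientGroup.mk'_apply, map_commutatorElement, commutatorElement_eq_one_iff_commute]
      at h2
    exact h2
  have h3 := (key ⟨x * y, T.mul_mem hx hy⟩).1
  apply h3
  have e : (⟨x * y, T.mul_mem hx hy⟩ : ↥T) = ⟨x, hx⟩ * ⟨y, hy⟩ := rfl
  rw [e, map_mul, hcomm.mul_pow, (key ⟨x, hx⟩).2 hxm, (key ⟨y, hy⟩).2 hym, one_mul]

theorem pw_le (k : ℕ) (S T : Subgroup G) (h : S ≤ T) : pw k S ≤ T := by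
  unfold pw
  rw [Subgroup.closure_le]
  rintro _ ⟨x, hx, rfl⟩
  exact T.pow_mem (h hx) k

theorem pwIter_le_aux {p : ℕ} (T D : Subgroup G) (hDT : D ≤ T) (hTT : ⁅T, T⁆ ≤ D) (N : ℕ) :
    ∀ S : Subgroup G, S ≤ T → (∀ y ∈ S, y ^ p ^ N ∈ D) → (pw p)^[N] S ≤ D := by
  induction N with
  | zero =>
    intro S _ h y hy
    have := h y hy
    rwa [pow_zero, pow_one] at this
  | succ N ih =>
    intro S hST h
    rw [Function.iterate_succ_apply]
    apply ih (pw p S) (pw_le p S T hST)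
    intro z hz
    have : z ∈ T ∧ z ^ p ^ N ∈ D := by
      unfold pw at hz
      induction hz using Subgroup.closure_induction with
      | mem w hw =>
        obtain ⟨x, hx, rfl⟩ := hw
        refine ⟨T.pow_mem (hST hx) p, ?_⟩
        rw [← pow_mul, ← pow_succ']
        exact h x hx
      | one => exact ⟨T.one_mem, by rw [one_pow]; exact D.one_mem⟩
      | mul a b _ _ ha hb =>
        exact ⟨T.mul_mem ha.1 hb.1,
          mul_pow_mem_of_commutator_le T D hDT hTT _ ha.1 hb.1 ha.2 hb.2⟩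
      | inv a _ ha =>
        exact ⟨T.inv_mem ha.1, by rw [inv_pow]; exact D.inv_mem ha.2⟩
    exact this.2

theorem pwIter_le_of_pow_mem {p : ℕ} (T D : Subgroup G) (hDT : D ≤ T) (hTT : ⁅T, T⁆ ≤ D) (N : ℕ)
    (h : ∀ y ∈ T, y ^ p ^ N ∈ D) : (pw p)^[N] T ≤ D :=
  pwIter_le_aux T D hDT hTT N T le_rfl h

theorem eq_bot_of_le_pw [Finite G] {p : ℕ} (hp : p.Prime) (hG : IsPGroup p G) (X : Subgroup G)
    (h : X ≤ pw p X) : X = ⊥ := by
  by_contra hX
  haveI : Fact p.Prime := ⟨hp⟩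
  have hXp : IsPGroup p X := hG.to_subgroup X
  obtain ⟨n, hn⟩ := IsPGroup.iff_card.1 hXp
  have hn0 : n ≠ 0 := by
    rintro rfl
    rw [pow_zero] at hn
    exact hX (Subgroup.eq_bot_of_card_eq X hn)
  obtain ⟨m, rfl⟩ : ∃ m, n = m + 1 := ⟨n - 1, by omega⟩
  obtain ⟨K, hK⟩ := Sylow.exists_subgroup_card_pow_prime (G := ↥X) p (n := m)
    (by rw [hn]; exact pow_dvd_pow p (Nat.le_succ m))
  have hidx : K.index = p := by
    have h1 := Subgroup.card_mul_index K
    rw [hK, hn, pow_succ] at h1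
    exact Nat.eq_of_mul_eq_mul_left (pow_pos hp.pos m) h1
  haveI : K.Normal := Subgroup.normal_of_index_eq_minFac_card
    (by rw [hidx, hn, Nat.Prime.pow_minFac hp (Nat.succ_ne_zero m)])
  have hpow : ∀ x : ↥X, x ^ p ∈ K := by
    intro x
    rw [← QuotientGroup.eq_one_iff, QuotientGroup.mk_pow]
    have h1 : Nat.card (↥X ⧸ K) = p := by rw [← Subgroup.index_eq_card]; exact hidx
    rw [← h1]
    exact pow_card_eq_one'
  have hle : pw p X ≤ K.map X.subtype := by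
    unfold pw
    rw [Subgroup.closure_le]
    rintro _ ⟨x, hx, rfl⟩
    exact ⟨⟨x, hx⟩ ^ p, hpow ⟨x, hx⟩, by simp⟩
  have hKtop : K = ⊤ := by
    rw [eq_top_iff]
    intro x _
    obtain ⟨y, hy, hyx⟩ := hle (h x.2)
    have : y = x := Subtype.ext hyx
    rwa [this] at hy
  rw [hKtop, Subgroup.index_top] at hidx
  exact hp.one_lt.ne hidx

end Cfsg.Agent.Helper59.Alp
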