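-- helper59: piece (K2) `propK2` of helper77's S3888 (Blackburn) farm #13307.
import Mathlib
import Cfsg.Agent.Helper77.Blk.Defs
import Cfsg.Agent.Helper67.ClassTwo

set_option autoImplicit false

universe u

namespace Cfsg.Agent.Helper59.Blk

open Subgroup Cfsg.Agent.Helper77.Blk

section pcentral
variable {p : ℕ} [hp : Fact p.Prime]

/-- (K2) consequence of (K): on `{u | (u^p)^p = 1}` the `p`-power map is multiplicative. -/
theorem propK2 (hp2 : p ≠ 2) (hK : PropK.{u} p) : PropK2.{u} p := by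
  intro C _ _ hC hPC u v hu hv
  have hpp := hp.out
  have hz : v * u = (v * u * v⁻¹ * u⁻¹) * (u * v) := by group
  have hv' : ((v⁻¹) ^ p) ^ p = 1 := by
    rw [inv_pow, inv_pow, hv, inv_one]
  have hzp : (v * u * v⁻¹ * u⁻¹) ^ p = 1 := by
    have := hK C hC hPC v⁻¹ u⁻¹ hv'
    rwa [inv_inv, inv_inv] at this
  have hzc : (v * u * v⁻¹ * u⁻¹) ∈ Subgroup.center C := hPC _ hzp
  rw [Subgroup.mem_center_iff] at hzc
  have hza : Commute (v * u * v⁻¹ * u⁻¹) u := (hzc u).symm
  have hzb : Commute (v * u * v⁻¹ * u⁻¹) v := (hzc v).symm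
  have hformula := Cfsg.Agent.Helper67.mul_pow_of_commutator_commute hz hza hzb p
  have hdvd : p ∣ p.choose 2 := hpp.dvd_choose_self (by norm_num) (by
    have := hpp.two_le
    omega)
  obtain ⟨k, hk⟩ := hdvd
  rw [hformula, hk, pow_mul, hzp, one_pow, one_mul]

end pcentral

end Cfsg.Agent.Helper59.Blk
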