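-- helper59: piece (NT) `modEq_one_of_pow` of helper77's S3888 (Blackburn) farm #13307.
import Mathlib
import Cfsg.Agent.Helper77.Blk.Defs

set_option autoImplicit false

universe u

namespace Cfsg.Agent.Helper59.Blk

open Subgroup Cfsg.Agent.Helper77.Blk

/-- (NT) lifting-the-exponent: `p` odd, `α^p ≡ 1 mod p^m` ⇒ `α ≡ 1 mod p^(m-1)`. -/
theorem modEq_one_of_pow {p : ℕ} [hp : Fact p.Prime] (hp2 : p ≠ 2) (m α : ℕ) (hm : 1 ≤ m)
    (h : α ^ p ≡ 1 [MOD p ^ m]) : α ≡ 1 [MOD p ^ (m - 1)] := by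
  have hpp := hp.out
  have hodd : Odd p := hpp.odd_of_ne_two hp2
  have h1 : α ^ p ≡ 1 [MOD p] := h.of_dvd (dvd_pow_self p (by omega))
  have h2 : α ^ p ≡ α [MOD p] := by
    rw [← ZMod.natCast_eq_natCast_iff]
    push_cast
    exact ZMod.pow_card _
  have h3 : α ≡ 1 [MOD p] := h2.symm.trans h1
  have hd1 : (p : ℤ) ∣ (α : ℤ) - 1 := by
    have := Nat.modEq_iff_dvd.mp h3.symm
    simpa using this
  have hnd : ¬ (p : ℤ) ∣ (α : ℤ) := by
    intro hdiv
    have h4 : (p : ℤ) ∣ 1 := by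
      have := dvd_sub hdiv hd1
      simpa using this
    have h5 : (p : ℤ) = 1 := Int.eq_one_of_dvd_one (by positivity) h4
    have h6 : p = 1 := by exact_mod_cast h5
    exact hpp.ne_one h6
  have hd2 : ((p : ℤ) ^ m) ∣ (α : ℤ) ^ p - 1 ^ p := by
    have := Nat.modEq_iff_dvd.mp h.symm
    simpa using this
  have hlte := Int.emultiplicity_pow_sub_pow hpp hodd (x := (α : ℤ)) (y := 1) hd1 hnd p
  have hle : (m : ℕ∞) ≤ emultiplicity (p : ℤ) ((α : ℤ) - 1) + 1 := by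
    rw [← hpp.emultiplicity_self, ← hlte]
    exact le_emultiplicity_of_pow_dvd hd2
  have hle' : ((m - 1 : ℕ) : ℕ∞) ≤ emultiplicity (p : ℤ) ((α : ℤ) - 1) := by
    by_cases htop : emultiplicity (p : ℤ) ((α : ℤ) - 1) = ⊤
    · rw [htop]
      exact le_top
    · obtain ⟨k, hk⟩ := ENat.ne_top_iff_exists.mp htop
      rw [← hk] at hle ⊢
      have hle2 : m ≤ k + 1 := by exact_mod_cast hle
      have hle3 : m - 1 ≤ k := by omega
      exact_mod_cast hle3
  have hd3 : (p : ℤ) ^ (m - 1) ∣ (α : ℤ) - 1 := pow_dvd_of_le_emultiplicity hle'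
  apply Nat.ModEq.symm
  rw [Nat.modEq_iff_dvd]
  simpa using hd3

end Cfsg.Agent.Helper59.Blk
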