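import Mathlib

/-!
# Helper59: piece (T0) of helper38's S2272 plan

`trace = 0` of a lift to `SL_d(F)` is invariant under conjugacy in `PSL_d(F)`.
-/

set_option autoImplicit false

namespace Cfsg.Agent.Helper59.CP

open Matrix

variable {F : Type*} [Field F] {d : ℕ}

local notation "SL" => Matrix.SpecialLinearGroup (Fin d) F
local notation "PSL" => Matrix.ProjectiveSpecialLinearGroup (Fin d) F

theorem exists_trace_eq_mul_of_isConj (X Y : SL)
    (h : IsConj (QuotientGroup.mk X : PSL) (QuotientGroup.mk Y)) :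
    ∃ r : F, Y.1.trace = r * X.1.trace := by
  rw [isConj_iff] at h
  obtain ⟨c, hc⟩ := h
  obtain ⟨C, rfl⟩ := QuotientGroup.mk_surjective c
  have h1 : (QuotientGroup.mk (C * X * C⁻¹) : PSL) = QuotientGroup.mk Y := by
    rw [← hc]; rfl
  rw [QuotientGroup.eq, Matrix.SpecialLinearGroup.mem_center_iff] at h1
  obtain ⟨r, -, hr⟩ := h1
  refine ⟨r, ?_⟩
  have h2 : Y = (C * X * C⁻¹) * ((C * X * C⁻¹)⁻¹ * Y) := by group
  have h3 : Y.1 = (C * X * C⁻¹).1 * (Matrix.scalar (Fin d) r) := by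
    rw [hr]
    exact congrArg Subtype.val h2
  have h4 : (C * X * C⁻¹).1.trace = X.1.trace := by
    have e : (C * X * C⁻¹).1 = C.1 * X.1 * (C⁻¹).1 := rfl
    rw [e, Matrix.trace_mul_cycle]
    have e2 : (C⁻¹).1 * C.1 = (1 : Matrix (Fin d) (Fin d) F) := by
      have := congrArg Subtype.val (inv_mul_cancel C)
      exact this
    rw [e2, one_mul]
  rw [h3, ← h4]
  have h5 : (C * X * C⁻¹).1 * (Matrix.scalar (Fin d) r) = r • (C * X * C⁻¹).1 := by
    ext i j
    simp [Matrix.scalar_apply, Matrix.mul_diagonal, mul_comm]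
  rw [h5, Matrix.trace_smul, smul_eq_mul]

/-- (T0) trace-zero of a lift is invariant under conjugacy in `PSL`. -/
theorem trace_eq_zero_iff_of_isConj (X Y : SL)
    (h : IsConj (QuotientGroup.mk X : PSL) (QuotientGroup.mk Y)) :
    X.1.trace = 0 ↔ Y.1.trace = 0 := by
  obtain ⟨r, hr⟩ := exists_trace_eq_mul_of_isConj X Y h
  obtain ⟨r', hr'⟩ := exists_trace_eq_mul_of_isConj Y X h.symm
  constructor
  · intro h0; rw [hr, h0, mul_zero]
  · intro h0; rw [hr', h0, mul_zero]

end Cfsg.Agent.Helper59.CP
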