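import Mathlib

/-!
# Critical groups for a spectrum (helper59, S3599)

Building blocks: Frobenius groups `F_P^k : C_Q` realised as affine groups `x ↦ u x + c` over
`GaloisField P k`, `k` the order of `P` mod `Q`, `u` in the subgroup of order `Q` of the units.
Products of blocks of pairwise coprime orders are critical for their spectrum.
-/

set_option autoImplicit false

namespace Cfsg.Agent.Helper59.CritSpec


/-- abstract building block: element orders `1, P, Q`, and any section having elements of order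
`P` and of order `Q` is the whole group -/
structure IsBlk (X : Type*) [Group X] (P Q : ℕ) : Prop where
  order_mem : ∀ x : X, orderOf x = 1 ∨ orderOf x = P ∨ orderOf x = Q
  exists_P : ∃ x : X, orderOf x = P
  exists_Q : ∃ x : X, orderOf x = Q
  crit : ∀ (H N : Subgroup X), N ≤ H → (∀ h ∈ H, ∀ n ∈ N, h * n * h⁻¹ ∈ N) →
     (∃ h ∈ H, h ∉ N ∧ orderOf h = P) → (∃ h ∈ H, h ∉ N ∧ orderOf h = Q) → H = ⊤ ∧ N = ⊥

@[ext]
structure Aff (F : Type) [Field F] (U : Subgroup Fˣ) where
  c : F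
  u : U

namespace Aff

variable {F : Type} [Field F] {U : Subgroup Fˣ}

instance : Mul (Aff F U) := ⟨fun a b => ⟨a.c + ((a.u : Fˣ) : F) * b.c, a.u * b.u⟩⟩
instance : One (Aff F U) := ⟨⟨0, 1⟩⟩
instance : Inv (Aff F U) := ⟨fun a => ⟨-(((a.u⁻¹ : U) : Fˣ) : F) * a.c, a.u⁻¹⟩⟩

@[simp] theorem mul_c (a b : Aff F U) : (a * b).c = a.c + ((a.u : Fˣ) : F) * b.c := rfl
@[simp] theorem mul_u (a b : Aff F U) : (a * b).u = a.u * b.u := rfl
@[simp] theorem one_c : (1 : Aff F U).c = 0 := rfl
@[simp] theorem one_u : (1 : Aff F U).u = 1 := rfl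
@[simp] theorem inv_c (a : Aff F U) : (a⁻¹).c = -(((a.u⁻¹ : U) : Fˣ) : F) * a.c := rfl
@[simp] theorem inv_u (a : Aff F U) : (a⁻¹).u = a.u⁻¹ := rfl

instance : Group (Aff F U) where
  mul_assoc a b c := by
    ext
    · simp only [mul_c, mul_u, Subgroup.coe_mul, Units.val_mul]; ring
    · simp only [mul_u, mul_assoc]
  one_mul a := by
    ext
    · simp
    · simp
  mul_one a := by
    ext
    · simp
    · simp
  inv_mul_cancel a := by
    ext
    · simp only [mul_c, inv_c, inv_u, one_c]; ring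
    · simp

def toU : Aff F U →* U where
  toFun a := a.u
  map_one' := rfl
  map_mul' _ _ := rfl

@[simp] theorem toU_apply (a : Aff F U) : toU a = a.u := rfl

theorem pow_u (a : Aff F U) (n : ℕ) : (a ^ n).u = a.u ^ n := map_pow toU a n

theorem pow_c (a : Aff F U) (n : ℕ) :
    (a ^ n).c = (∑ i ∈ Finset.range n, (((a.u : Fˣ) : F)) ^ i) * a.c := by
  induction n with
  | zero => simp
  | succ n ih =>
    rw [pow_succ', mul_c, ih, Finset.sum_range_succ', pow_zero]
    rw [add_mul, one_mul, Finset.sum_mul, Finset.sum_mul, Finset.mul_sum, add_comm]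
    congr 1
    apply Finset.sum_congr rfl
    intro i _
    ring

/-- the conjugate of a translation -/
theorem conj_transl (h : Aff F U) (w : F) :
    h * ⟨w, 1⟩ * h⁻¹ = ⟨((h.u : Fˣ) : F) * w, 1⟩ := by
  ext
  · simp only [mul_c, mul_u, inv_c, inv_u, mul_one, Subgroup.coe_inv, Units.val_inv_eq_inv_val,
      OneMemClass.coe_one, Units.val_one]
    have : ((h.u : Fˣ) : F) ≠ 0 := Units.ne_zero _
    field_simp
    ring
  · simp

/-- equivalence with the product, for cardinalities -/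
def equivProd : Aff F U ≃ F × U where
  toFun a := (a.c, a.u)
  invFun x := ⟨x.1, x.2⟩
  left_inv _ := rfl
  right_inv _ := rfl

noncomputable instance [Fintype F] : Fintype (Aff F U) := by
  classical
  exact Fintype.ofEquiv _ equivProd.symm

theorem card_eq [Fintype F] : Nat.card (Aff F U) = Nat.card F * Nat.card U := by
  rw [Nat.card_congr (equivProd (F := F) (U := U)), Nat.card_prod]

section orders
variable (P Q : ℕ) [hP : Fact P.Prime] [hQ : Fact Q.Prime] [CharP F P]

theorem pow_P_eq_one (a : Aff F U) (ha : a.u = 1) : a ^ P = 1 := by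
  ext
  · rw [pow_c, ha]
    simp [CharP.cast_eq_zero F P]
  · rw [pow_u, ha]; simp

variable [Finite U]

theorem pow_Q_eq_one (hU : Nat.card U = Q) (a : Aff F U) (ha : a.u ≠ 1) : a ^ Q = 1 := by
  have huQ : a.u ^ Q = 1 := by rw [← hU]; exact pow_card_eq_one'
  ext
  · rw [pow_c, one_c]
    have hx : (((a.u : Fˣ) : F)) ^ Q = 1 := by
      have := congrArg (fun v : U => ((v : Fˣ) : F)) huQ
      simpa using this
    have hx1 : (((a.u : Fˣ) : F)) - 1 ≠ 0 := by
      intro h
      apply ha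
      have h1 : (((a.u : Fˣ) : F)) = 1 := sub_eq_zero.mp h
      ext
      simpa using h1
    have h := geom_sum_mul (((a.u : Fˣ) : F)) Q
    rw [hx, sub_self] at h
    rcases mul_eq_zero.mp h with h | h
    · rw [h, zero_mul]
    · exact absurd h hx1
  · rw [pow_u, huQ]; rfl

theorem orderOf_of_u_eq_one (a : Aff F U) (ha : a.u = 1) : orderOf a = 1 ∨ orderOf a = P := by
  have := orderOf_dvd_of_pow_eq_one (pow_P_eq_one P a ha)
  exact (Nat.dvd_prime hP.out).mp this

theorem orderOf_of_u_ne_one (hU : Nat.card U = Q) (a : Aff F U) (ha : a.u ≠ 1) : orderOf a = Q := by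
  have := orderOf_dvd_of_pow_eq_one (pow_Q_eq_one Q hU a ha)
  rcases (Nat.dvd_prime hQ.out).mp this with h | h
  · exfalso
    rw [orderOf_eq_one_iff] at h
    apply ha
    rw [h]; rfl
  · exact h

theorem isBlk (hPQ : P ≠ Q) (hU : Nat.card U = Q)
    (hirr : ∀ W : AddSubgroup F, W ≠ ⊥ →
      (∃ u : U, u ≠ 1 ∧ ∀ w ∈ W, ((u : Fˣ) : F) * w ∈ W) → W = ⊤) :
    IsBlk (Aff F U) P Q := by
  have hUne : ∃ u : U, u ≠ 1 := by
    by_contra h
    push Not at h
    have : Nat.card U = 1 := by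
      rw [Nat.card_eq_one_iff_unique]
      exact ⟨⟨fun a b => by rw [h a, h b]⟩, ⟨1⟩⟩
    rw [hU] at this
    exact hQ.out.one_lt.ne' this
  refine ⟨?_, ?_, ?_, ?_⟩
  · intro x
    by_cases hx : x.u = 1
    · rcases orderOf_of_u_eq_one P x hx with h | h
      · exact Or.inl h
      · exact Or.inr (Or.inl h)
    · exact Or.inr (Or.inr (orderOf_of_u_ne_one Q hU x hx))
  · refine ⟨⟨1, 1⟩, ?_⟩
    rcases orderOf_of_u_eq_one P (⟨1, 1⟩ : Aff F U) rfl with h | h
    · exfalso
      rw [orderOf_eq_one_iff] at h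
      have := congrArg Aff.c h
      simp at this
    · exact h
  · obtain ⟨u, hu⟩ := hUne
    exact ⟨⟨0, u⟩, orderOf_of_u_ne_one Q hU _ hu⟩
  · intro H N hNH hnorm ⟨h, hhH, hhN, hho⟩ ⟨h', hh'H, hh'N, hh'o⟩
    -- `h` is a translation, `h'` is not
    have hhu : h.u = 1 := by
      by_contra hne
      have := orderOf_of_u_ne_one Q hU h hne
      exact hPQ (hho.symm.trans this)
    have hh'u : h'.u ≠ 1 := by
      intro he
      rcases orderOf_of_u_eq_one P h' he with h1 | h1
      · rw [hh'o] at h1; exact hQ.out.one_lt.ne' h1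
      · rw [hh'o] at h1; exact hPQ h1.symm
    have hhc : h.c ≠ 0 := by
      intro hc
      have : h = 1 := by ext <;> simp [hc, hhu]
      rw [this, orderOf_one] at hho
      exact hP.out.one_lt.ne hho
    -- translation subgroup of a subgroup
    let WS : Subgroup (Aff F U) → AddSubgroup F := fun S =>
      { carrier := {w | (⟨w, 1⟩ : Aff F U) ∈ S}
        zero_mem' := S.one_mem
        add_mem' := by
          intro a b ha hb
          have : (⟨a + b, 1⟩ : Aff F U) = ⟨a, 1⟩ * ⟨b, 1⟩ := by ext <;> simp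
          show (⟨a + b, 1⟩ : Aff F U) ∈ S
          rw [this]; exact S.mul_mem ha hb
        neg_mem' := by
          intro a ha
          have : (⟨-a, 1⟩ : Aff F U) = (⟨a, 1⟩ : Aff F U)⁻¹ := by ext <;> simp
          show (⟨-a, 1⟩ : Aff F U) ∈ S
          rw [this]; exact S.inv_mem ha }
    have hWS : ∀ (S : Subgroup (Aff F U)) (w : F), w ∈ WS S ↔ (⟨w, 1⟩ : Aff F U) ∈ S :=
      fun S w => Iff.rfl
    have htop : ∀ S : Subgroup (Aff F U), WS S = ⊤ → ∀ a : Aff F U, a.u = 1 → a ∈ S := by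
      intro S hS a ha
      have : a.c ∈ WS S := by rw [hS]; trivial
      rw [hWS] at this
      have e : a = ⟨a.c, 1⟩ := by ext <;> simp [ha]
      rw [e]; exact this
    -- H contains all translations
    have hHK : WS H = ⊤ := by
      apply hirr
      · intro hb
        have : h.c ∈ WS H := by
          rw [hWS]
          have e : h = ⟨h.c, 1⟩ := by ext <;> simp [hhu]
          rw [← e]; exact hhH
        rw [hb, AddSubgroup.mem_bot] at this
        exact hhc this
      · refine ⟨h'.u, hh'u, ?_⟩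
        intro w hw
        rw [hWS] at hw ⊢
        rw [← conj_transl]
        exact H.mul_mem (H.mul_mem hh'H hw) (H.inv_mem hh'H)
    have hHtop : H = ⊤ := by
      rw [eq_top_iff]
      intro a _
      -- `a.u` is a power of `h'.u`
      have : a.u ∈ Subgroup.zpowers h'.u := mem_zpowers_of_prime_card hU hh'u
      obtain ⟨e, he⟩ := Subgroup.mem_zpowers_iff.mp this
      have h1 : (a * (h' ^ e)⁻¹).u = 1 := by
        have : (h' ^ e).u = h'.u ^ e := map_zpow toU h' e
        rw [mul_u, inv_u, this, he, mul_inv_cancel]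
      have h2 := htop H hHK _ h1
      have : a = (a * (h' ^ e)⁻¹) * h' ^ e := by group
      rw [this]
      exact H.mul_mem h2 (H.zpow_mem hh'H e)
    refine ⟨hHtop, ?_⟩
    by_contra hNne
    obtain ⟨x, hxN, hx1⟩ := (N.bot_or_exists_ne_one).resolve_left hNne
    have hnorm' : ∀ g : Aff F U, ∀ n ∈ N, g * n * g⁻¹ ∈ N := fun g n hn =>
      hnorm g (by rw [hHtop]; trivial) n hn
    have hNK : WS N = ⊤ := by
      apply hirr
      · by_cases hxu : x.u = 1
        · intro hb
          have : x.c ∈ WS N := by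
            rw [hWS]
            have e : x = ⟨x.c, 1⟩ := by ext <;> simp [hxu]
            rw [← e]; exact hxN
          rw [hb, AddSubgroup.mem_bot] at this
          apply hx1
          ext <;> simp [this, hxu]
        · intro hb
          -- commutator of x with the translation by 1
          have hcomm : x * ((⟨1, 1⟩ : Aff F U) * x⁻¹ * (⟨1, 1⟩ : Aff F U)⁻¹) ∈ N :=
            N.mul_mem hxN (hnorm' _ _ (N.inv_mem hxN))
          have e : x * ((⟨1, 1⟩ : Aff F U) * x⁻¹ * (⟨1, 1⟩ : Aff F U)⁻¹)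
              = ⟨((x.u : Fˣ) : F) - 1, 1⟩ := by
            have e1 : x * ((⟨1, 1⟩ : Aff F U) * x⁻¹ * (⟨1, 1⟩ : Aff F U)⁻¹)
                = (x * ⟨1, 1⟩ * x⁻¹) * (⟨1, 1⟩ : Aff F U)⁻¹ := by group
            rw [e1, conj_transl]
            ext <;> simp [sub_eq_add_neg]
          rw [e] at hcomm
          have : ((x.u : Fˣ) : F) - 1 ∈ WS N := (hWS N _).mpr hcomm
          rw [hb, AddSubgroup.mem_bot, sub_eq_zero] at this
          apply hxu
          ext
          simpa using this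
      · refine ⟨h'.u, hh'u, ?_⟩
        intro w hw
        rw [hWS] at hw ⊢
        rw [← conj_transl]
        exact hnorm' h' _ hw
    exact hhN (htop N hNK h hhu)

end orders

end Aff



/-- in a finite field of order `P ^ k`, `k` the order of `P` mod `Q`, a nonzero additive subgroup
stable under multiplication by an element of order `Q` is everything -/
theorem irr_of_order {F : Type} [Field F] [Finite F] (P Q k : ℕ) [hP : Fact P.Prime]
    [hQ : Fact Q.Prime] (hk : k = orderOf (P : ZMod Q)) (hcard : Nat.card F = P ^ k)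
    (W : AddSubgroup F) (hW : W ≠ ⊥) (u : Fˣ) (hu : orderOf u = Q)
    (huW : ∀ w ∈ W, (u : F) * w ∈ W) : W = ⊤ := by
  classical
  haveI : Fintype F := Fintype.ofFinite F
  have hF2 : 2 ≤ Fintype.card F := Fintype.one_lt_card
  -- the multiplier ring
  have hmul : ∀ r s : F, (∀ w ∈ W, r * w ∈ W) → (∀ w ∈ W, s * w ∈ W) → ∀ w ∈ W, (r * s) * w ∈ W := by
    intro r s hr hs w hw
    rw [mul_assoc]
    exact hr _ (hs _ hw)
  have hpow : ∀ (r : F) (n : ℕ), (∀ w ∈ W, r * w ∈ W) → ∀ w ∈ W, r ^ n * w ∈ W := by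
    intro r n hr
    induction n with
    | zero => intro w hw; simpa using hw
    | succ n ih =>
      intro w hw
      rw [pow_succ]
      exact hmul _ _ ih hr w hw
  let K : Subfield F :=
    { carrier := {r | ∀ w ∈ W, r * w ∈ W}
      mul_mem' := fun {r s} hr hs => hmul r s hr hs
      one_mem' := fun w hw => by simpa using hw
      add_mem' := fun {r s} hr hs w hw => by
        rw [add_mul]; exact W.add_mem (hr w hw) (hs w hw)
      zero_mem' := fun w _ => by simp
      neg_mem' := fun {r} hr w hw => by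
        rw [neg_mul]; exact W.neg_mem (hr w hw)
      inv_mem' := by
        intro r hr
        by_cases h0 : r = 0
        · subst h0
          intro w _
          simp
        · have h1 : r ^ (Fintype.card F - 1) = 1 := FiniteField.pow_card_sub_one_eq_one r h0
          have h2 : r⁻¹ = r ^ (Fintype.card F - 2) := by
            have : r * r ^ (Fintype.card F - 2) = 1 := by
              rw [← pow_succ']
              have : Fintype.card F - 2 + 1 = Fintype.card F - 1 := by omega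
              rw [this, h1]
            exact (eq_inv_of_mul_eq_one_right this).symm
          show ∀ w ∈ W, r⁻¹ * w ∈ W
          rw [h2]
          exact hpow r _ hr }
  have hKmem : ∀ r : F, r ∈ K ↔ ∀ w ∈ W, r * w ∈ W := fun r => Iff.rfl
  have huK : (u : F) ∈ K := huW
  -- cardinality of K
  have hKdvd : Nat.card K ∣ P ^ k := by
    rw [← hcard]
    exact AddSubgroup.card_addSubgroup_dvd_card K.toAddSubgroup
  obtain ⟨e, hek, hKe⟩ := (Nat.dvd_prime_pow hP.out).mp hKdvd
  -- the unit of K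
  let uK : (↥K)ˣ := Units.mk0 ⟨(u : F), huK⟩ (by
    intro h
    have := congrArg Subtype.val h
    exact Units.ne_zero u this)
  have huKo : orderOf uK = Q := by
    have hinj : Function.Injective (Units.map (K.subtype : ↥K →* F)) := by
      apply Units.map_injective
      exact Subtype.val_injective
    have : Units.map (K.subtype : ↥K →* F) uK = u := by
      ext; rfl
    rw [← orderOf_injective _ hinj uK, this, hu]
  have hQdvd : Q ∣ P ^ e - 1 := by
    have h1 : orderOf uK ∣ Nat.card (↥K)ˣ := orderOf_dvd_natCard uK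
    rw [huKo, Nat.card_units, hKe] at h1
    exact h1
  have hPe1 : 1 ≤ P ^ e := Nat.one_le_pow _ _ hP.out.pos
  have hpowe : (P : ZMod Q) ^ e = 1 := by
    obtain ⟨t, ht⟩ := hQdvd
    have h2 : P ^ e = Q * t + 1 := by omega
    have := congrArg (fun n : ℕ => (n : ZMod Q)) h2
    simpa using this
  have hke : k ∣ e := by
    rw [hk]; exact orderOf_dvd_of_pow_eq_one hpowe
  have he0 : e ≠ 0 := by
    intro h0
    rw [h0, pow_zero] at hKe
    have : Nontrivial ↥K := inferInstance
    have h2 := Finite.one_lt_card (α := ↥K)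
    omega
  have hek' : e = k := le_antisymm hek (Nat.le_of_dvd (Nat.pos_of_ne_zero he0) hke)
  have hKtop : ∀ r : F, r ∈ K := by
    have : K.toAddSubgroup = ⊤ := by
      apply AddSubgroup.eq_top_of_card_eq
      show Nat.card K = Nat.card F
      rw [hKe, hek', hcard]
    intro r
    have h : r ∈ K.toAddSubgroup := by rw [this]; trivial
    exact h
  -- conclude
  obtain ⟨w₀, hw₀, hw₀0⟩ := (W.bot_or_exists_ne_zero).resolve_left hW
  rw [eq_top_iff]
  intro x _
  have := (hKmem _).mp (hKtop (x * w₀⁻¹)) w₀ hw₀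
  rwa [mul_assoc, inv_mul_cancel₀ hw₀0, mul_one] at this



theorem order_facts (P Q : ℕ) [hP : Fact P.Prime] [hQ : Fact Q.Prime] (hPQ : P ≠ Q) :
    1 ≤ orderOf (P : ZMod Q) ∧ Q ∣ P ^ orderOf (P : ZMod Q) - 1 ∧
      (orderOf (P : ZMod Q) = 1 → Q < P) := by
  have hne : (P : ZMod Q) ≠ 0 := by
    intro h
    rw [ZMod.natCast_eq_zero_iff] at h
    exact hPQ ((Nat.prime_dvd_prime_iff_eq hQ.out hP.out).mp h).symm
  have hfermat : (P : ZMod Q) ^ (Q - 1) = 1 := ZMod.pow_card_sub_one_eq_one hne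
  have hdvd : orderOf (P : ZMod Q) ∣ Q - 1 := orderOf_dvd_of_pow_eq_one hfermat
  have hQ1 : 0 < Q - 1 := by have := hQ.out.two_le; omega
  have hpos : 1 ≤ orderOf (P : ZMod Q) := Nat.pos_of_dvd_of_pos hdvd hQ1
  have key : ∀ n : ℕ, (P : ZMod Q) ^ n = 1 → Q ∣ P ^ n - 1 := by
    intro n hn
    have h1 : ((P ^ n : ℕ) : ZMod Q) = ((1 : ℕ) : ZMod Q) := by
      push_cast; exact hn
    rw [ZMod.natCast_eq_natCast_iff] at h1
    have h2 : 1 ≤ P ^ n := Nat.one_le_pow _ _ hP.out.pos
    exact (Nat.modEq_iff_dvd' h2).mp h1.symm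
  refine ⟨hpos, key _ (pow_orderOf_eq_one _), ?_⟩
  intro h1
  have := key 1 (by rw [← h1]; exact pow_orderOf_eq_one _)
  rw [pow_one] at this
  have hP2 := hP.out.two_le
  have := Nat.le_of_dvd (by omega) this
  omega



theorem exists_blk (P Q : ℕ) (hP' : P.Prime) (hQ' : Q.Prime) (hPQ : P ≠ Q) :
    ∃ (X : Type) (_ : Group X) (_ : Fintype X), IsBlk X P Q ∧
      ∃ k, Fintype.card X = P ^ k * Q ∧ 1 ≤ k ∧ (k = 1 → Q < P) := by
  haveI hP : Fact P.Prime := ⟨hP'⟩
  haveI hQ : Fact Q.Prime := ⟨hQ'⟩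
  obtain ⟨hk1, hkdvd, hk2⟩ := order_facts P Q hPQ
  set k := orderOf (P : ZMod Q) with hk
  let F := GaloisField P k
  have hcard : Nat.card F = P ^ k := GaloisField.card P k (by omega)
  have hunits : Nat.card Fˣ = P ^ k - 1 := by rw [Nat.card_units, hcard]
  obtain ⟨ξ, hξ⟩ := exists_prime_orderOf_dvd_card' (G := Fˣ) Q (by rw [hunits]; exact hkdvd)
  let U : Subgroup Fˣ := Subgroup.zpowers ξ
  have hU : Nat.card U = Q := by rw [Nat.card_zpowers, hξ]
  haveI : Fintype F := Fintype.ofFinite F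
  refine ⟨Aff F U, inferInstance, inferInstance, ?_, k, ?_, hk1, hk2⟩
  · apply Aff.isBlk P Q hPQ hU
    intro W hW ⟨u, hu1, huW⟩
    have huo : orderOf (u : Fˣ) = Q := by
      have h1 : orderOf u ∣ Nat.card U := orderOf_dvd_natCard u
      rw [hU] at h1
      rcases (Nat.dvd_prime hQ').mp h1 with h | h
      · exact absurd (orderOf_eq_one_iff.mp h) hu1
      · rw [← h]; exact (Subgroup.orderOf_coe u)
    exact irr_of_order P Q k hk hcard W hW (u : Fˣ) huo huW
  · rw [← Nat.card_eq_fintype_card, Aff.card_eq, hcard, hU]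



theorem prod_dvd_of_pairwise_coprime {ι : Type*} [DecidableEq ι] (t : Finset ι) (f : ι → ℕ) (z : ℕ)
    (hcop : ∀ i ∈ t, ∀ j ∈ t, i ≠ j → (f i).Coprime (f j)) (hdvd : ∀ i ∈ t, f i ∣ z) :
    ∏ i ∈ t, f i ∣ z := by
  induction t using Finset.induction_on with
  | empty => simp
  | insert a t ha ih =>
    rw [Finset.prod_insert ha]
    apply Nat.Coprime.mul_dvd_of_dvd_of_dvd
    · apply Nat.Coprime.prod_right
      intro i hi
      exact hcop a (Finset.mem_insert_self a t) i (Finset.mem_insert_of_mem hi)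
        (fun h => ha (h ▸ hi))
    · exact hdvd a (Finset.mem_insert_self a t)
    · exact ih (fun i hi j hj hij => hcop i (Finset.mem_insert_of_mem hi) j
        (Finset.mem_insert_of_mem hj) hij) (fun i hi => hdvd i (Finset.mem_insert_of_mem hi))

section Prod

variable {ι : Type*} [Fintype ι] [DecidableEq ι] {Y : ι → Type*} [∀ j, Group (Y j)]
  [∀ j, Fintype (Y j)]

theorem exists_pow_eq_mulSingle
    (hcop : ∀ i j, i ≠ j → (Fintype.card (Y i)).Coprime (Fintype.card (Y j)))
    (x : ∀ j, Y j) (j : ι) : ∃ e : ℕ, x ^ e = Pi.mulSingle j (x j) := by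
  have hAB : (Fintype.card (Y j)).Coprime (∏ i ∈ Finset.univ.erase j, Fintype.card (Y i)) := by
    apply Nat.Coprime.prod_right
    intro i hi
    exact hcop j i (Finset.ne_of_mem_erase hi).symm
  obtain ⟨e, he1, he0⟩ := Nat.chineseRemainder hAB 1 0
  refine ⟨e, ?_⟩
  ext i
  rw [Pi.pow_apply]
  by_cases hij : i = j
  · subst hij
    rw [Pi.mulSingle_eq_same]
    have h1 : e ≡ 1 [MOD orderOf (x i)] := he1.of_dvd (orderOf_dvd_card)
    have := (pow_eq_pow_iff_modEq (x := x i)).mpr h1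
    rw [this, pow_one]
  · rw [Pi.mulSingle_eq_of_ne hij]
    have h1 : Fintype.card (Y i) ∣ e := by
      have h2 : Fintype.card (Y i) ∣ ∏ i ∈ Finset.univ.erase j, Fintype.card (Y i) :=
        Finset.dvd_prod_of_mem _ (Finset.mem_erase.mpr ⟨hij, Finset.mem_univ i⟩)
      exact h2.trans ((Nat.modEq_zero_iff_dvd).mp he0)
    obtain ⟨t, ht⟩ := h1
    rw [ht, pow_mul, pow_card_eq_one, one_pow]

theorem mem_iff_forall_mulSingle
    (hcop : ∀ i j, i ≠ j → (Fintype.card (Y i)).Coprime (Fintype.card (Y j)))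
    (S : Subgroup (∀ j, Y j)) (x : ∀ j, Y j) :
    x ∈ S ↔ ∀ j, Pi.mulSingle j (x j) ∈ S := by
  constructor
  · intro hx j
    obtain ⟨e, he⟩ := exists_pow_eq_mulSingle hcop x j
    rw [← he]
    exact S.pow_mem hx e
  · intro h
    rw [← Finset.noncommProd_mulSingle x]
    apply Subgroup.noncommProd_mem
    intro j _
    exact h j

theorem orderOf_pi
    (hcop : ∀ i j, i ≠ j → (Fintype.card (Y i)).Coprime (Fintype.card (Y j)))
    (x : ∀ j, Y j) : orderOf x = ∏ j, orderOf (x j) := by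
  apply Nat.dvd_antisymm
  · apply orderOf_dvd_of_pow_eq_one
    ext j
    rw [Pi.pow_apply, Pi.one_apply]
    obtain ⟨t, ht⟩ := Finset.dvd_prod_of_mem (fun j => orderOf (x j)) (Finset.mem_univ j)
    rw [ht, pow_mul, pow_orderOf_eq_one, one_pow]
  · apply prod_dvd_of_pairwise_coprime
    · intro i _ j _ hij
      exact Nat.Coprime.coprime_dvd_left orderOf_dvd_card
        (Nat.Coprime.coprime_dvd_right orderOf_dvd_card (hcop i j hij))
    · intro j _
      apply orderOf_dvd_of_pow_eq_one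
      have : (x ^ orderOf x) j = 1 := by rw [pow_orderOf_eq_one]; rfl
      rwa [Pi.pow_apply] at this

/-- sections of a product of blocks of coprime orders -/
theorem prod_crit
    (hcop : ∀ i j, i ≠ j → (Fintype.card (Y i)).Coprime (Fintype.card (Y j)))
    (P Q : ι → ℕ) (hPp : ∀ j, (P j).Prime) (hQp : ∀ j, (Q j).Prime) (hPQ : ∀ j, P j ≠ Q j)
    (hblk : ∀ j, IsBlk (Y j) (P j) (Q j))
    (hPd : ∀ i j, i ≠ j → ¬ P j ∣ Fintype.card (Y i))
    (hQd : ∀ i j, i ≠ j → ¬ Q j ∣ Fintype.card (Y i))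
    (H N : Subgroup (∀ j, Y j)) (hNH : N ≤ H) (hnorm : ∀ h ∈ H, ∀ n ∈ N, h * n * h⁻¹ ∈ N)
    (hP : ∀ j, ∃ h ∈ H, h ∉ N ∧ h ^ (P j) ∈ N) (hQ : ∀ j, ∃ h ∈ H, h ∉ N ∧ h ^ (Q j) ∈ N) :
    H = ⊤ ∧ N = ⊥ := by
  -- component subgroups
  let Hc : ∀ j, Subgroup (Y j) := fun j => H.comap (MonoidHom.mulSingle Y j)
  let Nc : ∀ j, Subgroup (Y j) := fun j => N.comap (MonoidHom.mulSingle Y j)
  have hHc : ∀ j (y : Y j), y ∈ Hc j ↔ Pi.mulSingle j y ∈ H := fun j y => Iff.rfl
  have hNc : ∀ j (y : Y j), y ∈ Nc j ↔ Pi.mulSingle j y ∈ N := fun j y => Iff.rfl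
  -- extraction of a component witness
  have key : ∀ (j : ι) (r : ℕ), r.Prime → (∀ i, i ≠ j → ¬ r ∣ Fintype.card (Y i)) →
      (∃ h ∈ H, h ∉ N ∧ h ^ r ∈ N) → ∃ y ∈ Hc j, y ∉ Nc j ∧ r ∣ orderOf y := by
    intro j r hr hrd ⟨h, hhH, hhN, hhr⟩
    have h1 : ∀ i, (h i) ^ r ∈ Nc i := by
      intro i
      rw [hNc]
      have := (mem_iff_forall_mulSingle hcop N (h ^ r)).mp hhr i
      rwa [Pi.pow_apply] at this
    have h2 : ∀ i, i ≠ j → h i ∈ Nc i := by
      intro i hij
      have hc : r.Coprime (orderOf (h i)) := by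
        apply Nat.Coprime.coprime_dvd_right orderOf_dvd_card
        exact (Nat.Prime.coprime_iff_not_dvd hr).mpr (hrd i hij)
      obtain ⟨m, hm⟩ := exists_pow_eq_self_of_coprime hc
      rw [← hm]
      exact (Nc i).pow_mem (h1 i) m
    have h3 : h j ∉ Nc j := by
      intro hj
      apply hhN
      rw [mem_iff_forall_mulSingle hcop]
      intro i
      by_cases hij : i = j
      · subst hij; exact hj
      · exact h2 i hij
    refine ⟨h j, (mem_iff_forall_mulSingle hcop H h).mp hhH j, h3, ?_⟩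
    by_contra hnd
    have hc : r.Coprime (orderOf (h j)) := (Nat.Prime.coprime_iff_not_dvd hr).mpr hnd
    obtain ⟨m, hm⟩ := exists_pow_eq_self_of_coprime hc
    apply h3
    rw [← hm]
    exact (Nc j).pow_mem (h1 j) m
  have hcomp : ∀ j, Hc j = ⊤ ∧ Nc j = ⊥ := by
    intro j
    apply (hblk j).crit (Hc j) (Nc j)
    · intro y hy
      exact hNH hy
    · intro h hh n hn
      rw [hNc]
      have := hnorm _ hh _ hn
      rw [← map_inv (MonoidHom.mulSingle Y j), ← map_mul, ← map_mul] at this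
      exact this
    · obtain ⟨y, hyH, hyN, hyd⟩ := key j (P j) (hPp j) (fun i hij => hPd i j hij) (hP j)
      refine ⟨y, hyH, hyN, ?_⟩
      rcases (hblk j).order_mem y with h | h | h
      · rw [h] at hyd
        exact absurd (Nat.dvd_one.mp hyd) (hPp j).one_lt.ne'
      · exact h
      · rw [h] at hyd
        exact absurd ((Nat.prime_dvd_prime_iff_eq (hPp j) (hQp j)).mp hyd) (hPQ j)
    · obtain ⟨y, hyH, hyN, hyd⟩ := key j (Q j) (hQp j) (fun i hij => hQd i j hij) (hQ j)
      refine ⟨y, hyH, hyN, ?_⟩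
      rcases (hblk j).order_mem y with h | h | h
      · rw [h] at hyd
        exact absurd (Nat.dvd_one.mp hyd) (hQp j).one_lt.ne'
      · rw [h] at hyd
        exact absurd ((Nat.prime_dvd_prime_iff_eq (hQp j) (hPp j)).mp hyd) (hPQ j).symm
      · exact h
  constructor
  · rw [eq_top_iff]
    intro x _
    rw [mem_iff_forall_mulSingle hcop]
    intro j
    rw [← hHc, (hcomp j).1]
    trivial
  · rw [eq_bot_iff]
    intro x hx
    rw [Subgroup.mem_bot]
    ext j
    have := (mem_iff_forall_mulSingle hcop N x).mp hx j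
    rw [← hNc, (hcomp j).2, Subgroup.mem_bot] at this
    exact this

end Prod


theorem fam_spec {s : ℕ} (Y : Fin s → Type) [∀ j, Group (Y j)] [∀ j, Fintype (Y j)]
    (P Q : Fin s → ℕ) (hPp : ∀ j, (P j).Prime) (hQp : ∀ j, (Q j).Prime) (hPQ : ∀ j, P j ≠ Q j)
    (hblk : ∀ j, IsBlk (Y j) (P j) (Q j))
    (hcop : ∀ i j, i ≠ j → (Fintype.card (Y i)).Coprime (Fintype.card (Y j)))
    (hPd : ∀ i j, i ≠ j → ¬ P j ∣ Fintype.card (Y i))
    (hQd : ∀ i j, i ≠ j → ¬ Q j ∣ Fintype.card (Y i)) :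
    Set.range (orderOf : (∀ j, Y j) → ℕ) =
      {m : ℕ | ∃ c : Fin s → ℕ, (∀ j, c j = 1 ∨ c j = P j ∨ c j = Q j) ∧ m = ∏ j, c j} ∧
    ∀ (H : Subgroup (∀ j, Y j)) (N : Subgroup ↥H) [N.Normal], (H ≠ ⊤ ∨ N ≠ ⊥) →
      Set.range (orderOf : (↥H ⧸ N) → ℕ) ≠
      {m : ℕ | ∃ c : Fin s → ℕ, (∀ j, c j = 1 ∨ c j = P j ∨ c j = Q j) ∧ m = ∏ j, c j} := by
  constructor
  · ext m
    simp only [Set.mem_range, Set.mem_ofPred_eq]
    constructor
    · rintro ⟨x, rfl⟩
      exact ⟨fun j => orderOf (x j), fun j => (hblk j).order_mem (x j), orderOf_pi hcop x⟩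
    · rintro ⟨c, hc, rfl⟩
      have : ∀ j, ∃ y : Y j, orderOf y = c j := by
        intro j
        rcases hc j with h | h | h
        · exact ⟨1, by rw [h, orderOf_one]⟩
        · obtain ⟨y, hy⟩ := (hblk j).exists_P; exact ⟨y, by rw [h, hy]⟩
        · obtain ⟨y, hy⟩ := (hblk j).exists_Q; exact ⟨y, by rw [h, hy]⟩
      choose y hy using this
      exact ⟨y, by rw [orderOf_pi hcop]; exact Finset.prod_congr rfl (fun j _ => hy j)⟩
  · intro H N _ hHN heq
    have hmem : ∀ (j : Fin s) (r : ℕ), (r = P j ∨ r = Q j) → ∃ q : ↥H ⧸ N, orderOf q = r := by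
      intro j r hr
      have : r ∈ Set.range (orderOf : (↥H ⧸ N) → ℕ) := by
        rw [heq]
        refine ⟨Function.update (fun _ => 1) j r, ?_, ?_⟩
        · intro i
          by_cases hij : i = j
          · subst hij; rw [Function.update_self]; exact Or.inr hr
          · rw [Function.update_of_ne hij]; left; rfl
        · rw [Finset.prod_eq_single j]
          · rw [Function.update_self]
          · intro i _ hij; rw [Function.update_of_ne hij]
          · intro h; exact absurd (Finset.mem_univ j) h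
      exact this
    have hlift : ∀ r : ℕ, r.Prime → (∃ q : ↥H ⧸ N, orderOf q = r) →
        ∃ h ∈ H, h ∉ N.map H.subtype ∧ h ^ r ∈ N.map H.subtype := by
      intro r hr ⟨q, hq⟩
      obtain ⟨h, rfl⟩ := QuotientGroup.mk_surjective q
      refine ⟨h.1, h.2, ?_, ?_⟩
      · intro hmem
        rw [Subgroup.mem_map] at hmem
        obtain ⟨n, hn, hnh⟩ := hmem
        have : n = h := Subtype.ext hnh
        subst this
        have : (QuotientGroup.mk n : ↥H ⧸ N) = 1 := (QuotientGroup.eq_one_iff n).mpr hn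
        rw [this, orderOf_one] at hq
        exact hr.one_lt.ne hq
      · rw [Subgroup.mem_map]
        refine ⟨h ^ r, ?_, by simp⟩
        rw [← QuotientGroup.eq_one_iff, QuotientGroup.mk_pow, ← hq, pow_orderOf_eq_one]
    have hres := prod_crit hcop P Q hPp hQp hPQ hblk hPd hQd H (N.map H.subtype)
      (Subgroup.map_subtype_le N) ?_ ?_ ?_
    · obtain ⟨h1, h2⟩ := hres
      have h3 : N = ⊥ := (Subgroup.map_eq_bot_iff_of_injective N H.subtype_injective).mp h2
      rcases hHN with h | h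
      · exact h h1
      · exact h h3
    · intro h hh n hn
      rw [Subgroup.mem_map] at hn ⊢
      obtain ⟨n', hn', rfl⟩ := hn
      refine ⟨⟨h, hh⟩ * n' * ⟨h, hh⟩⁻¹, ?_, by simp⟩
      exact ‹N.Normal›.conj_mem n' hn' ⟨h, hh⟩
    · intro j
      exact hlift (P j) (hPp j) (hmem j (P j) (Or.inl rfl))
    · intro j
      exact hlift (Q j) (hQp j) (hmem j (Q j) (Or.inr rfl))


theorem ndvd_aux {r A C k : ℕ} (hr : r.Prime) (hA : A.Prime) (hC : C.Prime)
    (h1 : r ≠ A) (h2 : r ≠ C) : ¬ r ∣ A ^ k * C := by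
  intro h
  rcases (Nat.Prime.dvd_mul hr).mp h with h | h
  · exact h1 ((Nat.prime_dvd_prime_iff_eq hr hA).mp (hr.dvd_of_dvd_pow h))
  · exact h2 ((Nat.prime_dvd_prime_iff_eq hr hC).mp h)

theorem cop_aux {A C A' C' k k' : ℕ} (hA : A.Prime) (hC : C.Prime) (hA' : A'.Prime)
    (hC' : C'.Prime) (h1 : A ≠ A') (h2 : A ≠ C') (h3 : C ≠ A') (h4 : C ≠ C') :
    (A ^ k * C).Coprime (A' ^ k' * C') := by
  have c1 : A.Coprime A' := (Nat.coprime_primes hA hA').mpr h1
  have c2 : A.Coprime C' := (Nat.coprime_primes hA hC').mpr h2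
  have c3 : C.Coprime A' := (Nat.coprime_primes hC hA').mpr h3
  have c4 : C.Coprime C' := (Nat.coprime_primes hC hC').mpr h4
  exact Nat.Coprime.mul_left
    (Nat.Coprime.mul_right (Nat.Coprime.pow _ _ c1) (Nat.Coprime.pow_left _ c2))
    (Nat.Coprime.mul_right (Nat.Coprime.pow_right _ c3) c4)

theorem fz_aux {s : ℕ} (B : Fin s → ℕ) (hB : ∀ i, B i ≠ 0) (j : Fin s) (r : ℕ)
    (hr : ∀ i, i ≠ j → ¬ r ∣ B i) :
    (∏ i, B i).factorization r = (B j).factorization r := by
  rw [Nat.factorization_prod (fun i _ => hB i), Finsupp.finsetSum_apply,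
    Finset.sum_eq_single j]
  · intro i _ hij
    exact Nat.factorization_eq_zero_of_not_dvd (hr i hij)
  · intro h; exact absurd (Finset.mem_univ j) h

theorem fz_blk {A C k : ℕ} (hA : A.Prime) (hC : C.Prime) (hAC : A ≠ C) :
    (A ^ k * C).factorization A = k ∧ (A ^ k * C).factorization C = 1 := by
  have h0 : A ^ k ≠ 0 := pow_ne_zero _ hA.ne_zero
  rw [Nat.factorization_mul h0 hC.ne_zero, Nat.factorization_pow, hA.factorization,
    hC.factorization]
  constructor
  · simp [hAC.symm]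
  · simp [hAC]

theorem fin2_ne : ∀ i : Fin 2, i ≠ i + 1 := by decide
theorem fin2_succ_of_ne : ∀ i i' : Fin 2, i ≠ i' → i' = i + 1 := by decide
theorem fin2_add_add : ∀ i : Fin 2, i + 1 + 1 = i := by decide

theorem main_aux (s : ℕ) (p : Fin s → Fin 2 → ℕ)
    (hp : ∀ j i, (p j i).Prime) (hinj : ∀ j i j' i', p j i = p j' i' → j = j' ∧ i = i')
    (X : Fin s → Fin 2 → Type) [∀ j i, Group (X j i)] [∀ j i, Fintype (X j i)]
    (hblk : ∀ j i, IsBlk (X j i) (p j i) (p j (i + 1)))
    (k : Fin s → Fin 2 → ℕ)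
    (hcard : ∀ j i, Fintype.card (X j i) = p j i ^ k j i * p j (i + 1))
    (hk2 : ∀ j i, k j i = 1 → p j (i + 1) < p j i) :
    ∃ (G : Fin (2 ^ s) → Type) (_ : ∀ a, Group (G a)) (_ : ∀ a, Fintype (G a)),
      (∀ a b, a ≠ b → ¬ Nonempty (G a ≃* G b)) ∧
      ∀ a, Set.range (orderOf : (G a) → ℕ) = {m : ℕ | ∃ c : Fin s → ℕ, (∀ j, c j = 1 ∨ c j = p j 0 ∨ c j = p j 1) ∧ m = ∏ j, c j} ∧
      ∀ (H : Subgroup (G a)) (N : Subgroup ↥H) [N.Normal], (H ≠ ⊤ ∨ N ≠ ⊥) → Set.range (orderOf : (↥H ⧸ N) → ℕ) ≠ {m : ℕ | ∃ c : Fin s → ℕ, (∀ j, c j = 1 ∨ c j = p j 0 ∨ c j = p j 1) ∧ m = ∏ j, c j} := by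
  have hne : ∀ j (i : Fin 2), p j i ≠ p j (i + 1) := fun j i h =>
    fin2_ne i (hinj j i j (i + 1) h).2
  have hdiff : ∀ j j' i i', j ≠ j' → p j i ≠ p j' i' := fun j j' i i' hjj h =>
    hjj (hinj j i j' i' h).1
  -- the set Ω in terms of a choice function
  have hΩ : ∀ a : Fin s → Fin 2,
      {m : ℕ | ∃ c : Fin s → ℕ, (∀ j, c j = 1 ∨ c j = p j (a j) ∨ c j = p j (a j + 1)) ∧ m = ∏ j, c j}
      = {m : ℕ | ∃ c : Fin s → ℕ, (∀ j, c j = 1 ∨ c j = p j 0 ∨ c j = p j 1) ∧ m = ∏ j, c j} := by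
    intro a
    have h2 : ∀ (j : Fin s) (n : ℕ), (n = 1 ∨ n = p j (a j) ∨ n = p j (a j + 1)) ↔
        (n = 1 ∨ n = p j 0 ∨ n = p j 1) := by
      intro j n
      generalize a j = i
      fin_cases i
      · simp
      · simp only [Fin.mk_one, Fin.isValue]
        have : (1 : Fin 2) + 1 = 0 := by decide
        rw [this]
        tauto
    ext m
    simp only [Set.mem_ofPred_eq]
    constructor
    · rintro ⟨c, hc, hm⟩
      exact ⟨c, fun j => (h2 j (c j)).mp (hc j), hm⟩
    · rintro ⟨c, hc, hm⟩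
      exact ⟨c, fun j => (h2 j (c j)).mpr (hc j), hm⟩
  let av : Fin (2 ^ s) → Fin s → Fin 2 := fun idx => finFunctionFinEquiv.symm idx
  have hav : Function.Injective av := fun x y h => finFunctionFinEquiv.symm.injective h
  refine ⟨fun idx => ∀ j, X j (av idx j), fun idx => inferInstance, fun idx => inferInstance,
    ?_, ?_⟩
  · -- non-isomorphism
    intro idx idx' hidx ⟨e⟩
    have hcd := Fintype.card_congr e.toEquiv
    rw [Fintype.card_pi, Fintype.card_pi] at hcd
    simp only [hcard] at hcd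
    have hB0 : ∀ (a : Fin s → Fin 2) i, p i (a i) ^ k i (a i) * p i (a i + 1) ≠ 0 := by
      intro a i
      exact mul_ne_zero (pow_ne_zero _ (hp _ _).ne_zero) (hp _ _).ne_zero
    have key : ∀ (a a' : Fin s → Fin 2) (j : Fin s), a j ≠ a' j →
        (∏ i, p i (a i) ^ k i (a i) * p i (a i + 1)) =
          (∏ i, p i (a' i) ^ k i (a' i) * p i (a' i + 1)) → k j (a j) = 1 := by
      intro a a' j hj heq
      have e1 : (∏ i, p i (a i) ^ k i (a i) * p i (a i + 1)).factorization (p j (a j))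
          = k j (a j) := by
        rw [fz_aux _ (hB0 a) j]
        · exact (fz_blk (hp _ _) (hp _ _) (hne _ _)).1
        · intro i hij
          exact ndvd_aux (hp _ _) (hp _ _) (hp _ _) (hdiff _ _ _ _ (Ne.symm hij))
            (hdiff _ _ _ _ (Ne.symm hij))
      have h2 : a j = a' j + 1 := fin2_succ_of_ne _ _ (Ne.symm hj)
      have e2 : (∏ i, p i (a' i) ^ k i (a' i) * p i (a' i + 1)).factorization (p j (a j))
          = 1 := by
        rw [h2, fz_aux _ (hB0 a') j]
        · exact (fz_blk (hp _ _) (hp _ _) (hne _ _)).2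
        · intro i hij
          exact ndvd_aux (hp _ _) (hp _ _) (hp _ _) (hdiff _ _ _ _ (Ne.symm hij))
            (hdiff _ _ _ _ (Ne.symm hij))
      rw [← e1, heq, e2]
    have hav' : av idx ≠ av idx' := fun h => hidx (hav h)
    obtain ⟨j, hj⟩ := Function.ne_iff.mp hav'
    have k1 := key (av idx) (av idx') j hj hcd
    have k2 := key (av idx') (av idx) j (Ne.symm hj) hcd.symm
    have l1 := hk2 j _ k1
    have l2 := hk2 j _ k2
    have h1 : av idx' j = av idx j + 1 := fin2_succ_of_ne _ _ hj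
    rw [h1, fin2_add_add] at l2
    exact lt_asymm l1 l2
  · intro idx
    have hcop : ∀ i j, i ≠ j → (Fintype.card (X i (av idx i))).Coprime
        (Fintype.card (X j (av idx j))) := by
      intro i j hij
      rw [hcard, hcard]
      exact cop_aux (hp _ _) (hp _ _) (hp _ _) (hp _ _) (hdiff _ _ _ _ hij) (hdiff _ _ _ _ hij)
        (hdiff _ _ _ _ hij) (hdiff _ _ _ _ hij)
    have hPd : ∀ i j, i ≠ j → ¬ p j (av idx j) ∣ Fintype.card (X i (av idx i)) := by
      intro i j hij
      rw [hcard]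
      exact ndvd_aux (hp _ _) (hp _ _) (hp _ _) (hdiff _ _ _ _ (Ne.symm hij))
        (hdiff _ _ _ _ (Ne.symm hij))
    have hQd : ∀ i j, i ≠ j → ¬ p j (av idx j + 1) ∣ Fintype.card (X i (av idx i)) := by
      intro i j hij
      rw [hcard]
      exact ndvd_aux (hp _ _) (hp _ _) (hp _ _) (hdiff _ _ _ _ (Ne.symm hij))
        (hdiff _ _ _ _ (Ne.symm hij))
    have := fam_spec (fun j => X j (av idx j)) (fun j => p j (av idx j))
      (fun j => p j (av idx j + 1)) (fun j => hp _ _) (fun j => hp _ _) (fun j => hne _ _)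
      (fun j => hblk _ _) hcop hPd hQd
    rw [hΩ (av idx)] at this
    exact this

theorem main (s : ℕ) (p : Fin s → Fin 2 → ℕ)
    (hp : ∀ j i, (p j i).Prime) (hinj : ∀ j i j' i', p j i = p j' i' → j = j' ∧ i = i') :
    ∃ (G : Fin (2 ^ s) → Type) (_ : ∀ a, Group (G a)) (_ : ∀ a, Fintype (G a)),
      (∀ a b, a ≠ b → ¬ Nonempty (G a ≃* G b)) ∧
      ∀ a, Set.range (orderOf : (G a) → ℕ) = {m : ℕ | ∃ c : Fin s → ℕ, (∀ j, c j = 1 ∨ c j = p j 0 ∨ c j = p j 1) ∧ m = ∏ j, c j} ∧
      ∀ (H : Subgroup (G a)) (N : Subgroup ↥H) [N.Normal], (H ≠ ⊤ ∨ N ≠ ⊥) → Set.range (orderOf : (↥H ⧸ N) → ℕ) ≠ {m : ℕ | ∃ c : Fin s → ℕ, (∀ j, c j = 1 ∨ c j = p j 0 ∨ c j = p j 1) ∧ m = ∏ j, c j} := by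
  have hne : ∀ j (i : Fin 2), p j i ≠ p j (i + 1) := fun j i h =>
    fin2_ne i (hinj j i j (i + 1) h).2
  choose X instG instF hblk k hcard _ hk2 using fun j i =>
    exists_blk (p j i) (p j (i + 1)) (hp j i) (hp j (i + 1)) (hne j i)
  exact @main_aux s p hp hinj X instG instF hblk k hcard hk2

end Cfsg.Agent.Helper59.CritSpec
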