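import Mathlib
import Cfsg.Agent.Helper62.D8.Defs

/-!
# Helper59: piece (K1d) `shape_of_core` of helper62's S3716 plan

Assembly of the four possible shapes `Shape3 … Shape6` from the common core of `w₁, w₃` and the
three possible forms (`SecA1`, `SecA2`, `SecB`) of `w₂` and `w₄`, using `⟨w₂, w₄⟩ = 2` and the
defect-zero condition `Lat.dz`.

Method: the six core points are packed into an injective `p : Fin 6 → ι`, so that `simp` decides all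
equalities between them; inner products are evaluated pointwise.
-/

set_option autoImplicit false
set_option linter.unusedSimpArgs false
set_option linter.unusedSectionVars false
set_option linter.unusedVariables false
open Cfsg Finset

namespace Cfsg.Agent.Helper59.D8

open Cfsg.Agent.Helper62.D8

section arith
variable {ι : Type*} [Fintype ι] [DecidableEq ι]

theorem sum_ind_mul (j : ι) (f : ι → ℤ) : ∑ i, ind j i * f i = f j := by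
  simp [ind]

theorem isSign_mul_self {s : ℤ} (h : IsSign s) : s * s = 1 := by
  rcases h with rfl | rfl <;> norm_num

theorem isSign_ne_zero {s : ℤ} (h : IsSign s) : s ≠ 0 := by
  rcases h with rfl | rfl <;> norm_num

theorem new_of_notMem {a b c d e f x : ι} (h : x ∉ [a, b, c, d, e, f]) :
    x ≠ a ∧ x ≠ b ∧ x ≠ c ∧ x ≠ d ∧ x ≠ e ∧ x ≠ f := by
  simpa only [List.mem_cons, List.not_mem_nil, or_false, not_or] using h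

theorem exists_other {x₁ x₂ x : ι} {c₁ c₂ c : ℤ} (h : (x = x₁ ∧ c = c₁) ∨ (x = x₂ ∧ c = c₂)) :
    ∃ (x' : ι) (c' : ℤ), (x = x₁ ∧ c = c₁ ∧ x' = x₂ ∧ c' = c₂) ∨
      (x = x₂ ∧ c = c₂ ∧ x' = x₁ ∧ c' = c₁) := by
  rcases h with ⟨rfl, rfl⟩ | ⟨rfl, rfl⟩
  · exact ⟨x₂, c₂, Or.inl ⟨rfl, rfl, rfl, rfl⟩⟩
  · exact ⟨x₁, c₁, Or.inr ⟨rfl, rfl, rfl, rfl⟩⟩

theorem ind_of_ne {j k : ι} (h : k ≠ j) : ind j k = 0 := by
  simp [ind, h]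

theorem ind_self (j : ι) : ind j j = 1 := by
  simp [ind]

theorem sign_eq_of_mul {g d : ℤ} (hg : IsSign g) (hd : IsSign d) (h : g * d = 1) : g = d := by
  rcases hg with rfl | rfl <;> rcases hd with rfl | rfl <;> simp at h ⊢

theorem sign_sum_ne_one {g₁ d₁ g₂ d₂ : ℤ} (hg₁ : IsSign g₁) (hd₁ : IsSign d₁) (hg₂ : IsSign g₂)
    (hd₂ : IsSign d₂) : g₁ * d₁ + g₂ * d₂ ≠ 1 := by
  rcases hg₁ with rfl | rfl <;> rcases hd₁ with rfl | rfl <;> rcases hg₂ with rfl | rfl <;>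
    rcases hd₂ with rfl | rfl <;> norm_num

theorem secA2_false {p : Fin 6 → ι} (hp : Function.Injective p) {ε a₁ a₂ b₁ b₂ : ℤ}
    (hε : IsSign ε) (ha₁ : IsSign a₁) (ha₂ : IsSign a₂) (hb₁ : IsSign b₁) (hb₂ : IsSign b₂)
    {u v z z' : ι → ℤ}
    (hu : ∀ i, u i = ind (p 0) i + ε * ind (p 1) i + a₁ * ind (p 2) i + a₂ * ind (p 3) i)
    (hv : ∀ i, v i = ind (p 0) i + ε * ind (p 1) i + b₁ * ind (p 4) i + b₂ * ind (p 5) i)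
    (hz : SecA2 (p 1) (p 2) (p 3) (p 4) (p 5) ε a₁ a₂ b₁ b₂ z)
    (hz' : SecA1 (p 0) (p 1) (p 4) (p 5) (p 2) (p 3) ε a₁ a₂ z' ∨
      SecA2 (p 1) (p 4) (p 5) (p 2) (p 3) ε b₁ b₂ a₁ a₂ z' ∨
      SecB (p 0) (p 1) (p 4) (p 5) (p 2) (p 3) b₁ b₂ a₁ a₂ z')
    (dzh : ∀ i, u i + z i = 0 → v i + z' i = 0 → u i = 0)
    (gz : ∑ i, z i * z' i = 2) : False := by
  have hε2 := isSign_mul_self hε
  have ha₁2 := isSign_mul_self ha₁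
  have ha₂2 := isSign_mul_self ha₂
  have hb₁2 := isSign_mul_self hb₁
  have hb₂2 := isSign_mul_self hb₂
  have hε0 := isSign_ne_zero hε
  have ha₁0 := isSign_ne_zero ha₁
  have ha₂0 := isSign_ne_zero ha₂
  have hb₁0 := isSign_ne_zero hb₁
  have hb₂0 := isSign_ne_zero hb₂
  have d2 := dzh (p 2)
  have d3 := dzh (p 3)
  obtain ⟨β, b, hβ, hform⟩ := hz
  rcases hz' with ⟨α, a, γ₁, γ₂, g₁, g₂, hα, hγ12, hγ1, hγ2, hg1, hg2, hz'f⟩ | hz' | hz'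
  · obtain ⟨n10, n11, n12, n13, n14, n15⟩ := new_of_notMem hγ1
    obtain ⟨n20, n21, n22, n23, n24, n25⟩ := new_of_notMem hγ2
    rcases hβ with ⟨rfl, rfl⟩ | ⟨rfl, rfl⟩ <;> rcases hform with hzf | hzf <;>
      rcases hα with ⟨rfl, rfl⟩ | ⟨rfl, rfl⟩ <;>
    · simp only [hzf, add_mul, sub_mul, Finset.sum_add_distrib, Finset.sum_sub_distrib, mul_assoc,
        ← Finset.mul_sum, sum_ind_mul] at gz
      simp [hu, hv, hzf, hz'f, ind, hp.eq_iff, n10, n11, n12, n13, n14, n15, n20, n21, n22, n23,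
        n24, n25, n10.symm, n11.symm, n12.symm, n13.symm, n14.symm, n15.symm, n20.symm, n21.symm,
        n22.symm, n23.symm, n24.symm, n25.symm, hε2, ha₁2, ha₂2, hb₁2, hb₂2, hε0, ha₁0, ha₂0, hb₁0,
        hb₂0] at gz d2 d3
  · obtain ⟨α, a, hα, hform'⟩ := hz'
    rcases hβ with ⟨rfl, rfl⟩ | ⟨rfl, rfl⟩ <;> rcases hform with hzf | hzf <;>
      rcases hα with ⟨rfl, rfl⟩ | ⟨rfl, rfl⟩ <;> rcases hform' with hz'f | hz'f <;>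
    · simp only [hzf, add_mul, sub_mul, Finset.sum_add_distrib, Finset.sum_sub_distrib, mul_assoc,
        ← Finset.mul_sum, sum_ind_mul] at gz
      simp [hu, hv, hzf, hz'f, ind, hp.eq_iff, hε2, ha₁2, ha₂2, hb₁2, hb₂2, hε0, ha₁0, ha₂0, hb₁0,
        hb₂0] at gz d2 d3
  · obtain ⟨α, a, γ, g, hα, hγ, hg, hz'f⟩ := hz'
    obtain ⟨n10, n11, n12, n13, n14, n15⟩ := new_of_notMem hγ
    rcases hβ with ⟨rfl, rfl⟩ | ⟨rfl, rfl⟩ <;> rcases hform with hzf | hzf <;>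
      rcases hα with ⟨rfl, rfl⟩ | ⟨rfl, rfl⟩ <;>
    · simp only [hzf, add_mul, sub_mul, Finset.sum_add_distrib, Finset.sum_sub_distrib, mul_assoc,
        ← Finset.mul_sum, sum_ind_mul] at gz
      simp [hu, hv, hzf, hz'f, ind, hp.eq_iff, n10, n11, n12, n13, n14, n15,
        n10.symm, n11.symm, n12.symm, n13.symm, n14.symm, n15.symm, hε2, ha₁2, ha₂2, hb₁2, hb₂2,
        hε0, ha₁0, ha₂0, hb₁0, hb₂0] at gz d2 d3

theorem shape3_of {p : Fin 6 → ι} (hp : Function.Injective p) {ε a₁ a₂ b₁ b₂ : ℤ}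
    (hε : IsSign ε) (ha₁ : IsSign a₁) (ha₂ : IsSign a₂) (hb₁ : IsSign b₁) (hb₂ : IsSign b₂)
    {w₁ w₂ w₃ w₄ : ι → ℤ}
    (hw1 : ∀ i, w₁ i = ind (p 0) i + ε * ind (p 1) i + a₁ * ind (p 2) i + a₂ * ind (p 3) i)
    (hw3 : ∀ i, w₃ i = ind (p 0) i + ε * ind (p 1) i + b₁ * ind (p 4) i + b₂ * ind (p 5) i)
    (h2 : SecA1 (p 0) (p 1) (p 2) (p 3) (p 4) (p 5) ε b₁ b₂ w₂)
    (h4 : SecA1 (p 0) (p 1) (p 4) (p 5) (p 2) (p 3) ε a₁ a₂ w₄)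
    (g24 : ∑ i, w₂ i * w₄ i = 2) : Shape3 (p 0) w₁ w₂ w₃ w₄ := by
  have hε2 := isSign_mul_self hε
  obtain ⟨β, b, γ₁, γ₂, g₁, g₂, hβ, hγ12, hγ1, hγ2, hg1, hg2, hw2⟩ := h2
  obtain ⟨α, a, δ₁, δ₂, d₁, d₂, hα, hδ12, hδ1, hδ2, hd1, hd2, hw4⟩ := h4
  obtain ⟨n10, n11, n12, n13, n14, n15⟩ := new_of_notMem hγ1
  obtain ⟨n20, n21, n22, n23, n24, n25⟩ := new_of_notMem hγ2
  obtain ⟨n30, n31, n34, n35, n32, n33⟩ := new_of_notMem hδ1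
  obtain ⟨n40, n41, n44, n45, n42, n43⟩ := new_of_notMem hδ2
  have E : g₁ * (d₁ * ind δ₁ γ₁ + d₂ * ind δ₂ γ₁) + g₂ * (d₁ * ind δ₁ γ₂ + d₂ * ind δ₂ γ₂) = 1 := by
    simp only [hw2, add_mul, sub_mul, Finset.sum_add_distrib, Finset.sum_sub_distrib, mul_assoc,
        ← Finset.mul_sum, sum_ind_mul] at g24
    have e1 : w₄ (p 1) = ε := by
      rcases hα with ⟨rfl, rfl⟩ | ⟨rfl, rfl⟩ <;>
        simp [hw4, ind, hp.eq_iff, n31, n41, n31.symm, n41.symm]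
    have e2 : w₄ β = 0 := by
      rcases hα with ⟨rfl, rfl⟩ | ⟨rfl, rfl⟩ <;> rcases hβ with ⟨rfl, rfl⟩ | ⟨rfl, rfl⟩ <;>
        simp [hw4, ind, hp.eq_iff, n34, n35, n44, n45, n34.symm, n35.symm, n44.symm, n45.symm]
    have e3 : w₄ γ₁ = d₁ * ind δ₁ γ₁ + d₂ * ind δ₂ γ₁ := by
      rcases hα with ⟨rfl, rfl⟩ | ⟨rfl, rfl⟩ <;> rw [hw4] <;>
        simp only [ind_of_ne n11, ind_of_ne n12, ind_of_ne n13, mul_zero, zero_add, add_zero]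
    have e4 : w₄ γ₂ = d₁ * ind δ₁ γ₂ + d₂ * ind δ₂ γ₂ := by
      rcases hα with ⟨rfl, rfl⟩ | ⟨rfl, rfl⟩ <;> rw [hw4] <;>
        simp only [ind_of_ne n21, ind_of_ne n22, ind_of_ne n23, mul_zero, zero_add, add_zero]
    rw [e1, e2, e3, e4] at g24
    linarith [hε2]
  obtain ⟨γ, g, δ, d, φ, f, ⟨m10, m11, m12, m13, m14, m15⟩, ⟨m20, m21, m22, m23, m24, m25⟩,
      ⟨m30, m31, m32, m33, m34, m35⟩, hgs, hds, hfs, hγδ, hγφ, hδφ, hw2', hw4'⟩ :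
      ∃ (γ : ι) (g : ℤ) (δ : ι) (d : ℤ) (φ : ι) (f : ℤ),
        (γ ≠ p 0 ∧ γ ≠ p 1 ∧ γ ≠ p 2 ∧ γ ≠ p 3 ∧ γ ≠ p 4 ∧ γ ≠ p 5) ∧
        (δ ≠ p 0 ∧ δ ≠ p 1 ∧ δ ≠ p 2 ∧ δ ≠ p 3 ∧ δ ≠ p 4 ∧ δ ≠ p 5) ∧
        (φ ≠ p 0 ∧ φ ≠ p 1 ∧ φ ≠ p 2 ∧ φ ≠ p 3 ∧ φ ≠ p 4 ∧ φ ≠ p 5) ∧
        IsSign g ∧ IsSign d ∧ IsSign f ∧ γ ≠ δ ∧ γ ≠ φ ∧ δ ≠ φ ∧
        (∀ i, w₂ i = ε * ind (p 1) i + b * ind β i + g * ind γ i + f * ind φ i) ∧
        (∀ i, w₄ i = ε * ind (p 1) i + a * ind α i + d * ind δ i + f * ind φ i) := by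
    by_cases h11 : γ₁ = δ₁
    · subst h11
      by_cases h22 : γ₂ = δ₂
      · subst h22
        exfalso
        simp only [ind_self, ind_of_ne hδ12, ind_of_ne hδ12.symm, mul_one, mul_zero, add_zero,
          zero_add] at E
        exact sign_sum_ne_one hg1 hd1 hg2 hd2 E
      · have h21 : γ₂ ≠ γ₁ := hγ12.symm
        simp only [ind_self, ind_of_ne hδ12, ind_of_ne h21, ind_of_ne h22, mul_one, mul_zero,
          add_zero, zero_add] at E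
        have hgd := sign_eq_of_mul hg1 hd1 E
        subst hgd
        exact ⟨γ₂, g₂, δ₂, d₂, γ₁, g₁, ⟨n20, n21, n22, n23, n24, n25⟩,
          ⟨n40, n41, n42, n43, n44, n45⟩, ⟨n10, n11, n12, n13, n14, n15⟩, hg2, hd2, hg1, h22, h21,
          hδ12.symm, fun i => by rw [hw2 i]; ring, fun i => by rw [hw4 i]; ring⟩
    · by_cases h12 : γ₁ = δ₂
      · subst h12
        by_cases h21 : γ₂ = δ₁
        · subst h21
          exfalso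
          simp only [ind_self, ind_of_ne hδ12, ind_of_ne hδ12.symm, mul_one, mul_zero, add_zero,
            zero_add] at E
          exact sign_sum_ne_one hg1 hd2 hg2 hd1 E
        · have h22 : γ₂ ≠ γ₁ := hγ12.symm
          simp only [ind_self, ind_of_ne h11, ind_of_ne h21, ind_of_ne h22, mul_one, mul_zero,
            add_zero, zero_add] at E
          have hgd := sign_eq_of_mul hg1 hd2 E
          subst hgd
          exact ⟨γ₂, g₂, δ₁, d₁, γ₁, g₁, ⟨n20, n21, n22, n23, n24, n25⟩,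
            ⟨n30, n31, n32, n33, n34, n35⟩, ⟨n10, n11, n12, n13, n14, n15⟩, hg2, hd1, hg1, h21, h22,
            hδ12, fun i => by rw [hw2 i]; ring, fun i => by rw [hw4 i]⟩
      · by_cases h21 : γ₂ = δ₁
        · subst h21
          have h22 : γ₂ ≠ δ₂ := hδ12
          simp only [ind_self, ind_of_ne h11, ind_of_ne h12, ind_of_ne h22, mul_one, mul_zero,
            add_zero, zero_add] at E
          have hgd := sign_eq_of_mul hg2 hd1 E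
          subst hgd
          exact ⟨γ₁, g₁, δ₂, d₂, γ₂, g₂, ⟨n10, n11, n12, n13, n14, n15⟩,
            ⟨n40, n41, n42, n43, n44, n45⟩, ⟨n20, n21, n22, n23, n24, n25⟩, hg1, hd2, hg2, h12, hγ12,
            hδ12.symm, fun i => by rw [hw2 i], fun i => by rw [hw4 i]; ring⟩
        · by_cases h22 : γ₂ = δ₂
          · subst h22
            simp only [ind_self, ind_of_ne h11, ind_of_ne h12, ind_of_ne h21, mul_one, mul_zero,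
              add_zero, zero_add] at E
            have hgd := sign_eq_of_mul hg2 hd2 E
            subst hgd
            exact ⟨γ₁, g₁, δ₁, d₁, γ₂, g₂, ⟨n10, n11, n12, n13, n14, n15⟩,
              ⟨n30, n31, n32, n33, n34, n35⟩, ⟨n20, n21, n22, n23, n24, n25⟩, hg1, hd1, hg2, h11,
              hγ12, hδ12, fun i => by rw [hw2 i], fun i => by rw [hw4 i]⟩
          · exfalso
            simp only [ind_of_ne h11, ind_of_ne h12, ind_of_ne h21, ind_of_ne h22, mul_zero,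
              add_zero] at E
            norm_num at E
  obtain ⟨α', a', hαs⟩ := exists_other hα
  obtain ⟨β', b', hβs⟩ := exists_other hβ
  refine ⟨α', γ, β', δ, φ, β, α, p 1, ?_, a', g, b', d, f, b, a, ε, ?_, hgs, ?_, hds, hfs, ?_, ?_, hε,
    ?_, ?_, ?_, ?_⟩
  · rcases hαs with ⟨rfl, rfl, rfl, rfl⟩ | ⟨rfl, rfl, rfl, rfl⟩ <;>
      rcases hβs with ⟨rfl, rfl, rfl, rfl⟩ | ⟨rfl, rfl, rfl, rfl⟩ <;>
    simp [hp.eq_iff, m10, m11, m12, m13, m14, m15, m20, m21, m22, m23, m24, m25, m30, m31, m32, m33,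
      m34, m35, m10.symm, m11.symm, m12.symm, m13.symm, m14.symm, m15.symm, m20.symm, m21.symm,
      m22.symm, m23.symm, m24.symm, m25.symm, m30.symm, m31.symm, m32.symm, m33.symm, m34.symm,
      m35.symm, hγδ, hγφ, hδφ, hγδ.symm, hγφ.symm, hδφ.symm]
  · rcases hαs with ⟨rfl, rfl, rfl, rfl⟩ | ⟨rfl, rfl, rfl, rfl⟩ <;> assumption
  · rcases hβs with ⟨rfl, rfl, rfl, rfl⟩ | ⟨rfl, rfl, rfl, rfl⟩ <;> assumption
  · rcases hβs with ⟨rfl, rfl, rfl, rfl⟩ | ⟨rfl, rfl, rfl, rfl⟩ <;> assumption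
  · rcases hαs with ⟨rfl, rfl, rfl, rfl⟩ | ⟨rfl, rfl, rfl, rfl⟩ <;> assumption
  · intro i
    rcases hαs with ⟨rfl, rfl, rfl, rfl⟩ | ⟨rfl, rfl, rfl, rfl⟩ <;> rw [hw1 i] <;> ring
  · intro i
    rw [hw2' i]; ring
  · intro i
    rcases hβs with ⟨rfl, rfl, rfl, rfl⟩ | ⟨rfl, rfl, rfl, rfl⟩ <;> rw [hw3 i] <;> ring
  · intro i
    rw [hw4' i]; ring

theorem shape4_of {p : Fin 6 → ι} (hp : Function.Injective p) {ε a₁ a₂ b₁ b₂ : ℤ}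
    (hε : IsSign ε) (ha₁ : IsSign a₁) (ha₂ : IsSign a₂) (hb₁ : IsSign b₁) (hb₂ : IsSign b₂)
    {w₁ w₂ w₃ w₄ : ι → ℤ}
    (hw1 : ∀ i, w₁ i = ind (p 0) i + ε * ind (p 1) i + a₁ * ind (p 2) i + a₂ * ind (p 3) i)
    (hw3 : ∀ i, w₃ i = ind (p 0) i + ε * ind (p 1) i + b₁ * ind (p 4) i + b₂ * ind (p 5) i)
    (h2 : SecA1 (p 0) (p 1) (p 2) (p 3) (p 4) (p 5) ε b₁ b₂ w₂)
    (h4 : SecB (p 0) (p 1) (p 4) (p 5) (p 2) (p 3) b₁ b₂ a₁ a₂ w₄)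
    (g24 : ∑ i, w₂ i * w₄ i = 2) : Shape4 (p 0) w₁ w₂ w₃ w₄ := by
  have hε2 := isSign_mul_self hε
  have ha₁2 := isSign_mul_self ha₁
  have ha₂2 := isSign_mul_self ha₂
  have hb₁2 := isSign_mul_self hb₁
  have hb₂2 := isSign_mul_self hb₂
  obtain ⟨β, b, γ₁, γ₂, g₁, g₂, hβ, hγ12, hγ1, hγ2, hg1, hg2, hw2⟩ := h2
  obtain ⟨β'', b'', δ, d, hβ'', hδ, hd, hw4⟩ := h4
  obtain ⟨n10, n11, n12, n13, n14, n15⟩ := new_of_notMem hγ1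
  obtain ⟨n20, n21, n22, n23, n24, n25⟩ := new_of_notMem hγ2
  obtain ⟨n30, n31, n32, n33, n34, n35⟩ := new_of_notMem hδ
  have key : (β'' = β ∧ b'' = b) ∧ ((γ₁ = δ ∧ g₁ = d) ∨ (γ₂ = δ ∧ g₂ = d)) := by
    simp only [hw2, add_mul, sub_mul, Finset.sum_add_distrib, Finset.sum_sub_distrib, mul_assoc,
        ← Finset.mul_sum, sum_ind_mul] at g24
    by_cases h1 : γ₁ = δ
    · subst h1
      have h2 : γ₂ ≠ γ₁ := hγ12.symm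
      rcases hβ with ⟨rfl, rfl⟩ | ⟨rfl, rfl⟩ <;> rcases hβ'' with ⟨rfl, rfl⟩ | ⟨rfl, rfl⟩ <;>
        simp [hw4, ind, hp.eq_iff, n10, n11, n12, n13, n14, n15, n20, n21, n22, n23, n24, n25,
          n10.symm, n11.symm, n12.symm, n13.symm, n14.symm, n15.symm, n20.symm, n21.symm,
          n22.symm, n23.symm, n24.symm, n25.symm, hε2, ha₁2, ha₂2, hb₁2, hb₂2, h2, h2.symm] at g24 <;>
        rcases hg1 with rfl | rfl <;> rcases hd with rfl | rfl <;> simp at g24 ⊢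
    · by_cases h2 : γ₂ = δ
      · subst h2
        rcases hβ with ⟨rfl, rfl⟩ | ⟨rfl, rfl⟩ <;> rcases hβ'' with ⟨rfl, rfl⟩ | ⟨rfl, rfl⟩ <;>
          simp [hw4, ind, hp.eq_iff, n10, n11, n12, n13, n14, n15, n20, n21, n22, n23, n24, n25,
            n10.symm, n11.symm, n12.symm, n13.symm, n14.symm, n15.symm, n20.symm, n21.symm,
            n22.symm, n23.symm, n24.symm, n25.symm, hε2, ha₁2, ha₂2, hb₁2, hb₂2, h1] at g24 <;>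
          rcases hg2 with rfl | rfl <;> rcases hd with rfl | rfl <;> simp at g24 ⊢
      · exfalso
        rcases hβ with ⟨rfl, rfl⟩ | ⟨rfl, rfl⟩ <;> rcases hβ'' with ⟨rfl, rfl⟩ | ⟨rfl, rfl⟩ <;>
          simp [hw4, ind, hp.eq_iff, n10, n11, n12, n13, n14, n15, n20, n21, n22, n23, n24, n25,
            n10.symm, n11.symm, n12.symm, n13.symm, n14.symm, n15.symm, n20.symm, n21.symm,
            n22.symm, n23.symm, n24.symm, n25.symm, hε2, ha₁2, ha₂2, hb₁2, hb₂2, h1, h2, n30, n31, n32, n33, n34, n35, n30.symm, n31.symm, n32.symm, n33.symm, n34.symm, n35.symm] at g24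
  obtain ⟨⟨hβeq, hbeq⟩, hsh⟩ := key
  subst hβeq hbeq
  obtain ⟨γ, g, ⟨m0, m1, m2, m3, m4, m5⟩, hgs, hγδ, hw2'⟩ : ∃ (γ : ι) (g : ℤ),
      (γ ≠ p 0 ∧ γ ≠ p 1 ∧ γ ≠ p 2 ∧ γ ≠ p 3 ∧ γ ≠ p 4 ∧ γ ≠ p 5) ∧ IsSign g ∧ γ ≠ δ ∧
      ∀ i, w₂ i = ε * ind (p 1) i + b'' * ind β'' i + g * ind γ i + d * ind δ i := by
    rcases hsh with ⟨rfl, rfl⟩ | ⟨rfl, rfl⟩
    · exact ⟨γ₂, g₂, ⟨n20, n21, n22, n23, n24, n25⟩, hg2, hγ12.symm, fun i => by rw [hw2 i]; ring⟩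
    · exact ⟨γ₁, g₁, ⟨n10, n11, n12, n13, n14, n15⟩, hg1, hγ12, fun i => by rw [hw2 i]⟩
  obtain ⟨β', b', hβs⟩ := exists_other hβ
  refine ⟨β', γ, δ, β'', p 2, p 3, p 1, ?_, b', g, d, b'', a₁, a₂, ε, ?_, hgs, hd, ?_, ha₁, ha₂, hε,
    ?_, ?_, ?_, ?_⟩
  · rcases hβs with ⟨rfl, rfl, rfl, rfl⟩ | ⟨rfl, rfl, rfl, rfl⟩ <;>
    simp [hp.eq_iff, m0, m1, m2, m3, m4, m5, n30, n31, n32, n33, n34, n35,
        m0.symm, m1.symm, m2.symm, m3.symm, m4.symm, m5.symm, n30.symm, n31.symm,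
        n32.symm, n33.symm, n34.symm, n35.symm, hγδ, hγδ.symm]
  · rcases hβs with ⟨rfl, rfl, rfl, rfl⟩ | ⟨rfl, rfl, rfl, rfl⟩ <;> assumption
  · rcases hβs with ⟨rfl, rfl, rfl, rfl⟩ | ⟨rfl, rfl, rfl, rfl⟩ <;> assumption
  · intro i
    rw [hw1 i]; ring
  · intro i
    rw [hw2' i]; ring
  · intro i
    rcases hβs with ⟨rfl, rfl, rfl, rfl⟩ | ⟨rfl, rfl, rfl, rfl⟩ <;> rw [hw3 i] <;> ring
  · intro i
    rw [hw4 i]; ring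

theorem shape5_of {p : Fin 6 → ι} (hp : Function.Injective p) {ε a₁ a₂ b₁ b₂ : ℤ}
    (hε : IsSign ε) (ha₁ : IsSign a₁) (ha₂ : IsSign a₂) (hb₁ : IsSign b₁) (hb₂ : IsSign b₂)
    {w₁ w₂ w₃ w₄ : ι → ℤ}
    (hw1 : ∀ i, w₁ i = ind (p 0) i + ε * ind (p 1) i + a₁ * ind (p 2) i + a₂ * ind (p 3) i)
    (hw3 : ∀ i, w₃ i = ind (p 0) i + ε * ind (p 1) i + b₁ * ind (p 4) i + b₂ * ind (p 5) i)
    (h2 : SecB (p 0) (p 1) (p 2) (p 3) (p 4) (p 5) a₁ a₂ b₁ b₂ w₂)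
    (h4 : SecA1 (p 0) (p 1) (p 4) (p 5) (p 2) (p 3) ε a₁ a₂ w₄)
    (g24 : ∑ i, w₂ i * w₄ i = 2) : Shape5 (p 0) w₁ w₂ w₃ w₄ := by
  have hε2 := isSign_mul_self hε
  have ha₁2 := isSign_mul_self ha₁
  have ha₂2 := isSign_mul_self ha₂
  have hb₁2 := isSign_mul_self hb₁
  have hb₂2 := isSign_mul_self hb₂
  obtain ⟨α'', a'', γ, g, hα'', hγ, hg, hw2⟩ := h2
  obtain ⟨α, a, δ₁, δ₂, d₁, d₂, hα, hδ12, hδ1, hδ2, hd1, hd2, hw4⟩ := h4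
  obtain ⟨n10, n11, n12, n13, n14, n15⟩ := new_of_notMem hδ1
  obtain ⟨n20, n21, n22, n23, n24, n25⟩ := new_of_notMem hδ2
  obtain ⟨n30, n31, n32, n33, n34, n35⟩ := new_of_notMem hγ
  have g42 : ∑ i, w₄ i * w₂ i = 2 := by
    rw [← g24]; exact Finset.sum_congr rfl (fun i _ => mul_comm _ _)
  have key : (α'' = α ∧ a'' = a) ∧ ((δ₁ = γ ∧ d₁ = g) ∨ (δ₂ = γ ∧ d₂ = g)) := by
    simp only [hw4, add_mul, sub_mul, Finset.sum_add_distrib, Finset.sum_sub_distrib, mul_assoc,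
        ← Finset.mul_sum, sum_ind_mul] at g42
    by_cases h1 : δ₁ = γ
    · subst h1
      have h2 : δ₂ ≠ δ₁ := hδ12.symm
      rcases hα with ⟨rfl, rfl⟩ | ⟨rfl, rfl⟩ <;> rcases hα'' with ⟨rfl, rfl⟩ | ⟨rfl, rfl⟩ <;>
        simp [hw2, ind, hp.eq_iff, n10, n11, n12, n13, n14, n15, n20, n21, n22, n23, n24, n25,
          n10.symm, n11.symm, n12.symm, n13.symm, n14.symm, n15.symm, n20.symm, n21.symm,
          n22.symm, n23.symm, n24.symm, n25.symm, hε2, ha₁2, ha₂2, hb₁2, hb₂2, h2, h2.symm] at g42 <;>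
        rcases hd1 with rfl | rfl <;> rcases hg with rfl | rfl <;> simp at g42 ⊢
    · by_cases h2 : δ₂ = γ
      · subst h2
        rcases hα with ⟨rfl, rfl⟩ | ⟨rfl, rfl⟩ <;> rcases hα'' with ⟨rfl, rfl⟩ | ⟨rfl, rfl⟩ <;>
          simp [hw2, ind, hp.eq_iff, n10, n11, n12, n13, n14, n15, n20, n21, n22, n23, n24, n25,
            n10.symm, n11.symm, n12.symm, n13.symm, n14.symm, n15.symm, n20.symm, n21.symm,
            n22.symm, n23.symm, n24.symm, n25.symm, hε2, ha₁2, ha₂2, hb₁2, hb₂2, h1] at g42 <;>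
          rcases hd2 with rfl | rfl <;> rcases hg with rfl | rfl <;> simp at g42 ⊢
      · exfalso
        rcases hα with ⟨rfl, rfl⟩ | ⟨rfl, rfl⟩ <;> rcases hα'' with ⟨rfl, rfl⟩ | ⟨rfl, rfl⟩ <;>
          simp [hw2, ind, hp.eq_iff, n10, n11, n12, n13, n14, n15, n20, n21, n22, n23, n24, n25,
            n10.symm, n11.symm, n12.symm, n13.symm, n14.symm, n15.symm, n20.symm, n21.symm,
            n22.symm, n23.symm, n24.symm, n25.symm, hε2, ha₁2, ha₂2, hb₁2, hb₂2, h1, h2, n30, n31,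
            n32, n33, n34, n35, n30.symm, n31.symm, n32.symm, n33.symm, n34.symm, n35.symm] at g42
  obtain ⟨⟨hαeq, haeq⟩, hsh⟩ := key
  subst hαeq haeq
  obtain ⟨δ, d, ⟨m0, m1, m2, m3, m4, m5⟩, hds, hδγ, hw4'⟩ : ∃ (δ : ι) (d : ℤ),
      (δ ≠ p 0 ∧ δ ≠ p 1 ∧ δ ≠ p 4 ∧ δ ≠ p 5 ∧ δ ≠ p 2 ∧ δ ≠ p 3) ∧ IsSign d ∧ δ ≠ γ ∧
      ∀ i, w₄ i = ε * ind (p 1) i + a'' * ind α'' i + d * ind δ i + g * ind γ i := by
    rcases hsh with ⟨rfl, rfl⟩ | ⟨rfl, rfl⟩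
    · exact ⟨δ₂, d₂, ⟨n20, n21, n22, n23, n24, n25⟩, hd2, hδ12.symm, fun i => by rw [hw4 i]; ring⟩
    · exact ⟨δ₁, d₁, ⟨n10, n11, n12, n13, n14, n15⟩, hd1, hδ12, fun i => by rw [hw4 i]⟩
  obtain ⟨α', a', hαs⟩ := exists_other hα
  refine ⟨δ, γ, p 4, p 5, α', p 1, α'', ?_, d, g, b₁, b₂, a', ε, a'', hds, hg, hb₁, hb₂, ?_, hε, ?_,
    ?_, ?_, ?_, ?_⟩
  · rcases hαs with ⟨rfl, rfl, rfl, rfl⟩ | ⟨rfl, rfl, rfl, rfl⟩ <;>
    simp [hp.eq_iff, m0, m1, m2, m3, m4, m5, n30, n31, n32, n33, n34, n35,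
        m0.symm, m1.symm, m2.symm, m3.symm, m4.symm, m5.symm, n30.symm, n31.symm,
        n32.symm, n33.symm, n34.symm, n35.symm, hδγ, hδγ.symm]
  · rcases hαs with ⟨rfl, rfl, rfl, rfl⟩ | ⟨rfl, rfl, rfl, rfl⟩ <;> assumption
  · rcases hαs with ⟨rfl, rfl, rfl, rfl⟩ | ⟨rfl, rfl, rfl, rfl⟩ <;> assumption
  · intro i
    rcases hαs with ⟨rfl, rfl, rfl, rfl⟩ | ⟨rfl, rfl, rfl, rfl⟩ <;> rw [hw1 i] <;> ring
  · intro i
    rw [hw2 i]; ring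
  · intro i
    rw [hw3 i]; ring
  · intro i
    rw [hw4' i]; ring

theorem shape6_of {p : Fin 6 → ι} (hp : Function.Injective p) {ε a₁ a₂ b₁ b₂ : ℤ}
    (hε : IsSign ε) (ha₁ : IsSign a₁) (ha₂ : IsSign a₂) (hb₁ : IsSign b₁) (hb₂ : IsSign b₂)
    {w₁ w₂ w₃ w₄ : ι → ℤ}
    (hw1 : ∀ i, w₁ i = ind (p 0) i + ε * ind (p 1) i + a₁ * ind (p 2) i + a₂ * ind (p 3) i)
    (hw3 : ∀ i, w₃ i = ind (p 0) i + ε * ind (p 1) i + b₁ * ind (p 4) i + b₂ * ind (p 5) i)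
    (h2 : SecB (p 0) (p 1) (p 2) (p 3) (p 4) (p 5) a₁ a₂ b₁ b₂ w₂)
    (h4 : SecB (p 0) (p 1) (p 4) (p 5) (p 2) (p 3) b₁ b₂ a₁ a₂ w₄)
    (g24 : ∑ i, w₂ i * w₄ i = 2) : Shape6 (p 0) w₁ w₂ w₃ w₄ := by
  have hε2 := isSign_mul_self hε
  have ha₁2 := isSign_mul_self ha₁
  have ha₂2 := isSign_mul_self ha₂
  have hb₁2 := isSign_mul_self hb₁
  have hb₂2 := isSign_mul_self hb₂
  obtain ⟨α, a, γ, g, hα, hγ, hg, hw2⟩ := h2
  obtain ⟨β, b, δ, d, hβ, hδ, hd, hw4⟩ := h4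
  have hg0 := isSign_ne_zero hg
  have hd0 := isSign_ne_zero hd
  obtain ⟨n10, n11, n12, n13, n14, n15⟩ := new_of_notMem hγ
  obtain ⟨n20, n21, n22, n23, n24, n25⟩ := new_of_notMem hδ
  have key : γ ≠ δ := by
    rintro rfl
    rcases hα with ⟨rfl, rfl⟩ | ⟨rfl, rfl⟩ <;> rcases hβ with ⟨rfl, rfl⟩ | ⟨rfl, rfl⟩ <;>
    · simp only [hw2, add_mul, sub_mul, Finset.sum_add_distrib, Finset.sum_sub_distrib, mul_assoc,
        ← Finset.mul_sum, sum_ind_mul] at g24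
      simp [hw4, ind, hp.eq_iff, n10, n11, n12, n13, n14, n15,
        n10.symm, n11.symm, n12.symm, n13.symm, n14.symm, n15.symm, hε2, ha₁2, ha₂2, hb₁2, hb₂2,
        hg0, hd0] at g24
  obtain ⟨α', a', hαs⟩ := exists_other hα
  obtain ⟨β', b', hβs⟩ := exists_other hβ
  refine ⟨δ, γ, β', β, α', p 1, α, ?_, d, g, b', b, a', ε, a, hd, hg, ?_, ?_, ?_, hε, ?_, ?_, ?_, ?_, ?_⟩
  · rcases hαs with ⟨rfl, rfl, rfl, rfl⟩ | ⟨rfl, rfl, rfl, rfl⟩ <;>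
      rcases hβs with ⟨rfl, rfl, rfl, rfl⟩ | ⟨rfl, rfl, rfl, rfl⟩ <;>
    simp [hp.eq_iff, n10, n11, n12, n13, n14, n15, n20, n21, n22, n23, n24, n25,
        n10.symm, n11.symm, n12.symm, n13.symm, n14.symm, n15.symm, n20.symm, n21.symm,
        n22.symm, n23.symm, n24.symm, n25.symm, key, key.symm]
  · rcases hβs with ⟨rfl, rfl, rfl, rfl⟩ | ⟨rfl, rfl, rfl, rfl⟩ <;> assumption
  · rcases hβs with ⟨rfl, rfl, rfl, rfl⟩ | ⟨rfl, rfl, rfl, rfl⟩ <;> assumption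
  · rcases hαs with ⟨rfl, rfl, rfl, rfl⟩ | ⟨rfl, rfl, rfl, rfl⟩ <;> assumption
  · rcases hαs with ⟨rfl, rfl, rfl, rfl⟩ | ⟨rfl, rfl, rfl, rfl⟩ <;> assumption
  · intro i
    rcases hαs with ⟨rfl, rfl, rfl, rfl⟩ | ⟨rfl, rfl, rfl, rfl⟩ <;> rw [hw1 i] <;> ring
  · intro i
    rcases hαs with ⟨rfl, rfl, rfl, rfl⟩ | ⟨rfl, rfl, rfl, rfl⟩ <;>
      rcases hβs with ⟨rfl, rfl, rfl, rfl⟩ | ⟨rfl, rfl, rfl, rfl⟩ <;> rw [hw2 i] <;> ring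
  · intro i
    rcases hβs with ⟨rfl, rfl, rfl, rfl⟩ | ⟨rfl, rfl, rfl, rfl⟩ <;> rw [hw3 i] <;> ring
  · intro i
    rcases hαs with ⟨rfl, rfl, rfl, rfl⟩ | ⟨rfl, rfl, rfl, rfl⟩ <;>
      rcases hβs with ⟨rfl, rfl, rfl, rfl⟩ | ⟨rfl, rfl, rfl, rfl⟩ <;> rw [hw4 i] <;> ring


/-- (K1d) assembly of the shape. -/
theorem shape_of_core (o : ι) (d : ι → ℕ) (w₁ w₂ w₃ w₄ : ι → ℤ) (h : Lat o d w₁ w₂ w₃ w₄)
    (θ α₁ α₂ β₁ β₂ : ι) (ε a₁ a₂ b₁ b₂ : ℤ) (hc : Core o w₁ w₃ θ α₁ α₂ β₁ β₂ ε a₁ a₂ b₁ b₂)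
    (h2 : SecA1 o θ α₁ α₂ β₁ β₂ ε b₁ b₂ w₂ ∨ SecA2 θ α₁ α₂ β₁ β₂ ε a₁ a₂ b₁ b₂ w₂ ∨
        SecB o θ α₁ α₂ β₁ β₂ a₁ a₂ b₁ b₂ w₂)
    (h4 : SecA1 o θ β₁ β₂ α₁ α₂ ε a₁ a₂ w₄ ∨ SecA2 θ β₁ β₂ α₁ α₂ ε b₁ b₂ a₁ a₂ w₄ ∨
        SecB o θ β₁ β₂ α₁ α₂ b₁ b₂ a₁ a₂ w₄) :
    Shape3 o w₁ w₂ w₃ w₄ ∨ Shape4 o w₁ w₂ w₃ w₄ ∨ Shape5 o w₁ w₂ w₃ w₄ ∨ Shape6 o w₁ w₂ w₃ w₄ := by
  obtain ⟨hnd, hε, ha₁, ha₂, hb₁, hb₂, hw1, hw3⟩ := hc
  have hp : Function.Injective ![o, θ, α₁, α₂, β₁, β₂] := by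
    rw [← List.nodup_ofFn]
    simpa using hnd
  have hp' : Function.Injective ![o, θ, β₁, β₂, α₁, α₂] := by
    rw [← List.nodup_ofFn]
    have hperm : [o, θ, β₁, β₂, α₁, α₂].Nodup := by
      have hp1 : List.Perm [o, θ, β₁, β₂, α₁, α₂] [o, θ, α₁, α₂, β₁, β₂] := by
        refine List.Perm.cons _ (List.Perm.cons _ ?_)
        exact List.perm_append_comm (l₁ := [β₁, β₂]) (l₂ := [α₁, α₂])
      exact hp1.nodup_iff.2 hnd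
    simpa using hperm
  have g24 := h.g24
  have g42 : ∑ i, w₄ i * w₂ i = 2 := by
    rw [← h.g24]; exact Finset.sum_congr rfl (fun i _ => mul_comm _ _)
  rcases h2 with hA1 | hA2 | hB
  · rcases h4 with hA1' | hA2' | hB'
    · exact Or.inl (shape3_of hp hε ha₁ ha₂ hb₁ hb₂ hw1 hw3 hA1 hA1' g24)
    · exact (secA2_false hp' hε hb₁ hb₂ ha₁ ha₂ hw3 hw1 hA2' (Or.inl hA1)
        (fun i h34 h12 => (h.dz i h12 h34).2.2.1) g42).elim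
    · exact Or.inr (Or.inl (shape4_of hp hε ha₁ ha₂ hb₁ hb₂ hw1 hw3 hA1 hB' g24))
  · exact (secA2_false hp hε ha₁ ha₂ hb₁ hb₂ hw1 hw3 hA2 h4
      (fun i h12 h34 => (h.dz i h12 h34).1) g24).elim
  · rcases h4 with hA1' | hA2' | hB'
    · exact Or.inr (Or.inr (Or.inl (shape5_of hp hε ha₁ ha₂ hb₁ hb₂ hw1 hw3 hB hA1' g24)))
    · exact (secA2_false hp' hε hb₁ hb₂ ha₁ ha₂ hw3 hw1 hA2' (Or.inr (Or.inr hB))
        (fun i h34 h12 => (h.dz i h12 h34).2.2.1) g42).elim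
    · exact Or.inr (Or.inr (Or.inr (shape6_of hp hε ha₁ ha₂ hb₁ hb₂ hw1 hw3 hB hB' g24)))

end arith

end Cfsg.Agent.Helper59.D8
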