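import Mathlib
import Cfsg.Agent.Helper62.D8.Defs

/-!
# Helper59: piece (KW) `lat_of_arith` of helper62's S3716 plan

The lattice vectors `w₁ = (A+2B+3P)/6`, `w₂ = (A+2B-3P)/6`, `w₃ = (2A+B+3Q)/6`,
`w₄ = (2A+B-3Q)/6` are integral and have the stated Gram relations.
-/

set_option autoImplicit false
open Cfsg Finset

namespace Cfsg.Agent.Helper59.D8

open Cfsg.Agent.Helper62.D8

section arith
variable {ι : Type*} [Fintype ι]

/-- bilinear expansion of `36 ⟨u, v⟩` for `6u`, `6v` integer combinations of `A B P Q` -/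
theorem gram_of_arith (o : ι) (d : ι → ℕ) (A B P Q : ι → ℤ) (n : ℕ) (h : Arith o d A B P Q n)
    (u v : ι → ℤ) (a₁ b₁ p₁ q₁ a₂ b₂ p₂ q₂ : ℤ)
    (hu : ∀ i, 6 * u i = a₁ * A i + b₁ * B i + p₁ * P i + q₁ * Q i)
    (hv : ∀ i, 6 * v i = a₂ * A i + b₂ * B i + p₂ * P i + q₂ * Q i) :
    36 * ∑ i, u i * v i = 18 * (a₁ * a₂) + 18 * (b₁ * b₂) + 6 * (p₁ * p₂) + 6 * (q₁ * q₂) := by
  have key : ∀ i, 36 * (u i * v i) =
      a₁ * a₂ * A i ^ 2 + b₁ * b₂ * B i ^ 2 + p₁ * p₂ * P i ^ 2 + q₁ * q₂ * Q i ^ 2 +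
        (a₁ * b₂ + a₂ * b₁) * (A i * B i) + (a₁ * p₂ + a₂ * p₁) * (A i * P i) +
        (a₁ * q₂ + a₂ * q₁) * (A i * Q i) + (b₁ * p₂ + b₂ * p₁) * (B i * P i) +
        (b₁ * q₂ + b₂ * q₁) * (B i * Q i) + (p₁ * q₂ + p₂ * q₁) * (P i * Q i) := by
    intro i
    have e : 36 * (u i * v i) = (6 * u i) * (6 * v i) := by ring
    rw [e, hu, hv]; ring
  rw [Finset.mul_sum, Finset.sum_congr rfl (fun i _ => key i)]
  simp only [Finset.sum_add_distrib, ← Finset.mul_sum, h.AA, h.BB, h.PP, h.QQ, h.AB, h.AP, h.AQ,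
    h.BP, h.BQ, h.PQ]
  ring

/-- linear expansion of `6 ⟨d, u⟩` -/
theorem deg_of_arith (o : ι) (d : ι → ℕ) (A B P Q : ι → ℤ) (n : ℕ) (h : Arith o d A B P Q n)
    (u : ι → ℤ) (a₁ b₁ p₁ q₁ : ℤ)
    (hu : ∀ i, 6 * u i = a₁ * A i + b₁ * B i + p₁ * P i + q₁ * Q i) :
    ∑ i, (d i : ℤ) * u i = 0 := by
  have key : ∀ i, 6 * ((d i : ℤ) * u i) =
      a₁ * ((d i : ℤ) * A i) + b₁ * ((d i : ℤ) * B i) + p₁ * ((d i : ℤ) * P i) +
        q₁ * ((d i : ℤ) * Q i) := by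
    intro i
    have e : 6 * ((d i : ℤ) * u i) = (d i : ℤ) * (6 * u i) := by ring
    rw [e, hu]; ring
  have h6 : 6 * ∑ i, (d i : ℤ) * u i = 0 := by
    rw [Finset.mul_sum, Finset.sum_congr rfl (fun i _ => key i)]
    simp only [Finset.sum_add_distrib, ← Finset.mul_sum, h.dA, h.dB, h.dP, h.dQ]
    ring
  omega

variable [DecidableEq ι]

/-- (KW) the lattice vectors. `w₁ = (A+2B+3P)/6` etc. are integers by `m3A m3B parP parQ`;
Gram relations from `AA … BQ`; `dz` from `Arith.dz`. -/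
theorem lat_of_arith (o : ι) (d : ι → ℕ) (A B P Q : ι → ℤ) (n : ℕ) (h : Arith o d A B P Q n) :
    ∃ w₁ w₂ w₃ w₄ : ι → ℤ, Lat o d w₁ w₂ w₃ w₄ ∧
      (∀ i, A i = 2 * (w₃ i + w₄ i) - (w₁ i + w₂ i)) ∧
      (∀ i, B i = 2 * (w₁ i + w₂ i) - (w₃ i + w₄ i)) ∧
      (∀ i, P i = w₁ i - w₂ i) ∧ (∀ i, Q i = w₃ i - w₄ i) := by
  have hw1 : ∀ i, 6 * ((A i + 2 * B i + 3 * P i) / 6) = 1 * A i + 2 * B i + 3 * P i + 0 * Q i := by
    intro i
    have h1 := h.m3A i; have h2 := h.m3B i; have h3 := h.parP i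
    omega
  have hw2 : ∀ i, 6 * ((A i + 2 * B i - 3 * P i) / 6) =
      1 * A i + 2 * B i + (-3) * P i + 0 * Q i := by
    intro i
    have h1 := h.m3A i; have h2 := h.m3B i; have h3 := h.parP i
    omega
  have hw3 : ∀ i, 6 * ((2 * A i + B i + 3 * Q i) / 6) = 2 * A i + 1 * B i + 0 * P i + 3 * Q i := by
    intro i
    have h1 := h.m3A i; have h2 := h.m3B i; have h3 := h.parQ i
    omega
  have hw4 : ∀ i, 6 * ((2 * A i + B i - 3 * Q i) / 6) =
      2 * A i + 1 * B i + 0 * P i + (-3) * Q i := by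
    intro i
    have h1 := h.m3A i; have h2 := h.m3B i; have h3 := h.parQ i
    omega
  refine ⟨fun i => (A i + 2 * B i + 3 * P i) / 6, fun i => (A i + 2 * B i - 3 * P i) / 6,
    fun i => (2 * A i + B i + 3 * Q i) / 6, fun i => (2 * A i + B i - 3 * Q i) / 6, ?_, ?_, ?_, ?_, ?_⟩
  · have g := gram_of_arith o d A B P Q n h
    refine
      { dpos := h.dpos
        o1 := ?_
        o2 := ?_
        o3 := ?_
        o4 := ?_
        g11 := ?_
        g22 := ?_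
        g33 := ?_
        g44 := ?_
        g12 := ?_
        g34 := ?_
        g13 := ?_
        g14 := ?_
        g23 := ?_
        g24 := ?_
        d1 := deg_of_arith o d A B P Q n h _ _ _ _ _ hw1
        d2 := deg_of_arith o d A B P Q n h _ _ _ _ _ hw2
        d3 := deg_of_arith o d A B P Q n h _ _ _ _ _ hw3
        d4 := deg_of_arith o d A B P Q n h _ _ _ _ _ hw4
        dz := ?_ }
    · have := hw1 o; simp only [h.A_o, h.B_o, h.P_o, h.Q_o] at this ⊢; omega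
    · have := hw2 o; simp only [h.A_o, h.B_o, h.P_o, h.Q_o] at this ⊢; omega
    · have := hw3 o; simp only [h.A_o, h.B_o, h.P_o, h.Q_o] at this ⊢; omega
    · have := hw4 o; simp only [h.A_o, h.B_o, h.P_o, h.Q_o] at this ⊢; omega
    · have := g _ _ _ _ _ _ _ _ _ _ hw1 hw1; simp only [pow_two]; omega
    · have := g _ _ _ _ _ _ _ _ _ _ hw2 hw2; simp only [pow_two]; omega
    · have := g _ _ _ _ _ _ _ _ _ _ hw3 hw3; simp only [pow_two]; omega
    · have := g _ _ _ _ _ _ _ _ _ _ hw4 hw4; simp only [pow_two]; omega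
    · have := g _ _ _ _ _ _ _ _ _ _ hw1 hw2; omega
    · have := g _ _ _ _ _ _ _ _ _ _ hw3 hw4; omega
    · have := g _ _ _ _ _ _ _ _ _ _ hw1 hw3; omega
    · have := g _ _ _ _ _ _ _ _ _ _ hw1 hw4; omega
    · have := g _ _ _ _ _ _ _ _ _ _ hw2 hw3; omega
    · have := g _ _ _ _ _ _ _ _ _ _ hw2 hw4; omega
    · intro i h12 h34
      have e1 := hw1 i; have e2 := hw2 i; have e3 := hw3 i; have e4 := hw4 i
      have hA : A i = 0 := by omega
      have hB : B i = 0 := by omega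
      obtain ⟨hP, hQ⟩ := h.dz i hA hB
      simp only [hA, hB, hP, hQ]
      norm_num
  · intro i
    have e1 := hw1 i; have e2 := hw2 i; have e3 := hw3 i; have e4 := hw4 i
    simp only
    omega
  · intro i
    have e1 := hw1 i; have e2 := hw2 i; have e3 := hw3 i; have e4 := hw4 i
    simp only
    omega
  · intro i
    have e1 := hw1 i; have e2 := hw2 i
    simp only
    omega
  · intro i
    have e3 := hw3 i; have e4 := hw4 i
    simp only
    omega

end arith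

end Cfsg.Agent.Helper59.D8
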