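import Mathlib

set_option autoImplicit false

/-!
# The subgroup generated by derangements (helper59)

For a finite group `G` acting transitively on a finite set `Ω`, let `D` be the subgroup generated by
the derangements. Burnside's lemma gives: `D` is transitive, every element outside `D` has exactly
one fixed point.
-/

namespace Cfsg.Agent.Helper59

open MulAction

section Burnside

variable (H X : Type*) [Group H] [MulAction H X]

/-- Burnside's lemma with `Nat.card`. -/
theorem burnside_natCard [Fintype H] [Finite X] :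
    ∑ h : H, Nat.card (fixedBy X h) = Nat.card (orbitRel.Quotient H X) * Nat.card H := by
  classical
  let _ : Fintype X := Fintype.ofFinite X
  let _ : Fintype (orbitRel.Quotient H X) := Fintype.ofFinite _
  let _ : ∀ h : H, Fintype (fixedBy X h) := fun h => Fintype.ofFinite _
  have := sum_card_fixedBy_eq_card_orbits_mul_card_group H X
  simp only [Nat.card_eq_fintype_card]
  exact this

end Burnside

section Der

variable {G Ω : Type*} [Group G] [MulAction G Ω]

/-- The derangement subgroup. -/
abbrev derSub (G Ω : Type*) [Group G] [MulAction G Ω] : Subgroup G :=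
  Subgroup.closure {g : G | ∀ ω : Ω, g • ω ≠ ω}

theorem one_le_card_fixedBy_of_not_mem [Finite Ω] {g : G} (hg : g ∉ derSub G Ω) :
    1 ≤ Nat.card (fixedBy Ω g) := by
  have : ¬ ∀ ω : Ω, g • ω ≠ ω := fun h => hg (Subgroup.subset_closure h)
  push Not at this
  obtain ⟨ω, hω⟩ := this
  have : Nonempty (fixedBy Ω g) := ⟨⟨ω, hω⟩⟩
  exact Nat.one_le_iff_ne_zero.mpr (Nat.card_ne_zero.mpr ⟨this, inferInstance⟩)

theorem derSub_normal : (derSub G Ω).Normal := by
  have hconj : ∀ (g h : G), (∀ ω : Ω, g • ω ≠ ω) → ∀ ω : Ω, (h * g * h⁻¹) • ω ≠ ω := by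
    intro g h hg ω hω
    apply hg (h⁻¹ • ω)
    have : h⁻¹ • (h * g * h⁻¹) • ω = h⁻¹ • ω := by rw [hω]
    simpa [mul_smul] using this
  constructor
  intro n hn g
  induction hn using Subgroup.closure_induction with
  | mem x hx => exact Subgroup.subset_closure (hconj x g hx)
  | one => simp
  | mul x y _ _ hx hy =>
    have : g * (x * y) * g⁻¹ = (g * x * g⁻¹) * (g * y * g⁻¹) := by group
    rw [this]; exact Subgroup.mul_mem _ hx hy
  | inv x _ hx =>
    have : g * x⁻¹ * g⁻¹ = (g * x * g⁻¹)⁻¹ := by group
    rw [this]; exact Subgroup.inv_mem _ hx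

/-- Sum over a subgroup versus filtered sum over the group. -/
theorem sum_subgroup_eq [Fintype G] (K : Subgroup G) [Fintype K] [DecidablePred (· ∈ K)]
    (f : G → ℕ) : ∑ k : K, f k = ∑ g ∈ Finset.univ.filter (· ∈ K), f g := by
  rw [← Finset.sum_subtype (Finset.univ.filter (· ∈ K)) (p := (· ∈ K)) (by simp) f]

/-- Key counting (Burnside): if `Ω` is nonempty and `G` is transitive, the derangement subgroup has
exactly one orbit and every element outside it has exactly one fixed point. -/
theorem derSub_count [Finite G] [Finite Ω] [Nonempty Ω] [IsPretransitive G Ω] :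
    Nat.card (orbitRel.Quotient (derSub G Ω) Ω) = 1 ∧
      ∀ g : G, g ∉ derSub G Ω → Nat.card (fixedBy Ω g) = 1 := by
  classical
  let _ : Fintype G := Fintype.ofFinite G
  set D := derSub G Ω with hD
  have hG : ∑ g : G, Nat.card (fixedBy Ω g) = Nat.card G := by
    rw [burnside_natCard G Ω]
    have : Nat.card (orbitRel.Quotient G Ω) = 1 := by
      have h := (pretransitive_iff_unique_quotient_of_nonempty G Ω).mp inferInstance
      obtain ⟨u⟩ := h
      exact Nat.card_unique
    rw [this, one_mul]
  have hDsum : ∑ d : D, Nat.card (fixedBy Ω d) = Nat.card (orbitRel.Quotient D Ω) * Nat.card D :=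
    burnside_natCard D Ω
  have hDsum' : ∑ d : D, Nat.card (fixedBy Ω d) =
      ∑ g ∈ Finset.univ.filter (· ∈ D), Nat.card (fixedBy Ω g) :=
    sum_subgroup_eq D (fun g => Nat.card (fixedBy Ω g))
  have hsplit : ∑ g : G, Nat.card (fixedBy Ω g) =
      ∑ g ∈ Finset.univ.filter (· ∈ D), Nat.card (fixedBy Ω g) +
      ∑ g ∈ Finset.univ.filter (¬ · ∈ D), Nat.card (fixedBy Ω g) :=
    (Finset.sum_filter_add_sum_filter_not _ _ _).symm
  have hout : ∑ g ∈ Finset.univ.filter (fun g : G => ¬ g ∈ D), 1 ≤
      ∑ g ∈ Finset.univ.filter (¬ · ∈ D), Nat.card (fixedBy Ω g) := by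
    apply Finset.sum_le_sum
    intro g hg
    simp only [Finset.mem_filter, Finset.mem_univ, true_and] at hg
    exact one_le_card_fixedBy_of_not_mem hg
  have hcards : (Finset.univ.filter (fun g : G => g ∈ D)).card +
      (Finset.univ.filter (fun g : G => ¬ g ∈ D)).card = Nat.card G := by
    rw [Finset.card_filter_add_card_filter_not, Finset.card_univ, Nat.card_eq_fintype_card]
  have hDcard : (Finset.univ.filter (fun g : G => g ∈ D)).card = Nat.card D := by
    rw [Nat.card_eq_fintype_card, Fintype.card_subtype]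
  have hDpos : 0 < Nat.card D := Nat.card_pos
  have hones : ∑ g ∈ Finset.univ.filter (fun g : G => ¬ g ∈ D), 1 =
      (Finset.univ.filter (fun g : G => ¬ g ∈ D)).card := (Finset.card_eq_sum_ones _).symm
  have hle : Nat.card (orbitRel.Quotient D Ω) * Nat.card D ≤ 1 * Nat.card D := by
    rw [← hDsum, hDsum']
    omega
  have hle1 : Nat.card (orbitRel.Quotient D Ω) ≤ 1 := Nat.le_of_mul_le_mul_right hle hDpos
  have hpos : 0 < Nat.card (orbitRel.Quotient D Ω) := by
    have : Nonempty (orbitRel.Quotient D Ω) := (nonempty_quotient_iff _).mpr inferInstance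
    exact Nat.card_pos
  have h1 : Nat.card (orbitRel.Quotient D Ω) = 1 := le_antisymm hle1 hpos
  refine ⟨h1, ?_⟩
  rw [h1, one_mul] at hDsum
  have heq : ∑ g ∈ Finset.univ.filter (fun g : G => ¬ g ∈ D), 1 =
      ∑ g ∈ Finset.univ.filter (¬ · ∈ D), Nat.card (fixedBy Ω g) := by
    omega
  have hall := (Finset.sum_eq_sum_iff_of_le (s := Finset.univ.filter (fun g : G => ¬ g ∈ D))
    (f := fun _ => 1) (g := fun g => Nat.card (fixedBy Ω g)) (by
      intro g hg
      simp only [Finset.mem_filter, Finset.mem_univ, true_and] at hg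
      exact one_le_card_fixedBy_of_not_mem hg)).mp heq
  intro g hg
  exact (hall g (by simpa using hg)).symm

/-- The derangement subgroup of a transitive group is transitive. -/
theorem derSub_isPretransitive [Finite G] [Finite Ω] [IsPretransitive G Ω] :
    IsPretransitive (derSub G Ω) Ω := by
  rcases isEmpty_or_nonempty Ω with hΩ | hΩ
  · exact ⟨fun a => (hΩ.false a).elim⟩
  · rw [pretransitive_iff_subsingleton_quotient]
    have h1 := (derSub_count (G := G) (Ω := Ω)).1
    exact (Nat.card_eq_one_iff_unique.mp h1).1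

/-- Every element whose number of fixed points is not `1` lies in the derangement subgroup. -/
theorem mem_derSub_of_card_fixedBy_ne_one [Finite G] [Finite Ω] [IsPretransitive G Ω] (g : G)
    (hg : Nat.card (fixedBy Ω g) ≠ 1) : g ∈ derSub G Ω := by
  rcases isEmpty_or_nonempty Ω with hΩ | hΩ
  · exact Subgroup.subset_closure (fun ω => (hΩ.false ω).elim)
  · by_contra h
    exact hg ((derSub_count (G := G) (Ω := Ω)).2 g h)

end Der

end Cfsg.Agent.Helper59
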