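import Mathlib
import Cfsg.Agent.Helper59.Derangement

set_option autoImplicit false

/-!
# Index of the derangement subgroup (helper59)
-/

namespace Cfsg.Agent.Helper59

open MulAction

/-- If every orbit has size divisible by `k` then `k` divides the cardinality. -/
theorem dvd_card_of_forall_dvd_orbit {H X : Type*} [Group H] [MulAction H X] [Finite X] (k : ℕ)
    (h : ∀ x : X, k ∣ Nat.card (orbit H x)) : k ∣ Nat.card X := by
  classical
  let _ : Fintype (orbitRel.Quotient H X) := Fintype.ofFinite _
  rw [Nat.card_congr (selfEquivSigmaOrbits' H X), Nat.card_sigma]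
  apply Finset.dvd_sum
  intro q _
  induction q using Quotient.inductionOn with
  | _ x =>
    have : orbitRel.Quotient.orbit (Quotient.mk'' x : orbitRel.Quotient H X) = orbit H x :=
      orbitRel.Quotient.orbit_mk x
    change k ∣ Nat.card (orbitRel.Quotient.orbit (Quotient.mk'' x : orbitRel.Quotient H X))
    rw [this]
    exact h x

section

variable {G Ω : Type*} [Group G] [MulAction G Ω]

theorem derSub_sup_stabilizer [Finite G] [Finite Ω] [IsPretransitive G Ω] (ω : Ω) :
    stabilizer G ω ⊔ derSub G Ω = ⊤ := by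
  rw [eq_top_iff]
  intro g _
  have := derSub_isPretransitive (G := G) (Ω := Ω)
  obtain ⟨d, hd⟩ := MulAction.exists_smul_eq (derSub G Ω) ω (g • ω)
  have hd' : (d : G) • ω = g • ω := hd
  have hmem : (d : G)⁻¹ * g ∈ stabilizer G ω := by
    rw [mem_stabilizer_iff, mul_smul, ← hd', inv_smul_smul]
  have : g = (d : G) * ((d : G)⁻¹ * g) := by group
  rw [this]
  exact Subgroup.mul_mem _ (Subgroup.mem_sup_right d.2) (Subgroup.mem_sup_left hmem)

theorem derSub_relIndex_stabilizer [Finite G] [Finite Ω] [IsPretransitive G Ω] (ω : Ω) :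
    (derSub G Ω).relIndex (stabilizer G ω) = (derSub G Ω).index := by
  have := derSub_normal (G := G) (Ω := Ω)
  rw [← Subgroup.relIndex_sup_right, derSub_sup_stabilizer, Subgroup.relIndex_top_right]

theorem mem_derSub_of_fix_two [Finite G] [Finite Ω] [IsPretransitive G Ω] {g : G} {a b : Ω}
    (hab : a ≠ b) (ha : g • a = a) (hb : g • b = b) : g ∈ derSub G Ω := by
  apply mem_derSub_of_card_fixedBy_ne_one
  intro h1
  rw [Nat.card_eq_one_iff_unique] at h1
  have := h1.1.elim (⟨a, ha⟩ : fixedBy Ω g) ⟨b, hb⟩
  exact hab (congrArg Subtype.val this)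

theorem index_dvd_card_orbit_stabilizer [Finite G] [Finite Ω] [IsPretransitive G Ω] (ω β : Ω)
    (hne : β ≠ ω) : (derSub G Ω).index ∣ Nat.card (orbit (stabilizer G ω) β) := by
  have key : (stabilizer G β).subgroupOf (stabilizer G ω) = stabilizer (stabilizer G ω) β := by
    ext; rfl
  have h1 : Nat.card (orbit (stabilizer G ω) β) = (stabilizer G β).relIndex (stabilizer G ω) := by
    rw [Subgroup.relIndex, key, index_stabilizer, Nat.card_coe_set_eq]
  rw [h1, ← derSub_relIndex_stabilizer ω, ← Subgroup.inf_relIndex_right (stabilizer G β)]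
  apply Subgroup.relIndex_dvd_of_le_left
  intro g hg
  rw [Subgroup.mem_inf, mem_stabilizer_iff, mem_stabilizer_iff] at hg
  exact mem_derSub_of_fix_two hne hg.1 hg.2

/-- For a subset `S ∋ ω` invariant under the stabilizer of `ω`, the index of the derangement
subgroup divides `|S| - 1`. -/
theorem index_dvd_card_sub_one_of_invariant [Finite G] [Finite Ω] [IsPretransitive G Ω] (ω : Ω)
    (S : Set Ω) (hω : ω ∈ S) (hS : ∀ g ∈ stabilizer G ω, ∀ x ∈ S, g • x ∈ S) :
    (derSub G Ω).index ∣ Nat.card S - 1 := by
  classical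
  let T : SubMulAction (stabilizer G ω) Ω :=
    { carrier := S \ {ω}
      smul_mem' := by
        intro h x hx
        refine ⟨hS h h.2 x hx.1, ?_⟩
        intro hx'
        apply hx.2
        have h2 : (h : G) • x = ω := hx'
        have h3 : (h : G) • ω = ω := h.2
        have : (h : G) • x = (h : G) • ω := by rw [h2, h3]
        exact smul_left_cancel _ this }
  have hcard : Nat.card T = Nat.card S - 1 := by
    change Nat.card ↥(S \ {ω} : Set Ω) = _
    rw [Nat.card_coe_set_eq, Nat.card_coe_set_eq, Set.ncard_sdiff_singleton_of_mem hω]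
  rw [← hcard]
  apply dvd_card_of_forall_dvd_orbit (H := stabilizer G ω)
  intro m
  have himg : Subtype.val '' orbit (stabilizer G ω) m = orbit (stabilizer G ω) (m : Ω) :=
    SubMulAction.val_image_orbit m
  have : Nat.card (orbit (stabilizer G ω) m) = Nat.card (orbit (stabilizer G ω) (m : Ω)) := by
    rw [← himg]
    exact (Nat.card_image_of_injective Subtype.val_injective _).symm
  rw [this]
  exact index_dvd_card_orbit_stabilizer ω m m.2.2

theorem index_dvd_card_sub_one [Finite G] [Finite Ω] [IsPretransitive G Ω] [Nonempty Ω] :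
    (derSub G Ω).index ∣ Nat.card Ω - 1 := by
  obtain ⟨ω⟩ := ‹Nonempty Ω›
  have := index_dvd_card_sub_one_of_invariant (G := G) ω Set.univ (Set.mem_univ _)
    (fun _ _ _ _ => Set.mem_univ _)
  rwa [Nat.card_coe_set_eq, Set.ncard_univ] at this

end

end Cfsg.Agent.Helper59
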