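/-
helper59: the Dickson pair condition (S0694): for `d ≥ 1`, `n > 1`, every prime factor of `n` divides
`d` and (`4 ∣ n → 4 ∣ d`) iff `d + 1` has multiplicative order exactly `n` modulo `n * d`.
Lifting-the-exponent from Mathlib for exactness; an elementary lifting lemma for the rest.
-/
import Mathlib.NumberTheory.Multiplicity
import Mathlib.Algebra.IsPrimePow
import Mathlib.Data.Nat.Totient
import Mathlib.FieldTheory.Finite.Basic
import Mathlib.GroupTheory.OrderOfElement
import Mathlib.Data.ZMod.Basic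

set_option autoImplicit false

namespace Cfsg.Agent.Helper59

open Nat

theorem modEq_one_iff_dvd {N x : ℕ} : x ≡ 1 [MOD N] ↔ (N : ℤ) ∣ (x : ℤ) - 1 := by
  rw [Nat.ModEq.comm, Nat.modEq_iff_dvd]; simp

/-- if `M ∣ y - 1` and `r ∣ M` then `r * M ∣ y ^ r - 1`. -/
theorem dvd_pow_sub_one_of_dvd {y M : ℤ} {r : ℕ} (hM : M ∣ y - 1) (hr : (r : ℤ) ∣ M) :
    (r : ℤ) * M ∣ y ^ r - 1 := by
  have h1 : (r : ℤ) ∣ ∑ i ∈ Finset.range r, y ^ i * 1 ^ (r - 1 - i) :=
    dvd_geom_sum₂_self (hr.trans hM)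
  have h2 := geom_sum₂_mul y 1 r
  rw [one_pow] at h2
  rw [← h2]
  exact mul_dvd_mul h1 hM

/-- if every prime factor of `m` divides `D` and `D ∣ x - 1` then `m * D ∣ x ^ m - 1`. -/
theorem mul_dvd_pow_sub_one {x D : ℤ} (hx : D ∣ x - 1) :
    ∀ m : ℕ, (∀ r : ℕ, r.Prime → r ∣ m → (r : ℤ) ∣ D) → (m : ℤ) * D ∣ x ^ m - 1 := by
  intro m
  induction m using Nat.strong_induction_on with
  | _ m ih =>
    intro h
    rcases Nat.lt_or_ge m 2 with hm | hm
    · interval_cases m
      · simp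
      · simpa using hx
    · have hr := Nat.minFac_prime (show m ≠ 1 by omega)
      obtain ⟨m', hm'⟩ := Nat.minFac_dvd m
      have hm'0 : 0 < m' := by
        rcases Nat.eq_zero_or_pos m' with h0 | h0
        · rw [h0, mul_zero] at hm'; omega
        · exact h0
      have hm'lt : m' < m := by
        have := hr.two_le
        nlinarith
      have ih' := ih m' hm'lt (fun s hs hsm => h s hs (hsm.trans ⟨m.minFac, by rw [mul_comm]; exact hm'⟩))
      have hrD : (m.minFac : ℤ) ∣ D := h _ hr (Nat.minFac_dvd m)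
      have := dvd_pow_sub_one_of_dvd (y := x ^ m') (M := (m' : ℤ) * D) (r := m.minFac) ih'
        (hrD.mul_left _)
      rw [← pow_mul, mul_comm m' m.minFac, ← hm', ← mul_assoc] at this
      have e : (m : ℤ) = (m.minFac : ℤ) * (m' : ℤ) := by exact_mod_cast hm'
      rw [e]
      exact this

theorem lte_contra {r m d : ℕ} (hr : r.Prime) (hm : 0 < m) (hd : 0 < d)
    (hrd : r ∣ d) (h4 : r = 2 → 4 ∣ d ∨ ¬ 2 ∣ m) :
    ¬ ((r * m * d : ℕ) : ℤ) ∣ ((d : ℤ) + 1) ^ m - 1 := by
  have hp : Prime (r : ℤ) := Nat.prime_iff_prime_int.mp hr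
  have hxy : (r : ℤ) ∣ ((d : ℤ) + 1) - 1 := by
    rw [add_sub_cancel_right]; exact Int.natCast_dvd_natCast.mpr hrd
  have hx : ¬ (r : ℤ) ∣ (d : ℤ) + 1 := by
    intro h
    have h1 : (r : ℤ) ∣ 1 := by
      have := dvd_sub h (Int.natCast_dvd_natCast.mpr hrd)
      simpa using this
    have h2 : r ∣ 1 := by exact_mod_cast h1
    exact hr.one_lt.ne' (Nat.dvd_one.mp h2)
  have key : emultiplicity (r : ℤ) (((d : ℤ) + 1) ^ m - 1) =
      emultiplicity r d + emultiplicity r m := by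
    rcases hr.eq_two_or_odd' with h2 | hodd
    · subst h2
      rcases h4 rfl with h | h
      · have h4' : (4 : ℤ) ∣ ((d : ℤ) + 1) - 1 := by
          rw [add_sub_cancel_right]; exact_mod_cast h
        have := Int.two_pow_sub_pow' (x := (d : ℤ) + 1) (y := 1) m h4' (by simpa using hx)
        rw [one_pow, add_sub_cancel_right] at this
        have e2 : ((2 : ℕ) : ℤ) = 2 := rfl
        rw [e2, this, ← e2, Int.natCast_emultiplicity, Int.natCast_emultiplicity]
      · have hn : ¬ ((2 : ℕ) : ℤ) ∣ (m : ℤ) := fun h' => h (Int.natCast_dvd_natCast.mp h')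
        have := emultiplicity_pow_sub_pow_of_prime hp hxy hx hn
        rw [one_pow, add_sub_cancel_right] at this
        rw [this, Int.natCast_emultiplicity, emultiplicity_eq_zero.mpr h, add_zero]
    · have := Int.emultiplicity_pow_sub_pow hr hodd hxy hx m
      rw [one_pow, add_sub_cancel_right] at this
      rw [this, Int.natCast_emultiplicity]
  intro hdvd
  have h1 := emultiplicity_le_emultiplicity_of_dvd_right (a := (r : ℤ)) hdvd
  rw [key, Int.natCast_emultiplicity, hr.emultiplicity_mul, hr.emultiplicity_mul,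
    hr.emultiplicity_self] at h1
  have hfd : FiniteMultiplicity r d := Nat.finiteMultiplicity_iff.2 ⟨hr.ne_one, hd⟩
  have hfm : FiniteMultiplicity r m := Nat.finiteMultiplicity_iff.2 ⟨hr.ne_one, hm⟩
  rw [hfd.emultiplicity_eq_multiplicity, hfm.emultiplicity_eq_multiplicity] at h1
  norm_cast at h1
  omega

theorem exists_split (d : ℕ) : ∀ n : ℕ, 0 < n → ∃ n₁ n₂ : ℕ, n = n₁ * n₂ ∧
    (∀ r : ℕ, r.Prime → r ∣ n₁ → r ∣ d) ∧ Nat.Coprime n₂ d := by
  intro n
  induction n using Nat.strong_induction_on with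
  | _ n ih =>
    intro hn
    rcases Nat.lt_or_ge n 2 with h | h
    · exact ⟨1, 1, by omega, fun r hr hr1 => absurd (Nat.dvd_one.mp hr1) hr.ne_one,
        Nat.coprime_one_left d⟩
    · have hp := Nat.minFac_prime (show n ≠ 1 by omega)
      obtain ⟨m, hm⟩ := Nat.minFac_dvd n
      have hm0 : 0 < m := by
        rcases Nat.eq_zero_or_pos m with h0 | h0
        · rw [h0, mul_zero] at hm; omega
        · exact h0
      have hmn : m < n := by
        have := hp.two_le
        nlinarith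
      obtain ⟨m₁, m₂, hm12, h1, h2⟩ := ih m hmn hm0
      by_cases hpd : n.minFac ∣ d
      · refine ⟨n.minFac * m₁, m₂, by rw [mul_assoc, ← hm12]; exact hm, ?_, h2⟩
        intro r hr hrd
        rcases (Nat.Prime.dvd_mul hr).mp hrd with h' | h'
        · rwa [(Nat.prime_dvd_prime_iff_eq hr hp).mp h']
        · exact h1 r hr h'
      · refine ⟨m₁, n.minFac * m₂, by rw [mul_left_comm, ← hm12]; exact hm, h1, ?_⟩
        exact Nat.Coprime.mul_left ((Nat.Prime.coprime_iff_not_dvd hp).mpr hpd) h2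

theorem dickson_pair (d n : ℕ) (hd : 0 < d) (hn : 1 < n) :
    ((∀ r : ℕ, r.Prime → r ∣ n → r ∣ d) ∧ (4 ∣ n → 4 ∣ d)) ↔
    ((d + 1) ^ n ≡ 1 [MOD n * d] ∧
      ∀ i : ℕ, 0 < i → i < n → ¬ (d + 1) ^ i ≡ 1 [MOD n * d]) := by
  have hP1 : ∀ m : ℕ, (∀ r : ℕ, r.Prime → r ∣ m → r ∣ d) → (d + 1) ^ m ≡ 1 [MOD m * d] := by
    intro m hm
    rw [modEq_one_iff_dvd]
    push_cast
    exact mul_dvd_pow_sub_one (by simp) m (fun r hr hrn => Int.natCast_dvd_natCast.mpr (hm r hr hrn))
  constructor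
  · rintro ⟨hA1, hA2⟩
    have hB1 := hP1 n hA1
    refine ⟨hB1, ?_⟩
    have hx : (((d + 1 : ℕ) : ZMod (n * d))) ^ n = 1 := by
      rw [← Nat.cast_pow, ← Nat.cast_one (R := ZMod (n * d)), ZMod.natCast_eq_natCast_iff]
      exact hB1
    have hord : orderOf ((d + 1 : ℕ) : ZMod (n * d)) = n := by
      apply orderOf_eq_of_pow_and_pow_div_prime (by omega) hx
      intro p hp hpn hcon
      rw [← Nat.cast_pow, ← Nat.cast_one (R := ZMod (n * d)), ZMod.natCast_eq_natCast_iff,
        modEq_one_iff_dvd] at hcon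
      push_cast at hcon
      have hnp : n = p * (n / p) := (Nat.mul_div_cancel' hpn).symm
      have hm0 : 0 < n / p := Nat.div_pos (Nat.le_of_dvd (by omega) hpn) hp.pos
      refine lte_contra hp hm0 hd (hA1 p hp hpn) ?_ ?_
      · intro h2
        by_cases h : 2 ∣ n / p
        · left
          apply hA2
          obtain ⟨c, hc⟩ := h
          exact ⟨c, by rw [hnp, hc, h2]; ring⟩
        · exact Or.inr h
      · have e : ((p * (n / p) * d : ℕ) : ℤ) = (n : ℤ) * (d : ℤ) := by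
          rw [← hnp]; push_cast; ring
        rw [e]
        exact hcon
    intro i hi hin hcon
    have : ((d + 1 : ℕ) : ZMod (n * d)) ^ i = 1 := by
      rw [← Nat.cast_pow, ← Nat.cast_one (R := ZMod (n * d)), ZMod.natCast_eq_natCast_iff]
      exact hcon
    have h1 := orderOf_dvd_of_pow_eq_one this
    rw [hord] at h1
    have := Nat.le_of_dvd hi h1
    omega
  · rintro ⟨hB1, hB2⟩
    have hdiv : ∀ i : ℕ, (d + 1) ^ i ≡ 1 [MOD n * d] → n ∣ i := by
      intro i hi
      have e : (d + 1) ^ i = ((d + 1) ^ n) ^ (i / n) * (d + 1) ^ (i % n) := by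
        rw [← pow_mul, ← pow_add, Nat.div_add_mod]
      have h1 : ((d + 1) ^ n) ^ (i / n) * (d + 1) ^ (i % n) ≡ 1 ^ (i / n) * (d + 1) ^ (i % n)
          [MOD n * d] := (hB1.pow _).mul_right _
      rw [← e, one_pow, one_mul] at h1
      have h2 : (d + 1) ^ (i % n) ≡ 1 [MOD n * d] := h1.symm.trans hi
      by_contra hni
      have h3 : i % n ≠ 0 := fun h => hni (Nat.dvd_of_mod_eq_zero h)
      exact hB2 (i % n) (by omega) (Nat.mod_lt _ (by omega)) h2
    have hA1 : ∀ r : ℕ, r.Prime → r ∣ n → r ∣ d := by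
      obtain ⟨n₁, n₂, hn12, h1, h2⟩ := exists_split d n (by omega)
      have hn1 : 0 < n₁ := by
        rcases Nat.eq_zero_or_pos n₁ with h | h
        · rw [h, zero_mul] at hn12; omega
        · exact h
      have hn2 : 0 < n₂ := by
        rcases Nat.eq_zero_or_pos n₂ with h | h
        · rw [h, mul_zero] at hn12; omega
        · exact h
      have e1 : (d + 1) ^ n₁ ≡ 1 [MOD n₁ * d] := hP1 n₁ h1
      have e1' : (d + 1) ^ (n₁ * φ n₂) ≡ 1 [MOD n₁ * d] := by
        rw [pow_mul]; simpa using e1.pow (φ n₂)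
      have hcop : Nat.Coprime (d + 1) n₂ := by
        have h3 : (d + 1) ^ n ≡ 1 [MOD n₂] :=
          hB1.of_dvd ⟨n₁ * d, by rw [hn12]; ring⟩
        have h4 : Nat.gcd ((d + 1) ^ n) n₂ = 1 := by rw [h3.gcd_eq]; simp
        exact Nat.Coprime.coprime_dvd_left (dvd_pow_self _ (by omega)) h4
      have e2 : (d + 1) ^ (n₁ * φ n₂) ≡ 1 [MOD n₂] := by
        rw [mul_comm, pow_mul]; simpa using (Nat.ModEq.pow_totient hcop).pow n₁
      have hcop2 : Nat.Coprime (n₁ * d) n₂ := by
        refine Nat.Coprime.mul_left (Nat.coprime_of_dvd fun k hk hk1 hk2 => ?_) h2.symm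
        have := Nat.dvd_gcd hk2 (h1 k hk hk1)
        rw [h2] at this
        exact hk.ne_one (Nat.dvd_one.mp this)
      have e3 := (Nat.modEq_and_modEq_iff_modEq_mul hcop2).mp ⟨e1', e2⟩
      have e4 : n₁ * d * n₂ = n * d := by rw [hn12]; ring
      rw [e4] at e3
      have h5 := hdiv _ e3
      rw [hn12] at h5
      have h6 : n₂ ∣ φ n₂ := Nat.dvd_of_mul_dvd_mul_left hn1 h5
      have h7 : n₂ ≤ φ n₂ := Nat.le_of_dvd (Nat.totient_pos.mpr hn2) h6
      have h8 : n₂ = 1 := by
        by_contra hne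
        have := Nat.totient_lt n₂ (by omega)
        omega
      intro r hr hrn
      rw [hn12, h8, mul_one] at hrn
      exact h1 r hr hrn
    refine ⟨hA1, ?_⟩
    rintro ⟨m', hm'⟩
    by_contra h4
    have h2d : 2 ∣ d := hA1 2 Nat.prime_two ⟨2 * m', by omega⟩
    have hx : ((4 * d : ℕ) : ℤ) ∣ (((d : ℤ) + 1) ^ 2) - 1 := by
      obtain ⟨c, hc⟩ : ∃ c, d = 4 * c + 2 := ⟨d / 4, by omega⟩
      rw [hc]
      exact ⟨(c : ℤ) + 1, by push_cast; ring⟩
    have hm'0 : 0 < m' := by omega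
    have := mul_dvd_pow_sub_one hx m' (fun r hr hrm =>
      Int.natCast_dvd_natCast.mpr ((hA1 r hr (hrm.trans ⟨4, by rw [hm']; ring⟩)).mul_left 4))
    have e : (d + 1) ^ (2 * m') ≡ 1 [MOD n * d] := by
      rw [modEq_one_iff_dvd]
      push_cast
      rw [pow_mul]
      have e' : (n : ℤ) * (d : ℤ) = (m' : ℤ) * ((4 * d : ℕ) : ℤ) := by
        rw [hm']; push_cast; ring
      rw [e']
      exact this
    exact hB2 (2 * m') (by omega) (by omega) e

end Cfsg.Agent.Helper59
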