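-- helper59: piece (CS) `chr_sv` of helper36's E8INV-2 farm for S4281 (#14862).
import Cfsg.Agent.Helper36.E8Odd.Defs2

/-!
Port of `LC_chr_sv` of `Helper50/F4OddLC.lean` to `E₈`: the values of the roots on `tor (sv b)`.
-/

set_option autoImplicit false
set_option maxRecDepth 100000

namespace Cfsg.Agent.Helper59.E8Inv2

open Cfsg Cfsg.Lie Cfsg.Agent.Helper18 Cfsg.Agent.Helper18.E8Odd Cfsg.Agent.Helper36.E8Odd

section PartII
variable {F : Type*} [Field F]

theorem CS_neg_one_zpow (n : ℤ) : (-1 : Fˣ) ^ n = if n % 2 = 1 then -1 else 1 := by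
  rcases Int.emod_two_eq_zero_or_one n with h | h
  · rw [if_neg (by omega)]
    obtain ⟨k, hk⟩ : ∃ k, n = 2 * k := ⟨n / 2, by omega⟩
    rw [hk, zpow_mul]
    simp
  · rw [if_pos h]
    obtain ⟨k, hk⟩ : ∃ k, n = 2 * k + 1 := ⟨n / 2, by omega⟩
    rw [hk, zpow_add, zpow_mul]
    simp

theorem CS_ite_zpow (p : Bool) (z : ℤ) :
    (if p then (-1 : Fˣ) else 1) ^ z = (-1 : Fˣ) ^ (if p then z else 0) := by
  cases p <;> simp

theorem CS_zpow_list_sum (l : List ℤ) :
    (-1 : Fˣ) ^ l.sum = (l.map fun e => (-1 : Fˣ) ^ e).prod := by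
  induction l with
  | nil => simp
  | cons a l ih => rw [List.sum_cons, zpow_add, ih, List.map_cons, List.prod_cons]

/-- (CS) the values of the roots on `tor (sv b)`. -/
theorem chr_sv (b s : ℕ) : chr s (sv (F := F) b) = if par b s then -1 else 1 := by
  have h : chr s (sv (F := F) b) = (-1 : Fˣ) ^ parSum b s := by
    unfold parSum
    rw [CS_zpow_list_sum, List.map_map, list_range_prod_eq]
    unfold chr
    apply Finset.prod_congr rfl
    intro i _
    unfold sv
    rw [CS_ite_zpow]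
    rfl
  rw [h, CS_neg_one_zpow]
  unfold par
  by_cases h1 : parSum b s % 2 = 1 <;> simp [h1]

end PartII

end Cfsg.Agent.Helper59.E8Inv2
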