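-- helper59: piece (LC) `card_list_cent` of helper36's E8INV-2 farm for S4281 (#14862).
import Cfsg.Agent.Helper36.E8Odd.Defs2
import Cfsg.Agent.Helper19.Twist.FixProd
import Cfsg.Agent.Helper59.E8Inv2_CS

/-!
Port of `Helper50/F4OddLC.lean` to `E₈`: the centralizer of `tor (sv b)` in the group generated by the root
subgroups of a closed list.
-/

set_option autoImplicit false
set_option maxRecDepth 100000

namespace Cfsg.Agent.Helper59.E8Inv2

open Cfsg Cfsg.Lie Cfsg.Agent.Helper18 Cfsg.Agent.Helper18.E8Odd Cfsg.Agent.Helper19.Twist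
  Cfsg.Agent.Helper36.E8Odd

section PartIII
variable {F : Type*} [Field F]

/-- private copy of (GR): helper40's grading satisfies helper19's condition -/
theorem LC_gradeOK' : gradeOK' chevE8 phiE Cfsg.Agent.Helper40.UData.witE8 = true := by
  have h := Cfsg.Agent.Helper40.UData.gradeOK_E8
  unfold Cfsg.Agent.Helper40.UGrade.gradeOK at h
  rw [Bool.and_eq_true] at h
  exact h.1

theorem LC_conj_pwG (c : Fin chevE8.rank → Fˣ) (P : List ℕ) (hP : ∀ r ∈ P, r < 240) (t : ℕ → F) :
    tor c * pwG chevE8 F P t * (tor c)⁻¹ = pwG chevE8 F P (fun r => ((chr r c : Fˣ) : F) * t r) := by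
  induction P with
  | nil => simp [pwG_nil]
  | cons r P ih =>
    rw [pwG_cons, pwG_cons]
    have h1 := tor_conj c r (hP r (List.mem_cons_self ..)) (t r)
    have h2 := ih (fun s hs => hP s (List.mem_cons_of_mem _ hs))
    unfold X at h1
    calc tor c * (xGL chevE8 F r (t r) * pwG chevE8 F P t) * (tor c)⁻¹
        = (tor c * xGL chevE8 F r (t r) * (tor c)⁻¹) * (tor c * pwG chevE8 F P t * (tor c)⁻¹) := by
          group
      _ = _ := by rw [h1, h2]

theorem LC_two_ne_zero [Fintype F] (hF : Odd (Fintype.card F)) : (2 : F) ≠ 0 := by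
  intro h
  obtain ⟨p, hp⟩ := CharP.exists F
  obtain ⟨n, hprime, hcard⟩ := FiniteField.card F p
  have hdvd : p ∣ 2 := by
    have h' : ((2 : ℕ) : F) = 0 := by exact_mod_cast h
    exact (CharP.cast_eq_zero_iff F p 2).mp h'
  have hp2 : p = 2 := (Nat.prime_dvd_prime_iff_eq hprime Nat.prime_two).mp hdvd
  rw [hcard, hp2] at hF
  have : Even (2 ^ (n : ℕ)) := (Nat.even_pow.mpr ⟨even_two, n.pos.ne'⟩)
  exact (Nat.not_even_iff_odd.mpr hF) this

theorem LC_card_supported [Fintype F] (S : Finset ℕ) :
    Nat.card {t : ℕ → F // ∀ r, r ∉ S → t r = 0} = Fintype.card F ^ S.card := by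
  classical
  have e : {t : ℕ → F // ∀ r, r ∉ S → t r = 0} ≃ (S → F) :=
    { toFun := fun t r => t.1 r.1
      invFun := fun u => ⟨fun r => if h : r ∈ S then u ⟨r, h⟩ else 0, fun r hr => by simp [hr]⟩
      left_inv := by
        rintro ⟨t, ht⟩
        apply Subtype.ext
        funext r
        by_cases h : r ∈ S
        · simp [h]
        · simp [h, ht r h]
      right_inv := by
        intro u
        funext r
        simp [r.2] }
  rw [Nat.card_congr e, Nat.card_eq_fintype_card, Fintype.card_fun, Fintype.card_coe]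

/-- (LC) the centralizer of `tor (sv b)` in the group of a closed list. -/
theorem card_list_cent [Fintype F] (hF : Odd (Fintype.card F)) (b : ℕ) (P : List ℕ)
    (hP : ClosedList chevE8 phiE P) :
    Nat.card ↥(listSubgroup chevE8 F P ⊓ Zc (tor (sv (F := F) b))) =
      Fintype.card F ^ (P.filter fun r => !par b r).length := by
  classical
  have hE8' := hE8
  have hgr := LC_gradeOK'
  have h2 : (2 : F) ≠ 0 := LC_two_ne_zero hF
  have hlt : ∀ r ∈ P, r < 240 := fun r hr => (hP.pos r hr).1
  have hnd : P.Nodup := hP.sorted.imp (fun h e => by rw [e] at h; exact lt_irrefl _ h)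
  set Q := P.filter fun r => !par b r with hQ
  have hQnd : Q.Nodup := hnd.filter _
  have hmemQ : ∀ r, r ∈ Q ↔ r ∈ P ∧ par b r = false := by
    intro r
    rw [hQ, List.mem_filter]
    simp
  -- conjugation of the ordered products
  have hconj : ∀ t : ℕ → F, tor (sv b) * pwG chevE8 F P t * (tor (sv b))⁻¹ =
      pwG chevE8 F P (fun r => ((chr r (sv (F := F) b) : Fˣ) : F) * t r) :=
    fun t => LC_conj_pwG _ P hlt t
  have hset : ((listSubgroup chevE8 F P ⊓ Zc (tor (F := F) (sv b)) : Subgroup (GL chevE8.Idx F)) :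
      Set (GL chevE8.Idx F)) = pwG chevE8 F P '' {t : ℕ → F | ∀ r, r ∉ Q.toFinset → t r = 0} := by
    ext g
    constructor
    · rintro ⟨hg1, hg2⟩
      obtain ⟨t, ht, rfl⟩ := exists_pwG hE8' hgr P hP g hg1
      refine ⟨t, ?_, rfl⟩
      intro r hr
      rw [List.mem_toFinset, hmemQ] at hr
      by_cases hrP : r ∈ P
      · have hpar : par b r = true := by
          cases hp : par b r
          · exact absurd ⟨hrP, hp⟩ hr
          · rfl
        have hcomm := (mem_Zc _ _).mp hg2
        have hc2 : tor (sv b) * pwG chevE8 F P t * (tor (F := F) (sv b))⁻¹ = pwG chevE8 F P t := by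
          rw [← hcomm]; group
        rw [hconj] at hc2
        have hfun := pwG_injOn hE8' hgr P hP _ t
          (fun s hs => by rw [ht s hs, mul_zero]) ht hc2
        have hr' := congrFun hfun r
        beta_reduce at hr'
        rw [chr_sv b r, if_pos hpar] at hr'
        have h3 : (2 : F) * t r = 0 := by
          have : -(t r) = t r := by simpa using hr'
          linear_combination -this
        rcases mul_eq_zero.mp h3 with h4 | h4
        · exact absurd h4 h2
        · exact h4
      · exact ht r hrP
    · rintro ⟨t, ht, rfl⟩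
      refine ⟨pwG_mem_listSubgroup hE8' P t, ?_⟩
      show pwG chevE8 F P t ∈ Zc (tor (F := F) (sv b))
      rw [mem_Zc]
      have hc2 : tor (sv b) * pwG chevE8 F P t * (tor (F := F) (sv b))⁻¹ = pwG chevE8 F P t := by
        rw [hconj]
        apply pwG_congr
        intro r hr
        cases hp : par b r
        · rw [chr_sv b r, hp]
          simp
        · have : t r = 0 := ht r (by
            rw [List.mem_toFinset, hmemQ]
            rintro ⟨-, h⟩
            rw [hp] at h
            exact absurd h (by decide))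
          rw [this, mul_zero]
      calc pwG chevE8 F P t * tor (sv b)
          = (tor (sv b) * pwG chevE8 F P t * (tor (F := F) (sv b))⁻¹) * tor (sv b) := by rw [hc2]
        _ = tor (sv b) * pwG chevE8 F P t := by group
  have hinj : Set.InjOn (pwG chevE8 F P) {t : ℕ → F | ∀ r, r ∉ Q.toFinset → t r = 0} := by
    intro t ht t' ht' heq
    have hsupp : ∀ (u : ℕ → F), (∀ r, r ∉ Q.toFinset → u r = 0) → ∀ r, r ∉ P → u r = 0 := by
      intro u hu r hr
      apply hu r
      rw [List.mem_toFinset, hmemQ]
      exact fun h => hr h.1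
    exact pwG_injOn hE8' hgr P hP t t' (hsupp t ht) (hsupp t' ht') heq
  have e0 : Nat.card ↥(listSubgroup chevE8 F P ⊓ Zc (tor (F := F) (sv b))) =
      ((listSubgroup chevE8 F P ⊓ Zc (tor (F := F) (sv b)) : Subgroup (GL chevE8.Idx F)) :
        Set (GL chevE8.Idx F)).ncard := Nat.card_coe_set_eq _
  rw [e0, hset, Set.InjOn.ncard_image hinj, ← Nat.card_coe_set_eq]
  have := LC_card_supported (F := F) Q.toFinset
  rw [List.toFinset_card_of_nodup hQnd] at this
  exact this

end PartIII

end Cfsg.Agent.Helper59.E8Inv2
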