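import Mathlib

set_option autoImplicit false

/-!
# Arithmetic in the multiplicative group of a finite field: `r`-th powers
-/

namespace Cfsg.Agent.Helper59.Elusive

variable {F : Type*} [Field F] [Fintype F]

/-- A generator of the unit group with its order. -/
theorem exists_unit_generator :
    ∃ g : Fˣ, orderOf g = Fintype.card F - 1 ∧ ∀ u : Fˣ, ∃ k : ℕ, u = g ^ k := by
  classical
  obtain ⟨g, hg⟩ := IsCyclic.exists_generator (α := Fˣ)
  refine ⟨g, ?_, ?_⟩
  · rw [orderOf_eq_card_of_forall_mem_zpowers hg, Nat.card_eq_fintype_card, Fintype.card_units]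
  · intro u
    have h1 := hg u
    rw [← mem_powers_iff_mem_zpowers, Submonoid.mem_powers_iff] at h1
    obtain ⟨k, hk⟩ := h1
    exact ⟨k, hk.symm⟩

/-- `(-1)^(r+1)` is an `r`-th power unless `r = 2` and `q ≡ 3 (mod 4)`. -/
theorem sign_is_pow (r : ℕ) (hr : r.Prime) (h : ¬ (r = 2 ∧ Fintype.card F % 4 = 3)) :
    ∃ s : F, s ^ r = (-1) ^ (r + 1) := by
  rcases hr.eq_two_or_odd' with h2 | hodd
  · subst h2
    have h3 : Fintype.card F % 4 ≠ 3 := fun h' => h ⟨rfl, h'⟩
    obtain ⟨s, hs⟩ := FiniteField.isSquare_neg_one_iff.mpr h3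
    refine ⟨s, ?_⟩
    rw [pow_two, ← hs]; norm_num
  · refine ⟨1, ?_⟩
    rw [one_pow, Even.neg_one_pow]
    exact Odd.add_one hodd

theorem sign_sq (r : ℕ) : ((-1 : F) ^ (r + 1)) * ((-1) ^ (r + 1)) = 1 := by
  rw [← mul_pow]; norm_num

/-- Lemma A. -/
theorem arith_A (r : ℕ) (hr : r.Prime) (hrq : r ∣ Fintype.card F - 1) (c : F)
    (hc : ∀ b : F, b ^ r ≠ c) (d : ℕ) (hd : d ≠ 0)
    (h : ((-1) ^ (r + 1) * c) ^ d = 1) :
    padicValNat r (Fintype.card F - 1) < padicValNat r (d * r) ∨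
      (r = 2 ∧ Fintype.card F % 4 = 3) := by
  classical
  haveI : Fact r.Prime := ⟨hr⟩
  by_cases hcase : r = 2 ∧ Fintype.card F % 4 = 3
  · exact Or.inr hcase
  left
  obtain ⟨s, hs⟩ := sign_is_pow (F := F) r hr hcase
  set ε : F := (-1) ^ (r + 1) with hε
  have hεε : ε * ε = 1 := sign_sq r
  set c' : F := ε * c with hc'
  have hc'pow : ∀ b : F, b ^ r ≠ c' := by
    intro b hb
    apply hc (s * b)
    rw [mul_pow, hs, hb, hc', ← mul_assoc, hεε, one_mul]
  have hc'0 : c' ≠ 0 := by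
    intro h0
    exact hc'pow 0 (by rw [h0, zero_pow hr.ne_zero])
  obtain ⟨g, hg, hgen⟩ := exists_unit_generator (F := F)
  obtain ⟨k, hk⟩ := hgen (Units.mk0 c' hc'0)
  have hrk : ¬ r ∣ k := by
    rintro ⟨j, rfl⟩
    apply hc'pow ((g ^ j : Fˣ) : F)
    have : ((Units.mk0 c' hc'0 : Fˣ) : F) = ((g ^ (r * j) : Fˣ) : F) := by rw [hk]
    rw [Units.val_mk0] at this
    rw [this, ← Units.val_pow_eq_pow_val, ← pow_mul, mul_comm]
  have hpow : g ^ (k * d) = 1 := by
    rw [pow_mul, ← hk]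
    apply Units.ext
    rw [Units.val_pow_eq_pow_val, Units.val_mk0, Units.val_one]
    exact h
  have hdvd : Fintype.card F - 1 ∣ k * d := by
    rw [← hg]; exact orderOf_dvd_of_pow_eq_one hpow
  have hq1 : Fintype.card F - 1 ≠ 0 := by
    have := Fintype.one_lt_card (α := F)
    omega
  set a := padicValNat r (Fintype.card F - 1) with ha
  have hra : r ^ a ∣ k * d := (pow_padicValNat_dvd).trans hdvd
  have hcop : Nat.Coprime (r ^ a) k :=
    Nat.Coprime.pow_left a ((Nat.Prime.coprime_iff_not_dvd hr).mpr hrk)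
  have hrad : r ^ a ∣ d := hcop.dvd_of_dvd_mul_left hra
  have : r ^ (a + 1) ∣ d * r := by
    rw [pow_succ]; exact Nat.mul_dvd_mul hrad dvd_rfl
  have hdr : d * r ≠ 0 := Nat.mul_ne_zero hd hr.ne_zero
  exact Nat.lt_of_succ_le ((padicValNat_dvd_iff_le hdr).mp this)

/-- Lemma B. -/
theorem arith_B (r : ℕ) (hr : r.Prime) (hrq : r ∣ Fintype.card F - 1) (n : ℕ) (hn : n ≠ 0)
    (h : padicValNat r (Fintype.card F - 1) < padicValNat r n ∨
      (r = 2 ∧ Even n ∧ Fintype.card F % 4 ≠ 1)) :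
    ∃ c : F, (∀ b : F, b ^ r ≠ c) ∧ r ∣ n ∧ ((-1) ^ (r + 1) * c) ^ (n / r) = 1 := by
  classical
  haveI : Fact r.Prime := ⟨hr⟩
  have hq1 : Fintype.card F - 1 ≠ 0 := by
    have := Fintype.one_lt_card (α := F)
    omega
  have ha1 : 1 ≤ padicValNat r (Fintype.card F - 1) :=
    one_le_padicValNat_of_dvd hq1 hrq
  by_cases hcase : r = 2 ∧ Fintype.card F % 4 = 3
  · obtain ⟨rfl, h3⟩ := hcase
    have hev : Even n := by
      rcases h with h | h
      · have : 2 ∣ n := dvd_of_one_le_padicValNat (by omega)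
        exact even_iff_two_dvd.mpr this
      · exact h.2.1
    refine ⟨-1, ?_, even_iff_two_dvd.mp hev, ?_⟩
    · intro b hb
      have : IsSquare (-1 : F) := ⟨b, by rw [← hb, pow_two]⟩
      exact (FiniteField.isSquare_neg_one_iff.mp this) h3
    · norm_num
  · have hlt : padicValNat r (Fintype.card F - 1) < padicValNat r n := by
      rcases h with h | ⟨h2, -, h4⟩
      · exact h
      · exfalso
        apply hcase
        refine ⟨h2, ?_⟩
        subst h2
        have : Fintype.card F % 2 = 1 := by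
          have := Fintype.one_lt_card (α := F)
          omega
        omega
    obtain ⟨s, hs⟩ := sign_is_pow (F := F) r hr hcase
    set ε : F := (-1) ^ (r + 1) with hε
    have hεε : ε * ε = 1 := sign_sq r
    set a := padicValNat r (Fintype.card F - 1) with ha
    obtain ⟨g, hg, hgen⟩ := exists_unit_generator (F := F)
    have hrn : r ∣ n := dvd_of_one_le_padicValNat (by omega)
    have hra1 : r ^ (a + 1) ∣ n := (padicValNat_dvd_iff_le hn).mpr hlt
    have hra : r ^ a ∣ n / r := by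
      obtain ⟨e, he⟩ := hra1
      refine ⟨e, ?_⟩
      rw [he, pow_succ, mul_assoc, mul_comm r e, ← mul_assoc, Nat.mul_div_cancel _ hr.pos]
    have hraq : r ^ a ∣ Fintype.card F - 1 := pow_padicValNat_dvd
    set u : Fˣ := g ^ ((Fintype.card F - 1) / r ^ a) with hu
    have hupow : u ^ (n / r) = 1 := by
      obtain ⟨e, he⟩ := hra
      rw [he, hu, ← pow_mul, ← mul_assoc, Nat.div_mul_cancel hraq, pow_mul, ← hg,
        pow_orderOf_eq_one, one_pow]
    have hunot : ∀ b : F, b ^ r ≠ (u : F) := by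
      intro b hb
      have hb0 : b ≠ 0 := by
        rintro rfl
        rw [zero_pow hr.ne_zero] at hb
        exact u.ne_zero hb.symm
      obtain ⟨j, hj⟩ := hgen (Units.mk0 b hb0)
      have h1 : g ^ (j * r) = g ^ ((Fintype.card F - 1) / r ^ a) := by
        rw [pow_mul, ← hj]
        apply Units.ext
        rw [Units.val_pow_eq_pow_val, Units.val_mk0, hb]
      have h2 := pow_eq_pow_iff_modEq.mp h1
      rw [hg] at h2
      have h3 : r ∣ (Fintype.card F - 1) / r ^ a := (h2.dvd_iff hrq).mp (Dvd.intro_left j rfl)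
      have h4 : r ^ a * r ∣ Fintype.card F - 1 := Nat.mul_dvd_of_dvd_div hraq h3
      rw [← pow_succ] at h4
      have := (padicValNat_dvd_iff_le hq1).mp h4
      omega
    refine ⟨ε * (u : F), ?_, hrn, ?_⟩
    · intro b hb
      apply hunot (s * b)
      rw [mul_pow, hs, hb, ← mul_assoc, hεε, one_mul]
    · rw [← mul_assoc, hεε, one_mul, ← Units.val_pow_eq_pow_val, hupow, Units.val_one]

end Cfsg.Agent.Helper59.Elusive
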