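import Mathlib
import Cfsg.Agent.Helper59.SubspaceCount

set_option autoImplicit false

/-!
# Counting flags `U ≤ W` with `dim U = m`, `dim W = n - m` in a finite vector space
-/

namespace Cfsg.Agent.Helper59.SubCount

open Module

section general

variable {F V : Type*} [Field F] [AddCommGroup V] [Module F V] [FiniteDimensional F V]

/-- dimension of the preimage of a subspace of the quotient -/
theorem finrank_comap_mkQ (U : Submodule F V) (W' : Submodule F (V ⧸ U)) :
    finrank F ↥(W'.comap U.mkQ) = finrank F ↥W' + finrank F ↥U := by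
  set W := W'.comap U.mkQ with hW
  have hUW : U ≤ W := Submodule.le_comap_mkQ U W'
  let g : ↥W →ₗ[F] V ⧸ U := U.mkQ.comp W.subtype
  have hrange : LinearMap.range g = W' := by
    rw [LinearMap.range_comp, Submodule.range_subtype, hW,
      Submodule.map_comap_eq_of_surjective (Submodule.mkQ_surjective U)]
  have hker : LinearMap.ker g = U.comap W.subtype := by
    rw [LinearMap.ker_comp, Submodule.ker_mkQ]
  have h1 := LinearMap.finrank_range_add_finrank_ker g
  rw [hrange, hker, (Submodule.comapSubtypeEquivOfLe hUW).finrank_eq] at h1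
  exact h1.symm

/-- subspaces above `U` of dimension `b + m` correspond to `b`-dimensional subspaces of `V ⧸ U`. -/
noncomputable def overEquiv (U : Submodule F V) (m b : ℕ) (hU : finrank F ↥U = m) :
    {W : Submodule F V // U ≤ W ∧ finrank F ↥W = b + m} ≃
      {W' : Submodule F (V ⧸ U) // finrank F ↥W' = b} where
  toFun W := ⟨W.1.map U.mkQ, by
    have h1 := finrank_comap_mkQ U (W.1.map U.mkQ)
    rw [Submodule.comap_map_mkQ, sup_eq_right.mpr W.2.1, W.2.2, hU] at h1
    omega⟩
  invFun W' := ⟨W'.1.comap U.mkQ, Submodule.le_comap_mkQ U _, by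
    rw [finrank_comap_mkQ, W'.2, hU]⟩
  left_inv W := Subtype.ext (by
    show (W.1.map U.mkQ).comap U.mkQ = W.1
    rw [Submodule.comap_map_mkQ, sup_eq_right.mpr W.2.1])
  right_inv W' := Subtype.ext
    (Submodule.map_comap_eq_of_surjective (Submodule.mkQ_surjective U) _)

/-- flags as a sigma type -/
def flagEquiv (m b : ℕ) :
    {P : Submodule F V × Submodule F V //
        P.1 ≤ P.2 ∧ finrank F ↥P.1 = m ∧ finrank F ↥P.2 = b} ≃
      Σ U : {U : Submodule F V // finrank F ↥U = m},
        {W : Submodule F V // U.1 ≤ W ∧ finrank F ↥W = b} where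
  toFun P := ⟨⟨P.1.1, P.2.2.1⟩, ⟨P.1.2, P.2.1, P.2.2.2⟩⟩
  invFun s := ⟨(s.1.1, s.2.1), s.2.2.1, s.1.2, s.2.2.2⟩
  left_inv P := rfl
  right_inv s := rfl

/-- number of `a`-subspaces equals number of `(N-a)`-subspaces of the dual -/
theorem card_subspaces_dual (a : ℕ) (ha : a ≤ finrank F V) :
    Nat.card {W : Submodule F V // finrank F ↥W = a} =
      Nat.card {W : Submodule F (Module.Dual F V) // finrank F ↥W = finrank F V - a} := by
  apply Nat.card_congr
  refine ⟨fun W => ⟨W.1.dualAnnihilator, ?_⟩, fun W => ⟨W.1.dualCoannihilator, ?_⟩, ?_, ?_⟩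
  · have := Subspace.finrank_add_finrank_dualAnnihilator_eq W.1
    rw [W.2] at this; omega
  · have := Subspace.finrank_add_finrank_dualCoannihilator_eq W.1
    rw [W.2] at this; omega
  · intro W; exact Subtype.ext Subspace.dualAnnihilator_dualCoannihilator_eq
  · intro W; exact Subtype.ext Subspace.dualCoannihilator_dualAnnihilator_eq

/-- the number of `a`-subspaces depends only on the dimension of the space -/
theorem card_subspaces_congr {V' : Type*} [AddCommGroup V'] [Module F V']
    [FiniteDimensional F V'] (h : finrank F V = finrank F V') (a : ℕ) :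
    Nat.card {W : Submodule F V // finrank F ↥W = a} =
      Nat.card {W : Submodule F V' // finrank F ↥W = a} := by
  let e : V ≃ₗ[F] V' := LinearEquiv.ofFinrankEq V V' h
  apply Nat.card_congr
  refine (Submodule.orderIsoMapComap e).toEquiv.subtypeEquiv ?_
  intro W
  show finrank F ↥W = a ↔ finrank F ↥(W.map (e : V →ₗ[F] V')) = a
  rw [LinearEquiv.finrank_map_eq]

end general

section finite

variable {F V : Type*} [Field F] [Fintype F] [AddCommGroup V] [Module F V] [FiniteDimensional F V]

/-- the number of subspaces of dimension `N - m` above a fixed `m`-space `U`. -/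
theorem card_over (m : ℕ) (hm : 2 * m ≤ finrank F V) (U : Submodule F V)
    (hU : finrank F ↥U = m) :
    Nat.card {W : Submodule F V // U ≤ W ∧ finrank F ↥W = finrank F V - m} =
      Nat.card {W : Submodule F (Fin (finrank F V - m) → F) // finrank F ↥W = m} := by
  have hb : finrank F V - m = (finrank F V - 2 * m) + m := by omega
  have hq : finrank F (V ⧸ U) = finrank F V - m := by
    have := Submodule.finrank_quotient_add_finrank U
    omega
  have e1 : {W : Submodule F V // U ≤ W ∧ finrank F ↥W = finrank F V - m} ≃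
      {W : Submodule F V // U ≤ W ∧ finrank F ↥W = (finrank F V - 2 * m) + m} :=
    Equiv.subtypeEquivRight (fun W => by rw [← hb])
  rw [Nat.card_congr e1, Nat.card_congr (overEquiv U m (finrank F V - 2 * m) hU),
    card_subspaces_dual (F := F) (V := V ⧸ U) (finrank F V - 2 * m) (by rw [hq]; omega)]
  have h2 : finrank F (V ⧸ U) - (finrank F V - 2 * m) = m := by rw [hq]; omega
  rw [h2]
  apply card_subspaces_congr
  rw [Subspace.dual_finrank_eq, hq, Module.finrank_fin_fun]

/-- the number of flags -/
theorem card_flags (m : ℕ) (hm : 2 * m ≤ finrank F V) :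
    Nat.card {P : Submodule F V × Submodule F V //
        P.1 ≤ P.2 ∧ finrank F ↥P.1 = m ∧ finrank F ↥P.2 = finrank F V - m} =
      Nat.card {U : Submodule F V // finrank F ↥U = m} *
        Nat.card {W : Submodule F (Fin (finrank F V - m) → F) // finrank F ↥W = m} := by
  classical
  haveI : Finite V := Module.finite_of_finite F
  haveI : Fintype {U : Submodule F V // finrank F ↥U = m} := Fintype.ofFinite _
  rw [Nat.card_congr (flagEquiv m (finrank F V - m)), Nat.card_sigma,
    Finset.sum_congr rfl (fun U _ => card_over m hm U.1 U.2), Finset.sum_const, Finset.card_univ,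
    smul_eq_mul, ← Nat.card_eq_fintype_card]

/-- a prime dividing the number of flags divides some `q^j - 1` with `n - m < j ≤ n` or
`n - 2m < j ≤ n - m`. -/
theorem exists_dvd_of_dvd_card_flags (m : ℕ) (hm : 2 * m ≤ finrank F V) (r : ℕ) (hr : r.Prime)
    (hdvd : r ∣ Nat.card {P : Submodule F V × Submodule F V //
        P.1 ≤ P.2 ∧ finrank F ↥P.1 = m ∧ finrank F ↥P.2 = finrank F V - m}) :
    ∃ k : ℕ, k < m ∧ (r ∣ Fintype.card F ^ (finrank F V - k) - 1 ∨
      r ∣ Fintype.card F ^ (finrank F V - m - k) - 1) := by
  rw [card_flags m hm] at hdvd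
  rcases (Nat.Prime.dvd_mul hr).mp hdvd with h | h
  · obtain ⟨k, hk, hk2⟩ := exists_dvd_of_dvd_card (F := F) (V := V) m (by omega) r hr h
    exact ⟨k, hk, Or.inl hk2⟩
  · obtain ⟨k, hk, hk2⟩ := exists_dvd_of_dvd_card (F := F)
      (V := Fin (finrank F V - m) → F) m (by rw [Module.finrank_fin_fun]; omega) r hr h
    rw [Module.finrank_fin_fun] at hk2
    exact ⟨k, hk, Or.inr hk2⟩

/-- the characteristic does not divide the number of flags -/
theorem char_not_dvd_card_flags (m : ℕ) (hm : 2 * m ≤ finrank F V) (p : ℕ) [Fact p.Prime]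
    [CharP F p] :
    ¬ p ∣ Nat.card {P : Submodule F V × Submodule F V //
        P.1 ≤ P.2 ∧ finrank F ↥P.1 = m ∧ finrank F ↥P.2 = finrank F V - m} := by
  rw [card_flags m hm]
  intro h
  rcases (Nat.Prime.dvd_mul Fact.out).mp h with h | h
  · exact char_not_dvd_card (F := F) (V := V) m (by omega) p h
  · exact char_not_dvd_card (F := F) (V := Fin (finrank F V - m) → F) m
      (by rw [Module.finrank_fin_fun]; omega) p h

end finite

end Cfsg.Agent.Helper59.SubCount
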