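import Mathlib
import Cfsg.Agent.Helper59.InvChain
import Cfsg.Agent.Helper59.ElusiveCyc
import Cfsg.Agent.Helper59.ElusiveDet
import Cfsg.Agent.Helper59.ElusiveTransport
import Cfsg.Agent.Helper59.ElusiveArith
import Cfsg.Agent.Helper59.ElusiveConstr
import Cfsg.Agent.Helper59.FlagCount

set_option autoImplicit false

/-!
# `r`-elusivity of `PSL_n(q)` on flags `U < W`, `dim U = m`, `dim W = n - m`: tools
-/

namespace Cfsg.Agent.Helper59.Elusive

open Polynomial Module
open Cfsg.Agent.Helper59.InvChain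

universe u

section transport

variable {F : Type u} [Field F]

/-- Conjugation data: an abstract determinant-one endomorphism of an `n`-dimensional space is
realised by an element of `SL_n(F)`. -/
theorem transport_data {V : Type*} [AddCommGroup V] [Module F V] [FiniteDimensional F V]
    (n r : ℕ) (hV : finrank F V = n)
    (f : V →ₗ[F] V) (hdet : LinearMap.det f = 1) (c : F) (hpow : f ^ r = c • (1 : V →ₗ[F] V))
    (hns : ∀ c : F, f ≠ c • (1 : V →ₗ[F] V)) :
    ∃ (x : Matrix.SpecialLinearGroup (Fin n) F) (φ : (Fin n → F) ≃ₗ[F] V),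
      (∃ c : F, ((x ^ r : Matrix.SpecialLinearGroup (Fin n) F) : Matrix (Fin n) (Fin n) F) =
        c • (1 : Matrix (Fin n) (Fin n) F)) ∧
      (∀ c : F, (x : Matrix (Fin n) (Fin n) F) ≠ c • (1 : Matrix (Fin n) (Fin n) F)) ∧
      ∀ w : Fin n → F, φ (Matrix.toLin' (x : Matrix (Fin n) (Fin n) F) w) = f (φ w) := by
  classical
  let b : Basis (Fin n) F V := Module.finBasisOfFinrankEq F V hV
  let x : Matrix.SpecialLinearGroup (Fin n) F :=
    ⟨LinearMap.toMatrix b b f, by rw [LinearMap.det_toMatrix]; exact hdet⟩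
  have hx : (x : Matrix (Fin n) (Fin n) F) = LinearMap.toMatrix b b f := rfl
  refine ⟨x, b.equivFun.symm, ⟨c, ?_⟩, ?_, ?_⟩
  · rw [Matrix.SpecialLinearGroup.coe_pow, hx, LinearMap.toMatrix_pow, hpow, map_smul,
      LinearMap.toMatrix_one]
  · intro c' hc'
    apply hns c'
    apply (LinearMap.toMatrix b b).injective
    rw [map_smul, LinearMap.toMatrix_one, ← hx, hc']
  · intro w
    have h3 := LinearMap.toMatrix_mulVec_repr b b f (b.equivFun.symm w)
    have h4 : (b.repr (b.equivFun.symm w) : Fin n → F) = w := by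
      rw [← Basis.equivFun_apply, LinearEquiv.apply_symm_apply]
    rw [h4] at h3
    show b.equivFun.symm (Matrix.toLin' (LinearMap.toMatrix b b f) w) = f (b.equivFun.symm w)
    rw [Matrix.toLin'_apply, h3, ← Basis.equivFun_apply, LinearEquiv.symm_apply_apply]

/-- the matrix-level hypothesis for flags. -/
def ElusiveFlagProp (F : Type*) [Field F] (n m r : ℕ) : Prop :=
  ∀ x : Matrix.SpecialLinearGroup (Fin n) F,
      (∃ c : F, ((x ^ r : Matrix.SpecialLinearGroup (Fin n) F) : Matrix (Fin n) (Fin n) F) =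
        c • (1 : Matrix (Fin n) (Fin n) F)) →
      (∀ c : F, (x : Matrix (Fin n) (Fin n) F) ≠ c • (1 : Matrix (Fin n) (Fin n) F)) →
      ∃ U W : Submodule F (Fin n → F), U ≤ W ∧ Module.finrank F ↥U = m ∧
        Module.finrank F ↥W = n - m ∧
        U.map (Matrix.toLin' (x : Matrix (Fin n) (Fin n) F)) ≤ U ∧
        W.map (Matrix.toLin' (x : Matrix (Fin n) (Fin n) F)) ≤ W

theorem ElusiveFlagProp.toElusiveProp {n m r : ℕ} (H : ElusiveFlagProp F n m r) :
    ElusiveProp F n m r := by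
  intro x h1 h2
  obtain ⟨U, W, -, hU, -, hUinv, -⟩ := H x h1 h2
  exact ⟨U, hU, hUinv⟩

theorem transport_flag {V : Type*} [AddCommGroup V] [Module F V] [FiniteDimensional F V]
    (n m r : ℕ) (hV : finrank F V = n) (H : ElusiveFlagProp F n m r)
    (f : V →ₗ[F] V) (hdet : LinearMap.det f = 1) (c : F) (hpow : f ^ r = c • (1 : V →ₗ[F] V))
    (hns : ∀ c : F, f ≠ c • (1 : V →ₗ[F] V)) :
    ∃ U W : Submodule F V, U ≤ W ∧ finrank F ↥U = m ∧ finrank F ↥W = n - m ∧
      U.map f ≤ U ∧ W.map f ≤ W := by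
  obtain ⟨x, φ, h1, h2, h3⟩ := transport_data n r hV f hdet c hpow hns
  obtain ⟨U, W, hUW, hU, hW, hUinv, hWinv⟩ := H x h1 h2
  refine ⟨U.map (φ : (Fin n → F) →ₗ[F] V), W.map (φ : (Fin n → F) →ₗ[F] V),
    Submodule.map_mono hUW, ?_, ?_, ?_, ?_⟩
  · rw [LinearEquiv.finrank_map_eq]; exact hU
  · rw [LinearEquiv.finrank_map_eq]; exact hW
  · rintro _ ⟨_, ⟨w, hw, rfl⟩, rfl⟩
    exact ⟨Matrix.toLin' (x : Matrix (Fin n) (Fin n) F) w, hUinv ⟨w, hw, rfl⟩, h3 w⟩
  · rintro _ ⟨_, ⟨w, hw, rfl⟩, rfl⟩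
    exact ⟨Matrix.toLin' (x : Matrix (Fin n) (Fin n) F) w, hWinv ⟨w, hw, rfl⟩, h3 w⟩

end transport

section E1

variable {F : Type u} [Field F] [Fintype F]

/-- The construction for `i ≥ 2` in continuation-passing style: an endomorphism of order `r`
of an `n`-dimensional space with determinant one, non-scalar, whose fixed space has dimension
at most `n % i`. -/
theorem E1_construct {p : ℕ} [Fact p.Prime] [CharP F p] (n r : ℕ) [Fact r.Prime]
    (hrp : r ≠ p)
    (hi2 : 2 ≤ orderOf ((Fintype.card F : ℕ) : ZMod r))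
    (hin : orderOf ((Fintype.card F : ℕ) : ZMod r) ≤ n) {motive : Prop}
    (k : ∀ (V : Type u) [AddCommGroup V] [Module F V] [FiniteDimensional F V] (f : V →ₗ[F] V),
      finrank F V = n → LinearMap.det f = 1 → f ^ r = 1 →
      (∀ c : F, f ≠ c • (1 : V →ₗ[F] V)) →
      finrank F ↥(fixSp f) ≤ n % orderOf ((Fintype.card F : ℕ) : ZMod r) → motive) : motive := by
  classical
  set i := orderOf ((Fintype.card F : ℕ) : ZMod r) with hidef
  have hr : r.Prime := Fact.out
  have hnd : ¬ r ∣ Fintype.card F - 1 := by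
    intro h
    have := (orderOf_eq_one_iff_dvd r (Fintype.card F) Fintype.card_pos).mpr h
    omega
  have hcop : Nat.Coprime r (Fintype.card F - 1) := (Nat.Prime.coprime_iff_not_dvd hr).mpr hnd
  have hnu : ¬ IsUnit (cyclotomic r F) := by
    apply not_isUnit_of_natDegree_pos
    rw [natDegree_cyclotomic, Nat.totient_prime hr]
    have := hr.two_le
    omega
  obtain ⟨Q, hQirr, hQdvd⟩ := WfDvdMonoid.exists_irreducible_factor hnu (cyclotomic_ne_zero r F)
  have hQdeg : Q.natDegree = i := (HP_cyclotomic r hrp).2 Q hQirr hQdvd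
  haveI : Fact (Irreducible Q) := ⟨hQirr⟩
  have hEfin : finrank F (AdjoinRoot Q) = i := by
    rw [(AdjoinRoot.powerBasis hQirr.ne_zero).finrank, AdjoinRoot.powerBasis_dim, hQdeg]
  haveI : Module.Finite F (AdjoinRoot Q) := (AdjoinRoot.powerBasis hQirr.ne_zero).finite
  have hω : (AdjoinRoot.root Q) ^ r = 1 := by
    have hdvd : Q ∣ (X ^ r - 1 : F[X]) := hQdvd.trans (cyclotomic.dvd_X_pow_sub_one r F)
    have h1 : aeval (AdjoinRoot.root Q) (X ^ r - 1 : F[X]) = 0 := by
      rw [AdjoinRoot.aeval_eq, AdjoinRoot.mk_eq_zero]; exact hdvd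
    rw [map_sub, map_pow, aeval_X, map_one] at h1
    exact sub_eq_zero.mp h1
  have hω1 : AdjoinRoot.root Q ≠ 1 := by
    intro h
    have h1 : aeval (AdjoinRoot.root Q) (X - C 1 : F[X]) = 0 := by
      rw [map_sub, aeval_X, aeval_C, map_one, h, sub_self]
    rw [AdjoinRoot.aeval_eq, AdjoinRoot.mk_eq_zero] at h1
    have h2 := natDegree_le_of_dvd h1 (X_sub_C_ne_zero 1)
    rw [natDegree_X_sub_C, hQdeg] at h2
    omega
  let g : Module.End F (Fin (n / i) → AdjoinRoot Q) :=
    Algebra.lsmul F F (Fin (n / i) → AdjoinRoot Q) (AdjoinRoot.root Q)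
  have hg : g ^ r = 1 := by
    show (Algebra.lsmul F F (Fin (n / i) → AdjoinRoot Q) (AdjoinRoot.root Q)) ^ r = 1
    rw [← map_pow, hω, map_one]
  let f : ((Fin (n % i) → F) × (Fin (n / i) → AdjoinRoot Q)) →ₗ[F]
      ((Fin (n % i) → F) × (Fin (n / i) → AdjoinRoot Q)) :=
    LinearMap.prodMapRingHom F (Fin (n % i) → F) (Fin (n / i) → AdjoinRoot Q) (1, g)
  have hf : f ^ r = 1 := by
    show (LinearMap.prodMapRingHom F (Fin (n % i) → F) (Fin (n / i) → AdjoinRoot Q) (1, g)) ^ r = 1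
    rw [← map_pow, Prod.pow_mk, one_pow, hg]
    exact map_one _
  have hfapp : ∀ v : (Fin (n % i) → F) × (Fin (n / i) → AdjoinRoot Q),
      f v = (v.1, AdjoinRoot.root Q • v.2) := fun v => rfl
  have hfin : finrank F ((Fin (n % i) → F) × (Fin (n / i) → AdjoinRoot Q)) = n := by
    rw [Module.finrank_prod, Module.finrank_fin_fun,
      ← Module.finrank_mul_finrank F (AdjoinRoot Q) (Fin (n / i) → AdjoinRoot Q), hEfin,
      Module.finrank_fin_fun]
    exact Nat.mod_add_div n i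
  have hfix : fixSp f ≤ LinearMap.range
      (LinearMap.inl F (Fin (n % i) → F) (Fin (n / i) → AdjoinRoot Q)) := by
    intro v hv
    rw [mem_fixSp, hfapp] at hv
    have h2 : AdjoinRoot.root Q • v.2 = v.2 := congrArg Prod.snd hv
    have h3 : (AdjoinRoot.root Q - 1) • v.2 = 0 := by rw [sub_smul, one_smul, h2, sub_self]
    rcases smul_eq_zero.mp h3 with h4 | h4
    · exact absurd (sub_eq_zero.mp h4) hω1
    · exact ⟨v.1, Prod.ext rfl h4.symm⟩
  have hfixdim : finrank F ↥(fixSp f) ≤ n % i := by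
    calc finrank F ↥(fixSp f) ≤ finrank F ↥(LinearMap.range
          (LinearMap.inl F (Fin (n % i) → F) (Fin (n / i) → AdjoinRoot Q))) :=
          Submodule.finrank_mono hfix
      _ = finrank F (Fin (n % i) → F) := LinearMap.finrank_range_of_inj LinearMap.inl_injective
      _ = n % i := Module.finrank_fin_fun F
  have hdet : LinearMap.det f = 1 :=
    eq_one_of_pow_eq_one_of_coprime r hr.ne_zero hcop _ (by rw [← map_pow, hf, map_one])
  have hipos : 0 < i := by omega
  have hnpos : 0 < n := by omega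
  have hns : ∀ c' : F, f ≠ c' • (1 : ((Fin (n % i) → F) × (Fin (n / i) → AdjoinRoot Q)) →ₗ[F]
      ((Fin (n % i) → F) × (Fin (n / i) → AdjoinRoot Q))) := by
    intro c' hc'
    have h1 : c' ^ r • (1 : ((Fin (n % i) → F) × (Fin (n / i) → AdjoinRoot Q)) →ₗ[F]
        ((Fin (n % i) → F) × (Fin (n / i) → AdjoinRoot Q))) = (1 : F) • 1 := by
      have h0 : f ^ r = c' ^ r • 1 := by rw [hc', _root_.smul_pow, one_pow]
      rw [one_smul, ← h0, hf]
    have h2 : c' ^ r = 1 := smul_one_injective (by rw [hfin]; exact hnpos) _ _ h1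
    have h3 : c' = 1 := eq_one_of_pow_eq_one_of_coprime r hr.ne_zero hcop c' h2
    have h4 : fixSp f = ⊤ := by
      rw [eq_top_iff]
      intro v _
      rw [mem_fixSp, hc', h3, one_smul]
      rfl
    rw [h4, finrank_top, hfin] at hfixdim
    have := Nat.mod_lt n hipos
    omega
  exact k _ f hfin hdet hf hns hfixdim

end E1

section cond

variable {F : Type u} [Field F] [Fintype F]
variable {V : Type*} [AddCommGroup V] [Module F V] [FiniteDimensional F V]

/-- refined necessary condition: the fixed part of an invariant subspace. -/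
theorem cond_of_inv_inf {p : ℕ} [Fact p.Prime] [CharP F p] (r : ℕ) [Fact r.Prime] (hrp : r ≠ p)
    (f : V →ₗ[F] V) (hf : f ^ r = 1) (U : Submodule F V) (hU : U.map f ≤ U)
    (hi : 0 < orderOf ((Fintype.card F : ℕ) : ZMod r)) :
    finrank F ↥(U ⊓ fixSp f) ≤ finrank F ↥U ∧
      orderOf ((Fintype.card F : ℕ) : ZMod r) ∣ finrank F ↥U - finrank F ↥(U ⊓ fixSp f) := by
  have hr : (r : F) ≠ 0 := by
    intro h
    have := (CharP.cast_eq_zero_iff F p r).mp h
    exact hrp ((Nat.prime_dvd_prime_iff_eq (Fact.out) (Fact.out)).mp this).symm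
  have hsplit := finrank_inv_split r hr f hf U hU
  have hdvd := dvd_finrank_of_inv f (cyclotomic r F) _ hi (HP_cyclotomic r hrp) (U ⊓ cycSp r f)
    (inv_inf hU (inv_cycSp r f)) (fun u hu => hu.2)
  refine ⟨Submodule.finrank_mono inf_le_left, ?_⟩
  have : finrank F ↥U - finrank F ↥(U ⊓ fixSp f) = finrank F ↥(U ⊓ cycSp r f) := by omega
  rw [this]; exact hdvd

theorem sub_mod_of_le (N m i : ℕ) (hle : m ≤ N) (h : m % i ≤ N % i) :
    (N - m) % i = N % i - m % i := by
  rcases Nat.eq_zero_or_pos i with rfl | hi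
  · simp
  have h1 := Nat.div_add_mod N i
  have h2 := Nat.div_add_mod m i
  have h3 : m / i ≤ N / i := Nat.div_le_div_right hle
  have h4 : i * (N / i - m / i) = i * (N / i) - i * (m / i) := Nat.mul_sub _ _ _
  have h5 : i * (m / i) ≤ i * (N / i) := Nat.mul_le_mul_left i h3
  have h6 : N - m = (N % i - m % i) + i * (N / i - m / i) := by omega
  rw [h6, Nat.add_mul_mod_self_left, Nat.mod_eq_of_lt]
  have := Nat.mod_lt N hi
  omega

/-- **Existence** of an invariant flag. -/
theorem exists_flag_of_cond {p : ℕ} [Fact p.Prime] [CharP F p] (r : ℕ) [Fact r.Prime]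
    (hrp : r ≠ p) (f : V →ₗ[F] V) (hf : f ^ r = 1) (m : ℕ) (hmn : 2 * m ≤ finrank F V)
    (hi : 0 < orderOf ((Fintype.card F : ℕ) : ZMod r))
    (hcond : 2 * (m % orderOf ((Fintype.card F : ℕ) : ZMod r)) ≤
      finrank F V % orderOf ((Fintype.card F : ℕ) : ZMod r)) :
    ∃ U W : Submodule F V, U ≤ W ∧ finrank F ↥U = m ∧ finrank F ↥W = finrank F V - m ∧
      U.map f ≤ U ∧ W.map f ≤ W := by
  obtain ⟨U, hUm, hU⟩ := exists_inv_of_cond r hrp f hf m (by omega) hi (by omega)
  have hU' : U ≤ U.comap f := Submodule.map_le_iff_le_comap.mp hU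
  have hfbar : (U.mapQ U f hU') ^ r = 1 := by
    rw [← Submodule.mapQ_pow U hU' r]
    have h1 : U.mapQ U (f ^ r) (U.le_comap_pow_of_le_comap hU' r) =
        U.mapQ U LinearMap.id (by rw [Submodule.comap_id]) := by
      congr 1
    rw [h1, Submodule.mapQ_id]
    rfl
  have hq : finrank F (V ⧸ U) = finrank F V - m := by
    have := Submodule.finrank_quotient_add_finrank U
    omega
  have hmod1 : (finrank F V - m) % orderOf ((Fintype.card F : ℕ) : ZMod r) =
      finrank F V % orderOf ((Fintype.card F : ℕ) : ZMod r) -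
        m % orderOf ((Fintype.card F : ℕ) : ZMod r) :=
    sub_mod_of_le _ _ _ (by omega) (by omega)
  have hmod2 : (finrank F V - m - m) % orderOf ((Fintype.card F : ℕ) : ZMod r) =
      (finrank F V - m) % orderOf ((Fintype.card F : ℕ) : ZMod r) -
        m % orderOf ((Fintype.card F : ℕ) : ZMod r) :=
    sub_mod_of_le _ _ _ (by omega) (by omega)
  obtain ⟨W', hW'm, hW'⟩ := exists_inv_of_cond r hrp (U.mapQ U f hU') hfbar
    (finrank F V - m - m) (by rw [hq]; omega) hi (by rw [hq]; omega)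
  refine ⟨U, W'.comap U.mkQ, Submodule.le_comap_mkQ U W', hUm, ?_, hU, ?_⟩
  · rw [SubCount.finrank_comap_mkQ, hW'm, hUm]; omega
  · rintro _ ⟨w, hw, rfl⟩
    show U.mkQ (f w) ∈ W'
    have h1 : U.mkQ (f w) = U.mapQ U f hU' (U.mkQ w) := rfl
    rw [h1]
    exact hW' ⟨U.mkQ w, hw, rfl⟩

/-- if `f^r = l^r`, reduce to `(l⁻¹ f)^r = 1` (flag version). -/
theorem flag_of_pow_scalar {p : ℕ} [Fact p.Prime] [CharP F p] (r : ℕ) [Fact r.Prime]
    (hrp : r ≠ p) (f : V →ₗ[F] V) (l : F) (hl : l ≠ 0) (hf : f ^ r = l ^ r • (1 : V →ₗ[F] V))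
    (m : ℕ) (hmn : 2 * m ≤ finrank F V)
    (hi : 0 < orderOf ((Fintype.card F : ℕ) : ZMod r))
    (hcond : 2 * (m % orderOf ((Fintype.card F : ℕ) : ZMod r)) ≤
      finrank F V % orderOf ((Fintype.card F : ℕ) : ZMod r)) :
    ∃ U W : Submodule F V, U ≤ W ∧ finrank F ↥U = m ∧ finrank F ↥W = finrank F V - m ∧
      U.map f ≤ U ∧ W.map f ≤ W := by
  have hy : (l⁻¹ • f) ^ r = 1 := by
    rw [_root_.smul_pow, hf, smul_smul, ← mul_pow, inv_mul_cancel₀ hl, one_pow, one_smul]
  obtain ⟨U, W, hUW, hUm, hWm, hU, hW⟩ := exists_flag_of_cond r hrp (l⁻¹ • f) hy m hmn hi hcond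
  have key : ∀ U : Submodule F V, U.map (l⁻¹ • f) ≤ U → U.map f ≤ U := by
    intro U hU
    rintro _ ⟨u, hu, rfl⟩
    have h1 : (l⁻¹ • f) u ∈ U := hU ⟨u, hu, rfl⟩
    have h2 : f u = l • ((l⁻¹ • f) u) := by
      rw [LinearMap.smul_apply, smul_smul, mul_inv_cancel₀ hl, one_smul]
    rw [h2]
    exact U.smul_mem l h1
  exact ⟨U, W, hUW, hUm, hWm, key U hU, key W hW⟩

end cond

end Cfsg.Agent.Helper59.Elusive
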