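import Mathlib
import Cfsg.Agent.Helper59.InvChain
import Cfsg.Agent.Helper59.ElusiveCyc
import Cfsg.Agent.Helper59.ElusiveDet
import Cfsg.Agent.Helper59.ElusiveTransport
import Cfsg.Agent.Helper59.ElusiveArith
import Cfsg.Agent.Helper59.ElusiveConstr
import Cfsg.Agent.Helper59.FlagCount
import Cfsg.Agent.Helper59.ElusiveFlag

set_option autoImplicit false

/-!
# `r`-elusivity of `PSL_n(q)` on flags `U < W`: the main equivalence
-/

namespace Cfsg.Agent.Helper59.Elusive

open Polynomial Module
open Cfsg.Agent.Helper59.InvChain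

universe u

variable {F : Type u} [Field F] [Fintype F]

theorem elusive_flag_iff {p : ℕ} [Fact p.Prime] [CharP F p]
    (n m : ℕ) (hn : 2 ≤ n) (hm : 1 ≤ m) (hmn : 2 * m < n)
    (r : ℕ) [Fact r.Prime]
    (hrΩ : r ∣ Nat.card {P : Submodule F (Fin n → F) × Submodule F (Fin n → F) //
        P.1 ≤ P.2 ∧ Module.finrank F ↥P.1 = m ∧ Module.finrank F ↥P.2 = n - m}) :
    ElusiveFlagProp F n m r ↔
    (r ≠ p ∧
      ((orderOf ((Fintype.card F : ℕ) : ZMod r) = 1 ∧ (r ∣ m ∨
          (padicValNat r n ≤ padicValNat r (Fintype.card F - 1) ∧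
            (r = 2 → Even n → Fintype.card F % 4 = 1)))) ∨
       (2 ≤ orderOf ((Fintype.card F : ℕ) : ZMod r) ∧
        orderOf ((Fintype.card F : ℕ) : ZMod r) ≤ m ∧
        2 * (m % orderOf ((Fintype.card F : ℕ) : ZMod r)) ≤
          n % orderOf ((Fintype.card F : ℕ) : ZMod r)))) := by
  classical
  have hr : r.Prime := Fact.out
  have hfinV : finrank F (Fin n → F) = n := Module.finrank_fin_fun F
  have hmle : 2 * m ≤ finrank F (Fin n → F) := by rw [hfinV]; omega
  have hrΩ' : r ∣ Nat.card {P : Submodule F (Fin n → F) × Submodule F (Fin n → F) //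
      P.1 ≤ P.2 ∧ Module.finrank F ↥P.1 = m ∧
        Module.finrank F ↥P.2 = finrank F (Fin n → F) - m} := by
    rw [hfinV]; exact hrΩ
  have hrp : r ≠ p := by
    rintro rfl
    exact SubCount.char_not_dvd_card_flags (F := F) (V := Fin n → F) m hmle r hrΩ'
  obtain ⟨k, hkm, hk⟩ := SubCount.exists_dvd_of_dvd_card_flags (F := F) (V := Fin n → F) m hmle
    r hr hrΩ'
  rw [hfinV] at hk
  obtain ⟨j, hj1, hjn, hjr, hjcase⟩ : ∃ j : ℕ, 1 ≤ j ∧ j ≤ n ∧ r ∣ Fintype.card F ^ j - 1 ∧
      (j = n - k ∨ j = n - m - k) := by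
    rcases hk with hk | hk
    · exact ⟨n - k, by omega, by omega, hk, Or.inl rfl⟩
    · exact ⟨n - m - k, by omega, by omega, hk, Or.inr rfl⟩
  have hpow : ((Fintype.card F : ℕ) : ZMod r) ^ j = 1 := by
    have h1 := (ZMod.natCast_eq_zero_iff _ r).mpr hjr
    rw [Nat.cast_sub (Nat.one_le_pow _ _ Fintype.card_pos), Nat.cast_pow, Nat.cast_one,
      sub_eq_zero] at h1
    exact h1
  have hidvd : orderOf ((Fintype.card F : ℕ) : ZMod r) ∣ j := orderOf_dvd_of_pow_eq_one hpow
  have hipos : 0 < orderOf ((Fintype.card F : ℕ) : ZMod r) :=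
    Nat.pos_of_dvd_of_pos hidvd (by omega)
  have hile : orderOf ((Fintype.card F : ℕ) : ZMod r) ≤ n :=
    (Nat.le_of_dvd (by omega) hidvd).trans hjn
  constructor
  · intro H
    refine ⟨hrp, ?_⟩
    by_cases hi1 : orderOf ((Fintype.card F : ℕ) : ZMod r) = 1
    · left
      refine ⟨hi1, ?_⟩
      by_contra hcon
      push Not at hcon
      obtain ⟨hrm, hcon2⟩ := hcon
      have hrq : r ∣ Fintype.card F - 1 :=
        (orderOf_eq_one_iff_dvd r (Fintype.card F) Fintype.card_pos).mp hi1
      have hB : padicValNat r (Fintype.card F - 1) < padicValNat r n ∨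
          (r = 2 ∧ Even n ∧ Fintype.card F % 4 ≠ 1) := by
        by_cases h : padicValNat r n ≤ padicValNat r (Fintype.card F - 1)
        · right
          obtain ⟨h2, h3, h4⟩ := hcon2 h
          exact ⟨h2, h3, h4⟩
        · left; omega
      obtain ⟨c, hc, hrn, hdet⟩ := arith_B (F := F) r hr hrq n (by omega) hB
      exact not_elusive_of_irr n m r hr H.toElusiveProp (by omega) hrm c hc hrn hdet
    · right
      have hi2 : 2 ≤ orderOf ((Fintype.card F : ℕ) : ZMod r) := by omega
      refine E1_construct n r hrp hi2 hile (fun V _ _ _ f hfin hdet hf hns hfix => ?_)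
      obtain ⟨U, W, hUW, hUm, hWm, hUinv, hWinv⟩ :=
        transport_flag n m r hfin H f hdet 1 (by rw [hf, one_smul]) hns
      obtain ⟨ha1, ha2⟩ := cond_of_inv_inf r hrp f hf U hUinv hipos
      obtain ⟨hb1, hb2⟩ := cond_of_inv_inf r hrp f hf W hWinv hipos
      have hab : finrank F ↥(U ⊓ fixSp f) ≤ finrank F ↥(W ⊓ fixSp f) :=
        Submodule.finrank_mono (inf_le_inf_right _ hUW)
      have hbfix : finrank F ↥(W ⊓ fixSp f) ≤ finrank F ↥(fixSp f) :=
        Submodule.finrank_mono inf_le_right
      rw [hUm] at ha1 ha2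
      rw [hWm] at hb1 hb2
      generalize finrank F ↥(U ⊓ fixSp f) = a at *
      generalize finrank F ↥(W ⊓ fixSp f) = a' at *
      generalize orderOf ((Fintype.card F : ℕ) : ZMod r) = i at *
      have hlt : n % i < i := Nat.mod_lt _ hipos
      have hma : m % i = a := by
        obtain ⟨j', hj'⟩ := ha2
        have h1 : m = a + i * j' := by omega
        rw [h1, Nat.add_mul_mod_self_left, Nat.mod_eq_of_lt (by omega)]
      have hma' : (n - m) % i = a' := by
        obtain ⟨j', hj'⟩ := hb2
        have h1 : n - m = a' + i * j' := by omega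
        rw [h1, Nat.add_mul_mod_self_left, Nat.mod_eq_of_lt (by omega)]
      have hsub : (n - m) % i = n % i - m % i := sub_mod_of_le n m i (by omega) (by omega)
      have hcond : 2 * (m % i) ≤ n % i := by omega
      refine ⟨hi2, ?_, hcond⟩
      by_contra hlt2
      push Not at hlt2
      have h3 : m % i = m := Nat.mod_eq_of_lt hlt2
      obtain ⟨j', hj'⟩ := hidvd
      rcases hjcase with hjc | hjc
      · have hnk : n = k + i * j' := by omega
        have h2 : n % i = k := by
          rw [hnk, Nat.add_mul_mod_self_left, Nat.mod_eq_of_lt (by omega)]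
        omega
      · have hnk : n = (m + k) + i * j' := by omega
        have h2 : n % i = m + k := by
          rw [hnk, Nat.add_mul_mod_self_left, Nat.mod_eq_of_lt (by omega)]
        omega
  · rintro ⟨-, hR⟩ x ⟨c, hxc⟩ hns
    have hf : (Matrix.toLin' (x : Matrix (Fin n) (Fin n) F)) ^ r =
        c • (1 : (Fin n → F) →ₗ[F] (Fin n → F)) := by
      rw [← Matrix.toLin'_pow, ← Matrix.SpecialLinearGroup.coe_pow, hxc, map_smul,
        Matrix.toLin'_one]
      rfl
    have hdetf : LinearMap.det (Matrix.toLin' (x : Matrix (Fin n) (Fin n) F)) = 1 := by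
      rw [LinearMap.det_toLin']; exact x.2
    have hc0 : c ≠ 0 := by
      rintro rfl
      have h1 := (x ^ r).2
      haveI : Nonempty (Fin n) := ⟨⟨0, by omega⟩⟩
      rw [hxc, zero_smul, Matrix.det_zero] at h1
      exact zero_ne_one h1
    rcases hR with ⟨hi1, hA⟩ | ⟨hi2, him, hcond⟩
    · have hrq : r ∣ Fintype.card F - 1 :=
        (orderOf_eq_one_iff_dvd r (Fintype.card F) Fintype.card_pos).mp hi1
      by_cases hcr : ∃ l : F, l ^ r = c
      · obtain ⟨l, rfl⟩ := hcr
        have hl : l ≠ 0 := by
          rintro rfl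
          exact hc0 (zero_pow hr.ne_zero)
        have hcond1 : 2 * (m % orderOf ((Fintype.card F : ℕ) : ZMod r)) ≤
            finrank F (Fin n → F) % orderOf ((Fintype.card F : ℕ) : ZMod r) := by
          rw [hi1, Nat.mod_one]; omega
        have := flag_of_pow_scalar r hrp _ l hl hf m hmle hipos hcond1
        rwa [hfinV] at this
      · push Not at hcr
        have hirr : Irreducible (X ^ r - C c : F[X]) :=
          (X_pow_sub_C_irreducible_iff_of_prime hr).mpr hcr
        obtain ⟨d, hd, hdf⟩ := det_of_pow_eq r hr.pos c hirr _ hf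
        rw [hfinV] at hd
        by_cases hrm : r ∣ m
        · have hkill : ∀ (W : Submodule F (Fin n → F)), ∀ u ∈ W,
              (aeval (Matrix.toLin' (x : Matrix (Fin n) (Fin n) F)) (X ^ r - C c : F[X])) u = 0 :=
            fun W u _ => by rw [aeval_X_pow_sub_C r c _ hf]; rfl
          obtain ⟨s, hs, hall⟩ := chain (Matrix.toLin' (x : Matrix (Fin n) (Fin n) F))
            (X ^ r - C c : F[X]) r hr.pos (HP_X_pow_sub_C r hr.pos c hirr) ⊤ (inv_top _)
            (hkill ⊤)
          rw [finrank_top, hfinV] at hs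
          obtain ⟨j', rfl⟩ := hrm
          have hjs : d - j' ≤ s := by
            have h1 : s * r = d * r := by omega
            have h2 : s = d := Nat.eq_of_mul_eq_mul_right hr.pos h1
            omega
          obtain ⟨W, -, hWinv, hWdim⟩ := hall (d - j') hjs
          have hWdim' : finrank F ↥W = n - r * j' := by
            rw [hWdim, hd, Nat.sub_mul, mul_comm j' r]
          obtain ⟨s', hs', hall'⟩ := chain (Matrix.toLin' (x : Matrix (Fin n) (Fin n) F))
            (X ^ r - C c : F[X]) r hr.pos (HP_X_pow_sub_C r hr.pos c hirr) W hWinv (hkill W)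
          have hjs' : j' ≤ s' := by
            have h1 : r * j' ≤ s' * r := by omega
            rw [mul_comm s' r] at h1
            exact Nat.le_of_mul_le_mul_left h1 hr.pos
          obtain ⟨U, hUW, hUinv, hUdim⟩ := hall' j' hjs'
          exact ⟨U, W, hUW, by rw [hUdim, mul_comm], hWdim', hUinv, hWinv⟩
        · exfalso
          rcases hA with hrm' | ⟨hv, h2⟩
          · exact hrm hrm'
          · have hd0 : d ≠ 0 := by
              rintro rfl
              omega
            have hdet : ((-1) ^ (r + 1) * c) ^ d = 1 := by rw [← hdf, hdetf]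
            rcases arith_A (F := F) r hr hrq c hcr d hd0 hdet with h3 | ⟨h3, h4⟩
            · rw [← hd] at h3
              omega
            · have hev : Even n := ⟨d, by rw [hd, h3]; ring⟩
              have := h2 h3 hev
              omega
    · have hnd : ¬ r ∣ Fintype.card F - 1 := by
        intro h
        have := (orderOf_eq_one_iff_dvd r (Fintype.card F) Fintype.card_pos).mpr h
        omega
      have hcop : Nat.Coprime r (Fintype.card F - 1) :=
        (Nat.Prime.coprime_iff_not_dvd hr).mpr hnd
      obtain ⟨l, rfl⟩ := exists_pow_eq_of_coprime r hr.ne_zero hcop c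
      have hl : l ≠ 0 := by
        rintro rfl
        exact hc0 (zero_pow hr.ne_zero)
      have hcond1 : 2 * (m % orderOf ((Fintype.card F : ℕ) : ZMod r)) ≤
          finrank F (Fin n → F) % orderOf ((Fintype.card F : ℕ) : ZMod r) := by
        rw [hfinV]; exact hcond
      have := flag_of_pow_scalar r hrp _ l hl hf m hmle hipos hcond1
      rwa [hfinV] at this

end Cfsg.Agent.Helper59.Elusive
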