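import Mathlib
import Cfsg.Agent.Helper59.InvChain
import Cfsg.Agent.Helper59.ElusiveCyc
import Cfsg.Agent.Helper59.ElusiveDet
import Cfsg.Agent.Helper59.ElusiveTransport
import Cfsg.Agent.Helper59.ElusiveArith
import Cfsg.Agent.Helper59.ElusiveConstr
import Cfsg.Agent.Helper59.SubspaceCount

set_option autoImplicit false

/-!
# `r`-elusivity of `PSL_n(q)` on `m`-spaces: the main equivalence
-/

namespace Cfsg.Agent.Helper59.Elusive

open Polynomial Module
open Cfsg.Agent.Helper59.InvChain

variable {F : Type*} [Field F] [Fintype F]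

/-- if `f^r = l^r`, reduce to `(l⁻¹ f)^r = 1`. -/
theorem inv_of_pow_scalar {p : ℕ} [Fact p.Prime] [CharP F p] (r : ℕ) [Fact r.Prime] (hrp : r ≠ p)
    {V : Type*} [AddCommGroup V] [Module F V] [FiniteDimensional F V]
    (f : V →ₗ[F] V) (l : F) (hl : l ≠ 0) (hf : f ^ r = l ^ r • (1 : V →ₗ[F] V)) (m : ℕ)
    (hmn : m ≤ finrank F V)
    (hi : 0 < orderOf ((Fintype.card F : ℕ) : ZMod r))
    (hcond : m % orderOf ((Fintype.card F : ℕ) : ZMod r) ≤
      finrank F V % orderOf ((Fintype.card F : ℕ) : ZMod r)) :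
    ∃ U : Submodule F V, finrank F ↥U = m ∧ U.map f ≤ U := by
  have hy : (l⁻¹ • f) ^ r = 1 := by
    rw [_root_.smul_pow, hf, smul_smul, ← mul_pow, inv_mul_cancel₀ hl, one_pow, one_smul]
  obtain ⟨U, hUm, hU⟩ := exists_inv_of_cond r hrp (l⁻¹ • f) hy m hmn hi hcond
  refine ⟨U, hUm, ?_⟩
  rintro _ ⟨u, hu, rfl⟩
  have h1 : (l⁻¹ • f) u ∈ U := hU ⟨u, hu, rfl⟩
  have h2 : f u = l • ((l⁻¹ • f) u) := by
    rw [LinearMap.smul_apply, smul_smul, mul_inv_cancel₀ hl, one_smul]
  rw [h2]
  exact U.smul_mem l h1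

theorem elusive_iff {p : ℕ} [Fact p.Prime] [CharP F p]
    (n m : ℕ) (hn : 2 ≤ n) (hm : 1 ≤ m) (hmn : 2 * m ≤ n)
    (r : ℕ) [Fact r.Prime]
    (hrΩ : r ∣ Nat.card {W : Submodule F (Fin n → F) // Module.finrank F ↥W = m}) :
    ElusiveProp F n m r ↔
    (r ≠ p ∧
      ((orderOf ((Fintype.card F : ℕ) : ZMod r) = 1 ∧ (r ∣ m ∨
          (padicValNat r n ≤ padicValNat r (Fintype.card F - 1) ∧
            (r = 2 → Even n → Fintype.card F % 4 = 1)))) ∨
       (2 ≤ orderOf ((Fintype.card F : ℕ) : ZMod r) ∧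
        orderOf ((Fintype.card F : ℕ) : ZMod r) ≤ m ∧
        m % orderOf ((Fintype.card F : ℕ) : ZMod r) ≤
          n % orderOf ((Fintype.card F : ℕ) : ZMod r)))) := by
  classical
  have hr : r.Prime := Fact.out
  have hfinV : finrank F (Fin n → F) = n := Module.finrank_fin_fun F
  have hmle : m ≤ finrank F (Fin n → F) := by rw [hfinV]; omega
  have hrp : r ≠ p := by
    rintro rfl
    exact SubCount.char_not_dvd_card (F := F) (V := Fin n → F) m hmle r hrΩ
  obtain ⟨k, hkm, hk⟩ := SubCount.exists_dvd_of_dvd_card (F := F) (V := Fin n → F) m hmle r hr hrΩ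
  rw [hfinV] at hk
  have hpow : ((Fintype.card F : ℕ) : ZMod r) ^ (n - k) = 1 := by
    have h1 := (ZMod.natCast_eq_zero_iff _ r).mpr hk
    rw [Nat.cast_sub (Nat.one_le_pow _ _ Fintype.card_pos), Nat.cast_pow, Nat.cast_one,
      sub_eq_zero] at h1
    exact h1
  set i := orderOf ((Fintype.card F : ℕ) : ZMod r) with hidef
  have hidvd : i ∣ n - k := orderOf_dvd_of_pow_eq_one hpow
  have hipos : 0 < i := Nat.pos_of_dvd_of_pos hidvd (by omega)
  have hile : i ≤ n := (Nat.le_of_dvd (by omega) hidvd).trans (Nat.sub_le _ _)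
  constructor
  · intro H
    refine ⟨hrp, ?_⟩
    by_cases hi1 : i = 1
    · left
      refine ⟨hi1, ?_⟩
      by_contra hcon
      push Not at hcon
      obtain ⟨hrm, hcon2⟩ := hcon
      have hrq : r ∣ Fintype.card F - 1 :=
        (orderOf_eq_one_iff_dvd r (Fintype.card F) Fintype.card_pos).mp hi1
      have hB : padicValNat r (Fintype.card F - 1) < padicValNat r n ∨
          (r = 2 ∧ Even n ∧ Fintype.card F % 4 ≠ 1) := by
        by_cases h : padicValNat r n ≤ padicValNat r (Fintype.card F - 1)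
        · right
          obtain ⟨h2, h3, h4⟩ := hcon2 h
          exact ⟨h2, h3, h4⟩
        · left; omega
      obtain ⟨c, hc, hrn, hdet⟩ := arith_B (F := F) r hr hrq n (by omega) hB
      exact not_elusive_of_irr n m r hr H (by omega) hrm c hc hrn hdet
    · right
      have hi2 : 2 ≤ i := by omega
      obtain ⟨a, ha1, ha2, ha3⟩ : ∃ a : ℕ, a ≤ n % i ∧ a ≤ m ∧ i ∣ m - a :=
        cond_of_elusive n m r hrp H hi2 hile
      have hlt : n % i < i := Nat.mod_lt _ hipos
      have hma : m % i = a := by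
        obtain ⟨j, hj⟩ := ha3
        have h1 : m = a + i * j := by omega
        rw [h1, Nat.add_mul_mod_self_left, Nat.mod_eq_of_lt (by omega)]
      refine ⟨hi2, ?_, by rw [hma]; exact ha1⟩
      by_contra hlt2
      push Not at hlt2
      obtain ⟨j, hj⟩ := hidvd
      have hnk : n = k + i * j := by omega
      have h2 : n % i = k := by
        rw [hnk, Nat.add_mul_mod_self_left, Nat.mod_eq_of_lt (by omega)]
      have h3 : m % i = m := Nat.mod_eq_of_lt hlt2
      omega
  · rintro ⟨-, hR⟩ x ⟨c, hxc⟩ hns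
    have hf : (Matrix.toLin' (x : Matrix (Fin n) (Fin n) F)) ^ r =
        c • (1 : (Fin n → F) →ₗ[F] (Fin n → F)) := by
      rw [← Matrix.toLin'_pow, ← Matrix.SpecialLinearGroup.coe_pow, hxc, map_smul,
        Matrix.toLin'_one]
      rfl
    have hdetf : LinearMap.det (Matrix.toLin' (x : Matrix (Fin n) (Fin n) F)) = 1 := by
      rw [LinearMap.det_toLin']; exact x.2
    have hc0 : c ≠ 0 := by
      rintro rfl
      have h1 := (x ^ r).2
      haveI : Nonempty (Fin n) := ⟨⟨0, by omega⟩⟩
      rw [hxc, zero_smul, Matrix.det_zero] at h1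
      exact zero_ne_one h1
    rcases hR with ⟨hi1, hA⟩ | ⟨hi2, him, hcond⟩
    · have hrq : r ∣ Fintype.card F - 1 :=
        (orderOf_eq_one_iff_dvd r (Fintype.card F) Fintype.card_pos).mp hi1
      by_cases hcr : ∃ l : F, l ^ r = c
      · obtain ⟨l, rfl⟩ := hcr
        have hl : l ≠ 0 := by
          rintro rfl
          exact hc0 (zero_pow hr.ne_zero)
        have hcond1 : m % i ≤ finrank F (Fin n → F) % i := by
          rw [hi1, Nat.mod_one]; omega
        exact inv_of_pow_scalar r hrp _ l hl hf m hmle hipos hcond1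
      · push Not at hcr
        have hirr : Irreducible (X ^ r - C c : F[X]) :=
          (X_pow_sub_C_irreducible_iff_of_prime hr).mpr hcr
        obtain ⟨d, hd, hdf⟩ := det_of_pow_eq r hr.pos c hirr _ hf
        rw [hfinV] at hd
        by_cases hrm : r ∣ m
        · obtain ⟨s, hs, hall⟩ := chain (Matrix.toLin' (x : Matrix (Fin n) (Fin n) F))
            (X ^ r - C c : F[X]) r hr.pos (HP_X_pow_sub_C r hr.pos c hirr) ⊤ (inv_top _)
            (fun u _ => by rw [aeval_X_pow_sub_C r c _ hf]; rfl)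
          rw [finrank_top, hfinV] at hs
          obtain ⟨j, rfl⟩ := hrm
          have hjs : j ≤ s := by
            have h1 : r * j ≤ s * r := by omega
            rw [mul_comm s r] at h1
            exact Nat.le_of_mul_le_mul_left h1 hr.pos
          obtain ⟨U', -, hU'inv, hU'dim⟩ := hall j hjs
          exact ⟨U', by rw [hU'dim, mul_comm], hU'inv⟩
        · exfalso
          rcases hA with hrm' | ⟨hv, h2⟩
          · exact hrm hrm'
          · have hd0 : d ≠ 0 := by
              rintro rfl
              omega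
            have hdet : ((-1) ^ (r + 1) * c) ^ d = 1 := by rw [← hdf, hdetf]
            rcases arith_A (F := F) r hr hrq c hcr d hd0 hdet with h3 | ⟨h3, h4⟩
            · rw [← hd] at h3
              omega
            · have hev : Even n := ⟨d, by rw [hd, h3]; ring⟩
              have := h2 h3 hev
              omega
    · have hnd : ¬ r ∣ Fintype.card F - 1 := by
        intro h
        have := (orderOf_eq_one_iff_dvd r (Fintype.card F) Fintype.card_pos).mpr h
        omega
      have hcop : Nat.Coprime r (Fintype.card F - 1) :=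
        (Nat.Prime.coprime_iff_not_dvd hr).mpr hnd
      obtain ⟨l, rfl⟩ := exists_pow_eq_of_coprime r hr.ne_zero hcop c
      have hl : l ≠ 0 := by
        rintro rfl
        exact hc0 (zero_pow hr.ne_zero)
      have hcond1 : m % i ≤ finrank F (Fin n → F) % i := by
        rw [hfinV]; exact hcond
      exact inv_of_pow_scalar r hrp _ l hl hf m hmle hipos hcond1

end Cfsg.Agent.Helper59.Elusive
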