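import Mathlib

set_option autoImplicit false

/-! Two matrices with eigenvectors for the same family of `n` distinct eigenvalues are conjugate
by a matrix of determinant one. -/

namespace Cfsg.Agent.Helper59.FieldSub

open Module Matrix

variable {F : Type*} [Field F] {ι : Type*} [Fintype ι] [DecidableEq ι]

theorem isUnit_det_of_eigen (x : Matrix ι ι F) (ev : ι → F) (hev : Function.Injective ev)
    (u : ι → (ι → F)) (hu : ∀ j, x *ᵥ u j = ev j • u j) (hu0 : ∀ j, u j ≠ 0) :
    IsUnit (Matrix.of (fun i j => u j i) : Matrix ι ι F).det := by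
  rw [← Matrix.isUnit_iff_isUnit_det, ← Matrix.linearIndependent_cols_iff_isUnit]
  have hcol : (Matrix.of (fun i j => u j i) : Matrix ι ι F).col = u := rfl
  rw [hcol]
  apply Module.End.eigenvectors_linearIndependent' (Matrix.toLin' x) ev hev u
  intro j
  rw [Module.End.hasEigenvector_iff]
  refine ⟨?_, hu0 j⟩
  rw [Module.End.mem_eigenspace_iff, Matrix.toLin'_apply]
  exact hu j

theorem mul_of_eigen (x : Matrix ι ι F) (ev : ι → F)
    (u : ι → (ι → F)) (hu : ∀ j, x *ᵥ u j = ev j • u j) :
    x * (Matrix.of (fun i j => u j i) : Matrix ι ι F)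
      = (Matrix.of (fun i j => u j i) : Matrix ι ι F) * Matrix.diagonal ev := by
  ext i j
  rw [Matrix.mul_diagonal, Matrix.of_apply]
  have h1 : (x * (Matrix.of (fun i j => u j i) : Matrix ι ι F)) i j = (x *ᵥ u j) i := by
    rw [Matrix.mul_apply]
    rfl
  rw [h1, hu j, Pi.smul_apply, smul_eq_mul, mul_comm]

theorem exists_conj_of_eigen (j0 : ι) (x s : Matrix ι ι F) (ev : ι → F)
    (hev : Function.Injective ev)
    (u w : ι → (ι → F)) (hu : ∀ j, x *ᵥ u j = ev j • u j) (hu0 : ∀ j, u j ≠ 0)
    (hw : ∀ j, s *ᵥ w j = ev j • w j) (hw0 : ∀ j, w j ≠ 0) :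
    ∃ Q Q' : Matrix ι ι F, Q.det = 1 ∧ Q * Q' = 1 ∧ Q * x = s * Q := by
  set U : Matrix ι ι F := Matrix.of (fun i j => u j i) with hU
  set W : Matrix ι ι F := Matrix.of (fun i j => w j i) with hW
  have hUdet : IsUnit U.det := isUnit_det_of_eigen x ev hev u hu hu0
  have hWdet : IsUnit W.det := isUnit_det_of_eigen s ev hev w hw hw0
  have hxU : x * U = U * Matrix.diagonal ev := mul_of_eigen x ev u hu
  have hsW : s * W = W * Matrix.diagonal ev := mul_of_eigen s ev w hw
  have hU0 : U.det ≠ 0 := hUdet.ne_zero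
  have hW0 : W.det ≠ 0 := hWdet.ne_zero
  set a : F := U.det / W.det with ha
  have ha0 : a ≠ 0 := div_ne_zero hU0 hW0
  set d : ι → F := Function.update (fun _ => (1 : F)) j0 a with hd
  set d' : ι → F := Function.update (fun _ => (1 : F)) j0 a⁻¹ with hd'
  have hdd' : Matrix.diagonal d * Matrix.diagonal d' = (1 : Matrix ι ι F) := by
    rw [Matrix.diagonal_mul_diagonal, ← Matrix.diagonal_one]
    congr 1
    funext j
    by_cases hj : j = j0
    · subst hj
      simp [hd, hd', mul_inv_cancel₀ ha0]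
    · simp [hd, hd', Function.update_of_ne hj]
  have hdetD : (Matrix.diagonal d).det = a := by
    rw [Matrix.det_diagonal, hd, Finset.prod_update_of_mem (Finset.mem_univ j0)]
    simp
  have hUU : U⁻¹ * U = 1 := Matrix.nonsing_inv_mul U hUdet
  have hUU' : U * U⁻¹ = 1 := Matrix.mul_nonsing_inv U hUdet
  have hWW : W⁻¹ * W = 1 := Matrix.nonsing_inv_mul W hWdet
  have hWW' : W * W⁻¹ = 1 := Matrix.mul_nonsing_inv W hWdet
  have hx : x = U * Matrix.diagonal ev * U⁻¹ := by
    rw [← hxU, Matrix.mul_assoc, hUU', mul_one]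
  refine ⟨W * Matrix.diagonal d * U⁻¹, U * Matrix.diagonal d' * W⁻¹, ?_, ?_, ?_⟩
  · rw [Matrix.det_mul, Matrix.det_mul, hdetD, Matrix.det_nonsing_inv, Ring.inverse_eq_inv', ha]
    field_simp
  · calc W * Matrix.diagonal d * U⁻¹ * (U * Matrix.diagonal d' * W⁻¹)
        = W * (Matrix.diagonal d * ((U⁻¹ * U) * Matrix.diagonal d')) * W⁻¹ := by
          simp only [Matrix.mul_assoc]
      _ = 1 := by rw [hUU, one_mul, hdd', mul_one, hWW']
  · calc W * Matrix.diagonal d * U⁻¹ * x
        = W * Matrix.diagonal d * ((U⁻¹ * U) * Matrix.diagonal ev * U⁻¹) := by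
          rw [hx]
          simp only [Matrix.mul_assoc]
      _ = W * (Matrix.diagonal d * Matrix.diagonal ev) * U⁻¹ := by
          rw [hUU, one_mul]
          simp only [Matrix.mul_assoc]
      _ = W * (Matrix.diagonal ev * Matrix.diagonal d) * U⁻¹ := by
          rw [Matrix.diagonal_mul_diagonal, Matrix.diagonal_mul_diagonal]
          congr 3
          funext j
          exact mul_comm _ _
      _ = (W * Matrix.diagonal ev) * Matrix.diagonal d * U⁻¹ := by
          simp only [Matrix.mul_assoc]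
      _ = s * (W * Matrix.diagonal d * U⁻¹) := by
          rw [← hsW]
          simp only [Matrix.mul_assoc]

end Cfsg.Agent.Helper59.FieldSub
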