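import Mathlib
import Cfsg.Agent.Helper59.FieldSubK

set_option autoImplicit false

/-! Diagonalisation of a matrix killed by a product of distinct linear factors. -/

namespace Cfsg.Agent.Helper59.Extra

open Module Matrix Polynomial

variable {F : Type*} [Field F]

theorem ker_aeval_prod {V : Type*} [AddCommGroup V] [Module F V] (f : End F V) (S : Finset F) :
    LinearMap.ker (aeval f (∏ μ ∈ S, (X - C μ))) = ⨆ μ ∈ S, f.eigenspace μ := by
  classical
  induction S using Finset.induction_on with
  | empty =>
    simp only [Finset.prod_empty, map_one, Finset.notMem_empty, iSup_false, iSup_bot]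
    exact LinearMap.ker_id
  | insert a S ha ih =>
    rw [Finset.prod_insert ha, Finset.iSup_insert]
    have hcop : IsCoprime (X - C a) (∏ μ ∈ S, (X - C μ)) := by
      apply IsCoprime.prod_right
      intro μ hμ
      apply Polynomial.isCoprime_X_sub_C_of_isUnit_sub
      rw [isUnit_iff_ne_zero, sub_ne_zero]
      rintro rfl
      exact ha hμ
    rw [← sup_ker_aeval_eq_ker_aeval_mul_of_coprime f hcop, ih]
    congr 1
    rw [Module.End.eigenspace_def]
    congr 1
    rw [map_sub, aeval_X, aeval_C]
    rfl

/-- **Diagonalisation.** -/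
theorem exists_diag {n : ℕ} (y : Matrix (Fin n) (Fin n) F) (S : Finset F)
    (h : aeval y (∏ μ ∈ S, (X - C μ)) = 0) :
    ∃ U : Matrix (Fin n) (Fin n) F, U.det ≠ 0 ∧ ∃ ev : Fin n → F, (∀ i, ev i ∈ S) ∧
      y * U = U * Matrix.diagonal ev := by
  classical
  set f : End F (Fin n → F) := Matrix.toLin' y with hf
  have haev : aeval f (∏ μ ∈ S, (X - C μ)) = 0 := by
    have h1 : f = Matrix.toLinAlgEquiv' y := rfl
    rw [h1, Polynomial.aeval_algHom_apply, h, map_zero]
  have htop : ⨆ μ ∈ S, f.eigenspace μ = ⊤ := by
    rw [← ker_aeval_prod, haev]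
    exact LinearMap.ker_zero
  let A : S → Submodule F (Fin n → F) := fun μ => f.eigenspace μ.1
  have hind : iSupIndep A := (Module.End.eigenspaces_iSupIndep f).comp Subtype.val_injective
  have hsup : iSup A = ⊤ := by
    rw [← htop, iSup_subtype']
  have hint : DirectSum.IsInternal A :=
    DirectSum.isInternal_submodule_of_iSupIndep_of_iSup_eq_top hind hsup
  let v : ∀ μ : S, Basis (Fin (finrank F (A μ))) F (A μ) := fun μ => Module.finBasis F (A μ)
  let b := hint.collectedBasis v
  have hcard : Fintype.card (Σ μ : S, Fin (finrank F (A μ))) = Fintype.card (Fin n) := by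
    rw [← Module.finrank_eq_card_basis b, Module.finrank_fin_fun, Fintype.card_fin]
  let e : Fin n ≃ (Σ μ : S, Fin (finrank F (A μ))) := (Fintype.equivOfCardEq hcard).symm
  let u : Fin n → (Fin n → F) := fun j => b (e j)
  let ev : Fin n → F := fun j => ((e j).1 : F)
  have hu : ∀ j, y *ᵥ u j = ev j • u j := by
    intro j
    have hmem : b (e j) ∈ A (e j).1 := hint.collectedBasis_mem v (e j)
    have := Module.End.mem_eigenspace_iff.mp hmem
    rw [hf, Matrix.toLin'_apply] at this
    exact this
  have hli : LinearIndependent F u := by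
    have h1 := (b.reindex e.symm).linearIndependent
    have h2 : (⇑(b.reindex e.symm) : Fin n → (Fin n → F)) = u := by
      funext j
      simp [u]
    rw [h2] at h1
    exact h1
  refine ⟨Matrix.of (fun i j => u j i), ?_, ev, fun i => (e i).1.2, ?_⟩
  · have hunit : IsUnit (Matrix.of (fun i j => u j i) : Matrix (Fin n) (Fin n) F) := by
      rw [← Matrix.linearIndependent_cols_iff_isUnit]
      exact hli
    rw [Matrix.isUnit_iff_isUnit_det] at hunit
    exact hunit.ne_zero
  · exact Cfsg.Agent.Helper59.FieldSub.mul_of_eigen y ev u hu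

end Cfsg.Agent.Helper59.Extra
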