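import Mathlib

set_option autoImplicit false

/-! Non-abelian groups of order 27: commutators are central. -/

namespace Cfsg.Agent.Helper59.Extra

theorem card_center_of_card_27 {G : Type*} [Group G] [Finite G] (hcard : Nat.card G = 27)
    (hna : ∃ a b : G, a * b ≠ b * a) : Nat.card (Subgroup.center G) = 3 := by
  haveI : Fact (Nat.Prime 3) := ⟨Nat.prime_three⟩
  have hP : IsPGroup 3 G := IsPGroup.of_card (n := 3) (by rw [hcard]; norm_num)
  haveI : Nontrivial G := by
    obtain ⟨a, b, hab⟩ := hna
    exact ⟨⟨a * b, b * a, hab⟩⟩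
  have hnt : Nontrivial (Subgroup.center G) := hP.center_nontrivial
  have hdvd : Nat.card (Subgroup.center G) ∣ 27 := by
    rw [← hcard]
    exact Subgroup.card_subgroup_dvd_card _
  have h1 : 1 < Nat.card (Subgroup.center G) := Finite.one_lt_card
  have hidx : Nat.card (G ⧸ Subgroup.center G) * Nat.card (Subgroup.center G) = 27 := by
    rw [← hcard]
    exact (Subgroup.card_eq_card_quotient_mul_card_subgroup _).symm
  have hcases : Nat.card (Subgroup.center G) = 3 ∨ Nat.card (Subgroup.center G) = 9 ∨
      Nat.card (Subgroup.center G) = 27 := by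
    have hle : Nat.card (Subgroup.center G) ≤ 27 := Nat.le_of_dvd (by norm_num) hdvd
    interval_cases h : Nat.card (Subgroup.center G) <;> simp_all
  obtain ⟨a, b, hab⟩ := hna
  rcases hcases with h | h | h
  · exact h
  · exfalso
    rw [h] at hidx
    have h3 : Nat.card (G ⧸ Subgroup.center G) = 3 := by omega
    haveI : IsCyclic (G ⧸ Subgroup.center G) := isCyclic_of_prime_card h3
    apply hab
    refine (MonoidHom.isMulCommutative_of_isCyclic_of_ker_le_center
      (QuotientGroup.mk' (Subgroup.center G)) ?_).is_comm.comm a b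
    rw [QuotientGroup.ker_mk']
  · exfalso
    have htop : Subgroup.center G = ⊤ := by
      apply Subgroup.eq_top_of_card_eq
      rw [h, hcard]
    apply hab
    have : b ∈ Subgroup.center G := by rw [htop]; trivial
    exact (Subgroup.mem_center_iff.mp this) a

theorem commutator_mem_center_of_card_27 {G : Type*} [Group G] [Finite G]
    (hcard : Nat.card G = 27) (hna : ∃ a b : G, a * b ≠ b * a) (a b : G) :
    a * b * a⁻¹ * b⁻¹ ∈ Subgroup.center G := by
  haveI : Fact (Nat.Prime 3) := ⟨Nat.prime_three⟩
  have hc := card_center_of_card_27 hcard hna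
  have hidx : Nat.card (G ⧸ Subgroup.center G) * Nat.card (Subgroup.center G) = 27 := by
    rw [← hcard]
    exact (Subgroup.card_eq_card_quotient_mul_card_subgroup _).symm
  rw [hc] at hidx
  have h9 : Nat.card (G ⧸ Subgroup.center G) = 3 ^ 2 := by omega
  have hcomm := (IsPGroup.isMulCommutative_of_card_eq_prime_sq h9).is_comm.comm
  rw [← QuotientGroup.eq_one_iff]
  rw [QuotientGroup.mk_mul, QuotientGroup.mk_mul, QuotientGroup.mk_mul, QuotientGroup.mk_inv,
    QuotientGroup.mk_inv, hcomm (↑a) (↑b), mul_assoc (↑b : G ⧸ Subgroup.center G), mul_inv_cancel, mul_one,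
    mul_inv_cancel]

end Cfsg.Agent.Helper59.Extra
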