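import Mathlib
import Cfsg.Agent.Helper59.ExtraA

set_option autoImplicit false

/-! Standard form of a pair of `3 × 3` matrices of order three with scalar-like commutator. -/

namespace Cfsg.Agent.Helper59.Extra

open Module Matrix Polynomial

variable {F : Type*} [Field F]

/-- the cyclic shift `e_j ↦ e_{j+1}`. -/
def Xm (F : Type*) [Field F] : Matrix (Fin 3) (Fin 3) F := !![0, 0, 1; 1, 0, 0; 0, 1, 0]

theorem omega_facts {ω : F} (hω : ω ^ 2 + ω + 1 = 0) (h3 : (3 : F) ≠ 0) :
    ω ^ 3 = 1 ∧ ω ≠ 1 ∧ ω ^ 2 ≠ 1 ∧ ω ^ 2 ≠ ω ∧ ω ≠ 0 := by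
  refine ⟨by linear_combination (ω - 1) * hω, ?_, ?_, ?_, ?_⟩
  · rintro rfl
    apply h3
    linear_combination hω
  · intro h
    apply h3
    have h1 : ω = -2 := by linear_combination hω - h
    rw [h1] at hω
    linear_combination hω
  · intro h
    apply h3
    have h1 : ω * (ω - 1) = 0 := by linear_combination h
    rcases mul_eq_zero.mp h1 with h2 | h2
    · rw [h2] at hω
      exfalso
      have : (1 : F) = 0 := by linear_combination hω
      exact one_ne_zero this
    · have : ω = 1 := by linear_combination h2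
      rw [this] at hω
      linear_combination hω
  · rintro rfl
    have : (1 : F) = 0 := by linear_combination hω
    exact one_ne_zero this

/-- the cube roots of unity as a finset of roots. -/
theorem exists_roots {ω : F} (hω : ω ^ 2 + ω + 1 = 0) (h3 : (3 : F) ≠ 0) :
    ∃ S : Finset F, (∀ μ ∈ S, μ = 1 ∨ μ = ω ∨ μ = ω ^ 2) ∧
      ∏ μ ∈ S, (X - C μ) = (X ^ 3 - 1 : F[X]) := by
  classical
  obtain ⟨h1, h2, h3', h4, h5⟩ := omega_facts hω h3
  refine ⟨insert 1 (insert ω {ω ^ 2}), ?_, ?_⟩
  · intro μ hμ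
    simp only [Finset.mem_insert, Finset.mem_singleton] at hμ
    exact hμ
  · rw [Finset.prod_insert, Finset.prod_insert, Finset.prod_singleton]
    · have hW : (C ω : F[X]) ^ 2 + C ω + 1 = 0 := by
        rw [← C_pow, ← C_add, ← C_1, ← C_add, hω, C_0]
      rw [C_pow, C_1]
      linear_combination (-(X : F[X]) ^ 2 + X * C ω - C ω + 1) * hW
    · simp only [Finset.mem_singleton]
      exact fun h => h4 h.symm
    · simp only [Finset.mem_insert, Finset.mem_singleton]
      rintro (h | h)
      · exact h2 h.symm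
      · exact h3' h.symm

/-- diagonalisation of a matrix of order three. -/
theorem exists_diag_cube {n : ℕ} {ω : F} (hω : ω ^ 2 + ω + 1 = 0) (h3 : (3 : F) ≠ 0)
    (y : Matrix (Fin n) (Fin n) F) (hy : y ^ 3 = 1) :
    ∃ U : Matrix (Fin n) (Fin n) F, U.det ≠ 0 ∧ ∃ ev : Fin n → F,
      (∀ i, ev i = 1 ∨ ev i = ω ∨ ev i = ω ^ 2) ∧ y * U = U * Matrix.diagonal ev := by
  obtain ⟨S, hS, hprod⟩ := exists_roots hω h3
  obtain ⟨U, hU, ev, hev, hyU⟩ := exists_diag y S (by
    rw [hprod, map_sub, map_pow, aeval_X, map_one, hy, sub_self])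
  exact ⟨U, hU, ev, fun i => hS _ (hev i), hyU⟩

/-- a matrix commuting with a diagonal matrix with distinct entries is diagonal. -/
theorem diag_of_commute {n : ℕ} (ev : Fin n → F) (hev : Function.Injective ev)
    (M : Matrix (Fin n) (Fin n) F) (h : Matrix.diagonal ev * M = M * Matrix.diagonal ev) :
    M = Matrix.diagonal (fun i => M i i) := by
  ext i j
  by_cases hij : i = j
  · subst hij
    simp
  · rw [Matrix.diagonal_apply_ne _ hij]
    have := congrFun (congrFun h i) j
    rw [Matrix.diagonal_mul, Matrix.mul_diagonal] at this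
    have h2 : (ev i - ev j) * M i j = 0 := by linear_combination this
    rcases mul_eq_zero.mp h2 with h3 | h3
    · exact absurd (hev (sub_eq_zero.mp h3)) hij
    · exact h3

/-- the commutator is a scalar. -/
theorem commutator_scalar {ω : F} (hω : ω ^ 2 + ω + 1 = 0) (h3 : (3 : F) ≠ 0)
    (A B Ai Bi : Matrix (Fin 3) (Fin 3) F) (hAAi : A * Ai = 1) (hBBi : B * Bi = 1)
    (hC3 : (A * B * Ai * Bi) ^ 3 = 1) (hCA : A * B * Ai * Bi * A = A * (A * B * Ai * Bi))
    (hCB : A * B * Ai * Bi * B = B * (A * B * Ai * Bi)) (hC1 : A * B * Ai * Bi ≠ 1) :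
    ∃ l : F, l ^ 2 + l + 1 = 0 ∧ A * B * Ai * Bi = l • (1 : Matrix (Fin 3) (Fin 3) F) := by
  obtain ⟨w3, w1, w2, w4, w0⟩ := omega_facts hω h3
  set Cm := A * B * Ai * Bi with hCm
  obtain ⟨U, hU, ev, hev, hCU⟩ := exists_diag_cube hω h3 Cm hC3
  have hUU : U⁻¹ * U = 1 := Matrix.nonsing_inv_mul U (isUnit_iff_ne_zero.mpr hU)
  have hUU' : U * U⁻¹ = 1 := Matrix.mul_nonsing_inv U (isUnit_iff_ne_zero.mpr hU)
  have hev3 : ∀ i, ev i ^ 3 = 1 := by
    intro i
    rcases hev i with h | h | h <;> rw [h]
    · ring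
    · exact w3
    · rw [← pow_mul, mul_comm, pow_mul, w3, one_pow]
  have hdetC : Cm.det = 1 := by
    have h1 : A.det * Ai.det = 1 := by rw [← Matrix.det_mul, hAAi, Matrix.det_one]
    have h2 : B.det * Bi.det = 1 := by rw [← Matrix.det_mul, hBBi, Matrix.det_one]
    rw [hCm, Matrix.det_mul, Matrix.det_mul, Matrix.det_mul]
    linear_combination Bi.det * B.det * h1 + h2
  have hprod : ev 0 * ev 1 * ev 2 = 1 := by
    have h : Cm.det * U.det = U.det * (Matrix.diagonal ev).det := by
      rw [← Matrix.det_mul, ← Matrix.det_mul, hCU]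
    rw [Matrix.det_diagonal, Fin.prod_univ_three, hdetC] at h
    have h2 : U.det * (ev 0 * ev 1 * ev 2) = U.det * 1 := by linear_combination -h
    exact mul_left_cancel₀ hU h2
  have hCeq : Cm = U * Matrix.diagonal ev * U⁻¹ := by
    rw [← hCU, Matrix.mul_assoc, hUU', mul_one]
  by_cases hconst : ev 0 = ev 1 ∨ ev 0 = ev 2 ∨ ev 1 = ev 2
  · -- constant
    have hall : ev 1 = ev 0 ∧ ev 2 = ev 0 := by
      have e0 := hev3 0
      have e1 := hev3 1
      have e2 := hev3 2
      have n0 : ev 0 ≠ 0 := by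
        intro h; rw [h] at e0; simp at e0
      have n1 : ev 1 ≠ 0 := by
        intro h; rw [h] at e1; simp at e1
      rcases hconst with h | h | h
      · refine ⟨h.symm, ?_⟩
        rw [← h] at hprod
        have : ev 0 ^ 2 * (ev 2 - ev 0) = 0 := by linear_combination hprod - e0
        rcases mul_eq_zero.mp this with h' | h'
        · exact absurd ((pow_eq_zero_iff (two_ne_zero)).mp h') n0
        · exact sub_eq_zero.mp h'
      · refine ⟨?_, h.symm⟩
        rw [← h] at hprod
        have : ev 0 ^ 2 * (ev 1 - ev 0) = 0 := by linear_combination hprod - e0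
        rcases mul_eq_zero.mp this with h' | h'
        · exact absurd ((pow_eq_zero_iff (two_ne_zero)).mp h') n0
        · exact sub_eq_zero.mp h'
      · rw [← h] at hprod
        have : ev 1 ^ 2 * (ev 0 - ev 1) = 0 := by linear_combination hprod - e1
        rcases mul_eq_zero.mp this with h' | h'
        · exact absurd ((pow_eq_zero_iff (two_ne_zero)).mp h') n1
        · have h01 : ev 0 = ev 1 := sub_eq_zero.mp h'
          exact ⟨h01.symm, by rw [← h, h01]⟩
    have hdiag : Matrix.diagonal ev = ev 0 • (1 : Matrix (Fin 3) (Fin 3) F) := by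
      ext i j
      fin_cases i <;> fin_cases j <;> simp [Matrix.diagonal, hall.1, hall.2]
    have hCs : Cm = ev 0 • (1 : Matrix (Fin 3) (Fin 3) F) := by
      rw [hCeq, hdiag, Matrix.mul_smul, Matrix.smul_mul, mul_one, hUU']
    refine ⟨ev 0, ?_, hCs⟩
    rcases hev 0 with h | h | h
    · exfalso
      apply hC1
      rw [hCs, h, one_smul]
    · rw [h]; exact hω
    · rw [h]
      linear_combination (ω ^ 2 - ω + 1) * hω
  · -- injective: contradiction
    exfalso
    push Not at hconst
    obtain ⟨n01, n02, n12⟩ := hconst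
    have hinj : Function.Injective ev := by
      intro i j hij
      fin_cases i <;> fin_cases j <;> first | rfl | (exfalso; simp at hij; first | exact n01 hij | exact n02 hij | exact n12 hij | exact n01 hij.symm | exact n02 hij.symm | exact n12 hij.symm)
    have hcomm : ∀ M : Matrix (Fin 3) (Fin 3) F, Cm * M = M * Cm →
        Matrix.diagonal ev * (U⁻¹ * M * U) = (U⁻¹ * M * U) * Matrix.diagonal ev := by
      intro M hM
      have h1 : Matrix.diagonal ev = U⁻¹ * Cm * U := by
        rw [hCeq]
        simp only [Matrix.mul_assoc]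
        rw [hUU, mul_one, ← Matrix.mul_assoc, hUU, one_mul]
      rw [h1]
      calc U⁻¹ * Cm * U * (U⁻¹ * M * U) = U⁻¹ * Cm * (U * U⁻¹) * M * U := by
            simp only [Matrix.mul_assoc]
        _ = U⁻¹ * (Cm * M) * U := by rw [hUU', mul_one]; simp only [Matrix.mul_assoc]
        _ = U⁻¹ * M * (U * U⁻¹) * Cm * U := by
            rw [hM, hUU', mul_one]; simp only [Matrix.mul_assoc]
        _ = U⁻¹ * M * U * (U⁻¹ * Cm * U) := by simp only [Matrix.mul_assoc]
    have hA' := diag_of_commute ev hinj _ (hcomm A hCA)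
    have hB' := diag_of_commute ev hinj _ (hcomm B hCB)
    have hAB' : (U⁻¹ * A * U) * (U⁻¹ * B * U) = (U⁻¹ * B * U) * (U⁻¹ * A * U) := by
      rw [hA', hB', Matrix.diagonal_mul_diagonal, Matrix.diagonal_mul_diagonal]
      congr 1
      funext i
      exact mul_comm _ _
    have hAB : A * B = B * A := by
      have h1 : U⁻¹ * (A * B) * U = U⁻¹ * (B * A) * U := by
        calc U⁻¹ * (A * B) * U = (U⁻¹ * A * U) * (U⁻¹ * B * U) := by
              simp only [Matrix.mul_assoc]
              rw [← Matrix.mul_assoc U, hUU', one_mul]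
          _ = (U⁻¹ * B * U) * (U⁻¹ * A * U) := hAB'
          _ = U⁻¹ * (B * A) * U := by
              simp only [Matrix.mul_assoc]
              rw [← Matrix.mul_assoc U U⁻¹, hUU', one_mul]
      have h2 := congrArg (fun M => U * M * U⁻¹) h1
      simp only [Matrix.mul_assoc] at h2
      rw [hUU', mul_one, mul_one, ← Matrix.mul_assoc, ← Matrix.mul_assoc, hUU', one_mul,
        ← Matrix.mul_assoc U, hUU', one_mul] at h2
      exact h2
    apply hC1
    rw [hCm, hAB, Matrix.mul_assoc B, hAAi, mul_one, hBBi]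

end Cfsg.Agent.Helper59.Extra
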