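import Mathlib
import Cfsg.Agent.Helper59.ExtraC

set_option autoImplicit false

/-! Standard form, continued: the basis `v, Bv, B²v`. -/

namespace Cfsg.Agent.Helper59.Extra

open Module Matrix Polynomial
open Cfsg.Agent.Helper59.FieldSub

variable {F : Type*} [Field F]

/-- **Standard form.** -/
theorem exists_standard_form {ω : F} (hω : ω ^ 2 + ω + 1 = 0) (h3 : (3 : F) ≠ 0)
    (A B Ai Bi : Matrix (Fin 3) (Fin 3) F) (hAAi : A * Ai = 1) (hBBi : B * Bi = 1)
    (hA3 : A ^ 3 = 1) (hB3 : B ^ 3 = 1)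
    (l : F) (hl : l ^ 2 + l + 1 = 0)
    (hC : A * B * Ai * Bi = l • (1 : Matrix (Fin 3) (Fin 3) F)) :
    ∃ α : F, (α = 1 ∨ α = ω ∨ α = ω ^ 2) ∧ ∃ P : Matrix (Fin 3) (Fin 3) F, P.det ≠ 0 ∧
      A * P = P * Matrix.diagonal ![α, l * α, l ^ 2 * α] ∧ B * P = P * Xm F := by
  obtain ⟨l3, l1, l2, l4, l0⟩ := omega_facts hl h3
  obtain ⟨w3, w1, w2, w4, w0⟩ := omega_facts hω h3
  have hBiB : Bi * B = 1 := by rw [mul_eq_one_comm]; exact hBBi
  have hAiA : Ai * A = 1 := by rw [mul_eq_one_comm]; exact hAAi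
  have hAB : A * B = l • (B * A) := by
    have h1 : A * B * Ai * Bi * (B * A) = A * B := by
      simp only [Matrix.mul_assoc]
      rw [← Matrix.mul_assoc Bi, hBiB, one_mul, hAiA, mul_one]
    rw [← h1, hC, Matrix.smul_mul, one_mul]
  obtain ⟨U, hU, ev, hev, hAU⟩ := exists_diag_cube hω h3 A hA3
  let v0 : Fin 3 → F := fun i => U i 0
  have hv0 : A *ᵥ v0 = ev 0 • v0 := by
    funext i
    have := congrFun (congrFun hAU i) 0
    rw [Matrix.mul_diagonal] at this
    rw [Pi.smul_apply, smul_eq_mul, mul_comm, ← this, Matrix.mul_apply]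
    rfl
  have hv0ne : v0 ≠ 0 := by
    intro h
    apply hU
    apply Matrix.det_eq_zero_of_column_eq_zero 0
    intro i
    exact congrFun h i
  set α := ev 0 with hα
  have hα3 : α ^ 3 = 1 := by
    rcases hev 0 with h | h | h <;> rw [hα, h]
    · ring
    · exact w3
    · rw [← pow_mul, mul_comm, pow_mul, w3, one_pow]
  have hα0 : α ≠ 0 := by
    intro h; rw [h] at hα3; simp at hα3
  let v1 : Fin 3 → F := B *ᵥ v0
  let v2 : Fin 3 → F := B *ᵥ v1
  have hBv2 : B *ᵥ v2 = v0 := by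
    show B *ᵥ (B *ᵥ (B *ᵥ v0)) = v0
    rw [Matrix.mulVec_mulVec, Matrix.mulVec_mulVec, ← pow_two, ← pow_succ, hB3, Matrix.one_mulVec]
  have hshift : ∀ (v : Fin 3 → F) (c : F), A *ᵥ v = c • v → A *ᵥ (B *ᵥ v) = (l * c) • (B *ᵥ v) := by
    intro v c hv
    rw [Matrix.mulVec_mulVec, hAB, Matrix.smul_mulVec, ← Matrix.mulVec_mulVec, hv,
      Matrix.mulVec_smul, smul_smul]
  have hv1 : A *ᵥ v1 = (l * α) • v1 := hshift v0 α hv0
  have hv2 : A *ᵥ v2 = (l ^ 2 * α) • v2 := by
    have := hshift v1 (l * α) hv1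
    rw [← mul_assoc, ← pow_two] at this
    exact this
  have hBne : ∀ v : Fin 3 → F, v ≠ 0 → B *ᵥ v ≠ 0 := by
    intro v hv h
    apply hv
    have : Bi *ᵥ (B *ᵥ v) = v := by rw [Matrix.mulVec_mulVec, hBiB, Matrix.one_mulVec]
    rw [← this, h, Matrix.mulVec_zero]
  have hv1ne : v1 ≠ 0 := hBne v0 hv0ne
  have hv2ne : v2 ≠ 0 := hBne v1 hv1ne
  let u : Fin 3 → (Fin 3 → F) := ![v0, v1, v2]
  let evv : Fin 3 → F := ![α, l * α, l ^ 2 * α]
  have hinj : Function.Injective evv := by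
    have e1 : α ≠ l * α := by
      intro h
      have : (l - 1) * α = 0 := by linear_combination -h
      rcases mul_eq_zero.mp this with h' | h'
      · exact l1 (sub_eq_zero.mp h')
      · exact hα0 h'
    have e2 : α ≠ l ^ 2 * α := by
      intro h
      have : (l ^ 2 - 1) * α = 0 := by linear_combination -h
      rcases mul_eq_zero.mp this with h' | h'
      · exact l2 (sub_eq_zero.mp h')
      · exact hα0 h'
    have e3 : l * α ≠ l ^ 2 * α := by
      intro h
      have : (l ^ 2 - l) * α = 0 := by linear_combination -h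
      rcases mul_eq_zero.mp this with h' | h'
      · exact l4 (sub_eq_zero.mp h')
      · exact hα0 h'
    have h01 : evv 0 ≠ evv 1 := e1
    have h02 : evv 0 ≠ evv 2 := e2
    have h12 : evv 1 ≠ evv 2 := e3
    intro i j hij
    fin_cases i <;> fin_cases j <;> first | rfl | exact absurd hij h01 | exact absurd hij h02 | exact absurd hij h12 | exact absurd hij.symm h01 | exact absurd hij.symm h02 | exact absurd hij.symm h12
  have hu : ∀ j, A *ᵥ u j = evv j • u j := by
    intro j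
    fin_cases j
    · exact hv0
    · exact hv1
    · exact hv2
  have hu0 : ∀ j, u j ≠ 0 := by
    intro j
    fin_cases j
    · exact hv0ne
    · exact hv1ne
    · exact hv2ne
  have hunit := isUnit_det_of_eigen A evv hinj u hu hu0
  have hAP := mul_of_eigen A evv u hu
  refine ⟨α, hev 0, Matrix.of (fun i j => u j i), hunit.ne_zero, hAP, ?_⟩
  ext i j
  have h1 : (B * (Matrix.of (fun i j => u j i) : Matrix (Fin 3) (Fin 3) F)) i j = (B *ᵥ u j) i := by
    rw [Matrix.mul_apply]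
    rfl
  rw [h1]
  fin_cases j
  · show (B *ᵥ v0) i = _
    simp [Matrix.mul_apply, Fin.sum_univ_three, Xm, u, v1]
  · show (B *ᵥ v1) i = _
    simp [Matrix.mul_apply, Fin.sum_univ_three, Xm, u, v2]
  · show (B *ᵥ v2) i = _
    rw [hBv2]
    simp [Matrix.mul_apply, Fin.sum_univ_three, Xm, u]

end Cfsg.Agent.Helper59.Extra
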