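import Mathlib
import Cfsg.Agent.Helper59.ExtraD

set_option autoImplicit false

/-! The standard extraspecial group `⟨X, Z⟩` of order 27 in `GL_3` and elements of its
normaliser. -/

namespace Cfsg.Agent.Helper59.Extra

open Module Matrix

theorem mem_normalizer_of_gens {G : Type*} [Group G] [Finite G] (S : Set G) (t : G)
    (h : ∀ s ∈ S, t * s * t⁻¹ ∈ Subgroup.closure S) :
    t ∈ Subgroup.normalizer (Subgroup.closure S : Set G) := by
  rw [Subgroup.mem_normalizer_iff_map_conj_eq]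
  have hle : (Subgroup.closure S).map (MulAut.conj t).toMonoidHom ≤ Subgroup.closure S := by
    rw [MonoidHom.map_closure, Subgroup.closure_le]
    rintro _ ⟨s, hs, rfl⟩
    exact h s hs
  apply Subgroup.eq_of_le_of_card_ge hle
  rw [Subgroup.card_map_of_injective (MulAut.conj t).injective]

variable {F : Type*} [Field F]

/-- diagonal `3 × 3` matrices. -/
def dg (a b c : F) : Matrix (Fin 3) (Fin 3) F := !![a, 0, 0; 0, b, 0; 0, 0, c]

theorem diagonal_eq_dg (ev : Fin 3 → F) : Matrix.diagonal ev = dg (ev 0) (ev 1) (ev 2) := by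
  ext i j
  fin_cases i <;> fin_cases j <;> simp [dg]

theorem dg_mul (a b c a' b' c' : F) : dg a b c * dg a' b' c' = dg (a * a') (b * b') (c * c') := by
  ext i j
  fin_cases i <;> fin_cases j <;> simp [dg, Matrix.mul_apply, Fin.sum_univ_three]

theorem dg_one : dg (1 : F) 1 1 = 1 := by
  ext i j
  fin_cases i <;> fin_cases j <;> simp [dg]

theorem smul_dg (k a b c : F) : k • dg a b c = dg (k * a) (k * b) (k * c) := by
  ext i j
  fin_cases i <;> fin_cases j <;> simp [dg]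

theorem dg_pow (a b c : F) (m : ℕ) : dg a b c ^ m = dg (a ^ m) (b ^ m) (c ^ m) := by
  induction m with
  | zero => simp [dg_one]
  | succ m ih => rw [pow_succ, ih, dg_mul, ← pow_succ, ← pow_succ, ← pow_succ]

/-- `D X = X D'`. -/
theorem dg_mul_Xm (a b c : F) : dg a b c * Xm F = Xm F * dg b c a := by
  ext i j
  fin_cases i <;> fin_cases j <;> simp [dg, Xm, Matrix.mul_apply, Fin.sum_univ_three]

/-- `diag(1, l, l²)`. -/
def Zm (l : F) : Matrix (Fin 3) (Fin 3) F := dg 1 l (l ^ 2)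

theorem Xm_mul_Xm_mul_Xm : Xm F * (Xm F * Xm F) = 1 := by
  ext i j
  fin_cases i <;> fin_cases j <;> simp [Xm, Matrix.mul_apply, Fin.sum_univ_three]

theorem Zm_mul_Zm_mul_Zm {l : F} (hl3 : l ^ 3 = 1) : Zm l * (Zm l * Zm l) = 1 := by
  unfold Zm
  rw [dg_mul, dg_mul, ← dg_one]
  congr 1
  · ring
  · rw [← hl3]; ring
  · have : l ^ 2 * (l ^ 2 * l ^ 2) = (l ^ 3) ^ 2 := by ring
    rw [this, hl3, one_pow]

/-- a `GL` element from a matrix with a right inverse. -/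
def mkGL {n : ℕ} (A B : Matrix (Fin n) (Fin n) F) (h : A * B = 1) : GL (Fin n) F :=
  ⟨A, B, h, by rw [mul_eq_one_comm]; exact h⟩

@[simp] theorem mkGL_val {n : ℕ} (A B : Matrix (Fin n) (Fin n) F) (h : A * B = 1) :
    (mkGL A B h).1 = A := rfl

/-- conjugation identity from a matrix identity. -/
theorem conj_eq_of_mul_eq {n : ℕ} (t g w : GL (Fin n) F) (h : t.1 * g.1 = w.1 * t.1) :
    t * g * t⁻¹ = w := by
  rw [mul_inv_eq_iff_eq_mul]
  apply Units.ext
  rw [Units.val_mul, Units.val_mul]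
  exact h

/-- the shift as an element of `GL_3`. -/
def Xg (F : Type*) [Field F] : GL (Fin 3) F := mkGL (Xm F) (Xm F * Xm F) Xm_mul_Xm_mul_Xm

/-- `diag(1, l, l²)` as an element of `GL_3`. -/
def Zg {l : F} (hl3 : l ^ 3 = 1) : GL (Fin 3) F :=
  mkGL (Zm l) (Zm l * Zm l) (Zm_mul_Zm_mul_Zm hl3)

/-- the standard group. -/
def R0 {l : F} (hl3 : l ^ 3 = 1) : Subgroup (GL (Fin 3) F) :=
  Subgroup.closure {Xg F, Zg hl3}

/-- the scalar `l` as an element of `GL_3`. -/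
def Sg {l : F} (hl3 : l ^ 3 = 1) : GL (Fin 3) F :=
  mkGL (l • (1 : Matrix (Fin 3) (Fin 3) F)) ((l ^ 2) • (1 : Matrix (Fin 3) (Fin 3) F)) (by
    rw [Matrix.smul_mul, Matrix.mul_smul, mul_one, smul_smul, ← pow_succ', hl3, one_smul])

theorem Xg_mem {l : F} (hl3 : l ^ 3 = 1) : Xg F ∈ R0 hl3 :=
  Subgroup.subset_closure (by simp)

theorem Zg_mem {l : F} (hl3 : l ^ 3 = 1) : Zg hl3 ∈ R0 hl3 :=
  Subgroup.subset_closure (by simp)

/-- `Z X = l X Z`. -/
theorem Zm_mul_Xm (l : F) (hl3 : l ^ 3 = 1) : Zm l * Xm F = l • (Xm F * Zm l) := by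
  unfold Zm
  rw [dg_mul_Xm, ← Matrix.mul_smul, smul_dg]
  congr 2
  · ring
  · ring
  · rw [← hl3]; ring

theorem Sg_mem {l : F} (hl3 : l ^ 3 = 1) : Sg hl3 ∈ R0 hl3 := by
  have h : Sg hl3 = Zg hl3 * Xg F * (Zg hl3)⁻¹ * (Xg F)⁻¹ := by
    rw [eq_mul_inv_iff_mul_eq, eq_mul_inv_iff_mul_eq]
    apply Units.ext
    show (l • (1 : Matrix (Fin 3) (Fin 3) F)) * Xm F * Zm l = Zm l * Xm F
    rw [Zm_mul_Xm l hl3, Matrix.smul_mul, one_mul, Matrix.smul_mul]
  rw [h]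
  exact Subgroup.mul_mem _ (Subgroup.mul_mem _ (Subgroup.mul_mem _ (Zg_mem hl3) (Xg_mem hl3))
    (Subgroup.inv_mem _ (Zg_mem hl3))) (Subgroup.inv_mem _ (Xg_mem hl3))

theorem Sg_pow_val {l : F} (hl3 : l ^ 3 = 1) (m : ℕ) :
    ((Sg hl3 ^ m : GL (Fin 3) F)).1 = (l ^ m) • (1 : Matrix (Fin 3) (Fin 3) F) := by
  rw [Units.val_pow_eq_pow_val]
  show (l • (1 : Matrix (Fin 3) (Fin 3) F)) ^ m = _
  rw [smul_pow, one_pow]

variable [Fintype F]

/-- membership in the normaliser of the standard group. -/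
theorem mem_normalizer_R0 {l : F} (hl3 : l ^ 3 = 1) (t : GL (Fin 3) F)
    (hX : t * Xg F * t⁻¹ ∈ R0 hl3) (hZ : t * Zg hl3 * t⁻¹ ∈ R0 hl3) :
    t ∈ Subgroup.normalizer (R0 hl3 : Set (GL (Fin 3) F)) := by
  apply mem_normalizer_of_gens
  intro s hs
  rcases hs with rfl | rfl
  · exact hX
  · exact hZ

/-- scalars normalise. -/
theorem scalar_mem_normalizer {l : F} (hl3 : l ^ 3 = 1) (t : GL (Fin 3) F) (c : F)
    (ht : t.1 = c • (1 : Matrix (Fin 3) (Fin 3) F)) :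
    t ∈ Subgroup.normalizer (R0 hl3 : Set (GL (Fin 3) F)) := by
  apply mem_normalizer_R0
  · rw [conj_eq_of_mul_eq t (Xg F) (Xg F) (by rw [ht, Matrix.smul_mul, Matrix.mul_smul, one_mul, mul_one])]
    exact Xg_mem hl3
  · rw [conj_eq_of_mul_eq t (Zg hl3) (Zg hl3) (by rw [ht, Matrix.smul_mul, Matrix.mul_smul, one_mul, mul_one])]
    exact Zg_mem hl3

/-- a diagonal matrix normalises as soon as its shifted quotient is in the group. -/
theorem dg_mem_normalizer {l : F} (hl3 : l ^ 3 = 1) (t : GL (Fin 3) F) (a b c : F)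
    (ht : t.1 = dg a b c) (i : ℕ) (hquot : dg b c a = (l ^ i) • (Zm l * dg a b c)) :
    t ∈ Subgroup.normalizer (R0 hl3 : Set (GL (Fin 3) F)) := by
  apply mem_normalizer_R0
  · have hw : t.1 * (Xg F).1 = (Sg hl3 ^ i * Xg F * Zg hl3 : GL (Fin 3) F).1 * t.1 := by
      rw [Units.val_mul, Units.val_mul, Sg_pow_val, ht]
      show dg a b c * Xm F = (l ^ i) • (1 : Matrix (Fin 3) (Fin 3) F) * Xm F * Zm l * dg a b c
      rw [dg_mul_Xm, hquot, Matrix.smul_mul, one_mul, Matrix.mul_smul, Matrix.smul_mul,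
        Matrix.smul_mul, Matrix.mul_assoc]
    rw [conj_eq_of_mul_eq _ _ _ hw]
    exact Subgroup.mul_mem _ (Subgroup.mul_mem _ (Subgroup.pow_mem _ (Sg_mem hl3) i) (Xg_mem hl3))
      (Zg_mem hl3)
  · have hw : t.1 * (Zg hl3).1 = (Zg hl3).1 * t.1 := by
      rw [ht]
      show dg a b c * dg 1 l (l ^ 2) = dg 1 l (l ^ 2) * dg a b c
      rw [dg_mul, dg_mul]
      congr 1 <;> ring
    rw [conj_eq_of_mul_eq _ _ _ hw]
    exact Zg_mem hl3

end Cfsg.Agent.Helper59.Extra
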