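import Mathlib
import Cfsg.Agent.Helper59.ExtraE

set_option autoImplicit false

/-! Elements of the normaliser of the standard group: diagonal matrices of cube roots of unity and
the three transpositions. Conjugacy with prescribed determinant. -/

namespace Cfsg.Agent.Helper59.Extra

open Module Matrix

variable {F : Type*} [Field F]

/-- conjugacy with a prescribed determinant of two matrices with the same eigen-data. -/
theorem exists_conj_det (x t U W : Matrix (Fin 3) (Fin 3) F) (ev : Fin 3 → F)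
    (hU : U.det ≠ 0) (hW : W.det ≠ 0) (hx : x * U = U * Matrix.diagonal ev)
    (ht : t * W = W * Matrix.diagonal ev) (δ : F) :
    ∃ M : Matrix (Fin 3) (Fin 3) F, M.det = δ ∧ x * M = M * t := by
  have hWW : W⁻¹ * W = 1 := Matrix.nonsing_inv_mul W (isUnit_iff_ne_zero.mpr hW)
  have hWW' : W * W⁻¹ = 1 := Matrix.mul_nonsing_inv W (isUnit_iff_ne_zero.mpr hW)
  set d : F := δ * W.det / U.det with hd
  have hcomm : Matrix.diagonal ev * dg d 1 1 = dg d 1 1 * Matrix.diagonal ev := by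
    rw [diagonal_eq_dg, dg_mul, dg_mul]
    congr 1 <;> ring
  have hΔW : Matrix.diagonal ev * W⁻¹ = W⁻¹ * t := by
    calc Matrix.diagonal ev * W⁻¹ = W⁻¹ * (W * Matrix.diagonal ev) * W⁻¹ := by
          rw [← Matrix.mul_assoc, hWW, one_mul]
      _ = W⁻¹ * t := by rw [← ht, Matrix.mul_assoc, Matrix.mul_assoc, hWW', mul_one]
  refine ⟨U * dg d 1 1 * W⁻¹, ?_, ?_⟩
  · rw [Matrix.det_mul, Matrix.det_mul, Matrix.det_nonsing_inv, Ring.inverse_eq_inv']
    have : (dg d 1 1).det = d := by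
      unfold dg
      rw [Matrix.det_fin_three]
      simp
    rw [this, hd]
    field_simp
  · calc x * (U * dg d 1 1 * W⁻¹) = (x * U) * dg d 1 1 * W⁻¹ := by simp only [Matrix.mul_assoc]
      _ = U * (Matrix.diagonal ev * dg d 1 1) * W⁻¹ := by rw [hx]; simp only [Matrix.mul_assoc]
      _ = U * dg d 1 1 * (Matrix.diagonal ev * W⁻¹) := by rw [hcomm]; simp only [Matrix.mul_assoc]
      _ = U * dg d 1 1 * W⁻¹ * t := by rw [hΔW]; simp only [Matrix.mul_assoc]

/-- the three transpositions. -/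
def Sk (F : Type*) [Field F] : Fin 3 → Matrix (Fin 3) (Fin 3) F :=
  ![!![1, 0, 0; 0, 0, 1; 0, 1, 0], !![0, 0, 1; 0, 1, 0; 1, 0, 0], !![0, 1, 0; 1, 0, 0; 0, 0, 1]]

/-- eigenvector matrices of the transpositions. -/
def Wk (F : Type*) [Field F] : Fin 3 → Matrix (Fin 3) (Fin 3) F :=
  ![!![0, 1, 0; 1, 0, 1; -1, 0, 1], !![0, 1, 1; 1, 0, 0; 0, -1, 1], !![0, 1, 1; 0, 1, -1; 1, 0, 0]]

/-- the sign patterns. -/
def pat (F : Type*) [Field F] (k : Fin 3) : Fin 3 → F := fun i => if i = k then -1 else 1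

/-- the exponents of `l` in `s Z s⁻¹ = l^e Z²`. -/
def ek : Fin 3 → ℕ := ![0, 2, 1]

theorem Sk_mul_Sk (k : Fin 3) : Sk F k * Sk F k = 1 := by
  fin_cases k <;> ext i j <;> fin_cases i <;> fin_cases j <;>
    simp [Sk, Matrix.mul_apply, Fin.sum_univ_three]

theorem Sk_mul_Wk (k : Fin 3) : Sk F k * Wk F k = Wk F k * Matrix.diagonal (pat F k) := by
  fin_cases k <;> ext i j <;> fin_cases i <;> fin_cases j <;>
    simp [Sk, Wk, pat, Matrix.mul_apply, Fin.sum_univ_three, Matrix.diagonal_apply]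

theorem det_Wk (h2 : (2 : F) ≠ 0) (k : Fin 3) : (Wk F k).det ≠ 0 := by
  have hm : (-2 : F) ≠ 0 := neg_ne_zero.mpr h2
  fin_cases k <;> simp only [Wk] <;> rw [Matrix.det_fin_three] <;> simp <;> norm_num <;>
    exact h2

theorem Sk_mul_Xm (k : Fin 3) : Sk F k * Xm F = Xm F * Xm F * Sk F k := by
  fin_cases k <;> ext i j <;> fin_cases i <;> fin_cases j <;>
    simp [Sk, Xm, Matrix.mul_apply, Fin.sum_univ_three]

theorem Sk_mul_Zm (l : F) (hl3 : l ^ 3 = 1) (k : Fin 3) :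
    Sk F k * Zm l = (l ^ ek k) • (Zm l * Zm l) * Sk F k := by
  have h4 : l ^ 4 = l := by
    have : l ^ 4 = l ^ 3 * l := by ring
    rw [this, hl3, one_mul]
  have h5 : l ^ 5 = l ^ 2 := by
    have : l ^ 5 = l ^ 3 * l ^ 2 := by ring
    rw [this, hl3, one_mul]
  have h6 : l ^ 6 = 1 := by
    have : l ^ 6 = l ^ 3 * l ^ 3 := by ring
    rw [this, hl3, one_mul]
  have h7 : l ^ 7 = l := by
    have : l ^ 7 = l ^ 3 * l ^ 3 * l := by ring
    rw [this, hl3, one_mul, one_mul]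
  have h8 : l ^ 8 = l ^ 2 := by
    have : l ^ 8 = l ^ 3 * l ^ 3 * l ^ 2 := by ring
    rw [this, hl3, one_mul, one_mul]
  fin_cases k <;> ext i j <;> fin_cases i <;> fin_cases j <;>
    simp [Sk, Zm, dg, ek, Matrix.mul_apply, Fin.sum_univ_three] <;>
    ring_nf <;> simp [hl3, h4, h5, h6, h7, h8]

end Cfsg.Agent.Helper59.Extra
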