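import Mathlib
import Cfsg.Agent.Helper59.ExtraF

set_option autoImplicit false

/-! Membership in the normaliser of the standard group, at the level of `GL_3`. -/

namespace Cfsg.Agent.Helper59.Extra

open Module Matrix

variable {F : Type*} [Field F] [Fintype F]

/-- the scalar `k` as an element of `GL_3`. -/
def scalarG (k : F) (hk : k ≠ 0) : GL (Fin 3) F :=
  mkGL (k • (1 : Matrix (Fin 3) (Fin 3) F)) (k⁻¹ • (1 : Matrix (Fin 3) (Fin 3) F)) (by
    rw [Matrix.smul_mul, Matrix.mul_smul, mul_one, smul_smul, mul_inv_cancel₀ hk, one_smul])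

omit [Fintype F] in
theorem scalarG_inv_val (k : F) (hk : k ≠ 0) :
    ((scalarG k hk)⁻¹ : GL (Fin 3) F).1 = k⁻¹ • (1 : Matrix (Fin 3) (Fin 3) F) := rfl

/-- reduction to the unscaled element. -/
theorem mem_normalizer_of_smul {l : F} (hl3 : l ^ 3 = 1) (t : GL (Fin 3) F) (k : F) (hk : k ≠ 0)
    (M : Matrix (Fin 3) (Fin 3) F) (ht : t.1 = k • M)
    (h : ∀ t' : GL (Fin 3) F, t'.1 = M → t' ∈ Subgroup.normalizer (R0 hl3 : Set (GL (Fin 3) F))) :
    t ∈ Subgroup.normalizer (R0 hl3 : Set (GL (Fin 3) F)) := by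
  have h1 : t = scalarG k hk * ((scalarG k hk)⁻¹ * t) := by group
  rw [h1]
  apply Subgroup.mul_mem
  · exact scalar_mem_normalizer hl3 _ k rfl
  · apply h
    rw [Units.val_mul, scalarG_inv_val, ht, Matrix.smul_mul, one_mul, smul_smul,
      inv_mul_cancel₀ hk, one_smul]

/-- the transpositions normalise. -/
theorem transp_mem_normalizer {l : F} (hl3 : l ^ 3 = 1) (j : Fin 3) (t : GL (Fin 3) F)
    (ht : t.1 = Sk F j) : t ∈ Subgroup.normalizer (R0 hl3 : Set (GL (Fin 3) F)) := by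
  apply mem_normalizer_R0
  · have hw : t.1 * (Xg F).1 = (Xg F * Xg F : GL (Fin 3) F).1 * t.1 := by
      rw [ht, Units.val_mul]
      exact Sk_mul_Xm j
    rw [conj_eq_of_mul_eq _ _ _ hw]
    exact Subgroup.mul_mem _ (Xg_mem hl3) (Xg_mem hl3)
  · have hw : t.1 * (Zg hl3).1 = (Sg hl3 ^ ek j * Zg hl3 * Zg hl3 : GL (Fin 3) F).1 * t.1 := by
      rw [ht, Units.val_mul, Units.val_mul, Sg_pow_val]
      show Sk F j * Zm l = (l ^ ek j) • (1 : Matrix (Fin 3) (Fin 3) F) * Zm l * Zm l * Sk F j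
      rw [Sk_mul_Zm l hl3 j]
      simp only [Matrix.smul_mul, one_mul]
    rw [conj_eq_of_mul_eq _ _ _ hw]
    exact Subgroup.mul_mem _ (Subgroup.mul_mem _ (Subgroup.pow_mem _ (Sg_mem hl3) _) (Zg_mem hl3))
      (Zg_mem hl3)

/-- the three diagonal generators. -/
theorem dgen_mem_normalizer {l : F} (hl3 : l ^ 3 = 1) (t : GL (Fin 3) F)
    (ht : t.1 = dg l 1 1 ∨ t.1 = dg 1 l 1 ∨ t.1 = dg 1 1 l) :
    t ∈ Subgroup.normalizer (R0 hl3 : Set (GL (Fin 3) F)) := by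
  have h4 : l ^ 4 = l := by
    have : l ^ 4 = l ^ 3 * l := by ring
    rw [this, hl3, one_mul]
  rcases ht with ht | ht | ht
  · apply dg_mem_normalizer hl3 t _ _ _ ht 2
    unfold Zm
    rw [dg_mul, smul_dg]
    congr 1 <;>
      first | ring1 | linear_combination (-1 : F) * hl3 | linear_combination (-l) * hl3
  · apply dg_mem_normalizer hl3 t _ _ _ ht 1
    unfold Zm
    rw [dg_mul, smul_dg]
    congr 1 <;>
      first | ring1 | linear_combination (-1 : F) * hl3 | linear_combination (-l) * hl3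
  · apply dg_mem_normalizer hl3 t _ _ _ ht 0
    unfold Zm
    rw [dg_mul, smul_dg]
    congr 1 <;>
      first | ring1 | linear_combination (-1 : F) * hl3 | linear_combination (-l) * hl3

/-- diagonal matrices of powers of `l` normalise. -/
theorem dgpow_mem_normalizer {l : F} (hl3 : l ^ 3 = 1) (t : GL (Fin 3) F) (m₀ m₁ m₂ : ℕ)
    (ht : t.1 = dg (l ^ m₀) (l ^ m₁) (l ^ m₂)) :
    t ∈ Subgroup.normalizer (R0 hl3 : Set (GL (Fin 3) F)) := by
  have hinv : ∀ a b c : F, a ^ 3 = 1 → b ^ 3 = 1 → c ^ 3 = 1 →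
      dg a b c * dg (a ^ 2) (b ^ 2) (c ^ 2) = 1 := by
    intro a b c ha hb hc
    rw [dg_mul, ← dg_one]
    congr 1
    · linear_combination ha
    · linear_combination hb
    · linear_combination hc
  let D0 : GL (Fin 3) F := mkGL (dg l 1 1) (dg (l ^ 2) (1 ^ 2) (1 ^ 2)) (hinv l 1 1 hl3 (one_pow 3) (one_pow 3))
  let D1 : GL (Fin 3) F := mkGL (dg 1 l 1) (dg (1 ^ 2) (l ^ 2) (1 ^ 2)) (hinv 1 l 1 (one_pow 3) hl3 (one_pow 3))
  let D2 : GL (Fin 3) F := mkGL (dg 1 1 l) (dg (1 ^ 2) (1 ^ 2) (l ^ 2)) (hinv 1 1 l (one_pow 3) (one_pow 3) hl3)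
  have h0 := dgen_mem_normalizer hl3 D0 (Or.inl rfl)
  have h1 := dgen_mem_normalizer hl3 D1 (Or.inr (Or.inl rfl))
  have h2 := dgen_mem_normalizer hl3 D2 (Or.inr (Or.inr rfl))
  have heq : t = D0 ^ m₀ * D1 ^ m₁ * D2 ^ m₂ := by
    apply Units.ext
    rw [ht, Units.val_mul, Units.val_mul, Units.val_pow_eq_pow_val, Units.val_pow_eq_pow_val,
      Units.val_pow_eq_pow_val]
    show _ = dg l 1 1 ^ m₀ * dg 1 l 1 ^ m₁ * dg 1 1 l ^ m₂
    rw [dg_pow, dg_pow, dg_pow, dg_mul, dg_mul]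
    simp
  rw [heq]
  exact Subgroup.mul_mem _ (Subgroup.mul_mem _ (Subgroup.pow_mem _ h0 _) (Subgroup.pow_mem _ h1 _))
    (Subgroup.pow_mem _ h2 _)

/-- diagonal matrices of cube roots of unity normalise. -/
theorem diag_mem_normalizer {l : F} (hl3 : l ^ 3 = 1) (t : GL (Fin 3) F) (ev : Fin 3 → F)
    (hev : ∀ i, ev i = 1 ∨ ev i = l ∨ ev i = l ^ 2) (ht : t.1 = Matrix.diagonal ev) :
    t ∈ Subgroup.normalizer (R0 hl3 : Set (GL (Fin 3) F)) := by
  have hex : ∀ i, ∃ m : ℕ, ev i = l ^ m := by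
    intro i
    rcases hev i with h | h | h
    · exact ⟨0, by rw [h, pow_zero]⟩
    · exact ⟨1, by rw [h, pow_one]⟩
    · exact ⟨2, h⟩
  obtain ⟨m₀, h₀⟩ := hex 0
  obtain ⟨m₁, h₁⟩ := hex 1
  obtain ⟨m₂, h₂⟩ := hex 2
  apply dgpow_mem_normalizer hl3 t m₀ m₁ m₂
  rw [ht, diagonal_eq_dg, h₀, h₁, h₂]

end Cfsg.Agent.Helper59.Extra
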