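import Mathlib
import Cfsg.Agent.Helper59.ExtraB
import Cfsg.Agent.Helper59.ExtraG

set_option autoImplicit false

/-! A non-abelian subgroup of order 27 and exponent 3 of `GL_3(F)` is conjugate to the standard
group. -/

namespace Cfsg.Agent.Helper59.Extra

open Module Matrix

theorem comm_of_card_dvd_nine {G : Type*} [Group G] [Finite G] (h : Nat.card G ∣ 9) (a b : G) :
    a * b = b * a := by
  haveI : Fact (Nat.Prime 3) := ⟨Nat.prime_three⟩
  have hle : Nat.card G ≤ 9 := Nat.le_of_dvd (by norm_num) h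
  have hpos : 0 < Nat.card G := Nat.card_pos
  have hcases : Nat.card G = 1 ∨ Nat.card G = 3 ∨ Nat.card G = 9 := by
    interval_cases hc : Nat.card G <;> simp_all
  rcases hcases with h1 | h1 | h1
  · haveI : Subsingleton G := (Nat.card_eq_one_iff_unique.mp h1).1
    exact Subsingleton.elim _ _
  · haveI : IsCyclic G := isCyclic_of_prime_card h1
    exact (inferInstance : IsMulCommutative G).is_comm.comm a b
  · exact (IsPGroup.isMulCommutative_of_card_eq_prime_sq (p := 3) (by rw [h1]; norm_num)).is_comm.comm a b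

variable {F : Type*} [Field F] [Fintype F]

/-- a `GL_3` element from a matrix of non-zero determinant. -/
noncomputable def glOfDet (M : Matrix (Fin 3) (Fin 3) F) (h : M.det ≠ 0) : GL (Fin 3) F :=
  mkGL M M⁻¹ (Matrix.mul_nonsing_inv M (isUnit_iff_ne_zero.mpr h))

omit [Fintype F] in
@[simp] theorem glOfDet_val (M : Matrix (Fin 3) (Fin 3) F) (h : M.det ≠ 0) : (glOfDet M h).1 = M := rfl

/-- generators in standard position. -/
theorem exists_gens (h3 : (3 : F) ≠ 0) {ω : F} (hω : ω ^ 2 + ω + 1 = 0)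
    (R : Subgroup (GL (Fin 3) F)) (hR : Nat.card R = 27) (hRe : Monoid.exponent R = 3)
    (hRna : ¬ IsMulCommutative R) :
    ∃ (l : F) (_ : l ^ 2 + l + 1 = 0) (a' b : GL (Fin 3) F) (P : Matrix (Fin 3) (Fin 3) F),
      a' ∈ R ∧ b ∈ R ∧ a' * b ≠ b * a' ∧ P.det ≠ 0 ∧ a'.1 * P = P * Zm l ∧ b.1 * P = P * Xm F := by
  classical
  haveI : Finite R := Nat.finite_of_card_ne_zero (by rw [hR]; norm_num)
  -- non-commuting pair
  obtain ⟨a, b, hab⟩ : ∃ a b : R, a * b ≠ b * a := by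
    by_contra h
    push Not at h
    exact hRna ⟨⟨h⟩⟩
  have hpow3 : ∀ g : R, g ^ 3 = 1 := by
    intro g
    have := Monoid.pow_exponent_eq_one g
    rwa [hRe] at this
  obtain ⟨c, hc⟩ : ∃ c : R, c = a * b * a⁻¹ * b⁻¹ := ⟨_, rfl⟩
  have hcZ := commutator_mem_center_of_card_27 hR ⟨a, b, hab⟩ a b
  rw [← hc] at hcZ
  have hca : a * c = c * a := Subgroup.mem_center_iff.mp hcZ a
  have hcb : b * c = c * b := Subgroup.mem_center_iff.mp hcZ b
  have hc1 : c ≠ 1 := by
    intro h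
    apply hab
    have : a * b * a⁻¹ * b⁻¹ = 1 := by rw [← hc]; exact h
    have h2 : a * b = b * a := by
      have := congrArg (fun g => g * b * a) this
      simp only [one_mul] at this
      rw [← this]
      group
    exact h2
  -- matrices
  obtain ⟨A, hA⟩ : ∃ A : Matrix (Fin 3) (Fin 3) F, A = ((a : GL (Fin 3) F)).1 := ⟨_, rfl⟩
  obtain ⟨B, hB⟩ : ∃ B : Matrix (Fin 3) (Fin 3) F, B = ((b : GL (Fin 3) F)).1 := ⟨_, rfl⟩
  obtain ⟨Ai, hAi⟩ : ∃ Ai : Matrix (Fin 3) (Fin 3) F, Ai = ((a : GL (Fin 3) F)⁻¹).1 := ⟨_, rfl⟩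
  obtain ⟨Bi, hBi⟩ : ∃ Bi : Matrix (Fin 3) (Fin 3) F, Bi = ((b : GL (Fin 3) F)⁻¹).1 := ⟨_, rfl⟩
  have hAAi : A * Ai = 1 := by rw [hA, hAi, ← Units.val_mul, mul_inv_cancel, Units.val_one]
  have hBBi : B * Bi = 1 := by rw [hB, hBi, ← Units.val_mul, mul_inv_cancel, Units.val_one]
  have hcval : ((c : GL (Fin 3) F)).1 = A * B * Ai * Bi := by
    rw [hc, hA, hB, hAi, hBi]
    simp only [Subgroup.coe_mul, Subgroup.coe_inv, Units.val_mul]
  have hvalpow : ∀ g : R, ((g : GL (Fin 3) F)).1 ^ 3 = 1 := by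
    intro g
    rw [← Units.val_pow_eq_pow_val, ← Subgroup.coe_pow, hpow3 g]
    rfl
  have hA3 : A ^ 3 = 1 := by rw [hA]; exact hvalpow a
  have hB3 : B ^ 3 = 1 := by rw [hB]; exact hvalpow b
  have hC3 : (A * B * Ai * Bi) ^ 3 = 1 := by rw [← hcval]; exact hvalpow c
  have hCA : A * B * Ai * Bi * A = A * (A * B * Ai * Bi) := by
    rw [← hcval, hA, ← Units.val_mul, ← Units.val_mul, ← Subgroup.coe_mul, ← Subgroup.coe_mul, hca]
  have hCB : A * B * Ai * Bi * B = B * (A * B * Ai * Bi) := by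
    rw [← hcval, hB, ← Units.val_mul, ← Units.val_mul, ← Subgroup.coe_mul, ← Subgroup.coe_mul, hcb]
  have hC1 : A * B * Ai * Bi ≠ 1 := by
    rw [← hcval]
    intro h
    apply hc1
    apply Subtype.ext
    apply Units.ext
    rw [h]
    rfl
  obtain ⟨l, hl, hCl⟩ := commutator_scalar hω h3 A B Ai Bi hAAi hBBi hC3 hCA hCB hC1
  obtain ⟨l3, l1, l2, l4, l0⟩ := omega_facts hl h3
  obtain ⟨α, hα, P, hP, hAP, hBP⟩ := exists_standard_form hl h3 A B Ai Bi hAAi hBBi hA3 hB3 l hl hCl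
  -- normalise the eigenvalue
  obtain ⟨k, hk⟩ : ∃ k : ℕ, l ^ k * α = 1 := by
    rcases hα with h | h | h
    · exact ⟨0, by rw [h]; ring⟩
    · exact ⟨2, by rw [h]; linear_combination l3⟩
    · exact ⟨1, by rw [h]; linear_combination l3⟩
  obtain ⟨a', ha'⟩ : ∃ a' : R, a' = c ^ k * a := ⟨_, rfl⟩
  have ha'val : ((a' : GL (Fin 3) F)).1 = (l ^ k) • A := by
    rw [ha']
    simp only [Subgroup.coe_mul, Subgroup.coe_pow, Units.val_mul, Units.val_pow_eq_pow_val]
    rw [hcval, hCl, smul_pow, one_pow, Matrix.smul_mul, one_mul, hA]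
  have ha'P : ((a' : GL (Fin 3) F)).1 * P = P * Zm l := by
    rw [ha'val, Matrix.smul_mul, hAP, diagonal_eq_dg, ← Matrix.mul_smul, smul_dg]
    show P * dg (l ^ k * α) (l ^ k * (l * α)) (l ^ k * (l ^ 2 * α)) = P * dg 1 l (l ^ 2)
    rw [hk, show l ^ k * (l * α) = l by linear_combination l * hk,
      show l ^ k * (l ^ 2 * α) = l ^ 2 by linear_combination l ^ 2 * hk]
  have hna' : (a' : GL (Fin 3) F) * (b : GL (Fin 3) F) ≠ (b : GL (Fin 3) F) * (a' : GL (Fin 3) F) := by
    intro h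
    apply hab
    have h1 : a' * b = b * a' := Subtype.ext h
    have hck : c ^ k * b = b * c ^ k := by
      have : Commute b c := hcb
      exact (this.pow_right k).eq.symm
    rw [ha', mul_assoc, ← mul_assoc b, ← hck, mul_assoc] at h1
    exact mul_left_cancel h1
  refine ⟨l, hl, a', b, P, a'.2, b.2, hna', hP, ha'P, ?_⟩
  rw [← hB]
  exact hBP

/-- two non-commuting elements generate a group of order 27. -/
theorem closure_eq_of_card_27 {G : Type*} [Group G] [Finite G] (R : Subgroup G)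
    (hR : Nat.card R = 27) (a b : G) (ha : a ∈ R) (hb : b ∈ R) (hab : a * b ≠ b * a) :
    Subgroup.closure {a, b} = R := by
  have hHR : Subgroup.closure {a, b} ≤ R := by
    rw [Subgroup.closure_le]
    rintro g (rfl | rfl)
    · exact ha
    · exact hb
  apply Subgroup.eq_of_le_of_card_ge hHR
  have hdvd : Nat.card (Subgroup.closure {a, b}) ∣ 27 := by
    rw [← hR]
    exact Subgroup.card_dvd_of_le hHR
  have hle : Nat.card (Subgroup.closure {a, b}) ≤ 27 := Nat.le_of_dvd (by norm_num) hdvd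
  by_contra hlt
  push Not at hlt
  rw [hR] at hlt
  have h9 : Nat.card (Subgroup.closure {a, b}) ∣ 9 := by
    have hpos : 0 < Nat.card (Subgroup.closure {a, b}) := Nat.card_pos
    interval_cases hc' : Nat.card (Subgroup.closure {a, b}) <;> simp_all
  have haH : a ∈ Subgroup.closure {a, b} := Subgroup.subset_closure (Set.mem_insert _ _)
  have hbH : b ∈ Subgroup.closure {a, b} :=
    Subgroup.subset_closure (Set.mem_insert_of_mem _ (Set.mem_singleton _))
  have := comm_of_card_dvd_nine h9 (⟨a, haH⟩ : Subgroup.closure {a, b}) ⟨b, hbH⟩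
  exact hab (congrArg Subtype.val this)

/-- **Structure of `R`.** -/
theorem exists_structure (h3 : (3 : F) ≠ 0) {ω : F} (hω : ω ^ 2 + ω + 1 = 0)
    (R : Subgroup (GL (Fin 3) F)) (hR : Nat.card R = 27) (hRe : Monoid.exponent R = 3)
    (hRna : ¬ IsMulCommutative R) :
    ∃ (l : F) (_ : l ^ 2 + l + 1 = 0) (hl3 : l ^ 3 = 1) (Pg : GL (Fin 3) F),
      R = (R0 hl3).map (MulAut.conj Pg).toMonoidHom := by
  obtain ⟨l, hl, a', b, P, ha', hb, hna', hP, ha'P, hbP⟩ := exists_gens h3 hω R hR hRe hRna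
  obtain ⟨l3, l1, l2, l4, l0⟩ := omega_facts hl h3
  have hconjZ : a' = glOfDet P hP * Zg l3 * (glOfDet P hP)⁻¹ := by
    rw [eq_mul_inv_iff_mul_eq]
    apply Units.ext
    rw [Units.val_mul, Units.val_mul]
    exact ha'P
  have hconjX : b = glOfDet P hP * Xg F * (glOfDet P hP)⁻¹ := by
    rw [eq_mul_inv_iff_mul_eq]
    apply Units.ext
    rw [Units.val_mul, Units.val_mul]
    exact hbP
  refine ⟨l, hl, l3, glOfDet P hP, ?_⟩
  rw [← closure_eq_of_card_27 R hR a' b ha' hb hna', R0, MonoidHom.map_closure]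
  congr 1
  ext g
  simp only [Set.mem_insert_iff, Set.mem_singleton_iff, Set.mem_image]
  constructor
  · rintro (rfl | rfl)
    · exact ⟨Zg l3, Or.inr rfl, hconjZ.symm⟩
    · exact ⟨Xg F, Or.inl rfl, hconjX.symm⟩
  · rintro ⟨g', (rfl | rfl), rfl⟩
    · right
      exact hconjX.symm
    · left
      exact hconjZ.symm

end Cfsg.Agent.Helper59.Extra
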