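import Mathlib
import Cfsg.Prelude.Def_GeometricClasses
import Cfsg.Agent.Helper59.InvChain
import Cfsg.Agent.Helper59.ElusiveConstr

set_option autoImplicit false

/-! Field subalgebras of prime degree `n` of the `n × n` matrices: elements of the normaliser
with a fixed space of dimension at least two are trivial. -/

namespace Cfsg.Agent.Helper59.FieldSub

open Module Matrix Polynomial
open Cfsg.Geo Cfsg.Agent.Helper59.InvChain Cfsg.Agent.Helper59.Elusive

variable {F : Type*} [Field F] {n : ℕ} {K : Subalgebra F (Matrix (Fin n) (Fin n) F)} {r : ℕ}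

theorem exists_inv (hK : IsFieldSubalgebra r K) {x : Matrix (Fin n) (Fin n) F} (hx : x ∈ K)
    (h0 : x ≠ 0) : ∃ y ∈ K, x * y = 1 ∧ y * x = 1 := by
  obtain ⟨y, hy, hxy⟩ := hK.inv x hx h0
  exact ⟨y, hy, hxy, by rw [← hK.comm x hx y hy]; exact hxy⟩

theorem eq_zero_of_mulVec_eq_zero (hK : IsFieldSubalgebra r K) {x : Matrix (Fin n) (Fin n) F}
    (hx : x ∈ K) {w : Fin n → F} (hw : w ≠ 0) (h : x *ᵥ w = 0) : x = 0 := by
  by_contra h0
  obtain ⟨y, -, -, hyx⟩ := exists_inv hK hx h0
  apply hw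
  have : (y * x) *ᵥ w = w := by rw [hyx, one_mulVec]
  rw [← this, ← mulVec_mulVec, h, mulVec_zero]

/-- evaluation at a vector. -/
def evW (K : Subalgebra F (Matrix (Fin n) (Fin n) F)) (w : Fin n → F) :
    ↥K →ₗ[F] (Fin n → F) where
  toFun k := k.1 *ᵥ w
  map_add' a b := by
    show (a.1 + b.1) *ᵥ w = _
    rw [add_mulVec]
  map_smul' c a := by
    show (c • a.1) *ᵥ w = _
    rw [smul_mulVec]
    rfl

@[simp] theorem evW_apply (w : Fin n → F) (k : ↥K) : evW K w k = k.1 *ᵥ w := rfl

theorem evW_injective (hK : IsFieldSubalgebra r K) {w : Fin n → F} (hw : w ≠ 0) :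
    Function.Injective (evW K w) := by
  rw [← LinearMap.ker_eq_bot, Submodule.eq_bot_iff]
  intro k hk
  rw [LinearMap.mem_ker] at hk
  exact Subtype.ext (eq_zero_of_mulVec_eq_zero hK k.2 hw hk)

theorem finiteDimensional (hK : IsFieldSubalgebra r K) (hr : 0 < r) : FiniteDimensional F ↥K :=
  Module.finite_of_finrank_pos (by rw [hK.finrank_eq]; exact hr)

theorem evW_surjective (hK : IsFieldSubalgebra n K) (hn : 0 < n) {w : Fin n → F} (hw : w ≠ 0) :
    Function.Surjective (evW K w) := by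
  haveI := finiteDimensional hK hn
  exact (LinearMap.injective_iff_surjective_of_finrank_eq_finrank
    (by rw [hK.finrank_eq, Module.finrank_fin_fun])).mp (evW_injective hK hw)

theorem isDomain (hK : IsFieldSubalgebra r K) (hr : 0 < r) : IsDomain ↥K := by
  haveI : Nontrivial ↥K :=
    Module.nontrivial_of_finrank_pos (R := F) (by rw [hK.finrank_eq]; exact hr)
  haveI : NoZeroDivisors ↥K := ⟨by
    intro a b hab
    by_contra hcon
    push Not at hcon
    obtain ⟨y, -, -, hya⟩ := exists_inv hK a.2 (fun h => hcon.1 (Subtype.ext h))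
    apply hcon.2
    have h1 : (a : Matrix (Fin n) (Fin n) F) * b = 0 := congrArg Subtype.val hab
    apply Subtype.ext
    calc (b : Matrix (Fin n) (Fin n) F) = (y * a) * b := by rw [hya, one_mul]
      _ = y * (a * b) := mul_assoc _ _ _
      _ = 0 := by rw [h1, mul_zero]⟩
  exact NoZeroDivisors.to_isDomain _

theorem aeval_toLin'_minpoly (k0 : ↥K) :
    aeval (Matrix.toLin' k0.1) (minpoly F k0) = 0 := by
  have h1 : aeval k0 (minpoly F k0) = 0 := minpoly.aeval F k0
  have h2 : aeval (K.val k0) (minpoly F k0) = K.val (aeval k0 (minpoly F k0)) :=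
    aeval_algHom_apply K.val k0 _
  have h3 : aeval ((Matrix.toLinAlgEquiv' : Matrix (Fin n) (Fin n) F ≃ₐ[F] _) (K.val k0))
      (minpoly F k0)
      = (Matrix.toLinAlgEquiv' : Matrix (Fin n) (Fin n) F ≃ₐ[F] _)
        (aeval (K.val k0) (minpoly F k0)) :=
    aeval_algHom_apply _ _ _
  rw [h2, h1, map_zero, map_zero] at h3
  exact h3

/-- **Lemma N.** -/
theorem eq_one_of_mem_normalizer (hn : n.Prime) (hK : IsFieldSubalgebra n K) (y : GL (Fin n) F)
    (hy : y ∈ subalgebraNormalizer K) (w1 w2 : Fin n → F) (h1 : y.1 *ᵥ w1 = w1)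
    (h2 : y.1 *ᵥ w2 = w2) (hw1 : w1 ≠ 0) (hind : ∀ c : F, w2 ≠ c • w1) : y = 1 := by
  have hnpos := hn.pos
  obtain ⟨k0, hk0⟩ := evW_surjective hK hnpos hw1 w2
  rw [evW_apply] at hk0
  have hyinv : (y⁻¹ : GL (Fin n) F).1 *ᵥ w1 = w1 := by
    have : (y⁻¹ : GL (Fin n) F).1 *ᵥ (y.1 *ᵥ w1) = w1 := by
      rw [mulVec_mulVec, ← Units.val_mul, inv_mul_cancel, Units.val_one, one_mulVec]
    rwa [h1] at this
  have hconj : y.1 * k0.1 * (y⁻¹ : GL (Fin n) F).1 ∈ K := (hy k0.1).mp k0.2
  have hfix : y.1 * k0.1 * (y⁻¹ : GL (Fin n) F).1 = k0.1 := by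
    have h3 : (y.1 * k0.1 * (y⁻¹ : GL (Fin n) F).1 - k0.1) *ᵥ w1 = 0 := by
      rw [sub_mulVec, ← mulVec_mulVec, ← mulVec_mulVec, hyinv, hk0, h2, sub_self]
    have := eq_zero_of_mulVec_eq_zero hK (K.sub_mem hconj k0.2) hw1 h3
    exact sub_eq_zero.mp this
  have hcomm : y.1 * k0.1 = k0.1 * y.1 := by
    have : y.1 * k0.1 * (y⁻¹ : GL (Fin n) F).1 * y.1 = k0.1 * y.1 := by rw [hfix]
    rw [mul_assoc, ← Units.val_mul, inv_mul_cancel, Units.val_one, mul_one] at this
    exact this
  have := isDomain hK hnpos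
  have := finiteDimensional hK hnpos
  have hint : IsIntegral F k0 := IsIntegral.of_finite F k0
  have hirr : Irreducible (minpoly F k0) := minpoly.irreducible hint
  have hdvd : (minpoly F k0).natDegree ∣ n := by
    have := dvd_finrank_of_inv (Matrix.toLin' k0.1) (minpoly F k0) (minpoly F k0).natDegree
      hirr.natDegree_pos (HP_of_irreducible _ hirr) ⊤ (inv_top _)
      (fun u _ => by rw [aeval_toLin'_minpoly]; rfl)
    rwa [finrank_top, Module.finrank_fin_fun] at this
  rcases (Nat.dvd_prime hn).mp hdvd with hd1 | hdn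
  · exfalso
    obtain ⟨c, hc⟩ := (minpoly.natDegree_eq_one_iff).mp hd1
    apply hind c
    rw [← hk0, ← hc]
    show (algebraMap F (Matrix (Fin n) (Fin n) F) c) *ᵥ w1 = c • w1
    rw [Algebra.algebraMap_eq_smul_one, smul_mulVec, one_mulVec]
  · -- powers of `k0` span `K`
    have hli := linearIndependent_pow (K := F) k0
    haveI : Nonempty (Fin (minpoly F k0).natDegree) := ⟨⟨0, by rw [hdn]; exact hnpos⟩⟩
    let b := basisOfLinearIndependentOfCardEqFinrank hli
      (by rw [Fintype.card_fin, hdn, hK.finrank_eq])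
    have hall : ∀ k : ↥K, y.1 * k.1 = k.1 * y.1 := by
      intro k
      have hk : k ∈ Submodule.span F (Set.range b) := by rw [b.span_eq]; trivial
      induction hk using Submodule.span_induction with
      | mem x hx =>
        obtain ⟨i, rfl⟩ := hx
        rw [coe_basisOfLinearIndependentOfCardEqFinrank]
        show y.1 * (k0.1 ^ (i : ℕ)) = (k0.1 ^ (i : ℕ)) * y.1
        exact (Commute.pow_right (show Commute y.1 k0.1 from hcomm) _).eq
      | zero => simp
      | add a c _ _ ha hc =>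
        show y.1 * (a.1 + c.1) = (a.1 + c.1) * y.1
        rw [mul_add, add_mul, ha, hc]
      | smul c a _ ha =>
        show y.1 * (c • a.1) = (c • a.1) * y.1
        rw [Matrix.mul_smul, Matrix.smul_mul, ha]
    apply Units.ext
    apply Matrix.toLin'.injective
    apply LinearMap.ext
    intro v
    obtain ⟨k, hk⟩ := evW_surjective hK hnpos hw1 v
    rw [evW_apply] at hk
    rw [Matrix.toLin'_apply, Units.val_one, Matrix.toLin'_one, LinearMap.id_apply, ← hk,
      mulVec_mulVec, hall k, ← mulVec_mulVec, h1]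

theorem eq_one_of_two_le_finrank_ker (hn : n.Prime) (hK : IsFieldSubalgebra n K)
    (y : GL (Fin n) F) (hy : y ∈ subalgebraNormalizer K)
    (h2 : 2 ≤ finrank F (LinearMap.ker (Matrix.toLin' y.1 - 1))) : y = 1 := by
  set W := LinearMap.ker (Matrix.toLin' y.1 - 1) with hW
  have hmem : ∀ w : Fin n → F, w ∈ W ↔ y.1 *ᵥ w = w := by
    intro w
    rw [hW, LinearMap.mem_ker, LinearMap.sub_apply, Matrix.toLin'_apply, Module.End.one_apply,
      sub_eq_zero]
  haveI : Nontrivial ↥W := Module.nontrivial_of_finrank_pos (R := F) (by omega)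
  obtain ⟨w1, hw1⟩ := exists_ne (0 : ↥W)
  have hw1' : (w1 : Fin n → F) ≠ 0 := fun h => hw1 (Subtype.ext h)
  by_cases hall : ∀ w ∈ W, ∃ c : F, w = c • (w1 : Fin n → F)
  · exfalso
    have hle : W ≤ Submodule.span F {(w1 : Fin n → F)} := by
      intro w hw
      obtain ⟨c, hc⟩ := hall w hw
      rw [hc]
      exact Submodule.smul_mem _ _ (Submodule.mem_span_singleton_self _)
    have := Submodule.finrank_mono hle
    rw [finrank_span_singleton hw1'] at this
    omega
  · push Not at hall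
    obtain ⟨w2, hw2, hne⟩ := hall
    exact eq_one_of_mem_normalizer hn hK y hy w1 w2 ((hmem _).mp w1.2) ((hmem _).mp hw2) hw1' hne

end Cfsg.Agent.Helper59.FieldSub
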