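import Mathlib
import Cfsg.Prelude.Def_GeometricClasses
import Cfsg.Agent.Helper59.FieldSubA

set_option autoImplicit false

/-! Field subalgebras of prime degree: witnesses not conjugate into the normaliser. -/

namespace Cfsg.Agent.Helper59.FieldSub

open Module Matrix Polynomial
open Cfsg.Geo Cfsg.Agent.Helper59.InvChain Cfsg.Agent.Helper59.Elusive

variable {F : Type*} [Field F] {n : ℕ} {K : Subalgebra F (Matrix (Fin n) (Fin n) F)}

/-- every element of `SL_n` with scalar `n`-th power, not scalar, is `SL_n`-conjugate into the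
normaliser of `K`. -/
def ConjProp (F : Type*) [Field F] (n : ℕ) (K : Subalgebra F (Matrix (Fin n) (Fin n) F)) : Prop :=
  ∀ x : Matrix.SpecialLinearGroup (Fin n) F,
    (∃ z : F, ((x ^ n : Matrix.SpecialLinearGroup (Fin n) F) : Matrix (Fin n) (Fin n) F)
      = z • (1 : Matrix (Fin n) (Fin n) F)) →
    (∀ z : F, (x : Matrix (Fin n) (Fin n) F) ≠ z • (1 : Matrix (Fin n) (Fin n) F)) →
    ∃ P : Matrix.SpecialLinearGroup (Fin n) F, P⁻¹ * x * P ∈
      ((subalgebraNormalizer K).comap
        (Matrix.SpecialLinearGroup.toGL : Matrix.SpecialLinearGroup (Fin n) F →* GL (Fin n) F))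

theorem false_of_big_fix (hn : n.Prime) (hK : IsFieldSubalgebra n K) (H : ConjProp F n K)
    {V : Type*} [AddCommGroup V] [Module F V] [FiniteDimensional F V] (hV : finrank F V = n)
    (f : V →ₗ[F] V) (hdet : LinearMap.det f = 1) (c : F) (hpow : f ^ n = c • (1 : V →ₗ[F] V))
    (hns : ∀ c : F, f ≠ c • (1 : V →ₗ[F] V))
    (hfix : 2 ≤ finrank F (LinearMap.ker (f - 1))) : False := by
  classical
  let b : Basis (Fin n) F V := Module.finBasisOfFinrankEq F V hV
  let x : Matrix.SpecialLinearGroup (Fin n) F :=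
    ⟨LinearMap.toMatrix b b f, by rw [LinearMap.det_toMatrix]; exact hdet⟩
  have hx : (x : Matrix (Fin n) (Fin n) F) = LinearMap.toMatrix b b f := rfl
  have h1 : ∃ z : F, ((x ^ n : Matrix.SpecialLinearGroup (Fin n) F) : Matrix (Fin n) (Fin n) F) =
      z • (1 : Matrix (Fin n) (Fin n) F) := by
    refine ⟨c, ?_⟩
    rw [Matrix.SpecialLinearGroup.coe_pow, hx, LinearMap.toMatrix_pow, hpow, map_smul,
      LinearMap.toMatrix_one]
  have h2 : ∀ z : F, (x : Matrix (Fin n) (Fin n) F) ≠ z • (1 : Matrix (Fin n) (Fin n) F) := by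
    intro c' hc'
    apply hns c'
    apply (LinearMap.toMatrix b b).injective
    rw [map_smul, LinearMap.toMatrix_one, ← hx, hc']
  obtain ⟨P, hP⟩ := H x h1 h2
  rw [Subgroup.mem_comap] at hP
  have hyval : ((Matrix.SpecialLinearGroup.toGL (P⁻¹ * x * P) : GL (Fin n) F) :
      Matrix (Fin n) (Fin n) F) = (P⁻¹).1 * x.1 * P.1 := rfl
  have hPinv : (P⁻¹).1 * P.1 = 1 := by
    rw [← Matrix.SpecialLinearGroup.coe_mul, inv_mul_cancel, Matrix.SpecialLinearGroup.coe_one]
  have hPinv' : P.1 * (P⁻¹).1 = 1 := by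
    rw [← Matrix.SpecialLinearGroup.coe_mul, mul_inv_cancel, Matrix.SpecialLinearGroup.coe_one]
  have hker : 2 ≤ finrank F (LinearMap.ker
      (Matrix.toLin' (Matrix.SpecialLinearGroup.toGL (P⁻¹ * x * P) : GL (Fin n) F).1 - 1)) := by
    let Θ : V →ₗ[F] (Fin n → F) :=
      (Matrix.toLin' (P⁻¹).1).comp (b.equivFun : V ≃ₗ[F] (Fin n → F)).toLinearMap
    have hΘapp : ∀ v, Θ v = (P⁻¹).1 *ᵥ (b.repr v : Fin n → F) := fun v => rfl
    have hΘinj : Function.Injective Θ := by
      intro u v huv
      rw [hΘapp, hΘapp] at huv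
      have h3 := congrArg (fun w => P.1 *ᵥ w) huv
      simp only [mulVec_mulVec, hPinv', one_mulVec] at h3
      exact b.repr.injective (DFunLike.coe_injective h3)
    have hΘ : ∀ v, f v = v → ((P⁻¹).1 * x.1 * P.1) *ᵥ Θ v = Θ v := by
      intro v hv
      rw [hΘapp, mulVec_mulVec, mul_assoc, mul_assoc, hPinv', mul_one, ← mulVec_mulVec, hx,
        LinearMap.toMatrix_mulVec_repr, hv]
    let Ψ : ↥(LinearMap.ker (f - 1)) →ₗ[F] ↥(LinearMap.ker
        (Matrix.toLin' (Matrix.SpecialLinearGroup.toGL (P⁻¹ * x * P) : GL (Fin n) F).1 - 1)) :=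
      LinearMap.codRestrict _ (Θ.comp (Submodule.subtype _)) (by
        intro v
        have hv : f v.1 = v.1 := by
          have := v.2
          rw [LinearMap.mem_ker, LinearMap.sub_apply, Module.End.one_apply, sub_eq_zero] at this
          exact this
        rw [LinearMap.mem_ker, LinearMap.sub_apply, Module.End.one_apply, sub_eq_zero,
          Matrix.toLin'_apply, hyval]
        exact hΘ v.1 hv)
    have hΨ : Function.Injective Ψ := by
      intro u v huv
      have := congrArg Subtype.val huv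
      exact Subtype.ext (hΘinj this)
    exact hfix.trans (LinearMap.finrank_le_finrank_of_injective hΨ)
  have hy1 := eq_one_of_two_le_finrank_ker hn hK _ hP hker
  have hy2 : P⁻¹ * x * P = 1 := by
    apply Matrix.SpecialLinearGroup.toGL_injective
    rw [hy1, map_one]
  have hx1 : x = 1 := by
    have : x = P * (P⁻¹ * x * P) * P⁻¹ := by group
    rw [this, hy2]
    group
  apply hns 1
  apply (LinearMap.toMatrix b b).injective
  rw [one_smul, LinearMap.toMatrix_one, ← hx, hx1, Matrix.SpecialLinearGroup.coe_one]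

/-- product witness: identity on a space of dimension at least two, times `g`. -/
theorem false_of_prod (hn : n.Prime) (hK : IsFieldSubalgebra n K) (H : ConjProp F n K)
    {A B : Type*} [AddCommGroup A] [Module F A] [FiniteDimensional F A]
    [AddCommGroup B] [Module F B] [FiniteDimensional F B]
    (hAB : finrank F A + finrank F B = n) (hA : 2 ≤ finrank F A)
    (g : B →ₗ[F] B) (hg : g ^ n = 1) (hdet : LinearMap.det g = 1) (b0 : B) (hb0 : g b0 ≠ b0) :
    False := by
  let f : (A × B) →ₗ[F] (A × B) := LinearMap.prodMapRingHom F A B (1, g)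
  have hfapp : ∀ v : A × B, f v = (v.1, g v.2) := fun v => rfl
  have hf : f ^ n = (1 : F) • (1 : (A × B) →ₗ[F] (A × B)) := by
    show (LinearMap.prodMapRingHom F A B (1, g)) ^ n = _
    rw [← map_pow, Prod.pow_mk, one_pow, hg, one_smul]
    exact map_one _
  have hfin : finrank F (A × B) = n := by rw [Module.finrank_prod, hAB]
  have hdetf : LinearMap.det f = 1 := by
    show LinearMap.det (LinearMap.prodMap (1 : A →ₗ[F] A) g) = 1
    rw [LinearMap.det_prodMap, hdet, mul_one]
    exact map_one _
  haveI : Nontrivial A := Module.nontrivial_of_finrank_pos (R := F) (by omega)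
  obtain ⟨a0, ha0⟩ := exists_ne (0 : A)
  have hns : ∀ c : F, f ≠ c • (1 : (A × B) →ₗ[F] (A × B)) := by
    intro c hc
    have h1 := LinearMap.congr_fun hc (a0, 0)
    rw [hfapp] at h1
    simp only [LinearMap.smul_apply, Module.End.one_apply, Prod.smul_mk, smul_zero, map_zero,
      Prod.mk.injEq, and_true] at h1
    have hc1 : c = 1 := by
      have h3 : (1 - c) • a0 = 0 := by rw [sub_smul, one_smul, ← h1, sub_self]
      rcases smul_eq_zero.mp h3 with h4 | h4
      · exact (sub_eq_zero.mp h4).symm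
      · exact absurd h4 ha0
    have h2 := LinearMap.congr_fun hc (0, b0)
    rw [hfapp, hc1] at h2
    simp only [one_smul, Module.End.one_apply, Prod.mk.injEq, true_and] at h2
    exact hb0 h2
  have hfix : 2 ≤ finrank F (LinearMap.ker (f - 1)) := by
    have hle : LinearMap.range (LinearMap.inl F A B) ≤ LinearMap.ker (f - 1) := by
      rintro _ ⟨a, rfl⟩
      rw [LinearMap.mem_ker, LinearMap.sub_apply, hfapp]
      simp
    have h1 := Submodule.finrank_mono hle
    rw [LinearMap.finrank_range_of_inj LinearMap.inl_injective] at h1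
    omega
  exact false_of_big_fix hn hK H hfin f hdetf 1 hf hns hfix

end Cfsg.Agent.Helper59.FieldSub
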