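import Mathlib
import Cfsg.Prelude.Def_GeometricClasses
import Cfsg.Agent.Helper59.FieldSubA

set_option autoImplicit false

/-! The Frobenius element of the normaliser of a field subalgebra of degree `n` of the
`n × n` matrices over a finite field. -/

namespace Cfsg.Agent.Helper59.FieldSub

open Module Matrix Polynomial
open Cfsg.Geo

variable {F : Type*} [Field F] {n : ℕ} {K : Subalgebra F (Matrix (Fin n) (Fin n) F)}

/-- an element of finite order conjugating `K` into itself normalises `K`. -/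
theorem mem_normalizer_of_pow_eq_one (s : GL (Fin n) F) (m : ℕ) (hm : s ^ (m + 1) = 1)
    (h : ∀ k ∈ K, s.1 * k * (s⁻¹ : GL (Fin n) F).1 ∈ K) : s ∈ subalgebraNormalizer K := by
  have hpow : ∀ j : ℕ, ∀ k ∈ K,
      (s ^ j : GL (Fin n) F).1 * k * ((s ^ j)⁻¹ : GL (Fin n) F).1 ∈ K := by
    intro j
    induction j with
    | zero =>
      intro k hk
      simpa using hk
    | succ j ih =>
      intro k hk
      have h1 := h _ (ih k hk)
      rw [pow_succ', _root_.mul_inv_rev, Units.val_mul, Units.val_mul]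
      have h2 : s.1 * (s ^ j : GL (Fin n) F).1 * k *
          (((s ^ j)⁻¹ : GL (Fin n) F).1 * (s⁻¹ : GL (Fin n) F).1) =
          s.1 * ((s ^ j : GL (Fin n) F).1 * k * ((s ^ j)⁻¹ : GL (Fin n) F).1) *
            (s⁻¹ : GL (Fin n) F).1 := by
        simp only [Matrix.mul_assoc]
      rw [h2]
      exact h1
  have hinv : s ^ m = s⁻¹ := by
    rw [eq_inv_iff_mul_eq_one, ← pow_succ]
    exact hm
  change ∀ k : Matrix (Fin n) (Fin n) F, k ∈ K ↔ s.1 * k * (s⁻¹ : GL (Fin n) F).1 ∈ K
  intro k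
  constructor
  · exact h k
  · intro hk
    have h1 := hpow m _ hk
    rw [hinv, inv_inv] at h1
    have e1 : (s⁻¹ : GL (Fin n) F).1 * s.1 = 1 := by
      rw [← Units.val_mul, inv_mul_cancel, Units.val_one]
    have h2 : (s⁻¹ : GL (Fin n) F).1 * (s.1 * k * (s⁻¹ : GL (Fin n) F).1) * s.1 = k := by
      calc (s⁻¹ : GL (Fin n) F).1 * (s.1 * k * (s⁻¹ : GL (Fin n) F).1) * s.1
          = ((s⁻¹ : GL (Fin n) F).1 * s.1) * k * ((s⁻¹ : GL (Fin n) F).1 * s.1) := by
            simp only [Matrix.mul_assoc]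
        _ = k := by rw [e1, one_mul, mul_one]
    rwa [h2] at h1

variable [Fintype F]

/-- Frobenius `k ↦ k^q` on `K`. -/
noncomputable def frobK {p : ℕ} [Fact p.Prime] [CharP F p] (hn : 0 < n)
    (hK : IsFieldSubalgebra n K) : ↥K →ₗ[F] ↥K where
  toFun k := k ^ Fintype.card F
  map_add' a b := by
    haveI : Nonempty (Fin n) := ⟨⟨0, hn⟩⟩
    apply Subtype.ext
    show (a.1 + b.1) ^ Fintype.card F = a.1 ^ Fintype.card F + b.1 ^ Fintype.card F
    obtain ⟨f, -, hf⟩ := FiniteField.card F p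
    rw [hf]
    exact add_pow_char_pow_of_commute p f (hK.comm a.1 a.2 b.1 b.2)
  map_smul' c a := by
    apply Subtype.ext
    show (c • a.1) ^ Fintype.card F = c • a.1 ^ Fintype.card F
    rw [_root_.smul_pow, FiniteField.pow_card]

theorem frobK_apply {p : ℕ} [Fact p.Prime] [CharP F p] (hn : 0 < n)
    (hK : IsFieldSubalgebra n K) (k : ↥K) : frobK hn hK k = k ^ Fintype.card F := rfl

theorem pow_card_pow_eq (hn : 0 < n) (hK : IsFieldSubalgebra n K) (k : ↥K) :
    k ^ (Fintype.card F ^ n) = k := by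
  classical
  haveI := isDomain hK hn
  haveI := finiteDimensional hK hn
  haveI : Finite ↥K := Module.finite_of_finite F
  letI : Fintype ↥K := Fintype.ofFinite _
  have hc : Fintype.card ↥K = Fintype.card F ^ n := by
    rw [Module.card_eq_pow_finrank (K := F) (V := ↥K), hK.finrank_eq]
  letI := Fintype.divisionRingOfIsDomain ↥K
  rw [← hc]
  exact FiniteField.pow_card k

theorem exists_nonscalar (hn : 1 < n) (hK : IsFieldSubalgebra n K) :
    ∃ k0 : ↥K, ∀ c : F, k0 ≠ algebraMap F ↥K c := by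
  by_contra h
  push Not at h
  have h1 : finrank F ↥K ≤ 1 := by
    apply finrank_le_one (1 : ↥K)
    intro k
    obtain ⟨c, hc⟩ := h k
    exact ⟨c, by rw [hc, Algebra.algebraMap_eq_smul_one]⟩
  rw [hK.finrank_eq] at h1
  omega

theorem frob_ne_of_nonscalar (hn : 0 < n) (hK : IsFieldSubalgebra n K) (k0 : ↥K)
    (hk0 : ∀ c : F, k0 ≠ algebraMap F ↥K c) : k0 ^ Fintype.card F ≠ k0 := by
  intro hfix
  haveI := isDomain hK hn
  haveI := finiteDimensional hK hn
  have hint : IsIntegral F k0 := IsIntegral.of_finite F k0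
  have hirr : Irreducible (minpoly F k0) := minpoly.irreducible hint
  have hq1 : 1 < Fintype.card F := Fintype.one_lt_card
  have hae : aeval k0 (X ^ Fintype.card F - X : F[X]) = 0 := by
    rw [map_sub, map_pow, aeval_X, hfix, sub_self]
  have hdvd : minpoly F k0 ∣ (X ^ Fintype.card F - X : F[X]) := minpoly.dvd F k0 hae
  have hne : (X ^ Fintype.card F - X : F[X]) ≠ 0 := FiniteField.X_pow_card_sub_X_ne_zero F hq1
  have hsplit : (X ^ Fintype.card F - X : F[X]).Splits := by
    rw [splits_iff_card_roots, FiniteField.roots_X_pow_card_sub_X,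
      FiniteField.X_pow_card_sub_X_natDegree_eq F hq1]
    rfl
  have hdeg : (minpoly F k0).natDegree = 1 :=
    (hsplit.of_dvd hne hdvd).natDegree_eq_one_of_irreducible hirr
  obtain ⟨c, hc⟩ := (minpoly.natDegree_eq_one_iff).mp hdeg
  exact hk0 c hc.symm

/-- **The Frobenius element.** -/
theorem exists_frobenius {p : ℕ} [Fact p.Prime] [CharP F p] (hn : n.Prime)
    (hK : IsFieldSubalgebra n K) :
    ∃ s : GL (Fin n) F, s ∈ subalgebraNormalizer K ∧ s ^ n = 1 ∧ s ≠ 1 := by
  classical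
  have hnpos := hn.pos
  haveI : NeZero n := ⟨hnpos.ne'⟩
  let w : Fin n → F := Pi.single 0 1
  have hw : w ≠ 0 := by
    intro h
    have := congrFun h 0
    simp [w] at this
  let e : ↥K ≃ₗ[F] (Fin n → F) :=
    LinearEquiv.ofBijective (evW K w) ⟨evW_injective hK hw, evW_surjective hK hnpos hw⟩
  have he : ∀ k : ↥K, e k = k.1 *ᵥ w := fun k => rfl
  let Fr : ↥K →ₗ[F] ↥K := frobK hnpos hK
  have hFr : ∀ k : ↥K, Fr k = k ^ Fintype.card F := fun k => rfl
  let sL : (Fin n → F) →ₗ[F] (Fin n → F) := e.toLinearMap ∘ₗ Fr ∘ₗ e.symm.toLinearMap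
  have hsL : ∀ k : ↥K, sL (e k) = e (k ^ Fintype.card F) := by
    intro k
    show e (Fr (e.symm (e k))) = _
    rw [e.symm_apply_apply, hFr]
  have hkey : ∀ (k : ↥K) (v : Fin n → F),
      sL (k.1 *ᵥ v) = (k ^ Fintype.card F).1 *ᵥ sL v := by
    intro k v
    obtain ⟨k', rfl⟩ := e.surjective v
    have h1 : k.1 *ᵥ e k' = e (k * k') := by
      rw [he, he]
      show _ = (k.1 * k'.1) *ᵥ w
      rw [mulVec_mulVec]
    rw [h1, hsL, hsL, he, he, mulVec_mulVec]
    congr 1
    show (k.1 * k'.1) ^ Fintype.card F = k.1 ^ Fintype.card F * k'.1 ^ Fintype.card F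
    exact Commute.mul_pow (hK.comm k.1 k.2 k'.1 k'.2) _
  have hpow : ∀ (j : ℕ) (k : ↥K), (sL ^ j) (e k) = e (k ^ (Fintype.card F ^ j)) := by
    intro j
    induction j with
    | zero => intro k; simp
    | succ j ih =>
      intro k
      rw [pow_succ', Module.End.mul_apply, ih, hsL, ← pow_mul, ← pow_succ]
  have hsLn : sL ^ n = 1 := by
    apply LinearMap.ext
    intro v
    obtain ⟨k, rfl⟩ := e.surjective v
    rw [hpow, pow_card_pow_eq hnpos hK, Module.End.one_apply]
  have hsL1 : sL ≠ 1 := by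
    intro h1
    obtain ⟨k0, hk0⟩ := exists_nonscalar hn.one_lt hK
    apply frob_ne_of_nonscalar hnpos hK k0 hk0
    apply e.injective
    rw [← hsL, h1, Module.End.one_apply]
  let S : Matrix (Fin n) (Fin n) F := LinearMap.toMatrixAlgEquiv' sL
  have hSv : ∀ v, S *ᵥ v = sL v := by
    intro v
    rw [← Matrix.toLin'_apply]
    show Matrix.toLin' (LinearMap.toMatrix' sL) v = sL v
    rw [Matrix.toLin'_toMatrix']
  have hSn : S ^ n = 1 := by
    show (LinearMap.toMatrixAlgEquiv' sL) ^ n = 1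
    rw [← map_pow, hsLn, map_one]
  have hS1 : S ≠ 1 := by
    intro h
    apply hsL1
    apply (LinearMap.toMatrixAlgEquiv' (R := F) (n := Fin n)).injective
    rw [map_one]
    exact h
  have hSk : ∀ k : ↥K, S * k.1 = (k ^ Fintype.card F).1 * S := by
    intro k
    apply Matrix.toLin'.injective
    apply LinearMap.ext
    intro v
    rw [Matrix.toLin'_mul, Matrix.toLin'_mul, LinearMap.comp_apply, LinearMap.comp_apply,
      Matrix.toLin'_apply, Matrix.toLin'_apply, Matrix.toLin'_apply, Matrix.toLin'_apply,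
      hSv, hSv]
    exact hkey k v
  obtain ⟨m, hm⟩ : ∃ m, n = m + 1 := ⟨n - 1, by omega⟩
  have hSS : S * S ^ m = 1 := by rw [← pow_succ', ← hm, hSn]
  have hSS' : S ^ m * S = 1 := by rw [← pow_succ, ← hm, hSn]
  let s : GL (Fin n) F := ⟨S, S ^ m, hSS, hSS'⟩
  have hsval : s.1 = S := rfl
  have hsinv : (s⁻¹ : GL (Fin n) F).1 = S ^ m := rfl
  have hsn : s ^ n = 1 := by
    apply Units.ext
    rw [Units.val_pow_eq_pow_val, hsval, hSn, Units.val_one]
  refine ⟨s, ?_, hsn, ?_⟩
  · apply mem_normalizer_of_pow_eq_one s m (by rw [← hm]; exact hsn)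
    intro k hk
    rw [hsval, hsinv]
    have := hSk ⟨k, hk⟩
    simp only at this
    rw [this, Matrix.mul_assoc, hSS, mul_one]
    exact (⟨k, hk⟩ ^ Fintype.card F : ↥K).2
  · intro h
    apply hS1
    rw [← hsval, h, Units.val_one]

end Cfsg.Agent.Helper59.FieldSub
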