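import Mathlib
import Cfsg.Prelude.Def_GeometricClasses
import Cfsg.Agent.Helper59.FieldSubA
import Cfsg.Agent.Helper59.FieldSubE

set_option autoImplicit false

/-! The Frobenius element of the normaliser of a field subalgebra, with its action on `K`. -/

namespace Cfsg.Agent.Helper59.FieldSub

open Module Matrix Polynomial
open Cfsg.Geo

variable {F : Type*} [Field F] [Fintype F] {n : ℕ} {K : Subalgebra F (Matrix (Fin n) (Fin n) F)}

/-- **The Frobenius element.** -/
theorem exists_frobenius_strong {p : ℕ} [Fact p.Prime] [CharP F p] (hn : n.Prime)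
    (hK : IsFieldSubalgebra n K) :
    ∃ s : GL (Fin n) F, s ∈ subalgebraNormalizer K ∧ s ^ n = 1 ∧
      (∀ k : ↥K, s.1 * k.1 = (k ^ Fintype.card F).1 * s.1) := by
  classical
  have hnpos := hn.pos
  haveI : NeZero n := ⟨hnpos.ne'⟩
  let w : Fin n → F := Pi.single 0 1
  have hw : w ≠ 0 := by
    intro h
    have := congrFun h 0
    simp [w] at this
  let e : ↥K ≃ₗ[F] (Fin n → F) :=
    LinearEquiv.ofBijective (evW K w) ⟨evW_injective hK hw, evW_surjective hK hnpos hw⟩
  have he : ∀ k : ↥K, e k = k.1 *ᵥ w := fun k => rfl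
  let Fr : ↥K →ₗ[F] ↥K := frobK hnpos hK
  have hFr : ∀ k : ↥K, Fr k = k ^ Fintype.card F := fun k => rfl
  let sL : (Fin n → F) →ₗ[F] (Fin n → F) := e.toLinearMap ∘ₗ Fr ∘ₗ e.symm.toLinearMap
  have hsL : ∀ k : ↥K, sL (e k) = e (k ^ Fintype.card F) := by
    intro k
    show e (Fr (e.symm (e k))) = _
    rw [e.symm_apply_apply, hFr]
  have hkey : ∀ (k : ↥K) (v : Fin n → F),
      sL (k.1 *ᵥ v) = (k ^ Fintype.card F).1 *ᵥ sL v := by
    intro k v
    obtain ⟨k', rfl⟩ := e.surjective v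
    have h1 : k.1 *ᵥ e k' = e (k * k') := by
      rw [he, he]
      show _ = (k.1 * k'.1) *ᵥ w
      rw [mulVec_mulVec]
    rw [h1, hsL, hsL, he, he, mulVec_mulVec]
    congr 1
    show (k.1 * k'.1) ^ Fintype.card F = k.1 ^ Fintype.card F * k'.1 ^ Fintype.card F
    exact Commute.mul_pow (hK.comm k.1 k.2 k'.1 k'.2) _
  have hpow : ∀ (j : ℕ) (k : ↥K), (sL ^ j) (e k) = e (k ^ (Fintype.card F ^ j)) := by
    intro j
    induction j with
    | zero => intro k; simp
    | succ j ih =>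
      intro k
      rw [pow_succ', Module.End.mul_apply, ih, hsL, ← pow_mul, ← pow_succ]
  have hsLn : sL ^ n = 1 := by
    apply LinearMap.ext
    intro v
    obtain ⟨k, rfl⟩ := e.surjective v
    rw [hpow, pow_card_pow_eq hnpos hK, Module.End.one_apply]
  have hsL1 : sL ≠ 1 := by
    intro h1
    obtain ⟨k0, hk0⟩ := exists_nonscalar hn.one_lt hK
    apply frob_ne_of_nonscalar hnpos hK k0 hk0
    apply e.injective
    rw [← hsL, h1, Module.End.one_apply]
  let S : Matrix (Fin n) (Fin n) F := LinearMap.toMatrixAlgEquiv' sL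
  have hSv : ∀ v, S *ᵥ v = sL v := by
    intro v
    rw [← Matrix.toLin'_apply]
    show Matrix.toLin' (LinearMap.toMatrix' sL) v = sL v
    rw [Matrix.toLin'_toMatrix']
  have hSn : S ^ n = 1 := by
    show (LinearMap.toMatrixAlgEquiv' sL) ^ n = 1
    rw [← map_pow, hsLn, map_one]
  have hS1 : S ≠ 1 := by
    intro h
    apply hsL1
    apply (LinearMap.toMatrixAlgEquiv' (R := F) (n := Fin n)).injective
    rw [map_one]
    exact h
  have hSk : ∀ k : ↥K, S * k.1 = (k ^ Fintype.card F).1 * S := by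
    intro k
    apply Matrix.toLin'.injective
    apply LinearMap.ext
    intro v
    rw [Matrix.toLin'_mul, Matrix.toLin'_mul, LinearMap.comp_apply, LinearMap.comp_apply,
      Matrix.toLin'_apply, Matrix.toLin'_apply, Matrix.toLin'_apply, Matrix.toLin'_apply,
      hSv, hSv]
    exact hkey k v
  obtain ⟨m, hm⟩ : ∃ m, n = m + 1 := ⟨n - 1, by omega⟩
  have hSS : S * S ^ m = 1 := by rw [← pow_succ', ← hm, hSn]
  have hSS' : S ^ m * S = 1 := by rw [← pow_succ, ← hm, hSn]
  let s : GL (Fin n) F := ⟨S, S ^ m, hSS, hSS'⟩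
  have hsval : s.1 = S := rfl
  have hsinv : (s⁻¹ : GL (Fin n) F).1 = S ^ m := rfl
  have hsn : s ^ n = 1 := by
    apply Units.ext
    rw [Units.val_pow_eq_pow_val, hsval, hSn, Units.val_one]
  refine ⟨s, ?_, hsn, hSk⟩
  apply mem_normalizer_of_pow_eq_one s m (by rw [← hm]; exact hsn)
  intro k hk
  rw [hsval, hsinv]
  have := hSk ⟨k, hk⟩
  simp only at this
  rw [this, Matrix.mul_assoc, hSS, mul_one]
  exact (⟨k, hk⟩ ^ Fintype.card F : ↥K).2

theorem exists_frobenius_nonscalar {p : ℕ} [Fact p.Prime] [CharP F p] (hn : n.Prime)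
    (hK : IsFieldSubalgebra n K) :
    ∃ s : GL (Fin n) F, s ∈ subalgebraNormalizer K ∧ s ^ n = 1 ∧
      (∀ c : F, s.1 ≠ c • (1 : Matrix (Fin n) (Fin n) F)) := by
  obtain ⟨s, hsN, hsn, hsk⟩ := exists_frobenius_strong hn hK
  refine ⟨s, hsN, hsn, ?_⟩
  intro c hc
  obtain ⟨k0, hk0⟩ := exists_nonscalar hn.one_lt hK
  apply frob_ne_of_nonscalar hn.pos hK k0 hk0
  have h1 := hsk k0
  rw [hc, Matrix.smul_mul, Matrix.mul_smul, one_mul, mul_one] at h1
  have hc0 : c ≠ 0 := by
    rintro rfl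
    have h2 : s.1 = 0 := by rw [hc, zero_smul]
    have h3 : s.1 * (s⁻¹ : GL (Fin n) F).1 = 1 := by
      rw [← Units.val_mul, mul_inv_cancel, Units.val_one]
    rw [h2, zero_mul] at h3
    haveI : Nonempty (Fin n) := ⟨⟨0, hn.pos⟩⟩
    exact zero_ne_one h3
  apply Subtype.ext
  have h4 := congrArg (fun M => c⁻¹ • M) h1
  simp only [smul_smul, inv_mul_cancel₀ hc0, one_smul] at h4
  exact h4.symm

end Cfsg.Agent.Helper59.FieldSub
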