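import Mathlib
import Cfsg.Prelude.Def_GeometricClasses
import Cfsg.Agent.Helper59.FieldSubA
import Cfsg.Agent.Helper59.FieldSubB

set_option autoImplicit false

/-! Field subalgebras of prime degree `n` of the `n × n` matrices: elements of the normaliser
with an eigenspace (for an eigenvalue in `F`) of dimension at least two are scalar. -/

namespace Cfsg.Agent.Helper59.FieldSub

open Module Matrix Polynomial
open Cfsg.Geo

variable {F : Type*} [Field F] {n : ℕ} {K : Subalgebra F (Matrix (Fin n) (Fin n) F)}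

/-- the scalar matrix `c`, as an element of `GL`. -/
def scalarGL (n : ℕ) (c : F) (hc : c ≠ 0) : GL (Fin n) F :=
  ⟨c • 1, c⁻¹ • 1, by rw [Matrix.smul_mul, Matrix.mul_smul, mul_one, smul_smul, mul_inv_cancel₀ hc,
    one_smul], by rw [Matrix.smul_mul, Matrix.mul_smul, mul_one, smul_smul, inv_mul_cancel₀ hc,
    one_smul]⟩

theorem scalarGL_val (c : F) (hc : c ≠ 0) :
    (scalarGL n c hc).1 = c • (1 : Matrix (Fin n) (Fin n) F) := rfl

theorem scalarGL_inv_val (c : F) (hc : c ≠ 0) :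
    ((scalarGL n c hc)⁻¹ : GL (Fin n) F).1 = c⁻¹ • (1 : Matrix (Fin n) (Fin n) F) := rfl

theorem scalarGL_mem_normalizer (c : F) (hc : c ≠ 0) :
    scalarGL n c hc ∈ subalgebraNormalizer K := by
  change ∀ k : Matrix (Fin n) (Fin n) F, k ∈ K ↔
    (scalarGL n c hc).1 * k * ((scalarGL n c hc)⁻¹ : GL (Fin n) F).1 ∈ K
  intro k
  rw [scalarGL_val, scalarGL_inv_val, Matrix.smul_mul, Matrix.mul_smul, one_mul, mul_one,
    smul_smul, inv_mul_cancel₀ hc, one_smul]

/-- **Lemma N'** : two independent eigenvectors for the same eigenvalue. -/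
theorem eq_smul_one_of_mem_normalizer (hn : n.Prime) (hK : IsFieldSubalgebra n K)
    (y : GL (Fin n) F) (hy : y ∈ subalgebraNormalizer K) (c : F) (hc : c ≠ 0)
    (w1 w2 : Fin n → F) (h1 : y.1 *ᵥ w1 = c • w1) (h2 : y.1 *ᵥ w2 = c • w2) (hw1 : w1 ≠ 0)
    (hind : ∀ a : F, w2 ≠ a • w1) : y.1 = c • (1 : Matrix (Fin n) (Fin n) F) := by
  have hc' : c⁻¹ ≠ 0 := inv_ne_zero hc
  have hy' : scalarGL n c⁻¹ hc' * y ∈ subalgebraNormalizer K :=
    Subgroup.mul_mem _ (scalarGL_mem_normalizer c⁻¹ hc') hy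
  have hval : (scalarGL n c⁻¹ hc' * y).1 = c⁻¹ • y.1 := by
    rw [Units.val_mul, scalarGL_val, Matrix.smul_mul, one_mul]
  have e1 : (scalarGL n c⁻¹ hc' * y).1 *ᵥ w1 = w1 := by
    rw [hval, Matrix.smul_mulVec, h1, smul_smul, inv_mul_cancel₀ hc, one_smul]
  have e2 : (scalarGL n c⁻¹ hc' * y).1 *ᵥ w2 = w2 := by
    rw [hval, Matrix.smul_mulVec, h2, smul_smul, inv_mul_cancel₀ hc, one_smul]
  have h3 := eq_one_of_mem_normalizer hn hK _ hy' w1 w2 e1 e2 hw1 hind
  have h4 : c⁻¹ • y.1 = 1 := by rw [← hval, h3, Units.val_one]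
  have h5 := congrArg (fun M => c • M) h4
  simp only [smul_smul, mul_inv_cancel₀ hc, one_smul] at h5
  exact h5

/-- **Lemma N''** : an eigenspace of dimension at least two. -/
theorem eq_smul_one_of_two_le_finrank_ker (hn : n.Prime) (hK : IsFieldSubalgebra n K)
    (y : GL (Fin n) F) (hy : y ∈ subalgebraNormalizer K) (c : F) (hc : c ≠ 0)
    (h2 : 2 ≤ finrank F (LinearMap.ker (Matrix.toLin' y.1 - c • (1 : (Fin n → F) →ₗ[F] _)))) :
    y.1 = c • (1 : Matrix (Fin n) (Fin n) F) := by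
  have hc' : c⁻¹ ≠ 0 := inv_ne_zero hc
  have hy' : scalarGL n c⁻¹ hc' * y ∈ subalgebraNormalizer K :=
    Subgroup.mul_mem _ (scalarGL_mem_normalizer c⁻¹ hc') hy
  have hval : (scalarGL n c⁻¹ hc' * y).1 = c⁻¹ • y.1 := by
    rw [Units.val_mul, scalarGL_val, Matrix.smul_mul, one_mul]
  have hker : LinearMap.ker (Matrix.toLin' (scalarGL n c⁻¹ hc' * y).1 - 1)
      = LinearMap.ker (Matrix.toLin' y.1 - c • (1 : (Fin n → F) →ₗ[F] _)) := by
    ext v
    rw [LinearMap.mem_ker, LinearMap.mem_ker, LinearMap.sub_apply, LinearMap.sub_apply,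
      Matrix.toLin'_apply, Matrix.toLin'_apply, hval, Matrix.smul_mulVec, LinearMap.smul_apply,
      Module.End.one_apply, sub_eq_zero, sub_eq_zero]
    constructor
    · intro h
      have := congrArg (fun u => c • u) h
      simp only [smul_smul, mul_inv_cancel₀ hc, one_smul] at this
      exact this
    · intro h
      rw [h, smul_smul, inv_mul_cancel₀ hc, one_smul]
  have h3 := eq_one_of_two_le_finrank_ker hn hK _ hy' (by rw [hker]; exact h2)
  have h4 : c⁻¹ • y.1 = 1 := by rw [← hval, h3, Units.val_one]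
  have h5 := congrArg (fun M => c • M) h4
  simp only [smul_smul, mul_inv_cancel₀ hc, one_smul] at h5
  exact h5

/-- an element of `SL_n` with two independent eigenvectors for the same eigenvalue, not scalar,
is not conjugate into the normaliser of `K`. -/
theorem not_conj_of_two_eigen (hn : n.Prime) (hK : IsFieldSubalgebra n K)
    (x : Matrix.SpecialLinearGroup (Fin n) F) (c : F) (hc : c ≠ 0)
    (w1 w2 : Fin n → F) (h1 : x.1 *ᵥ w1 = c • w1) (h2 : x.1 *ᵥ w2 = c • w2) (hw1 : w1 ≠ 0)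
    (hind : ∀ a : F, w2 ≠ a • w1) (hx : x.1 ≠ c • (1 : Matrix (Fin n) (Fin n) F))
    (P : Matrix.SpecialLinearGroup (Fin n) F) :
    P⁻¹ * x * P ∉ ((subalgebraNormalizer K).comap
        (Matrix.SpecialLinearGroup.toGL : Matrix.SpecialLinearGroup (Fin n) F →* GL (Fin n) F)) := by
  intro hmem
  rw [Subgroup.mem_comap] at hmem
  have hyval : ((Matrix.SpecialLinearGroup.toGL (P⁻¹ * x * P) : GL (Fin n) F) :
      Matrix (Fin n) (Fin n) F) = (P⁻¹).1 * x.1 * P.1 := rfl
  have hPinv : (P⁻¹).1 * P.1 = 1 := by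
    rw [← Matrix.SpecialLinearGroup.coe_mul, inv_mul_cancel, Matrix.SpecialLinearGroup.coe_one]
  have hPinv' : P.1 * (P⁻¹).1 = 1 := by
    rw [← Matrix.SpecialLinearGroup.coe_mul, mul_inv_cancel, Matrix.SpecialLinearGroup.coe_one]
  have hev : ∀ w : Fin n → F, x.1 *ᵥ w = c • w →
      ((Matrix.SpecialLinearGroup.toGL (P⁻¹ * x * P) : GL (Fin n) F) :
      Matrix (Fin n) (Fin n) F) *ᵥ ((P⁻¹).1 *ᵥ w) = c • ((P⁻¹).1 *ᵥ w) := by
    intro w hw
    rw [hyval, Matrix.mulVec_mulVec, Matrix.mul_assoc, Matrix.mul_assoc, hPinv', mul_one,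
      ← Matrix.mulVec_mulVec, hw, Matrix.mulVec_smul]
  have hinj : ∀ w : Fin n → F, (P⁻¹).1 *ᵥ w = 0 → w = 0 := by
    intro w hw
    have : P.1 *ᵥ ((P⁻¹).1 *ᵥ w) = w := by rw [Matrix.mulVec_mulVec, hPinv', Matrix.one_mulVec]
    rw [← this, hw, Matrix.mulVec_zero]
  have h3 := eq_smul_one_of_mem_normalizer hn hK _ hmem c hc ((P⁻¹).1 *ᵥ w1) ((P⁻¹).1 *ᵥ w2)
    (hev w1 h1) (hev w2 h2) (fun h => hw1 (hinj w1 h)) (by
      intro a ha
      apply hind a
      have : (P⁻¹).1 *ᵥ (w2 - a • w1) = 0 := by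
        rw [Matrix.mulVec_sub, Matrix.mulVec_smul, ha, sub_self]
      exact sub_eq_zero.mp (hinj _ this))
  apply hx
  rw [hyval] at h3
  calc x.1 = P.1 * ((P⁻¹).1 * x.1 * P.1) * (P⁻¹).1 := by
        simp only [Matrix.mul_assoc]
        rw [hPinv', mul_one, ← Matrix.mul_assoc, hPinv', one_mul]
    _ = c • 1 := by
        rw [h3, Matrix.mul_smul, mul_one, Matrix.smul_mul, hPinv']

end Cfsg.Agent.Helper59.FieldSub
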