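import Mathlib
import Cfsg.Prelude.Def_GeometricClasses
import Cfsg.Agent.Helper5.Card
import Cfsg.Agent.Helper59.FieldSubB
import Cfsg.Agent.Helper59.FieldSubH
import Cfsg.Agent.Helper59.FieldSubI

set_option autoImplicit false

/-! `SL_3(q)` and the normaliser of a cubic field subalgebra: arithmetic and witnesses. -/

namespace Cfsg.Agent.Helper59.FieldSub

open Module Matrix Polynomial
open Cfsg.Geo Cfsg.Agent.Helper59.Elusive

variable {F : Type*} [Field F] [Fintype F]

theorem exists_orderOf_eq (m : ℕ) (hm : m ∣ Fintype.card F - 1) : ∃ c : F, orderOf c = m := by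
  classical
  have hq : 1 < Fintype.card F := Fintype.one_lt_card
  have hm0 : m ≠ 0 := by
    rintro rfl
    have := zero_dvd_iff.mp hm
    omega
  obtain ⟨g, hg⟩ := IsCyclic.exists_generator (α := Fˣ)
  have hord : orderOf g = Fintype.card F - 1 := by
    rw [orderOf_eq_card_of_forall_mem_zpowers hg, Nat.card_eq_fintype_card, Fintype.card_units]
  obtain ⟨t, ht⟩ := hm
  have ht0 : t ≠ 0 := by
    rintro rfl
    omega
  refine ⟨((g ^ t : Fˣ) : F), ?_⟩
  rw [orderOf_units, orderOf_pow_of_dvd ht0 (by rw [hord, ht]; exact dvd_mul_left t m), hord, ht,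
    Nat.mul_div_cancel _ (Nat.pos_of_ne_zero ht0)]

theorem not_cube (h9 : ¬ 9 ∣ Fintype.card F - 1) (z : F) (hz1 : z ≠ 1) (hz3 : z ^ 3 = 1) :
    ∀ b : F, b ^ 3 ≠ z := by
  intro b hb
  apply h9
  haveI : Fact (Nat.Prime 3) := ⟨Nat.prime_three⟩
  have h1 : ¬ b ^ 3 ^ 1 = 1 := by rw [pow_one, hb]; exact hz1
  have h2 : b ^ 3 ^ (1 + 1) = 1 := by
    rw [show 3 ^ (1 + 1) = 3 * 3 by norm_num, pow_mul, hb, hz3]
  have hord : orderOf b = 3 ^ (1 + 1) := orderOf_eq_prime_pow h1 h2
  have hb0 : b ≠ 0 := by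
    rintro rfl
    rw [zero_pow (by norm_num)] at h2
    exact zero_ne_one h2
  have h3 : b ^ (Fintype.card F - 1) = 1 := FiniteField.pow_card_sub_one_eq_one b hb0
  have := orderOf_dvd_of_pow_eq_one h3
  rwa [hord] at this

omit [Fintype F] in
theorem det_of_cube_eq (x : Matrix (Fin 3) (Fin 3) F) (z : F)
    (hx : x ^ 3 = z • (1 : Matrix (Fin 3) (Fin 3) F))
    (hirr : Irreducible (X ^ 3 - C z : F[X])) : x.det = z := by
  have hmonic : (X ^ 3 - C z : F[X]).Monic := monic_X_pow_sub_C z (by norm_num)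
  have hae : aeval x (X ^ 3 - C z : F[X]) = 0 := by
    rw [map_sub, map_pow, aeval_X, aeval_C, hx, Algebra.algebraMap_eq_smul_one, sub_self]
  have hmin : (X ^ 3 - C z : F[X]) = minpoly F x :=
    minpoly.eq_of_irreducible_of_monic hirr hae hmonic
  have hdvd : (X ^ 3 - C z : F[X]) ∣ x.charpoly := by
    rw [hmin]
    exact Matrix.minpoly_dvd_charpoly x
  have hchar : x.charpoly = X ^ 3 - C z :=
    eq_of_monic_of_dvd_of_natDegree_le hmonic (Matrix.charpoly_monic x) hdvd
      (by rw [Matrix.charpoly_natDegree_eq_dim, Fintype.card_fin, natDegree_X_pow_sub_C])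
  rw [Matrix.det_eq_sign_charpoly_coeff, hchar, Fintype.card_fin, coeff_sub, coeff_X_pow,
    coeff_C_zero]
  norm_num

variable {K : Subalgebra F (Matrix (Fin 3) (Fin 3) F)}

omit [Fintype F] in
theorem mulVec_diagonal_single (d : Fin 3 → F) (j : Fin 3) :
    Matrix.diagonal d *ᵥ Pi.single j 1 = d j • (Pi.single j 1 : Fin 3 → F) := by
  ext i
  rw [Matrix.mulVec_diagonal, Pi.smul_apply, smul_eq_mul]
  by_cases h : i = j
  · subst h; simp
  · simp [h]

/-- In characteristic `3`, transvections are not conjugate into the normaliser. -/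
theorem not_conjProp_of_char_three [CharP F 3] (hK : IsFieldSubalgebra 3 K) :
    ¬ ConjProp F 3 K := by
  intro H
  have h3 : (3 : F) = 0 := by
    have := CharP.cast_eq_zero F 3
    exact_mod_cast this
  have h01 : (0 : Fin 3) ≠ 1 := by decide
  let x : Matrix.SpecialLinearGroup (Fin 3) F :=
    ⟨Matrix.transvection 0 1 1, Matrix.det_transvection_of_ne 0 1 h01 1⟩
  have hx : x.1 = Matrix.transvection 0 1 1 := rfl
  have hx3 : ((x ^ 3 : Matrix.SpecialLinearGroup (Fin 3) F) : Matrix (Fin 3) (Fin 3) F)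
      = (1 : F) • (1 : Matrix (Fin 3) (Fin 3) F) := by
    rw [Matrix.SpecialLinearGroup.coe_pow, hx, pow_succ, pow_succ, pow_one,
      Matrix.transvection_mul_transvection_same 0 1 h01, Matrix.transvection_mul_transvection_same 0 1 h01,
      show (1 : F) + 1 + 1 = 3 by norm_num, h3, Matrix.transvection_zero, one_smul]
  have hentry : x.1 0 1 = 1 := by
    rw [hx, Matrix.transvection]
    simp
  have hns : ∀ z : F, x.1 ≠ z • (1 : Matrix (Fin 3) (Fin 3) F) := by
    intro z hz
    have := congrFun (congrFun hz 0) 1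
    rw [hentry] at this
    simp at this
  obtain ⟨P, hP⟩ := H x ⟨1, hx3⟩ hns
  have hv : ∀ j : Fin 3, j ≠ 1 →
      x.1 *ᵥ (Pi.single j 1 : Fin 3 → F) = (1 : F) • (Pi.single j 1 : Fin 3 → F) := by
    intro j hj
    rw [hx, Matrix.transvection, Matrix.add_mulVec, Matrix.one_mulVec, Matrix.single_mulVec,
      one_smul]
    simp [hj]
  refine not_conj_of_two_eigen Nat.prime_three hK x 1 one_ne_zero (Pi.single 0 1) (Pi.single 2 1)
    (hv 0 (by decide)) (hv 2 (by decide)) ?_ ?_ (hns 1) P hP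
  · intro h
    have := congrFun h 0
    simp at this
  · intro a ha
    have := congrFun ha 2
    simp at this

/-- If `9 ∣ q - 1`, some element of order `3` of `PSL_3(q)` is not conjugate into the
normaliser. -/
theorem not_conjProp_of_nine_dvd (hK : IsFieldSubalgebra 3 K) (h9 : 9 ∣ Fintype.card F - 1) :
    ¬ ConjProp F 3 K := by
  intro H
  obtain ⟨c, hc⟩ := exists_orderOf_eq (F := F) 9 h9
  have hc9 : c ^ 9 = 1 := by rw [← hc]; exact pow_orderOf_eq_one c
  have hc3 : c ^ 3 ≠ 1 := pow_ne_one_of_lt_orderOf (by norm_num) (by rw [hc]; norm_num)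
  have hc0 : c ≠ 0 := by
    rintro rfl
    rw [zero_pow (by norm_num)] at hc9
    exact zero_ne_one hc9
  have hc71 : c ^ 7 ≠ c := by
    intro h
    apply hc3
    have h6 : c ^ 6 = 1 := by
      have : c * c ^ 6 = c * 1 := by rw [mul_one, ← pow_succ', h]
      exact mul_left_cancel₀ hc0 this
    calc c ^ 3 = c ^ 6 * c ^ 3 := by rw [h6, one_mul]
      _ = c ^ 9 := by ring
      _ = 1 := hc9
  let d : Fin 3 → F := ![c, c, c ^ 7]
  let x : Matrix.SpecialLinearGroup (Fin 3) F := ⟨Matrix.diagonal d, by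
    rw [Matrix.det_diagonal, Fin.prod_univ_three]
    show c * c * c ^ 7 = 1
    rw [← hc9]; ring⟩
  have hx : x.1 = Matrix.diagonal d := rfl
  have hx3 : ((x ^ 3 : Matrix.SpecialLinearGroup (Fin 3) F) : Matrix (Fin 3) (Fin 3) F)
      = (c ^ 3) • (1 : Matrix (Fin 3) (Fin 3) F) := by
    rw [Matrix.SpecialLinearGroup.coe_pow, hx, Matrix.diagonal_pow, ← Matrix.diagonal_one,
      ← Matrix.diagonal_smul]
    congr 1
    funext j
    fin_cases j
    · simp [d]
    · simp [d]
    · simp only [d, Pi.pow_apply, Pi.smul_apply, smul_eq_mul, mul_one]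
      show (c ^ 7) ^ 3 = c ^ 3
      calc (c ^ 7) ^ 3 = (c ^ 9) ^ 2 * c ^ 3 := by ring
        _ = c ^ 3 := by rw [hc9, one_pow, one_mul]
  have hns : ∀ z : F, x.1 ≠ z • (1 : Matrix (Fin 3) (Fin 3) F) := by
    intro z hz
    have h0 := congrFun (congrFun hz 0) 0
    have h2 := congrFun (congrFun hz 2) 2
    rw [hx] at h0 h2
    simp [d] at h0 h2
    exact hc71 (h2.trans h0.symm)
  obtain ⟨P, hP⟩ := H x ⟨c ^ 3, hx3⟩ hns
  have hv : ∀ j : Fin 3, x.1 *ᵥ (Pi.single j 1 : Fin 3 → F) = d j • (Pi.single j 1 : Fin 3 → F) :=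
    fun j => mulVec_diagonal_single d j
  refine not_conj_of_two_eigen Nat.prime_three hK x c hc0 (Pi.single 0 1) (Pi.single 1 1)
    (hv 0) (hv 1) ?_ ?_ (hns c) P hP
  · intro h
    have := congrFun h 0
    simp at this
  · intro a ha
    have := congrFun ha 1
    simp at this

/-- If `q ≡ 2, 5 mod 9` the index of the normaliser in `SL_3(q)` is prime to `3`. -/
theorem not_dvd_index {p : ℕ} [Fact p.Prime] [CharP F p] (hK : IsFieldSubalgebra 3 K)
    (hq : Fintype.card F % 9 = 2 ∨ Fintype.card F % 9 = 5) :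
    ¬ 3 ∣ ((subalgebraNormalizer K).comap (Matrix.SpecialLinearGroup.toGL :
      Matrix.SpecialLinearGroup (Fin 3) F →* GL (Fin 3) F)).index := by
  classical
  intro hΩ
  obtain ⟨s, hsN, hs3, hsns⟩ := exists_frobenius_nonscalar Nat.prime_three hK
  have hcop : Nat.Coprime 3 (Fintype.card F - 1) := by
    rw [Nat.Prime.coprime_iff_not_dvd Nat.prime_three]
    omega
  have hdet : s.1.det = 1 := by
    apply eq_one_of_pow_eq_one_of_coprime 3 (by norm_num) hcop
    rw [← Matrix.det_pow, ← Units.val_pow_eq_pow_val, hs3, Units.val_one, Matrix.det_one]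
  let s' : Matrix.SpecialLinearGroup (Fin 3) F := ⟨s.1, hdet⟩
  have hs' : Matrix.SpecialLinearGroup.toGL s' = s := Units.ext rfl
  have hmem : s' ∈ ((subalgebraNormalizer K).comap (Matrix.SpecialLinearGroup.toGL :
      Matrix.SpecialLinearGroup (Fin 3) F →* GL (Fin 3) F)) := by
    rw [Subgroup.mem_comap, hs']
    exact hsN
  have hs'3 : s' ^ 3 = 1 := by
    apply Matrix.SpecialLinearGroup.toGL_injective
    rw [map_pow, hs', hs3, map_one]
  have hs'1 : s' ≠ 1 := by
    intro h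
    apply hsns 1
    rw [one_smul]
    show s'.1 = 1
    rw [h]
    rfl
  haveI : Fact (Nat.Prime 3) := ⟨Nat.prime_three⟩
  have hord : orderOf s' = 3 := orderOf_eq_prime hs'3 hs'1
  have h3H : 3 ∣ Nat.card ((subalgebraNormalizer K).comap (Matrix.SpecialLinearGroup.toGL :
      Matrix.SpecialLinearGroup (Fin 3) F →* GL (Fin 3) F)) := by
    have := Subgroup.orderOf_dvd_natCard _ hmem
    rwa [hord] at this
  have hmul := Subgroup.index_mul_card ((subalgebraNormalizer K).comap
    (Matrix.SpecialLinearGroup.toGL : Matrix.SpecialLinearGroup (Fin 3) F →* GL (Fin 3) F))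
  have h9 : 9 ∣ Nat.card (Matrix.SpecialLinearGroup (Fin 3) F) := by
    rw [← hmul]
    exact Nat.mul_dvd_mul hΩ h3H
  have hGL := Cfsg.Agent.Helper5.card_GL_eq_card_SL_mul (n := Fin 3) (F := F)
  rw [Matrix.card_GL_field, Fin.prod_univ_three] at hGL
  have h9' : 9 ∣ (Fintype.card F ^ 3 - Fintype.card F ^ ((0 : Fin 3) : ℕ)) *
      (Fintype.card F ^ 3 - Fintype.card F ^ ((1 : Fin 3) : ℕ)) *
      (Fintype.card F ^ 3 - Fintype.card F ^ ((2 : Fin 3) : ℕ)) := by
    rw [hGL]
    exact Dvd.dvd.mul_right h9 _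
  have hq1 : 1 ≤ Fintype.card F := Fintype.card_pos
  generalize Fintype.card F = q at *
  have e0 : q ^ ((0 : Fin 3) : ℕ) ≤ q ^ 3 := Nat.pow_le_pow_right hq1 (by decide)
  have e1 : q ^ ((1 : Fin 3) : ℕ) ≤ q ^ 3 := Nat.pow_le_pow_right hq1 (by decide)
  have e2 : q ^ ((2 : Fin 3) : ℕ) ≤ q ^ 3 := Nat.pow_le_pow_right hq1 (by decide)
  rw [← ZMod.natCast_eq_zero_iff, Nat.cast_mul, Nat.cast_mul, Nat.cast_sub e0, Nat.cast_sub e1,
    Nat.cast_sub e2] at h9'
  simp only [Nat.cast_pow] at h9'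
  rcases hq with hq | hq
  · have : ((q : ℕ) : ZMod 9) = 2 := by
      rw [← ZMod.natCast_mod, hq]; rfl
    rw [this] at h9'
    revert h9'
    decide
  · have : ((q : ℕ) : ZMod 9) = 5 := by
      rw [← ZMod.natCast_mod, hq]; rfl
    rw [this] at h9'
    revert h9'
    decide

end Cfsg.Agent.Helper59.FieldSub
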