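import Mathlib
import Cfsg.Prelude.Def_GeometricClasses
import Cfsg.Agent.Helper59.ExtraH
import Cfsg.Agent.Helper59.FieldSubL

set_option autoImplicit false

/-! Elements with scalar square or cube are conjugate into the normaliser of the standard group,
by a matrix of prescribed determinant. -/

namespace Cfsg.Agent.Helper59.Extra

open Module Matrix Polynomial
open Cfsg.Geo

variable {F : Type*} [Field F]

/-- diagonalisation of an involution. -/
theorem exists_diag_sq {n : ℕ} (h2 : (2 : F) ≠ 0) (y : Matrix (Fin n) (Fin n) F) (hy : y ^ 2 = 1) :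
    ∃ U : Matrix (Fin n) (Fin n) F, U.det ≠ 0 ∧ ∃ ev : Fin n → F,
      (∀ i, ev i = 1 ∨ ev i = -1) ∧ y * U = U * Matrix.diagonal ev := by
  classical
  have hne : (1 : F) ≠ -1 := by
    intro h
    apply h2
    linear_combination h
  obtain ⟨U, hU, ev, hev, hyU⟩ := exists_diag y (insert (1 : F) {-1}) (by
    rw [Finset.prod_insert (by simpa using hne), Finset.prod_singleton, map_mul, map_sub, map_sub,
      aeval_X, aeval_C, aeval_C, map_one, map_neg, map_one]
    have : (y - 1) * (y - -1) = y ^ 2 - 1 := by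
      rw [sub_neg_eq_add, pow_two]
      noncomm_ring
    rw [this, hy, sub_self])
  refine ⟨U, hU, ev, ?_, hyU⟩
  intro i
  have := hev i
  simpa using this

theorem pattern_cases (ev : Fin 3 → F) (hev : ∀ i, ev i = 1 ∨ ev i = -1) :
    (∀ i, ev i = ev 0) ∨ ∃ (k : Fin 3) (ε : F), (ε = 1 ∨ ε = -1) ∧ ∀ i, ev i = ε * pat F k i := by
  rcases hev 0 with h0 | h0 <;> rcases hev 1 with h1 | h1 <;> rcases hev 2 with h2 | h2
  · left; intro i; fin_cases i <;> simp [h0, h1, h2]
  · right; exact ⟨2, 1, Or.inl rfl, by intro i; fin_cases i <;> simp [pat, h0, h1, h2]⟩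
  · right; exact ⟨1, 1, Or.inl rfl, by intro i; fin_cases i <;> simp [pat, h0, h1, h2]⟩
  · right; exact ⟨0, -1, Or.inr rfl, by intro i; fin_cases i <;> simp [pat, h0, h1, h2]⟩
  · right; exact ⟨0, 1, Or.inl rfl, by intro i; fin_cases i <;> simp [pat, h0, h1, h2]⟩
  · right; exact ⟨1, -1, Or.inr rfl, by intro i; fin_cases i <;> simp [pat, h0, h1, h2]⟩
  · right; exact ⟨2, -1, Or.inr rfl, by intro i; fin_cases i <;> simp [pat, h0, h1, h2]⟩
  · left; intro i; fin_cases i <;> simp [h0, h1, h2]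

variable [Fintype F]

/-- **Involutions.** -/
theorem invol_case {l : F} (hl3 : l ^ 3 = 1) (h2 : (2 : F) ≠ 0) (x : Matrix (Fin 3) (Fin 3) F)
    (hdet : x.det = 1) (z : F) (hz : x * x = z • (1 : Matrix (Fin 3) (Fin 3) F))
    (hns : ∀ c : F, x ≠ c • (1 : Matrix (Fin 3) (Fin 3) F)) (δ : F) :
    ∃ M t₀ : Matrix (Fin 3) (Fin 3) F, M.det = δ ∧ x * M = M * t₀ ∧
      ∀ t : GL (Fin 3) F, t.1 = t₀ → t ∈ Subgroup.normalizer (R0 hl3 : Set (GL (Fin 3) F)) := by
  have hz3 : z ^ 3 = 1 := by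
    have h := congrArg Matrix.det hz
    rw [Matrix.det_mul, hdet, Matrix.det_smul, Matrix.det_one, Fintype.card_fin] at h
    linear_combination -h
  have hz0 : z ≠ 0 := by
    rintro rfl
    simp at hz3
  obtain ⟨c, hc⟩ : ∃ c : F, c ^ 2 = z := ⟨z ^ 2, by linear_combination z * hz3⟩
  have hc0 : c ≠ 0 := by
    rintro rfl
    apply hz0
    rw [← hc]; ring
  set y : Matrix (Fin 3) (Fin 3) F := c⁻¹ • x with hy
  have hy2 : y ^ 2 = 1 := by
    rw [pow_two, hy, Matrix.smul_mul, Matrix.mul_smul, hz, smul_smul, smul_smul, ← hc]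
    have : c⁻¹ * c⁻¹ * c ^ 2 = 1 := by field_simp
    rw [this, one_smul]
  have hxy : x = c • y := by rw [hy, smul_smul, mul_inv_cancel₀ hc0, one_smul]
  obtain ⟨U, hU, ev, hev, hyU⟩ := exists_diag_sq h2 y hy2
  have hUU' : U * U⁻¹ = 1 := Matrix.mul_nonsing_inv U (isUnit_iff_ne_zero.mpr hU)
  have hxU : x * U = U * Matrix.diagonal (fun i => c * ev i) := by
    rw [hxy, Matrix.smul_mul, hyU, ← Matrix.mul_smul]
    congr 1
    ext i j
    by_cases hij : i = j
    · subst hij; simp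
    · simp [hij]
  rcases pattern_cases ev hev with hconst | ⟨k, ε, hε, hpat⟩
  · exfalso
    apply hns (c * ev 0)
    have hd : Matrix.diagonal ev = ev 0 • (1 : Matrix (Fin 3) (Fin 3) F) := by
      ext i j
      by_cases hij : i = j
      · subst hij; simp [hconst i]
      · simp [hij]
    have hy1 : y = ev 0 • (1 : Matrix (Fin 3) (Fin 3) F) := by
      have : y = y * U * U⁻¹ := by rw [Matrix.mul_assoc, hUU', mul_one]
      rw [this, hyU, hd, Matrix.mul_smul, mul_one, Matrix.smul_mul, hUU']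
    rw [hxy, hy1, smul_smul]
  · have hε0 : ε ≠ 0 := by
      rcases hε with h | h <;> rw [h] <;> simp
    obtain ⟨M, hM, hxM⟩ := exists_conj_det x ((c * ε) • Sk F k) U (Wk F k) (fun i => c * ev i)
      hU (det_Wk h2 k) hxU (by
        rw [Matrix.smul_mul, Sk_mul_Wk, ← Matrix.mul_smul]
        congr 1
        ext i j
        by_cases hij : i = j
        · subst hij
          simp [hpat i]
          ring
        · simp [hij]) δ
    refine ⟨M, (c * ε) • Sk F k, hM, hxM, ?_⟩
    intro t ht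
    exact mem_normalizer_of_smul hl3 t (c * ε) (mul_ne_zero hc0 hε0) (Sk F k) ht
      (transp_mem_normalizer hl3 k)

/-- **Elements of order three.** -/
theorem cube_case {l : F} (hl : l ^ 2 + l + 1 = 0) (h3 : (3 : F) ≠ 0) (hl3 : l ^ 3 = 1)
    (x : Matrix (Fin 3) (Fin 3) F) (hdet : x.det = 1) (z : F)
    (hz : x ^ 3 = z • (1 : Matrix (Fin 3) (Fin 3) F)) (c : F) (hc : c ^ 3 = z) (δ : F) :
    ∃ M t₀ : Matrix (Fin 3) (Fin 3) F, M.det = δ ∧ x * M = M * t₀ ∧
      ∀ t : GL (Fin 3) F, t.1 = t₀ → t ∈ Subgroup.normalizer (R0 hl3 : Set (GL (Fin 3) F)) := by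
  have hz3 : z ^ 3 = 1 := by
    have h := congrArg Matrix.det hz
    rw [Matrix.det_pow, hdet, Matrix.det_smul, Matrix.det_one, Fintype.card_fin] at h
    linear_combination -h
  have hz0 : z ≠ 0 := by
    rintro rfl
    simp at hz3
  have hc0 : c ≠ 0 := by
    rintro rfl
    apply hz0
    rw [← hc]; ring
  set y : Matrix (Fin 3) (Fin 3) F := c⁻¹ • x with hy
  have hy3 : y ^ 3 = 1 := by
    rw [hy, _root_.smul_pow, hz, smul_smul, ← hc]
    have : c⁻¹ ^ 3 * c ^ 3 = 1 := by field_simp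
    rw [this, one_smul]
  have hxy : x = c • y := by rw [hy, smul_smul, mul_inv_cancel₀ hc0, one_smul]
  obtain ⟨U, hU, ev, hev, hyU⟩ := exists_diag_cube hl h3 y hy3
  have hdiag : Matrix.diagonal (fun i => c * ev i) = c • Matrix.diagonal ev := by
    ext i j
    by_cases hij : i = j
    · subst hij; simp
    · simp [hij]
  have hxU : x * U = U * Matrix.diagonal (fun i => c * ev i) := by
    rw [hxy, Matrix.smul_mul, hyU, ← Matrix.mul_smul, hdiag]
  obtain ⟨M, hM, hxM⟩ := exists_conj_det x (Matrix.diagonal (fun i => c * ev i)) U 1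
    (fun i => c * ev i) hU (by rw [Matrix.det_one]; exact one_ne_zero) hxU
    (by rw [mul_one, one_mul]) δ
  refine ⟨M, Matrix.diagonal (fun i => c * ev i), hM, hxM, ?_⟩
  intro t ht
  rw [hdiag] at ht
  exact mem_normalizer_of_smul hl3 t c hc0 (Matrix.diagonal ev) ht
    (fun t' ht' => diag_mem_normalizer hl3 t' ev hev ht')

/-- cube roots of cube roots of unity when `9 ∣ q - 1`. -/
theorem exists_cube_root (h9 : 9 ∣ Fintype.card F - 1) (z : F) (hz : z ^ 3 = 1) :
    ∃ c : F, c ^ 3 = z := by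
  obtain ⟨ζ, hζ⟩ := Cfsg.Agent.Helper59.FieldSub.exists_orderOf_eq (F := F) 9 h9
  have h9' : ζ ^ 9 = 1 := by rw [← hζ]; exact pow_orderOf_eq_one ζ
  have hη1 : ζ ^ 3 ≠ 1 := by
    intro h
    have := orderOf_dvd_of_pow_eq_one h
    rw [hζ] at this
    norm_num at this
  have hη : (ζ ^ 3) ^ 2 + ζ ^ 3 + 1 = 0 := by
    have : (ζ ^ 3 - 1) * ((ζ ^ 3) ^ 2 + ζ ^ 3 + 1) = 0 := by linear_combination h9'
    rcases mul_eq_zero.mp this with h | h
    · exact absurd (sub_eq_zero.mp h) hη1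
    · exact h
  have hzf : (z - 1) * (z ^ 2 + z + 1) = 0 := by linear_combination hz
  rcases mul_eq_zero.mp hzf with h | h
  · exact ⟨1, by rw [one_pow]; exact (sub_eq_zero.mp h).symm⟩
  · have : (z - ζ ^ 3) * (z - (ζ ^ 3) ^ 2) = 0 := by
      linear_combination h - z * hη + h9'
    rcases mul_eq_zero.mp this with h' | h'
    · exact ⟨ζ, (sub_eq_zero.mp h').symm⟩
    · refine ⟨ζ ^ 2, ?_⟩
      rw [sub_eq_zero.mp h']
      ring

end Cfsg.Agent.Helper59.Extra
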