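import Mathlib
import Cfsg.Prelude.Def_GeometricClasses
import Cfsg.Agent.Helper5.Card
import Cfsg.Agent.Helper59.ExtraI

set_option autoImplicit false

/-! Transport to an arbitrary extraspecial subgroup; elements of order at least five; the index. -/

namespace Cfsg.Agent.Helper59.Extra

open Module Matrix
open Cfsg.Geo

variable {F : Type*} [Field F]

theorem mem_specialLinear_iff (x : GL (Fin 3) F) :
    x ∈ specialLinear (Fin 3) F ↔ x.1.det = 1 := by
  unfold specialLinear
  rw [MonoidHom.mem_ker, Units.ext_iff, Matrix.GeneralLinearGroup.val_det_apply]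
  rfl

theorem det_ne_zero_of_GL (g : GL (Fin 3) F) : g.1.det ≠ 0 := by
  have h : g.1.det * (g⁻¹ : GL (Fin 3) F).1.det = 1 := by
    rw [← Matrix.det_mul, ← Units.val_mul, mul_inv_cancel, Units.val_one, Matrix.det_one]
  intro h0
  rw [h0, zero_mul] at h
  exact zero_ne_one h

/-- a matrix commuting with `Z` and `X` is a scalar. -/
theorem scalar_of_commute_ZX {l : F} (hl : l ^ 2 + l + 1 = 0) (h3 : (3 : F) ≠ 0)
    (T : Matrix (Fin 3) (Fin 3) F) (hZ : T * Zm l = Zm l * T) (hX : T * Xm F = Xm F * T) :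
    ∃ k : F, T = k • (1 : Matrix (Fin 3) (Fin 3) F) := by
  obtain ⟨l3, l1, l2, l4, l0⟩ := omega_facts hl h3
  have hZd : Zm l = Matrix.diagonal ![1, l, l ^ 2] := by
    rw [diagonal_eq_dg]
    rfl
  have hinj : Function.Injective (![1, l, l ^ 2] : Fin 3 → F) := by
    have h01 : (![1, l, l ^ 2] : Fin 3 → F) 0 ≠ (![1, l, l ^ 2] : Fin 3 → F) 1 := fun h => l1 h.symm
    have h02 : (![1, l, l ^ 2] : Fin 3 → F) 0 ≠ (![1, l, l ^ 2] : Fin 3 → F) 2 := fun h => l2 h.symm
    have h12 : (![1, l, l ^ 2] : Fin 3 → F) 1 ≠ (![1, l, l ^ 2] : Fin 3 → F) 2 := fun h => l4 h.symm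
    intro i j hij
    fin_cases i <;> fin_cases j <;> first | rfl | exact absurd hij h01 | exact absurd hij h02 | exact absurd hij h12 | exact absurd hij.symm h01 | exact absurd hij.symm h02 | exact absurd hij.symm h12
  rw [hZd] at hZ
  have hT := diag_of_commute _ hinj T hZ.symm
  have h10 := congrFun (congrFun hX 1) 0
  have h21 := congrFun (congrFun hX 2) 1
  simp [Xm, Matrix.mul_apply, Fin.sum_univ_three] at h10 h21
  refine ⟨T 0 0, ?_⟩
  rw [hT]
  ext i j
  fin_cases i <;> fin_cases j <;> simp [h10, h21]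

variable [Fintype F]

omit [Fintype F] in
/-- transport from the standard group to `R`. -/
theorem exists_sl_conj_of_conj {l : F} (hl3 : l ^ 3 = 1) (Pg : GL (Fin 3) F)
    (R : Subgroup (GL (Fin 3) F)) (hRP : R = (R0 hl3).map (MulAut.conj Pg).toMonoidHom)
    (x : GL (Fin 3) F) (M t₀ : Matrix (Fin 3) (Fin 3) F) (hM : M.det = Pg.1.det)
    (hxM : x.1 * M = M * t₀)
    (ht₀ : ∀ t : GL (Fin 3) F, t.1 = t₀ → t ∈ Subgroup.normalizer (R0 hl3 : Set (GL (Fin 3) F))) :
    ∃ g ∈ specialLinear (Fin 3) F, g⁻¹ * x * g ∈ subgroupNormalizer R := by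
  have hPdet := det_ne_zero_of_GL Pg
  have hMdet : M.det ≠ 0 := by rw [hM]; exact hPdet
  let Mg : GL (Fin 3) F := glOfDet M hMdet
  have hMM : M⁻¹ * M = 1 := Matrix.nonsing_inv_mul M (isUnit_iff_ne_zero.mpr hMdet)
  have htval : (Mg⁻¹ * x * Mg : GL (Fin 3) F).1 = t₀ := by
    rw [Units.val_mul, Units.val_mul]
    show M⁻¹ * x.1 * M = t₀
    rw [Matrix.mul_assoc, hxM, ← Matrix.mul_assoc, hMM, one_mul]
  refine ⟨Mg * Pg⁻¹, ?_, ?_⟩
  · rw [mem_specialLinear_iff, Units.val_mul, Matrix.det_mul]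
    show M.det * (Pg⁻¹ : GL (Fin 3) F).1.det = 1
    rw [hM, ← Matrix.det_mul, ← Units.val_mul, mul_inv_cancel, Units.val_one, Matrix.det_one]
  · have hN := Subgroup.map_equiv_normalizer_eq (R0 hl3) (MulAut.conj Pg)
    unfold subgroupNormalizer
    rw [hRP, ← hN]
    refine Subgroup.mem_map.mpr ⟨Mg⁻¹ * x * Mg, ht₀ _ htval, ?_⟩
    show Pg * (Mg⁻¹ * x * Mg) * Pg⁻¹ = _
    group

/-- An element of prime order `r ≥ 5` normalizing a subgroup of order `27` with a nontrivial
element commuting with it centralizes the subgroup. -/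
theorem centralizes_of_prime_order (R : Subgroup (GL (Fin 3) F)) (hcard : Nat.card R = 27)
    (Z : GL (Fin 3) F) (hZR : Z ∈ R) (hZ1 : Z ≠ 1) (y : GL (Fin 3) F) (hZy : y * Z = Z * y)
    (hy : y ∈ subgroupNormalizer R) (r : ℕ) [hrp : Fact r.Prime] (hr : 5 ≤ r)
    (hyr : y ^ r = 1) : ∀ h ∈ R, y * h = h * y := by
  classical
  have hfin : Finite R := Nat.finite_of_card_ne_zero (by rw [hcard]; norm_num)
  let _ : Fintype R := Fintype.ofFinite R
  have hyN : ∀ h : GL (Fin 3) F, h ∈ R ↔ y * h * y⁻¹ ∈ R :=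
    fun h => Subgroup.mem_normalizer_iff.mp hy h
  let f : Function.End R := fun h => ⟨y * h * y⁻¹, (hyN h).mp h.2⟩
  have hiter : ∀ (k : ℕ) (h : R), ((f^[k] h : R) : GL (Fin 3) F) = y ^ k * h * (y ^ k)⁻¹ := by
    intro k
    induction k with
    | zero => intro h; rw [Function.iterate_zero, id_eq]; simp
    | succ k ih =>
      intro h
      rw [Function.iterate_succ_apply', pow_succ']
      show y * ((f^[k] h : R) : GL (Fin 3) F) * y⁻¹ = _
      rw [ih h]
      group
  have hf : f ^ r ^ 1 = 1 := by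
    show f^[r ^ 1] = id
    funext h
    apply Subtype.ext
    rw [hiter, pow_one, hyr]
    simp
  have hmod := Equiv.Perm.card_fixedPoints_modEq (p := r) (n := 1) hf
  set C : Subgroup R := (Subgroup.centralizer {y}).subgroupOf R with hC
  have hfix : Function.fixedPoints f = (C : Set R) := by
    ext h
    rw [Function.mem_fixedPoints, Function.IsFixedPt, SetLike.mem_coe, hC, Subgroup.mem_subgroupOf,
      Subgroup.mem_centralizer_iff]
    constructor
    · intro hh
      have := congrArg Subtype.val hh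
      intro g hg
      rw [Set.mem_singleton_iff] at hg
      rw [hg]
      exact mul_inv_eq_iff_eq_mul.mp this
    · intro hh
      apply Subtype.ext
      show y * (h : GL (Fin 3) F) * y⁻¹ = h
      rw [hh y rfl, mul_inv_cancel_right]
  have hcardfix : Fintype.card (Function.fixedPoints f) = Nat.card C := by
    rw [← Nat.card_eq_fintype_card, hfix]
    rfl
  rw [hcardfix, ← Nat.card_eq_fintype_card, hcard] at hmod
  have hdvd : Nat.card C ∣ 27 := by
    have := Subgroup.card_subgroup_dvd_card C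
    rwa [hcard] at this
  have hne1 : Nat.card C ≠ 1 := by
    intro h1
    have hbot : C = ⊥ := Subgroup.card_eq_one.mp h1
    have hZC : (⟨Z, hZR⟩ : R) ∈ C := by
      rw [hC, Subgroup.mem_subgroupOf, Subgroup.mem_centralizer_iff]
      intro g hg
      rw [Set.mem_singleton_iff] at hg
      rw [hg]
      exact hZy
    rw [hbot, Subgroup.mem_bot] at hZC
    apply hZ1
    exact congrArg Subtype.val hZC
  have hle : Nat.card C ≤ 27 := Nat.le_of_dvd (by norm_num) hdvd
  have hrd : r ∣ 27 - Nat.card C := (Nat.modEq_iff_dvd' hle).mp hmod.symm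
  have hprime := hrp.out
  have hc27 : Nat.card C = 27 := by
    have hdvd' : Nat.card C ∣ 3 ^ 3 := by
      have e : (3 : ℕ) ^ 3 = 27 := by norm_num
      rw [e]; exact hdvd
    obtain ⟨k, hk, hck⟩ := (Nat.dvd_prime_pow Nat.prime_three).mp hdvd'
    have hk' : k = 0 ∨ k = 1 ∨ k = 2 ∨ k = 3 := by omega
    rcases hk' with rfl | rfl | rfl | rfl
    · exact absurd (by rw [hck]; norm_num) hne1
    · exfalso
      rw [hck] at hrd
      norm_num at hrd
      have h1 : r ∣ 2 ^ 3 * 3 := by norm_num; exact hrd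
      rcases (Nat.Prime.dvd_mul hprime).mp h1 with h2 | h2
      · have := Nat.le_of_dvd (by norm_num) (hprime.dvd_of_dvd_pow h2)
        omega
      · have := Nat.le_of_dvd (by norm_num) h2
        omega
    · exfalso
      rw [hck] at hrd
      norm_num at hrd
      have h1 : r ∣ 2 * 3 ^ 2 := by norm_num; exact hrd
      rcases (Nat.Prime.dvd_mul hprime).mp h1 with h2 | h2
      · have := Nat.le_of_dvd (by norm_num) h2
        omega
      · have := Nat.le_of_dvd (by norm_num) (hprime.dvd_of_dvd_pow h2)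
        omega
    · rw [hck]; norm_num
  have htop : C = ⊤ := Subgroup.eq_top_of_card_eq C (by rw [hc27, hcard])
  intro h hh
  have : (⟨h, hh⟩ : R) ∈ C := by rw [htop]; exact Subgroup.mem_top _
  rw [hC, Subgroup.mem_subgroupOf, Subgroup.mem_centralizer_iff] at this
  exact this y rfl

/-- arithmetic of the order of `SL_3(p)`. -/
theorem not_81_dvd (u s : ℕ) (hu : ¬ 3 ∣ u) (hu0 : 0 < u)
    (h : s * (3 * u) = ((3 * u + 1) ^ 3 - 1) * ((3 * u + 1) ^ 3 - (3 * u + 1)) *
      ((3 * u + 1) ^ 3 - (3 * u + 1) ^ 2)) : ¬ 81 ∣ s := by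
  have e1 : (3 * u + 1) ^ 3 - 1 = 9 * u * (3 * (u * u + u) + 1) := by
    apply Nat.sub_eq_of_eq_add; ring
  have e2 : (3 * u + 1) ^ 3 - (3 * u + 1) = (3 * u + 1) * (3 * u) * (3 * u + 2) := by
    apply Nat.sub_eq_of_eq_add; ring
  have e3 : (3 * u + 1) ^ 3 - (3 * u + 1) ^ 2 = (3 * u + 1) ^ 2 * (3 * u) := by
    apply Nat.sub_eq_of_eq_add; ring
  rw [e1, e2, e3] at h
  have hs : s = 27 * (u ^ 2 * (3 * (u * u + u) + 1) * (3 * u + 1) ^ 3 * (3 * u + 2)) := by
    have h3u : 0 < 3 * u := by omega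
    apply Nat.eq_of_mul_eq_mul_right h3u
    rw [h]
    ring
  intro h81
  rw [hs] at h81
  have h3 : 3 ∣ u ^ 2 * (3 * (u * u + u) + 1) * (3 * u + 1) ^ 3 * (3 * u + 2) := by
    have : 27 * 3 ∣ 27 * (u ^ 2 * (3 * (u * u + u) + 1) * (3 * u + 1) ^ 3 * (3 * u + 2)) := by
      norm_num; exact h81
    exact Nat.dvd_of_mul_dvd_mul_left (by norm_num) this
  have p3 := Nat.prime_three
  rcases (Nat.Prime.dvd_mul p3).mp h3 with h4 | h4
  · rcases (Nat.Prime.dvd_mul p3).mp h4 with h5 | h5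
    · rcases (Nat.Prime.dvd_mul p3).mp h5 with h6 | h6
      · exact hu (p3.dvd_of_dvd_pow h6)
      · omega
    · have := p3.dvd_of_dvd_pow h5
      omega
  · omega

end Cfsg.Agent.Helper59.Extra
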