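import Mathlib
import Cfsg.Prelude.Def_GeometricClasses
import Cfsg.Agent.Helper5.Card
import Cfsg.Agent.Helper59.ExtraJ

set_option autoImplicit false

/-! The index is prime to three when `p ≢ 1 (mod 9)`; no elements of prime order `≥ 5`. -/

namespace Cfsg.Agent.Helper59.Extra

open Module Matrix
open Cfsg.Geo

variable {F : Type*} [Field F] [Fintype F]

omit [Fintype F] in
theorem R0_le_specialLinear {l : F} (hl3 : l ^ 3 = 1) : R0 hl3 ≤ specialLinear (Fin 3) F := by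
  unfold R0
  rw [Subgroup.closure_le]
  rintro g (rfl | rfl)
  · rw [SetLike.mem_coe, mem_specialLinear_iff]
    show (Xm F).det = 1
    unfold Xm
    rw [Matrix.det_fin_three]
    simp
  · rw [SetLike.mem_coe, mem_specialLinear_iff]
    show (Zm l).det = 1
    unfold Zm dg
    rw [Matrix.det_fin_three]
    simp
    linear_combination hl3

omit [Fintype F] in
theorem R_le_specialLinear {l : F} (hl3 : l ^ 3 = 1) (Pg : GL (Fin 3) F)
    (R : Subgroup (GL (Fin 3) F)) (hRP : R = (R0 hl3).map (MulAut.conj Pg).toMonoidHom) :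
    R ≤ specialLinear (Fin 3) F := by
  rw [hRP]
  rintro g ⟨g₀, hg₀, rfl⟩
  have h0 := (mem_specialLinear_iff g₀).mp (R0_le_specialLinear hl3 hg₀)
  rw [mem_specialLinear_iff]
  show (Pg * g₀ * Pg⁻¹ : GL (Fin 3) F).1.det = 1
  rw [Units.val_mul, Units.val_mul, Matrix.det_mul, Matrix.det_mul, h0, mul_one, ← Matrix.det_mul,
    ← Units.val_mul, mul_inv_cancel, Units.val_one, Matrix.det_one]

/-- the index of the normaliser is prime to three when `p ≢ 1 (mod 9)`. -/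
theorem not_three_dvd_relIndex {p : ℕ} (hF : Fintype.card F = p) (hp3 : p % 3 = 1)
    (hp9 : p % 9 ≠ 1) (R : Subgroup (GL (Fin 3) F)) (hR : Nat.card R = 27)
    (hRle : R ≤ specialLinear (Fin 3) F) :
    ¬ 3 ∣ (subgroupNormalizer R).relIndex (specialLinear (Fin 3) F) := by
  intro h
  have h1 : (subgroupNormalizer R).relIndex (specialLinear (Fin 3) F) ∣
      R.relIndex (specialLinear (Fin 3) F) :=
    Subgroup.relIndex_dvd_of_le_left _ Subgroup.le_normalizer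
  have h2 : Nat.card R * R.relIndex (specialLinear (Fin 3) F) =
      Nat.card (specialLinear (Fin 3) F) := by
    have := Subgroup.relIndex_mul_relIndex (⊥ : Subgroup (GL (Fin 3) F)) R
      (specialLinear (Fin 3) F) bot_le hRle
    rw [Subgroup.relIndex_bot_left, Subgroup.relIndex_bot_left] at this
    exact this
  have h81 : 81 ∣ Nat.card (specialLinear (Fin 3) F) := by
    rw [← h2, hR]
    have : (81 : ℕ) = 27 * 3 := by norm_num
    rw [this]
    exact Nat.mul_dvd_mul_left 27 (dvd_trans h h1)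
  have hSL : Nat.card (specialLinear (Fin 3) F) * (p - 1) =
      (p ^ 3 - 1) * (p ^ 3 - p) * (p ^ 3 - p ^ 2) := by
    have e1 := Cfsg.Agent.Helper5.card_GL_eq_card_SL_mul (n := Fin 3) (F := F)
    have e2 := Cfsg.Agent.Helper5.card_ker_det_eq_card_SL (n := Fin 3) (F := F)
    have e3 := Matrix.card_GL_field (𝔽 := F) (n := 3)
    rw [Fin.prod_univ_three, hF] at e3
    have e4 : Nat.card (specialLinear (Fin 3) F) =
        Nat.card (Matrix.SpecialLinearGroup (Fin 3) F) := e2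
    rw [e4, ← hF, ← e1, e3, hF]
    simp
  obtain ⟨u, hu⟩ : ∃ u, p = 3 * u + 1 := ⟨p / 3, by omega⟩
  have hu3 : ¬ 3 ∣ u := by
    intro hd
    obtain ⟨v, rfl⟩ := hd
    omega
  have hu0 : 0 < u := by
    rcases Nat.eq_zero_or_pos u with h0 | h0
    · exfalso
      apply hu3
      rw [h0]
      exact dvd_zero 3
    · exact h0
  subst hu
  have hp1 : 3 * u + 1 - 1 = 3 * u := by omega
  rw [hp1] at hSL
  exact not_81_dvd u _ hu3 hu0 hSL h81

/-- no non-scalar element of prime order at least five normalises `R`. -/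
theorem false_of_prime_ge_five {l : F} (hl : l ^ 2 + l + 1 = 0) (h3 : (3 : F) ≠ 0)
    (hl3 : l ^ 3 = 1) (Pg : GL (Fin 3) F) (R : Subgroup (GL (Fin 3) F))
    (hRP : R = (R0 hl3).map (MulAut.conj Pg).toMonoidHom) (hR : Nat.card R = 27)
    (r : ℕ) [Fact r.Prime] (hr5 : 5 ≤ r) (x : GL (Fin 3) F) (hxr : x ^ r = 1)
    (hns : ∀ z : F, x.1 ≠ z • (1 : Matrix (Fin 3) (Fin 3) F)) (g : GL (Fin 3) F)
    (hg : g⁻¹ * x * g ∈ subgroupNormalizer R) : False := by
  obtain ⟨l3, l1, l2, l4, l0⟩ := omega_facts hl h3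
  obtain ⟨y, hy⟩ : ∃ y : GL (Fin 3) F, y = g⁻¹ * x * g := ⟨_, rfl⟩
  rw [← hy] at hg
  have hyr : y ^ r = 1 := by
    have e : y = g⁻¹ * x * (g⁻¹)⁻¹ := by rw [inv_inv]; exact hy
    rw [e, conj_pow, hxr]; simp
  have hmemR : ∀ g₀ ∈ R0 hl3, Pg * g₀ * Pg⁻¹ ∈ R := by
    intro g₀ hg₀
    rw [hRP]
    exact Subgroup.mem_map.mpr ⟨g₀, hg₀, rfl⟩
  have hSconj : Pg * Sg hl3 * Pg⁻¹ = Sg hl3 := by
    apply conj_eq_of_mul_eq
    show Pg.1 * (l • (1 : Matrix (Fin 3) (Fin 3) F)) = (l • (1 : Matrix (Fin 3) (Fin 3) F)) * Pg.1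
    rw [Matrix.mul_smul, Matrix.smul_mul, mul_one, one_mul]
  have hZR : Sg hl3 ∈ R := by
    rw [← hSconj]
    exact hmemR _ (Sg_mem hl3)
  have hZ1 : Sg hl3 ≠ 1 := by
    intro h
    have h1 := congrArg (fun t : GL (Fin 3) F => t.1 0 0) h
    simp [Sg] at h1
    exact l1 h1
  have hZy : y * Sg hl3 = Sg hl3 * y := by
    apply Units.ext
    rw [Units.val_mul, Units.val_mul]
    show y.1 * (l • (1 : Matrix (Fin 3) (Fin 3) F)) = (l • (1 : Matrix (Fin 3) (Fin 3) F)) * y.1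
    rw [Matrix.mul_smul, Matrix.smul_mul, mul_one, one_mul]
  have hcent := centralizes_of_prime_order R hR (Sg hl3) hZR hZ1 y hZy hg r hr5 hyr
  have hcZ := hcent _ (hmemR _ (Zg_mem hl3))
  have hcX := hcent _ (hmemR _ (Xg_mem hl3))
  obtain ⟨y₁, hy₁⟩ : ∃ y₁ : GL (Fin 3) F, y₁ = Pg⁻¹ * y * Pg := ⟨_, rfl⟩
  have hyy₁ : y = Pg * y₁ * Pg⁻¹ := by rw [hy₁]; group
  have h1Z : y₁ * Zg hl3 = Zg hl3 * y₁ := by
    rw [hyy₁] at hcZ
    have := congrArg (fun t => Pg⁻¹ * t * Pg) hcZ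
    beta_reduce at this
    have e1 : Pg⁻¹ * (Pg * y₁ * Pg⁻¹ * (Pg * Zg hl3 * Pg⁻¹)) * Pg = y₁ * Zg hl3 := by group
    have e2 : Pg⁻¹ * (Pg * Zg hl3 * Pg⁻¹ * (Pg * y₁ * Pg⁻¹)) * Pg = Zg hl3 * y₁ := by group
    rw [e1, e2] at this
    exact this
  have h1X : y₁ * Xg F = Xg F * y₁ := by
    rw [hyy₁] at hcX
    have := congrArg (fun t => Pg⁻¹ * t * Pg) hcX
    beta_reduce at this
    have e1 : Pg⁻¹ * (Pg * y₁ * Pg⁻¹ * (Pg * Xg F * Pg⁻¹)) * Pg = y₁ * Xg F := by group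
    have e2 : Pg⁻¹ * (Pg * Xg F * Pg⁻¹ * (Pg * y₁ * Pg⁻¹)) * Pg = Xg F * y₁ := by group
    rw [e1, e2] at this
    exact this
  have hTZ : y₁.1 * Zm l = Zm l * y₁.1 := by
    have := congrArg Units.val h1Z
    rw [Units.val_mul, Units.val_mul] at this
    exact this
  have hTX : y₁.1 * Xm F = Xm F * y₁.1 := by
    have := congrArg Units.val h1X
    rw [Units.val_mul, Units.val_mul] at this
    exact this
  obtain ⟨k, hk⟩ := scalar_of_commute_ZX hl h3 y₁.1 hTZ hTX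
  apply hns k
  have hx : x = g * y * g⁻¹ := by rw [hy]; group
  have hyk : y.1 = k • (1 : Matrix (Fin 3) (Fin 3) F) := by
    rw [hyy₁, Units.val_mul, Units.val_mul, hk, Matrix.mul_smul, mul_one, Matrix.smul_mul,
      ← Units.val_mul, mul_inv_cancel, Units.val_one]
  rw [hx, Units.val_mul, Units.val_mul, hyk, Matrix.mul_smul, mul_one, Matrix.smul_mul,
    ← Units.val_mul, mul_inv_cancel, Units.val_one]

end Cfsg.Agent.Helper59.Extra
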