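import Mathlib
import Cfsg.Prelude.Def_GeometricClasses
import Cfsg.Agent.Helper59.FieldSubB

set_option autoImplicit false

/-! Field subalgebras of prime degree: the conjugacy property forces `ord_n(q) = n - 1`. -/

namespace Cfsg.Agent.Helper59.FieldSub

open Module Matrix Polynomial
open Cfsg.Geo Cfsg.Agent.Helper59.InvChain Cfsg.Agent.Helper59.Elusive

variable {F : Type*} [Field F] [Fintype F] {n : ℕ} {K : Subalgebra F (Matrix (Fin n) (Fin n) F)}

theorem natCast_card_ne_zero {p : ℕ} [Fact p.Prime] [CharP F p] (hn : n.Prime) (hnp : n ≠ p) :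
    ((Fintype.card F : ℕ) : ZMod n) ≠ 0 := by
  obtain ⟨k, hp, hk⟩ := FiniteField.card F p
  rw [hk]
  intro h
  rw [ZMod.natCast_eq_zero_iff] at h
  have := hn.dvd_of_dvd_pow h
  exact hnp ((Nat.prime_dvd_prime_iff_eq hn hp).mp this)

theorem orderOf_dvd_pred {p : ℕ} [Fact p.Prime] [CharP F p] (hn : n.Prime) (hnp : n ≠ p) :
    orderOf ((Fintype.card F : ℕ) : ZMod n) ∣ n - 1 := by
  haveI : Fact n.Prime := ⟨hn⟩
  exact orderOf_dvd_of_pow_eq_one (ZMod.pow_card_sub_one_eq_one (natCast_card_ne_zero hn hnp))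

theorem orderOf_pos' {p : ℕ} [Fact p.Prime] [CharP F p] (hn : n.Prime) (hnp : n ≠ p) :
    0 < orderOf ((Fintype.card F : ℕ) : ZMod n) := by
  have h1 := orderOf_dvd_pred (F := F) hn hnp
  have h2 : 0 < n - 1 := by have := hn.two_le; omega
  exact Nat.pos_of_dvd_of_pos h1 h2

theorem ord_of_conjProp {p : ℕ} [Fact p.Prime] [CharP F p] (hn : n.Prime) (hn3 : 3 < n)
    (hnp : n ≠ p) (hK : IsFieldSubalgebra n K) (H : ConjProp F n K) :
    orderOf ((Fintype.card F : ℕ) : ZMod n) = n - 1 := by
  classical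
  by_contra hne
  haveI : Fact n.Prime := ⟨hn⟩
  set i := orderOf ((Fintype.card F : ℕ) : ZMod n) with hidef
  have hdvd : i ∣ n - 1 := orderOf_dvd_pred hn hnp
  have hipos : 0 < i := orderOf_pos' hn hnp
  obtain ⟨k, hk⟩ := hdvd
  have hk2 : 2 ≤ k := by
    rcases Nat.lt_or_ge k 2 with h | h
    · interval_cases k
      · omega
      · exfalso; apply hne; omega
    · exact h
  have hile : 2 * i ≤ n - 1 := by
    calc 2 * i = i * 2 := by ring
      _ ≤ i * k := Nat.mul_le_mul_left i hk2
      _ = n - 1 := hk.symm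
  by_cases hi1 : i = 1
  · -- `n ∣ q - 1`
    have hnq : n ∣ Fintype.card F - 1 :=
      (orderOf_eq_one_iff_dvd n (Fintype.card F) Fintype.card_pos).mp hi1
    have hcu : n ∣ Fintype.card Fˣ := by rwa [Fintype.card_units]
    obtain ⟨ω, hω⟩ := exists_prime_orderOf_dvd_card n hcu
    have hωn : (ω : F) ^ n = 1 := by
      have := pow_orderOf_eq_one ω
      rw [hω] at this
      have h2 := congrArg Units.val this
      simpa using h2
    have hω1 : (ω : F) ≠ 1 := by
      intro h
      have : ω = 1 := Units.ext h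
      rw [this, orderOf_one] at hω
      have := hn.two_le
      omega
    let g : (F × F) →ₗ[F] (F × F) :=
      LinearMap.prodMapRingHom F F F ((ω : F) • 1, ((ω⁻¹ : Fˣ) : F) • 1)
    have hgapp : ∀ v : F × F, g v = ((ω : F) * v.1, ((ω⁻¹ : Fˣ) : F) * v.2) := fun v => rfl
    have hg : g ^ n = 1 := by
      show (LinearMap.prodMapRingHom F F F ((ω : F) • 1, ((ω⁻¹ : Fˣ) : F) • 1)) ^ n = 1
      rw [← map_pow, Prod.pow_mk, _root_.smul_pow, _root_.smul_pow, one_pow, hωn,
        ← Units.val_pow_eq_pow_val, inv_pow]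
      have : ω ^ n = 1 := by rw [← hω]; exact pow_orderOf_eq_one ω
      rw [this, inv_one, Units.val_one, one_smul]
      exact map_one _
    have hdet : LinearMap.det g = 1 := by
      show LinearMap.det (LinearMap.prodMap ((ω : F) • (1 : F →ₗ[F] F))
        (((ω⁻¹ : Fˣ) : F) • (1 : F →ₗ[F] F))) = 1
      rw [LinearMap.det_prodMap, LinearMap.det_smul, LinearMap.det_smul, Module.finrank_self,
        pow_one, pow_one]
      have : LinearMap.det (1 : F →ₗ[F] F) = 1 := map_one _
      rw [this, mul_one, mul_one, ← Units.val_mul, mul_inv_cancel, Units.val_one]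
    have hAB : finrank F (Fin (n - 2) → F) + finrank F (F × F) = n := by
      rw [Module.finrank_fin_fun, Module.finrank_prod, Module.finrank_self]
      omega
    refine false_of_prod hn hK H hAB (by rw [Module.finrank_fin_fun]; omega) g hg hdet (1, 0) ?_
    rw [hgapp]
    intro h
    have := congrArg Prod.fst h
    simp only [mul_one] at this
    exact hω1 this
  · have hi2 : 2 ≤ i := by omega
    have hnd : ¬ n ∣ Fintype.card F - 1 := by
      intro h
      exact hi1 ((orderOf_eq_one_iff_dvd n (Fintype.card F) Fintype.card_pos).mpr h)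
    have hcop : Nat.Coprime n (Fintype.card F - 1) := (Nat.Prime.coprime_iff_not_dvd hn).mpr hnd
    have hnu : ¬ IsUnit (cyclotomic n F) := by
      apply not_isUnit_of_natDegree_pos
      rw [natDegree_cyclotomic, Nat.totient_prime hn]
      omega
    obtain ⟨Q, hQirr, hQdvd⟩ := WfDvdMonoid.exists_irreducible_factor hnu (cyclotomic_ne_zero n F)
    have hQdeg : Q.natDegree = i := (HP_cyclotomic n hnp).2 Q hQirr hQdvd
    haveI : Fact (Irreducible Q) := ⟨hQirr⟩
    have hEfin : finrank F (AdjoinRoot Q) = i := by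
      rw [(AdjoinRoot.powerBasis hQirr.ne_zero).finrank, AdjoinRoot.powerBasis_dim, hQdeg]
    haveI : Module.Finite F (AdjoinRoot Q) := (AdjoinRoot.powerBasis hQirr.ne_zero).finite
    have hω : (AdjoinRoot.root Q) ^ n = 1 := by
      have hdvd : Q ∣ (X ^ n - 1 : F[X]) := hQdvd.trans (cyclotomic.dvd_X_pow_sub_one n F)
      have h1 : aeval (AdjoinRoot.root Q) (X ^ n - 1 : F[X]) = 0 := by
        rw [AdjoinRoot.aeval_eq, AdjoinRoot.mk_eq_zero]; exact hdvd
      rw [map_sub, map_pow, aeval_X, map_one] at h1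
      exact sub_eq_zero.mp h1
    have hω1 : AdjoinRoot.root Q ≠ 1 := by
      intro h
      have h1 : aeval (AdjoinRoot.root Q) (X - C 1 : F[X]) = 0 := by
        rw [map_sub, aeval_X, aeval_C, map_one, h, sub_self]
      rw [AdjoinRoot.aeval_eq, AdjoinRoot.mk_eq_zero] at h1
      have h2 := natDegree_le_of_dvd h1 (X_sub_C_ne_zero 1)
      rw [natDegree_X_sub_C, hQdeg] at h2
      omega
    let g : Module.End F (AdjoinRoot Q) := Algebra.lsmul F F (AdjoinRoot Q) (AdjoinRoot.root Q)
    have hg : g ^ n = 1 := by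
      show (Algebra.lsmul F F (AdjoinRoot Q) (AdjoinRoot.root Q)) ^ n = 1
      rw [← map_pow, hω, map_one]
    have hdet : LinearMap.det g = 1 :=
      eq_one_of_pow_eq_one_of_coprime n hn.ne_zero hcop _ (by rw [← map_pow, hg, map_one])
    have hAB : finrank F (Fin (n - i) → F) + finrank F (AdjoinRoot Q) = n := by
      rw [Module.finrank_fin_fun, hEfin]
      omega
    refine false_of_prod hn hK H hAB (by rw [Module.finrank_fin_fun]; omega) g hg hdet 1 ?_
    show AdjoinRoot.root Q • (1 : AdjoinRoot Q) ≠ 1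
    rw [smul_eq_mul, mul_one]
    exact hω1

end Cfsg.Agent.Helper59.FieldSub
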