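import Mathlib
import Cfsg.Agent.Helper59.InvChain
import Cfsg.Agent.Helper59.ElusiveCyc
import Cfsg.Agent.Helper59.ElusiveConstr

set_option autoImplicit false

/-! Endomorphisms of order `n` (prime) on an `n`-dimensional space over `F_q` with
`ord_n(q) = n - 1` are all conjugate: each is cyclic with annihilator `X^n - 1`. -/

namespace Cfsg.Agent.Helper59.FieldSub

open Module Polynomial
open Cfsg.Agent.Helper59.InvChain Cfsg.Agent.Helper59.Elusive

variable {F : Type*} [Field F] {V : Type*} [AddCommGroup V] [Module F V]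

/-- evaluation `h ↦ h(g) v`. -/
noncomputable def evalAt (g : V →ₗ[F] V) (v : V) : F[X] →ₗ[F] V :=
  (LinearMap.applyₗ v).comp (aeval g).toLinearMap

@[simp] theorem evalAt_apply (g : V →ₗ[F] V) (v : V) (h : F[X]) : evalAt g v h = aeval g h v := rfl

theorem evalAt_X_mul (g : V →ₗ[F] V) (v : V) (h : F[X]) : evalAt g v (X * h) = g (evalAt g v h) := by
  rw [evalAt_apply, evalAt_apply, map_mul, aeval_X, Module.End.mul_apply]

theorem irreducible_cyclotomic_of_HP (n : ℕ) (hn : n.Prime)
    (hP : HP (cyclotomic n F) (n - 1)) : Irreducible (cyclotomic n F) := by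
  have hnu : ¬ IsUnit (cyclotomic n F) := by
    apply not_isUnit_of_natDegree_pos
    rw [natDegree_cyclotomic, Nat.totient_prime hn]
    have := hn.two_le
    omega
  obtain ⟨Q, hQirr, hQdvd⟩ := WfDvdMonoid.exists_irreducible_factor hnu (cyclotomic_ne_zero n F)
  have hQdeg : Q.natDegree = n - 1 := hP.2 Q hQirr hQdvd
  obtain ⟨c, hc⟩ := hQdvd
  have hc0 : c ≠ 0 := by
    rintro rfl
    rw [mul_zero] at hc
    exact cyclotomic_ne_zero n F hc
  have hdeg : (cyclotomic n F).natDegree = Q.natDegree + c.natDegree := by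
    rw [hc, natDegree_mul hQirr.ne_zero hc0]
  rw [natDegree_cyclotomic, Nat.totient_prime hn, hQdeg] at hdeg
  have hcdeg : c.natDegree = 0 := by omega
  have hcu : IsUnit c := by
    rw [eq_C_of_natDegree_eq_zero hcdeg] at hc0 ⊢
    have : c.coeff 0 ≠ 0 := fun h => hc0 (by rw [h, C_0])
    exact isUnit_C.mpr (isUnit_iff_ne_zero.mpr this)
  have hassoc : Associated Q (cyclotomic n F) := ⟨hcu.unit, by rw [hc]; rfl⟩
  exact hassoc.irreducible hQirr

variable [FiniteDimensional F V] [Fintype F]

/-- **Cyclic vector with annihilator `X^n - 1`.** -/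
theorem exists_cyclic {p : ℕ} [Fact p.Prime] [CharP F p] (n : ℕ) [Fact n.Prime] (hnp : n ≠ p)
    (hn3 : 3 < n) (hord : orderOf ((Fintype.card F : ℕ) : ZMod n) = n - 1)
    (hV : finrank F V = n) (g : V →ₗ[F] V) (hg : g ^ n = 1) (hg1 : g ≠ 1) :
    ∃ v : V, Function.Surjective (evalAt g v) ∧
      ∀ h : F[X], evalAt g v h = 0 ↔ (X ^ n - 1 : F[X]) ∣ h := by
  have hn : n.Prime := Fact.out
  have hnF : (n : F) ≠ 0 := by
    intro h
    have h1 := (CharP.cast_eq_zero_iff F p n).mp h
    exact hnp ((Nat.prime_dvd_prime_iff_eq Fact.out hn).mp h1).symm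
  have hP : HP (cyclotomic n F) (n - 1) := by
    have := HP_cyclotomic (F := F) n hnp
    rwa [hord] at this
  have hirr := irreducible_cyclotomic_of_HP n hn hP
  have hsum := finrank_fix_add_cyc n hnF g hg
  rw [hV] at hsum
  have hdvd : (n - 1) ∣ finrank F ↥(cycSp n g) :=
    dvd_finrank_of_inv g (cyclotomic n F) (n - 1) (by omega) hP (cycSp n g) (inv_cycSp n g)
      (fun u hu => hu)
  have hcyc_ne : cycSp n g ≠ ⊥ := by
    intro h
    have h1 := sup_fix_cyc n hnF g hg
    rw [h, sup_bot_eq] at h1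
    apply hg1
    apply LinearMap.ext
    intro v
    have : v ∈ fixSp g := by rw [h1]; trivial
    rw [mem_fixSp.mp this]
    rfl
  have hcycpos : 0 < finrank F ↥(cycSp n g) := by
    rw [Module.finrank_pos_iff]
    exact Submodule.nontrivial_iff_ne_bot.mpr hcyc_ne
  obtain ⟨k, hk⟩ := hdvd
  have hk1 : k = 1 := by
    have hkpos : 0 < k := by
      rcases Nat.eq_zero_or_pos k with h | h
      · rw [h, mul_zero] at hk; omega
      · exact h
    have hle : finrank F ↥(cycSp n g) ≤ n := by omega
    rcases Nat.lt_or_ge k 2 with h | h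
    · omega
    · exfalso
      have : (n - 1) * 2 ≤ (n - 1) * k := Nat.mul_le_mul_left _ h
      omega
  rw [hk1, mul_one] at hk
  have hfix1 : finrank F ↥(fixSp g) = 1 := by omega
  haveI : Nontrivial ↥(fixSp g) := Module.nontrivial_of_finrank_pos (R := F) (by omega)
  haveI : Nontrivial ↥(cycSp n g) := Module.nontrivial_of_finrank_pos (R := F) hcycpos
  obtain ⟨v1, hv1⟩ := exists_ne (0 : ↥(fixSp g))
  obtain ⟨v2, hv2⟩ := exists_ne (0 : ↥(cycSp n g))
  have hv1' : (v1 : V) ≠ 0 := fun h => hv1 (Subtype.ext h)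
  have hv2' : (v2 : V) ≠ 0 := fun h => hv2 (Subtype.ext h)
  have hgv1 : g v1 = v1 := mem_fixSp.mp v1.2
  have hprod : cyclotomic n F * (X - 1) = X ^ n - 1 := cyclotomic_prime_mul_X_sub_one F n
  have hkill : ∀ w : V, (aeval g (X ^ n - 1 : F[X])) w = 0 := by
    intro w; simp [hg]
  have hiff : ∀ h : F[X], evalAt g ((v1 : V) + v2) h = 0 ↔ (X ^ n - 1 : F[X]) ∣ h := by
    intro h
    constructor
    · intro h0
      rw [evalAt_apply, map_add] at h0
      have ha : (aeval g h) (v1 : V) ∈ fixSp g := (inv_fixSp g).aeval_mem h v1.2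
      have hb : (aeval g h) (v2 : V) ∈ cycSp n g := (inv_cycSp n g).aeval_mem h v2.2
      have ha0 : (aeval g h) (v1 : V) = 0 := by
        have : (aeval g h) (v1 : V) ∈ fixSp g ⊓ cycSp n g := by
          refine ⟨ha, ?_⟩
          have : (aeval g h) (v1 : V) = - (aeval g h) (v2 : V) := eq_neg_of_add_eq_zero_left h0
          rw [this]
          exact Submodule.neg_mem _ hb
        rw [disjoint_fix_cyc n hnF g] at this
        exact this
      have hb0 : (aeval g h) (v2 : V) = 0 := by rwa [ha0, zero_add] at h0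
      -- `(X - 1) ∣ h`
      have h1 : (X - C 1 : F[X]) ∣ h := by
        rw [dvd_iff_isRoot, IsRoot.def]
        have hev : Module.End.HasEigenvector g 1 (v1 : V) := by
          rw [Module.End.hasEigenvector_iff]
          refine ⟨?_, hv1'⟩
          rw [Module.End.mem_eigenspace_iff, one_smul]
          exact hgv1
        rw [Module.End.aeval_apply_of_hasEigenvector hev] at ha0
        rcases smul_eq_zero.mp ha0 with h2 | h2
        · exact h2
        · exact absurd h2 hv1'
      -- `Φ ∣ h`
      have h2 : cyclotomic n F ∣ h := by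
        by_contra hnd
        obtain ⟨a, b, hab⟩ := (hirr.coprime_iff_not_dvd).mpr hnd
        apply hv2'
        have h3 : (v2 : V) = (aeval g (a * cyclotomic n F)) (v2 : V) + (aeval g (b * h)) (v2 : V) := by
          rw [← LinearMap.add_apply, ← map_add, hab]; simp
        rw [h3, map_mul, map_mul, Module.End.mul_apply, Module.End.mul_apply, hb0]
        have : (aeval g (cyclotomic n F)) (v2 : V) = 0 := v2.2
        rw [this, map_zero, map_zero, add_zero]
      have hcop : IsCoprime (cyclotomic n F) (X - C 1 : F[X]) := by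
        have := isCoprime_X_sub_one_cyclotomic (F := F) n hnF
        rw [show (X - 1 : F[X]) = X - C 1 by simp] at this
        exact this.symm
      have := hcop.mul_dvd h2 h1
      rwa [show (X - C 1 : F[X]) = X - 1 by simp, hprod] at this
    · rintro ⟨c, rfl⟩
      rw [evalAt_apply, map_mul, Module.End.mul_apply]
      rw [← Module.End.mul_apply, ← map_mul, mul_comm, map_mul, Module.End.mul_apply, hkill,
        map_zero]
  refine ⟨(v1 : V) + v2, ?_, hiff⟩
  -- surjectivity via polynomials of degree `< n`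
  have hinj : Function.Injective ((evalAt g ((v1 : V) + v2)).comp (degreeLT F n).subtype) := by
    rw [← LinearMap.ker_eq_bot, Submodule.eq_bot_iff]
    intro h hh
    rw [LinearMap.mem_ker, LinearMap.comp_apply] at hh
    have h1 := (hiff _).mp hh
    have h3 : (X ^ n - 1 : F[X]) = X ^ n - C 1 := by simp
    rw [h3] at h1
    have h2 : (h : F[X]).degree < (X ^ n - C 1 : F[X]).degree := by
      rw [degree_X_pow_sub_C hn.pos (1 : F)]
      exact mem_degreeLT.mp h.2
    exact Subtype.ext (eq_zero_of_dvd_of_degree_lt h1 h2)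
  have hfr : finrank F ↥(degreeLT F n) = finrank F V := by
    rw [(degreeLTEquiv F n).finrank_eq, Module.finrank_fin_fun, hV]
  haveI : FiniteDimensional F ↥(degreeLT F n) := Module.finite_of_finrank_pos (by rw [hfr, hV]; exact hn.pos)
  have hsurj := (LinearMap.injective_iff_surjective_of_finrank_eq_finrank hfr).mp hinj
  intro u
  obtain ⟨h, hh⟩ := hsurj u
  exact ⟨h.1, hh⟩

/-- two such endomorphisms are conjugate. -/
theorem exists_conj {p : ℕ} [Fact p.Prime] [CharP F p] (n : ℕ) [Fact n.Prime] (hnp : n ≠ p)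
    (hn3 : 3 < n) (hord : orderOf ((Fintype.card F : ℕ) : ZMod n) = n - 1)
    (hV : finrank F V = n) (g s : V →ₗ[F] V) (hg : g ^ n = 1) (hg1 : g ≠ 1)
    (hs : s ^ n = 1) (hs1 : s ≠ 1) :
    ∃ P : V ≃ₗ[F] V, ∀ u, P (g u) = s (P u) := by
  obtain ⟨v, hvs, hvk⟩ := exists_cyclic n hnp hn3 hord hV g hg hg1
  obtain ⟨w, hws, hwk⟩ := exists_cyclic n hnp hn3 hord hV s hs hs1
  have hker : LinearMap.ker (evalAt g v) = LinearMap.ker (evalAt s w) := by
    ext h
    rw [LinearMap.mem_ker, LinearMap.mem_ker, hvk, hwk]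
  let E1 := (evalAt g v).quotKerEquivOfSurjective hvs
  let E2 := (evalAt s w).quotKerEquivOfSurjective hws
  let Q := Submodule.quotEquivOfEq _ _ hker
  refine ⟨E1.symm.trans (Q.trans E2), ?_⟩
  intro u
  obtain ⟨h, rfl⟩ := hvs u
  have h1 : ∀ h' : F[X], (E1.symm.trans (Q.trans E2)) (evalAt g v h') = evalAt s w h' := by
    intro h'
    have : E1.symm (evalAt g v h') = Submodule.Quotient.mk h' := by
      rw [LinearEquiv.symm_apply_eq]
      rfl
    rw [LinearEquiv.trans_apply, this]
    rfl
  rw [← evalAt_X_mul, h1, h1, evalAt_X_mul]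

end Cfsg.Agent.Helper59.FieldSub
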