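import Mathlib
import Cfsg.Prelude.Def_GeometricClasses
import Cfsg.Agent.Helper59.FieldSubB
import Cfsg.Agent.Helper59.FieldSubD
import Cfsg.Agent.Helper59.FieldSubE

set_option autoImplicit false

/-! When `ord_n(q) = n - 1`, every element of order `n` of `PSL_n(q)` is conjugate into the
normaliser of a field subalgebra of degree `n`. -/

namespace Cfsg.Agent.Helper59.FieldSub

open Module Matrix Polynomial
open Cfsg.Geo Cfsg.Agent.Helper59.InvChain Cfsg.Agent.Helper59.Elusive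

variable {F : Type*} [Field F] [Fintype F] {n : ℕ} {K : Subalgebra F (Matrix (Fin n) (Fin n) F)}

theorem conjProp_of_ord {p : ℕ} [Fact p.Prime] [CharP F p] (hn : n.Prime) (hn3 : 3 < n)
    (hnp : n ≠ p) (hK : IsFieldSubalgebra n K)
    (hord : orderOf ((Fintype.card F : ℕ) : ZMod n) = n - 1) : ConjProp F n K := by
  classical
  haveI : Fact n.Prime := ⟨hn⟩
  rintro x ⟨z, hz⟩ hns
  have hq1 : 1 ≤ Fintype.card F := Fintype.card_pos
  have hcop : Nat.Coprime n (Fintype.card F - 1) := by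
    rw [Nat.Prime.coprime_iff_not_dvd hn]
    intro hdvd
    have := (orderOf_eq_one_iff_dvd n (Fintype.card F) hq1).mpr hdvd
    rw [hord] at this
    omega
  have hz1 : z = 1 := by
    apply eq_one_of_pow_eq_one_of_coprime n hn.ne_zero hcop
    have hdet : ((x ^ n : Matrix.SpecialLinearGroup (Fin n) F) :
        Matrix (Fin n) (Fin n) F).det = 1 := (x ^ n).2
    rw [hz, Matrix.det_smul, Fintype.card_fin, Matrix.det_one, mul_one] at hdet
    exact hdet
  rw [hz1, one_smul, Matrix.SpecialLinearGroup.coe_pow] at hz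
  let gx : (Fin n → F) →ₗ[F] (Fin n → F) := Matrix.toLinAlgEquiv' x.1
  have hgx : ∀ u, gx u = x.1 *ᵥ u := fun u => rfl
  have hgxn : gx ^ n = 1 := by
    show (Matrix.toLinAlgEquiv' x.1) ^ n = 1
    rw [← map_pow, hz, map_one]
  have hgx1 : gx ≠ 1 := by
    intro h
    apply hns 1
    rw [one_smul]
    apply (Matrix.toLinAlgEquiv' (R := F) (n := Fin n)).injective
    rw [map_one]
    exact h
  obtain ⟨s, hsN, hsn, hs1⟩ := exists_frobenius hn hK
  let gs : (Fin n → F) →ₗ[F] (Fin n → F) := Matrix.toLinAlgEquiv' s.1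
  have hgs : ∀ u, gs u = s.1 *ᵥ u := fun u => rfl
  have hgsn : gs ^ n = 1 := by
    show (Matrix.toLinAlgEquiv' s.1) ^ n = 1
    rw [← map_pow, ← Units.val_pow_eq_pow_val, hsn, Units.val_one, map_one]
  have hgs1 : gs ≠ 1 := by
    intro h
    apply hs1
    apply Units.ext
    apply (Matrix.toLinAlgEquiv' (R := F) (n := Fin n)).injective
    rw [Units.val_one, map_one]
    exact h
  obtain ⟨P0, hP0⟩ := exists_conj n hnp hn3 hord (Module.finrank_fin_fun F) gx gs hgxn hgx1
    hgsn hgs1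
  let M0 : Matrix (Fin n) (Fin n) F := LinearMap.toMatrix' P0.toLinearMap
  let M0' : Matrix (Fin n) (Fin n) F := LinearMap.toMatrix' P0.symm.toLinearMap
  have hM0v : ∀ u, M0 *ᵥ u = P0 u := by
    intro u
    rw [← Matrix.toLin'_apply]
    show Matrix.toLin' (LinearMap.toMatrix' P0.toLinearMap) u = P0 u
    rw [Matrix.toLin'_toMatrix']
    rfl
  have hMM : M0 * M0' = 1 := by
    show LinearMap.toMatrix' P0.toLinearMap * LinearMap.toMatrix' P0.symm.toLinearMap = 1
    rw [← LinearMap.toMatrix'_comp, ← LinearMap.toMatrix'_id]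
    congr 1
    apply LinearMap.ext
    intro u
    simp
  have hM0x : M0 * x.1 = s.1 * M0 := by
    apply Matrix.toLin'.injective
    apply LinearMap.ext
    intro u
    rw [Matrix.toLin'_mul, Matrix.toLin'_mul, LinearMap.comp_apply, LinearMap.comp_apply,
      Matrix.toLin'_apply, Matrix.toLin'_apply, Matrix.toLin'_apply, Matrix.toLin'_apply,
      hM0v, hM0v, ← hgx, ← hgs]
    exact hP0 u
  have hdet : M0.det * M0'.det = 1 := by rw [← Matrix.det_mul, hMM, Matrix.det_one]
  have hδ : M0.det ≠ 0 := left_ne_zero_of_mul_eq_one hdet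
  obtain ⟨c, hc⟩ := exists_pow_eq_of_coprime n hn.ne_zero hcop M0.det
  have hc0 : c ≠ 0 := by
    rintro rfl
    rw [zero_pow hn.ne_zero] at hc
    exact hδ hc.symm
  let Q : Matrix.SpecialLinearGroup (Fin n) F := ⟨c⁻¹ • M0, by
    rw [Matrix.det_smul, Fintype.card_fin, ← hc, inv_pow, inv_mul_cancel₀ (pow_ne_zero _ hc0)]⟩
  have hQval : Q.1 = c⁻¹ • M0 := rfl
  refine ⟨Q⁻¹, ?_⟩
  rw [inv_inv, Subgroup.mem_comap]
  have hval : ((Matrix.SpecialLinearGroup.toGL (Q * x * Q⁻¹) : GL (Fin n) F) :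
      Matrix (Fin n) (Fin n) F) = Q.1 * x.1 * (Q⁻¹).1 := rfl
  have hQinv : Q.1 * (Q⁻¹).1 = 1 := by
    rw [← Matrix.SpecialLinearGroup.coe_mul, mul_inv_cancel, Matrix.SpecialLinearGroup.coe_one]
  have heq : (Matrix.SpecialLinearGroup.toGL (Q * x * Q⁻¹) : GL (Fin n) F) = s := by
    apply Units.ext
    rw [hval]
    have h1 : Q.1 * x.1 = s.1 * Q.1 := by
      rw [hQval, Matrix.smul_mul, hM0x, Matrix.mul_smul]
    rw [h1, Matrix.mul_assoc, hQinv, mul_one]
  rw [heq]
  exact hsN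

end Cfsg.Agent.Helper59.FieldSub
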