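import Mathlib
import Cfsg.Prelude.Def_GeometricClasses
import Cfsg.Agent.Helper59.FieldSubB
import Cfsg.Agent.Helper59.FieldSubD
import Cfsg.Agent.Helper59.FieldSubE

set_option autoImplicit false

/-! Versions of `exists_cyclic`, `exists_conj`, `conjProp_of_ord` valid for every odd prime `n`
(the hypothesis `3 < n` is not needed). -/

namespace Cfsg.Agent.Helper59.FieldSub

open Module Matrix Polynomial
open Cfsg.Geo Cfsg.Agent.Helper59.InvChain Cfsg.Agent.Helper59.Elusive

section gen1

variable {F : Type*} [Field F] {V : Type*} [AddCommGroup V] [Module F V]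

variable [FiniteDimensional F V] [Fintype F]

/-- **Cyclic vector with annihilator `X^n - 1`.** -/
theorem exists_cyclic_gen {p : ℕ} [Fact p.Prime] [CharP F p] (n : ℕ) [Fact n.Prime] (hnp : n ≠ p)
    (hn3 : 2 < n) (hord : orderOf ((Fintype.card F : ℕ) : ZMod n) = n - 1)
    (hV : finrank F V = n) (g : V →ₗ[F] V) (hg : g ^ n = 1) (hg1 : g ≠ 1) :
    ∃ v : V, Function.Surjective (evalAt g v) ∧
      ∀ h : F[X], evalAt g v h = 0 ↔ (X ^ n - 1 : F[X]) ∣ h := by
  have hn : n.Prime := Fact.out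
  have hnF : (n : F) ≠ 0 := by
    intro h
    have h1 := (CharP.cast_eq_zero_iff F p n).mp h
    exact hnp ((Nat.prime_dvd_prime_iff_eq Fact.out hn).mp h1).symm
  have hP : HP (cyclotomic n F) (n - 1) := by
    have := HP_cyclotomic (F := F) n hnp
    rwa [hord] at this
  have hirr := irreducible_cyclotomic_of_HP n hn hP
  have hsum := finrank_fix_add_cyc n hnF g hg
  rw [hV] at hsum
  have hdvd : (n - 1) ∣ finrank F ↥(cycSp n g) :=
    dvd_finrank_of_inv g (cyclotomic n F) (n - 1) (by omega) hP (cycSp n g) (inv_cycSp n g)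
      (fun u hu => hu)
  have hcyc_ne : cycSp n g ≠ ⊥ := by
    intro h
    have h1 := sup_fix_cyc n hnF g hg
    rw [h, sup_bot_eq] at h1
    apply hg1
    apply LinearMap.ext
    intro v
    have : v ∈ fixSp g := by rw [h1]; trivial
    rw [mem_fixSp.mp this]
    rfl
  have hcycpos : 0 < finrank F ↥(cycSp n g) := by
    rw [Module.finrank_pos_iff]
    exact Submodule.nontrivial_iff_ne_bot.mpr hcyc_ne
  obtain ⟨k, hk⟩ := hdvd
  have hk1 : k = 1 := by
    have hkpos : 0 < k := by
      rcases Nat.eq_zero_or_pos k with h | h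
      · rw [h, mul_zero] at hk; omega
      · exact h
    have hle : finrank F ↥(cycSp n g) ≤ n := by omega
    rcases Nat.lt_or_ge k 2 with h | h
    · omega
    · exfalso
      have : (n - 1) * 2 ≤ (n - 1) * k := Nat.mul_le_mul_left _ h
      omega
  rw [hk1, mul_one] at hk
  have hfix1 : finrank F ↥(fixSp g) = 1 := by omega
  haveI : Nontrivial ↥(fixSp g) := Module.nontrivial_of_finrank_pos (R := F) (by omega)
  haveI : Nontrivial ↥(cycSp n g) := Module.nontrivial_of_finrank_pos (R := F) hcycpos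
  obtain ⟨v1, hv1⟩ := exists_ne (0 : ↥(fixSp g))
  obtain ⟨v2, hv2⟩ := exists_ne (0 : ↥(cycSp n g))
  have hv1' : (v1 : V) ≠ 0 := fun h => hv1 (Subtype.ext h)
  have hv2' : (v2 : V) ≠ 0 := fun h => hv2 (Subtype.ext h)
  have hgv1 : g v1 = v1 := mem_fixSp.mp v1.2
  have hprod : cyclotomic n F * (X - 1) = X ^ n - 1 := cyclotomic_prime_mul_X_sub_one F n
  have hkill : ∀ w : V, (aeval g (X ^ n - 1 : F[X])) w = 0 := by
    intro w; simp [hg]
  have hiff : ∀ h : F[X], evalAt g ((v1 : V) + v2) h = 0 ↔ (X ^ n - 1 : F[X]) ∣ h := by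
    intro h
    constructor
    · intro h0
      rw [evalAt_apply, map_add] at h0
      have ha : (aeval g h) (v1 : V) ∈ fixSp g := (inv_fixSp g).aeval_mem h v1.2
      have hb : (aeval g h) (v2 : V) ∈ cycSp n g := (inv_cycSp n g).aeval_mem h v2.2
      have ha0 : (aeval g h) (v1 : V) = 0 := by
        have : (aeval g h) (v1 : V) ∈ fixSp g ⊓ cycSp n g := by
          refine ⟨ha, ?_⟩
          have : (aeval g h) (v1 : V) = - (aeval g h) (v2 : V) := eq_neg_of_add_eq_zero_left h0
          rw [this]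
          exact Submodule.neg_mem _ hb
        rw [disjoint_fix_cyc n hnF g] at this
        exact this
      have hb0 : (aeval g h) (v2 : V) = 0 := by rwa [ha0, zero_add] at h0
      -- `(X - 1) ∣ h`
      have h1 : (X - C 1 : F[X]) ∣ h := by
        rw [dvd_iff_isRoot, IsRoot.def]
        have hev : Module.End.HasEigenvector g 1 (v1 : V) := by
          rw [Module.End.hasEigenvector_iff]
          refine ⟨?_, hv1'⟩
          rw [Module.End.mem_eigenspace_iff, one_smul]
          exact hgv1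
        rw [Module.End.aeval_apply_of_hasEigenvector hev] at ha0
        rcases smul_eq_zero.mp ha0 with h2 | h2
        · exact h2
        · exact absurd h2 hv1'
      -- `Φ ∣ h`
      have h2 : cyclotomic n F ∣ h := by
        by_contra hnd
        obtain ⟨a, b, hab⟩ := (hirr.coprime_iff_not_dvd).mpr hnd
        apply hv2'
        have h3 : (v2 : V) = (aeval g (a * cyclotomic n F)) (v2 : V) + (aeval g (b * h)) (v2 : V) := by
          rw [← LinearMap.add_apply, ← map_add, hab]; simp
        rw [h3, map_mul, map_mul, Module.End.mul_apply, Module.End.mul_apply, hb0]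
        have : (aeval g (cyclotomic n F)) (v2 : V) = 0 := v2.2
        rw [this, map_zero, map_zero, add_zero]
      have hcop : IsCoprime (cyclotomic n F) (X - C 1 : F[X]) := by
        have := isCoprime_X_sub_one_cyclotomic (F := F) n hnF
        rw [show (X - 1 : F[X]) = X - C 1 by simp] at this
        exact this.symm
      have := hcop.mul_dvd h2 h1
      rwa [show (X - C 1 : F[X]) = X - 1 by simp, hprod] at this
    · rintro ⟨c, rfl⟩
      rw [evalAt_apply, map_mul, Module.End.mul_apply]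
      rw [← Module.End.mul_apply, ← map_mul, mul_comm, map_mul, Module.End.mul_apply, hkill,
        map_zero]
  refine ⟨(v1 : V) + v2, ?_, hiff⟩
  -- surjectivity via polynomials of degree `< n`
  have hinj : Function.Injective ((evalAt g ((v1 : V) + v2)).comp (degreeLT F n).subtype) := by
    rw [← LinearMap.ker_eq_bot, Submodule.eq_bot_iff]
    intro h hh
    rw [LinearMap.mem_ker, LinearMap.comp_apply] at hh
    have h1 := (hiff _).mp hh
    have h3 : (X ^ n - 1 : F[X]) = X ^ n - C 1 := by simp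
    rw [h3] at h1
    have h2 : (h : F[X]).degree < (X ^ n - C 1 : F[X]).degree := by
      rw [degree_X_pow_sub_C hn.pos (1 : F)]
      exact mem_degreeLT.mp h.2
    exact Subtype.ext (eq_zero_of_dvd_of_degree_lt h1 h2)
  have hfr : finrank F ↥(degreeLT F n) = finrank F V := by
    rw [(degreeLTEquiv F n).finrank_eq, Module.finrank_fin_fun, hV]
  haveI : FiniteDimensional F ↥(degreeLT F n) := Module.finite_of_finrank_pos (by rw [hfr, hV]; exact hn.pos)
  have hsurj := (LinearMap.injective_iff_surjective_of_finrank_eq_finrank hfr).mp hinj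
  intro u
  obtain ⟨h, hh⟩ := hsurj u
  exact ⟨h.1, hh⟩

/-- two such endomorphisms are conjugate. -/
theorem exists_conj_gen {p : ℕ} [Fact p.Prime] [CharP F p] (n : ℕ) [Fact n.Prime] (hnp : n ≠ p)
    (hn3 : 2 < n) (hord : orderOf ((Fintype.card F : ℕ) : ZMod n) = n - 1)
    (hV : finrank F V = n) (g s : V →ₗ[F] V) (hg : g ^ n = 1) (hg1 : g ≠ 1)
    (hs : s ^ n = 1) (hs1 : s ≠ 1) :
    ∃ P : V ≃ₗ[F] V, ∀ u, P (g u) = s (P u) := by
  obtain ⟨v, hvs, hvk⟩ := exists_cyclic_gen n hnp hn3 hord hV g hg hg1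
  obtain ⟨w, hws, hwk⟩ := exists_cyclic_gen n hnp hn3 hord hV s hs hs1
  have hker : LinearMap.ker (evalAt g v) = LinearMap.ker (evalAt s w) := by
    ext h
    rw [LinearMap.mem_ker, LinearMap.mem_ker, hvk, hwk]
  let E1 := (evalAt g v).quotKerEquivOfSurjective hvs
  let E2 := (evalAt s w).quotKerEquivOfSurjective hws
  let Q := Submodule.quotEquivOfEq _ _ hker
  refine ⟨E1.symm.trans (Q.trans E2), ?_⟩
  intro u
  obtain ⟨h, rfl⟩ := hvs u
  have h1 : ∀ h' : F[X], (E1.symm.trans (Q.trans E2)) (evalAt g v h') = evalAt s w h' := by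
    intro h'
    have : E1.symm (evalAt g v h') = Submodule.Quotient.mk h' := by
      rw [LinearEquiv.symm_apply_eq]
      rfl
    rw [LinearEquiv.trans_apply, this]
    rfl
  rw [← evalAt_X_mul, h1, h1, evalAt_X_mul]


end gen1

section gen2

variable {F : Type*} [Field F] [Fintype F] {n : ℕ} {K : Subalgebra F (Matrix (Fin n) (Fin n) F)}

theorem conjProp_of_ord_gen {p : ℕ} [Fact p.Prime] [CharP F p] (hn : n.Prime) (hn3 : 2 < n)
    (hnp : n ≠ p) (hK : IsFieldSubalgebra n K)
    (hord : orderOf ((Fintype.card F : ℕ) : ZMod n) = n - 1) : ConjProp F n K := by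
  classical
  haveI : Fact n.Prime := ⟨hn⟩
  rintro x ⟨z, hz⟩ hns
  have hq1 : 1 ≤ Fintype.card F := Fintype.card_pos
  have hcop : Nat.Coprime n (Fintype.card F - 1) := by
    rw [Nat.Prime.coprime_iff_not_dvd hn]
    intro hdvd
    have := (orderOf_eq_one_iff_dvd n (Fintype.card F) hq1).mpr hdvd
    rw [hord] at this
    omega
  have hz1 : z = 1 := by
    apply eq_one_of_pow_eq_one_of_coprime n hn.ne_zero hcop
    have hdet : ((x ^ n : Matrix.SpecialLinearGroup (Fin n) F) :
        Matrix (Fin n) (Fin n) F).det = 1 := (x ^ n).2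
    rw [hz, Matrix.det_smul, Fintype.card_fin, Matrix.det_one, mul_one] at hdet
    exact hdet
  rw [hz1, one_smul, Matrix.SpecialLinearGroup.coe_pow] at hz
  let gx : (Fin n → F) →ₗ[F] (Fin n → F) := Matrix.toLinAlgEquiv' x.1
  have hgx : ∀ u, gx u = x.1 *ᵥ u := fun u => rfl
  have hgxn : gx ^ n = 1 := by
    show (Matrix.toLinAlgEquiv' x.1) ^ n = 1
    rw [← map_pow, hz, map_one]
  have hgx1 : gx ≠ 1 := by
    intro h
    apply hns 1
    rw [one_smul]
    apply (Matrix.toLinAlgEquiv' (R := F) (n := Fin n)).injective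
    rw [map_one]
    exact h
  obtain ⟨s, hsN, hsn, hs1⟩ := exists_frobenius hn hK
  let gs : (Fin n → F) →ₗ[F] (Fin n → F) := Matrix.toLinAlgEquiv' s.1
  have hgs : ∀ u, gs u = s.1 *ᵥ u := fun u => rfl
  have hgsn : gs ^ n = 1 := by
    show (Matrix.toLinAlgEquiv' s.1) ^ n = 1
    rw [← map_pow, ← Units.val_pow_eq_pow_val, hsn, Units.val_one, map_one]
  have hgs1 : gs ≠ 1 := by
    intro h
    apply hs1
    apply Units.ext
    apply (Matrix.toLinAlgEquiv' (R := F) (n := Fin n)).injective
    rw [Units.val_one, map_one]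
    exact h
  obtain ⟨P0, hP0⟩ := exists_conj_gen n hnp hn3 hord (Module.finrank_fin_fun F) gx gs hgxn hgx1
    hgsn hgs1
  let M0 : Matrix (Fin n) (Fin n) F := LinearMap.toMatrix' P0.toLinearMap
  let M0' : Matrix (Fin n) (Fin n) F := LinearMap.toMatrix' P0.symm.toLinearMap
  have hM0v : ∀ u, M0 *ᵥ u = P0 u := by
    intro u
    rw [← Matrix.toLin'_apply]
    show Matrix.toLin' (LinearMap.toMatrix' P0.toLinearMap) u = P0 u
    rw [Matrix.toLin'_toMatrix']
    rfl
  have hMM : M0 * M0' = 1 := by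
    show LinearMap.toMatrix' P0.toLinearMap * LinearMap.toMatrix' P0.symm.toLinearMap = 1
    rw [← LinearMap.toMatrix'_comp, ← LinearMap.toMatrix'_id]
    congr 1
    apply LinearMap.ext
    intro u
    simp
  have hM0x : M0 * x.1 = s.1 * M0 := by
    apply Matrix.toLin'.injective
    apply LinearMap.ext
    intro u
    rw [Matrix.toLin'_mul, Matrix.toLin'_mul, LinearMap.comp_apply, LinearMap.comp_apply,
      Matrix.toLin'_apply, Matrix.toLin'_apply, Matrix.toLin'_apply, Matrix.toLin'_apply,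
      hM0v, hM0v, ← hgx, ← hgs]
    exact hP0 u
  have hdet : M0.det * M0'.det = 1 := by rw [← Matrix.det_mul, hMM, Matrix.det_one]
  have hδ : M0.det ≠ 0 := left_ne_zero_of_mul_eq_one hdet
  obtain ⟨c, hc⟩ := exists_pow_eq_of_coprime n hn.ne_zero hcop M0.det
  have hc0 : c ≠ 0 := by
    rintro rfl
    rw [zero_pow hn.ne_zero] at hc
    exact hδ hc.symm
  let Q : Matrix.SpecialLinearGroup (Fin n) F := ⟨c⁻¹ • M0, by
    rw [Matrix.det_smul, Fintype.card_fin, ← hc, inv_pow, inv_mul_cancel₀ (pow_ne_zero _ hc0)]⟩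
  have hQval : Q.1 = c⁻¹ • M0 := rfl
  refine ⟨Q⁻¹, ?_⟩
  rw [inv_inv, Subgroup.mem_comap]
  have hval : ((Matrix.SpecialLinearGroup.toGL (Q * x * Q⁻¹) : GL (Fin n) F) :
      Matrix (Fin n) (Fin n) F) = Q.1 * x.1 * (Q⁻¹).1 := rfl
  have hQinv : Q.1 * (Q⁻¹).1 = 1 := by
    rw [← Matrix.SpecialLinearGroup.coe_mul, mul_inv_cancel, Matrix.SpecialLinearGroup.coe_one]
  have heq : (Matrix.SpecialLinearGroup.toGL (Q * x * Q⁻¹) : GL (Fin n) F) = s := by
    apply Units.ext
    rw [hval]
    have h1 : Q.1 * x.1 = s.1 * Q.1 := by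
      rw [hQval, Matrix.smul_mul, hM0x, Matrix.mul_smul]
    rw [h1, Matrix.mul_assoc, hQinv, mul_one]
  rw [heq]
  exact hsN


end gen2

end Cfsg.Agent.Helper59.FieldSub
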