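import Mathlib

set_option autoImplicit false

/-! Endomorphisms `g` with `g^3 = 1` over a field containing the cube roots of unity `a, b, c`:
if `a` is not an eigenvalue then the space is the direct sum of the `b`- and `c`-eigenspaces. -/

namespace Cfsg.Agent.Helper59.FieldSub

open Module

variable {F : Type*} [Field F] {V : Type*} [AddCommGroup V] [Module F V]

/-- the eigenspace `ker (g - a)`. -/
def eigSp (g : V →ₗ[F] V) (a : F) : Submodule F V := LinearMap.ker (g - a • LinearMap.id)

theorem mem_eigSp {g : V →ₗ[F] V} {a : F} {v : V} : v ∈ eigSp g a ↔ g v = a • v := by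
  rw [eigSp, LinearMap.mem_ker, LinearMap.sub_apply, LinearMap.smul_apply, LinearMap.id_apply,
    sub_eq_zero]

theorem quad_of_no_eig (g : V →ₗ[F] V) (hg : ∀ v, g (g (g v)) = v) (a b c : F)
    (e1 : a + b + c = 0) (e2 : a * b + b * c + c * a = 0) (e3 : a * b * c = 1)
    (ha : ∀ v, g v = a • v → v = 0) :
    ∀ v, g (g v) = (b + c) • g v - (b * c) • v := by
  intro v
  have hw : g (g (g v) - (b + c) • g v + (b * c) • v)
      = a • (g (g v) - (b + c) • g v + (b * c) • v) := by
    rw [map_add, map_sub, map_smul, map_smul, hg]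
    have h1 : v - (b + c) • g (g v) + (b * c) • g v - a • (g (g v) - (b + c) • g v + (b * c) • v)
        = (1 - a * b * c) • v - (a + b + c) • g (g v) + (a * b + b * c + c * a) • g v := by
      module
    rw [e1, e2, e3, sub_self, zero_smul, zero_smul, zero_smul, sub_zero, add_zero] at h1
    exact sub_eq_zero.mp h1
  have := ha _ hw
  have h2 : g (g v) - ((b + c) • g v - (b * c) • v)
      = g (g v) - (b + c) • g v + (b * c) • v := by module
  exact sub_eq_zero.mp (h2.trans this)

theorem isCompl_of_quad (g : V →ₗ[F] V) (b c : F) (hbc : b ≠ c)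
    (hq : ∀ v, g (g v) = (b + c) • g v - (b * c) • v) : IsCompl (eigSp g b) (eigSp g c) := by
  have hbc' : b - c ≠ 0 := sub_ne_zero.mpr hbc
  constructor
  · rw [Submodule.disjoint_def]
    intro v hvb hvc
    rw [mem_eigSp] at hvb hvc
    have h1 : (b - c) • v = 0 := by rw [sub_smul, ← hvb, ← hvc, sub_self]
    rcases smul_eq_zero.mp h1 with h | h
    · exact absurd h hbc'
    · exact h
  · rw [codisjoint_iff, eq_top_iff]
    intro v _
    have hb : g v - c • v ∈ eigSp g b := by
      rw [mem_eigSp, map_sub, map_smul, hq]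
      module
    have hc : g v - b • v ∈ eigSp g c := by
      rw [mem_eigSp, map_sub, map_smul, hq]
      module
    have hv : v = (b - c)⁻¹ • (g v - c • v) + (-(b - c)⁻¹) • (g v - b • v) := by
      have h1 : (b - c)⁻¹ • (g v - c • v) + (-(b - c)⁻¹) • (g v - b • v)
          = ((b - c)⁻¹ * (b - c)) • v := by module
      rw [h1, inv_mul_cancel₀ hbc', one_smul]
    rw [hv]
    exact Submodule.add_mem_sup (Submodule.smul_mem _ _ hb) (Submodule.smul_mem _ _ hc)

theorem det_of_isCompl [FiniteDimensional F V] (g : V →ₗ[F] V) (b c : F)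
    (h : IsCompl (eigSp g b) (eigSp g c)) :
    LinearMap.det g = b ^ finrank F ↥(eigSp g b) * c ^ finrank F ↥(eigSp g c) := by
  let e := Submodule.prodEquivOfIsCompl _ _ h
  let f : (↥(eigSp g b) × ↥(eigSp g c)) →ₗ[F] (↥(eigSp g b) × ↥(eigSp g c)) :=
    LinearMap.prodMap (b • LinearMap.id) (c • LinearMap.id)
  have hgf : g = (e : _ →ₗ[F] V) ∘ₗ f ∘ₗ (e.symm : V →ₗ[F] _) := by
    apply LinearMap.ext
    intro v
    obtain ⟨u, rfl⟩ := e.surjective v
    rw [LinearMap.comp_apply, LinearMap.comp_apply, LinearEquiv.coe_coe, LinearEquiv.coe_coe,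
      e.symm_apply_apply]
    show g (e u) = e (f u)
    rw [Submodule.coe_prodEquivOfIsCompl', Submodule.coe_prodEquivOfIsCompl', map_add,
      mem_eigSp.mp u.1.2, mem_eigSp.mp u.2.2]
    rfl
  have hdet : LinearMap.det g = LinearMap.det ((e : _ →ₗ[F] V) ∘ₗ f ∘ₗ (e.symm : V →ₗ[F] _)) :=
    congrArg _ hgf
  rw [hdet, LinearMap.det_conj, LinearMap.det_prodMap, LinearMap.det_smul, LinearMap.det_smul,
    LinearMap.det_id, LinearMap.det_id, mul_one, mul_one]

variable [FiniteDimensional F V]

theorem exists_eig_of_det (hV : finrank F V = 3) (g : V →ₗ[F] V) (hg : ∀ v, g (g (g v)) = v)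
    (a b c : F) (e1 : a + b + c = 0) (e2 : a * b + b * c + c * a = 0) (e3 : a * b * c = 1)
    (hbc : b ≠ c) (hdet : LinearMap.det g = 1) (hns : ∀ z : F, ∃ v, g v ≠ z • v) :
    ∃ v, v ≠ 0 ∧ g v = a • v := by
  by_contra hno
  push Not at hno
  have ha : ∀ v, g v = a • v → v = 0 := by
    intro v hv
    by_contra h0
    exact hno v h0 hv
  have hq := quad_of_no_eig g hg a b c e1 e2 e3 ha
  have hcompl := isCompl_of_quad g b c hbc hq
  have hd := det_of_isCompl g b c hcompl
  have hsum := Submodule.finrank_add_eq_of_isCompl hcompl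
  rw [hV] at hsum
  rw [hdet] at hd
  have hb3 : b ^ 3 = 1 := by linear_combination b ^ 2 * e1 - b * e2 + e3
  have hc3 : c ^ 3 = 1 := by linear_combination c ^ 2 * e1 - c * e2 + e3
  have htop : ∀ z : F, eigSp g z ≠ ⊤ := by
    intro z hz
    obtain ⟨v, hv⟩ := hns z
    apply hv
    have : v ∈ eigSp g z := by rw [hz]; trivial
    exact mem_eigSp.mp this
  have hd3 : finrank F ↥(eigSp g b) ≠ 3 := by
    intro h
    exact htop b (Submodule.eq_top_of_finrank_eq (by rw [h, hV]))
  have he3 : finrank F ↥(eigSp g c) ≠ 3 := by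
    intro h
    exact htop c (Submodule.eq_top_of_finrank_eq (by rw [h, hV]))
  have hcases : (finrank F ↥(eigSp g b) = 1 ∧ finrank F ↥(eigSp g c) = 2) ∨
      (finrank F ↥(eigSp g b) = 2 ∧ finrank F ↥(eigSp g c) = 1) := by omega
  rcases hcases with ⟨h1, h2⟩ | ⟨h1, h2⟩
  · rw [h1, h2] at hd
    apply hbc
    calc b = b * c ^ 3 := by rw [hc3, mul_one]
      _ = (b ^ 1 * c ^ 2) * c := by ring
      _ = c := by rw [← hd, one_mul]
  · rw [h1, h2] at hd
    apply hbc
    calc b = (b ^ 2 * c ^ 1) * b := by rw [← hd, one_mul]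
      _ = c * b ^ 3 := by ring
      _ = c := by rw [hb3, mul_one]

theorem exists_eig_of_small (hV : finrank F V = 3) (g : V →ₗ[F] V) (hg : ∀ v, g (g (g v)) = v)
    (a b c : F) (e1 : a + b + c = 0) (e2 : a * b + b * c + c * a = 0) (e3 : a * b * c = 1)
    (hbc : b ≠ c) (hb : finrank F ↥(eigSp g b) ≤ 1) (hc : finrank F ↥(eigSp g c) ≤ 1) :
    ∃ v, v ≠ 0 ∧ g v = a • v := by
  by_contra hno
  push Not at hno
  have ha : ∀ v, g v = a • v → v = 0 := by
    intro v hv
    by_contra h0
    exact hno v h0 hv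
  have hq := quad_of_no_eig g hg a b c e1 e2 e3 ha
  have hcompl := isCompl_of_quad g b c hbc hq
  have hsum := Submodule.finrank_add_eq_of_isCompl hcompl
  rw [hV] at hsum
  omega

end Cfsg.Agent.Helper59.FieldSub
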