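import Mathlib
import Cfsg.Prelude.Def_GeometricClasses
import Cfsg.Agent.Helper59.FieldSubG
import Cfsg.Agent.Helper59.FieldSubJ
import Cfsg.Agent.Helper59.FieldSubK
import Cfsg.Agent.Helper59.FieldSubL

set_option autoImplicit false

/-! `PSL_3(q)` and the normaliser of a cubic field subalgebra: the elements of order `3` are all
conjugate into it iff `q ≡ 4, 7, 8 mod 9` (given that `3` divides the index). -/

namespace Cfsg.Agent.Helper59.FieldSub

open Module Matrix Polynomial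
open Cfsg.Geo Cfsg.Agent.Helper59.Elusive

variable {F : Type*} [Field F] [Fintype F] {K : Subalgebra F (Matrix (Fin 3) (Fin 3) F)}

omit [Fintype F] in
theorem cube_apply (M : Matrix (Fin 3) (Fin 3) F) (hM : M ^ 3 = 1) (v : Fin 3 → F) :
    Matrix.toLin' M (Matrix.toLin' M (Matrix.toLin' M v)) = v := by
  rw [Matrix.toLin'_apply, Matrix.toLin'_apply, Matrix.toLin'_apply, Matrix.mulVec_mulVec,
    Matrix.mulVec_mulVec]
  have : M * M * M = 1 := by rw [← hM, pow_succ, pow_succ, pow_one]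
  rw [this, Matrix.one_mulVec]

/-- `3 ∥ q - 1`: all elements of order three are conjugate into the normaliser. -/
theorem conjProp_three_of_val {p : ℕ} [Fact p.Prime] [CharP F p] (hK : IsFieldSubalgebra 3 K)
    (h3 : 3 ∣ Fintype.card F - 1) (h9 : ¬ 9 ∣ Fintype.card F - 1) : ConjProp F 3 K := by
  classical
  have hn : Nat.Prime 3 := Nat.prime_three
  obtain ⟨ω, hω⟩ := exists_orderOf_eq (F := F) 3 h3
  have hω3 : ω ^ 3 = 1 := by rw [← hω]; exact pow_orderOf_eq_one ω
  have hω1 : ω ≠ 1 := by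
    intro h
    rw [h, orderOf_one] at hω
    omega
  have hω0 : ω ≠ 0 := by
    rintro rfl
    rw [zero_pow (by norm_num)] at hω3
    exact zero_ne_one hω3
  have e0 : 1 + ω + ω ^ 2 = 0 := by
    have h : (ω - 1) * (1 + ω + ω ^ 2) = 0 := by linear_combination hω3
    rcases mul_eq_zero.mp h with h | h
    · exact absurd (sub_eq_zero.mp h) hω1
    · exact h
  have hω21 : ω ^ 2 ≠ 1 := by
    intro h
    apply hω1
    calc ω = ω ^ 3 * (ω ^ 2)⁻¹ := by
          rw [show ω ^ 3 = ω ^ 2 * ω by ring, mul_comm (ω ^ 2), mul_assoc,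
            mul_inv_cancel₀ (pow_ne_zero 2 hω0), mul_one]
      _ = 1 := by rw [hω3, h, inv_one, mul_one]
  have hωω2 : ω ≠ ω ^ 2 := by
    intro h
    apply hω1
    have h1 : ω * 1 = ω * ω := by rw [mul_one, ← pow_two]; exact h
    exact (mul_left_cancel₀ hω0 h1).symm
  rintro x ⟨z, hz⟩ hns
  have hz3 : z ^ 3 = 1 := by
    have hdet : ((x ^ 3 : Matrix.SpecialLinearGroup (Fin 3) F) :
        Matrix (Fin 3) (Fin 3) F).det = 1 := (x ^ 3).2
    rw [hz, Matrix.det_smul, Fintype.card_fin, Matrix.det_one, mul_one] at hdet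
    exact hdet
  rw [Matrix.SpecialLinearGroup.coe_pow] at hz
  have hz1 : z = 1 := by
    by_contra hz1
    have hnc := not_cube h9 z hz1 hz3
    have hirr := X_pow_sub_C_irreducible_of_prime hn hnc
    have hd := det_of_cube_eq x.1 z hz hirr
    rw [x.2] at hd
    exact hz1 hd.symm
  rw [hz1, one_smul] at hz
  have hV : finrank F (Fin 3 → F) = 3 := Module.finrank_fin_fun F
  -- eigenvalue data
  have E1 : (1 : F) + ω + ω ^ 2 = 0 := e0
  have E2 : (1 : F) * ω + ω * ω ^ 2 + ω ^ 2 * 1 = 0 := by linear_combination e0 + hω3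
  have E3 : (1 : F) * ω * ω ^ 2 = 1 := by linear_combination hω3
  have E1' : ω + ω ^ 2 + 1 = 0 := by linear_combination e0
  have E2' : ω * ω ^ 2 + ω ^ 2 * 1 + 1 * ω = 0 := by linear_combination e0 + hω3
  have E3' : ω * ω ^ 2 * 1 = 1 := by linear_combination hω3
  have E1'' : ω ^ 2 + 1 + ω = 0 := by linear_combination e0
  have E2'' : ω ^ 2 * 1 + 1 * ω + ω * ω ^ 2 = 0 := by linear_combination e0 + hω3
  have E3'' : ω ^ 2 * 1 * ω = 1 := by linear_combination hω3
  -- eigenvectors of `x`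
  have hgx := cube_apply x.1 hz
  have hdetx : LinearMap.det (Matrix.toLin' x.1) = 1 := by
    rw [LinearMap.det_toLin']
    exact x.2
  have hnsx : ∀ z : F, ∃ v, Matrix.toLin' x.1 v ≠ z • v := by
    intro z
    by_contra h
    push Not at h
    apply hns z
    apply Matrix.toLin'.injective
    apply LinearMap.ext
    intro v
    rw [h v, map_smul, Matrix.toLin'_one]
    rfl
  let ev : Fin 3 → F := fun j => ω ^ (j : ℕ)
  have hev : Function.Injective ev := by
    intro i j hij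
    apply Fin.ext
    apply pow_injOn_Iio_orderOf (x := ω)
    · rw [hω]; exact i.2
    · rw [hω]; exact j.2
    · exact hij
  have hu : ∀ j : Fin 3, ∃ v : Fin 3 → F, v ≠ 0 ∧ x.1 *ᵥ v = ev j • v := by
    intro j
    fin_cases j
    · obtain ⟨v, hv0, hv⟩ := exists_eig_of_det hV _ hgx 1 ω (ω ^ 2) E1 E2 E3 hωω2 hdetx hnsx
      refine ⟨v, hv0, ?_⟩
      rw [Matrix.toLin'_apply] at hv
      simpa [ev] using hv
    · obtain ⟨v, hv0, hv⟩ := exists_eig_of_det hV _ hgx ω (ω ^ 2) 1 E1' E2' E3' hω21 hdetx hnsx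
      refine ⟨v, hv0, ?_⟩
      rw [Matrix.toLin'_apply] at hv
      simpa [ev] using hv
    · obtain ⟨v, hv0, hv⟩ := exists_eig_of_det hV _ hgx (ω ^ 2) 1 ω E1'' E2'' E3'' hω1.symm
        hdetx hnsx
      refine ⟨v, hv0, ?_⟩
      rw [Matrix.toLin'_apply] at hv
      simpa [ev] using hv
  choose u hu0 hu using hu
  -- eigenvectors of the Frobenius element
  obtain ⟨s, hsN, hs3, hsns⟩ := exists_frobenius_nonscalar hn hK
  have hs3' : s.1 ^ 3 = 1 := by rw [← Units.val_pow_eq_pow_val, hs3, Units.val_one]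
  have hgs := cube_apply s.1 hs3'
  have hsmall : ∀ b : F, b ≠ 0 → finrank F ↥(eigSp (Matrix.toLin' s.1) b) ≤ 1 := by
    intro b hb
    by_contra h
    push Not at h
    exact hsns b (eq_smul_one_of_two_le_finrank_ker hn hK s hsN b hb h)
  have hω20 : ω ^ 2 ≠ 0 := pow_ne_zero 2 hω0
  have hw : ∀ j : Fin 3, ∃ v : Fin 3 → F, v ≠ 0 ∧ s.1 *ᵥ v = ev j • v := by
    intro j
    fin_cases j
    · obtain ⟨v, hv0, hv⟩ := exists_eig_of_small hV _ hgs 1 ω (ω ^ 2) E1 E2 E3 hωω2
        (hsmall ω hω0) (hsmall _ hω20)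
      refine ⟨v, hv0, ?_⟩
      rw [Matrix.toLin'_apply] at hv
      simpa [ev] using hv
    · obtain ⟨v, hv0, hv⟩ := exists_eig_of_small hV _ hgs ω (ω ^ 2) 1 E1' E2' E3' hω21
        (hsmall _ hω20) (hsmall 1 one_ne_zero)
      refine ⟨v, hv0, ?_⟩
      rw [Matrix.toLin'_apply] at hv
      simpa [ev] using hv
    · obtain ⟨v, hv0, hv⟩ := exists_eig_of_small hV _ hgs (ω ^ 2) 1 ω E1'' E2'' E3'' hω1.symm
        (hsmall 1 one_ne_zero) (hsmall ω hω0)
      refine ⟨v, hv0, ?_⟩
      rw [Matrix.toLin'_apply] at hv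
      simpa [ev] using hv
  choose w hw0 hw using hw
  obtain ⟨Q, Q', hQdet, -, hQx⟩ := exists_conj_of_eigen (0 : Fin 3) x.1 s.1 ev hev u w hu hu0 hw hw0
  let Qs : Matrix.SpecialLinearGroup (Fin 3) F := ⟨Q, hQdet⟩
  have hQval : Qs.1 = Q := rfl
  refine ⟨Qs⁻¹, ?_⟩
  rw [inv_inv, Subgroup.mem_comap]
  have hval : ((Matrix.SpecialLinearGroup.toGL (Qs * x * Qs⁻¹) : GL (Fin 3) F) :
      Matrix (Fin 3) (Fin 3) F) = Qs.1 * x.1 * (Qs⁻¹).1 := rfl
  have hQinv : Qs.1 * (Qs⁻¹).1 = 1 := by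
    rw [← Matrix.SpecialLinearGroup.coe_mul, mul_inv_cancel, Matrix.SpecialLinearGroup.coe_one]
  have heq : (Matrix.SpecialLinearGroup.toGL (Qs * x * Qs⁻¹) : GL (Fin 3) F) = s := by
    apply Units.ext
    rw [hval, hQval, hQx, ← hQval, Matrix.mul_assoc, hQinv, mul_one]
  rw [heq]
  exact hsN

/-- `q ≡ 2 mod 3`: all elements of order three are conjugate into the normaliser. -/
theorem conjProp_three_of_two {p : ℕ} [Fact p.Prime] [CharP F p] (hK : IsFieldSubalgebra 3 K)
    (h2 : Fintype.card F % 3 = 2) : ConjProp F 3 K := by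
  have hnp : 3 ≠ p := by
    rintro rfl
    obtain ⟨f, -, hf⟩ := FiniteField.card F 3
    rw [hf] at h2
    have : 3 ∣ 3 ^ (f : ℕ) := dvd_pow_self 3 f.ne_zero
    omega
  have hord : orderOf ((Fintype.card F : ℕ) : ZMod 3) = 3 - 1 := by
    have h : ((Fintype.card F : ℕ) : ZMod 3) = 2 := by
      rw [← ZMod.natCast_mod, h2]; rfl
    rw [h, show 3 - 1 = 2 by norm_num]
    exact orderOf_eq_prime (by decide) (by decide)
  exact conjProp_of_ord_gen Nat.prime_three (by norm_num) hnp hK hord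

/-- **The case `n = 3`.** -/
theorem conjProp_three_iff {p : ℕ} [Fact p.Prime] [CharP F p] (hK : IsFieldSubalgebra 3 K)
    (hΩ : 3 ∣ ((subalgebraNormalizer K).comap (Matrix.SpecialLinearGroup.toGL :
      Matrix.SpecialLinearGroup (Fin 3) F →* GL (Fin 3) F)).index) :
    ConjProp F 3 K ↔
      (Fintype.card F % 9 = 4 ∨ Fintype.card F % 9 = 7 ∨ Fintype.card F % 9 = 8) := by
  have hq1 : 1 ≤ Fintype.card F := Fintype.card_pos
  have hcases : Fintype.card F % 9 = 0 ∨ Fintype.card F % 9 = 3 ∨ Fintype.card F % 9 = 6 ∨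
      Fintype.card F % 9 = 1 ∨ Fintype.card F % 9 = 2 ∨ Fintype.card F % 9 = 5 ∨
      Fintype.card F % 9 = 4 ∨ Fintype.card F % 9 = 7 ∨ Fintype.card F % 9 = 8 := by omega
  have hchar3 : 3 ∣ Fintype.card F → ¬ ConjProp F 3 K := by
    intro h3
    obtain ⟨f, hp, hf⟩ := FiniteField.card F p
    rw [hf] at h3
    have h3p : 3 ∣ p := Nat.Prime.dvd_of_dvd_pow Nat.prime_three h3
    have hp3 : 3 = p := (Nat.prime_dvd_prime_iff_eq Nat.prime_three hp).mp h3p
    subst hp3
    exact not_conjProp_of_char_three hK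
  rcases hcases with h | h | h | h | h | h | h | h | h
  · exact ⟨fun H => absurd H (hchar3 (by omega)), fun h' => by omega⟩
  · exact ⟨fun H => absurd H (hchar3 (by omega)), fun h' => by omega⟩
  · exact ⟨fun H => absurd H (hchar3 (by omega)), fun h' => by omega⟩
  · exact ⟨fun H => absurd H (not_conjProp_of_nine_dvd hK (by omega)), fun h' => by omega⟩
  · exact absurd hΩ (not_dvd_index hK (Or.inl h))
  · exact absurd hΩ (not_dvd_index hK (Or.inr h))
  · exact ⟨fun _ => Or.inl h, fun _ => conjProp_three_of_val hK (by omega) (by omega)⟩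
  · exact ⟨fun _ => Or.inr (Or.inl h), fun _ => conjProp_three_of_val hK (by omega) (by omega)⟩
  · exact ⟨fun _ => Or.inr (Or.inr h), fun _ => conjProp_three_of_two hK (by omega)⟩

end Cfsg.Agent.Helper59.FieldSub
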