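import Mathlib.GroupTheory.GroupAction.Jordan
import Mathlib.GroupTheory.Sylow
import Mathlib.GroupTheory.Perm.Cycle.Type
import Mathlib.GroupTheory.Perm.Finite

/-! Neumann's lemma on generously k-transitive groups (helper59). -/

set_option autoImplicit false
set_option linter.unusedSectionVars false

namespace Cfsg.Agent.Helper59

open MulAction
open scoped Pointwise

theorem false_of_sylow_embeds_of_dvd_index {K : Type*} [Group K] [Finite K] (p : ℕ)
    [hp : Fact p.Prime]
    (T : Sylow p K) (A : Subgroup K) (hA : p ∣ A.index) (ψ : ↥(T : Subgroup K) →* ↥A)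
    (hψ : Function.Injective ψ) : False := by
  have h1 : Nat.card (T : Subgroup K) ∣ Nat.card A := Subgroup.card_dvd_of_injective ψ hψ
  have h2 : Nat.card (T : Subgroup K) = p ^ (Nat.card K).factorization p := T.card_eq_multiplicity
  have h3 : Nat.card A * A.index = Nat.card K := A.card_mul_index
  have hApos : Nat.card A ≠ 0 := Nat.card_pos.ne'
  have hKpos : Nat.card K ≠ 0 := Nat.card_pos.ne'
  have hipos : A.index ≠ 0 := by
    intro h; rw [h, mul_zero] at h3; exact hKpos h3.symm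
  have h4 : (Nat.card A).factorization p + 1 ≤ (Nat.card K).factorization p := by
    rw [← h3, Nat.factorization_mul hApos hipos]
    have : 1 ≤ (A.index).factorization p :=
      (hp.out.dvd_iff_one_le_factorization hipos).mp hA
    simp only [Finsupp.coe_add, Pi.add_apply]
    omega
  rw [h2] at h1
  have h5 : p ^ ((Nat.card A).factorization p + 1) ∣ Nat.card A :=
    (pow_dvd_pow p h4).trans h1
  exact Nat.pow_succ_factorization_not_dvd hApos hp.out h5

section Generous

variable {M : Type*} {α : Type*} [Group M] [MulAction M α] [DecidableEq α]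

/-- the generosity hypothesis: every permutation of a `(k+1)`-subset is induced. -/
def Generous (M : Type*) {α : Type*} [Group M] [MulAction M α] (k : ℕ) : Prop :=
  ∀ s : Finset α, s.card = k + 1 → ∀ σ : Equiv.Perm ↥s, ∃ g : M, ∀ x : ↥s, g • (x : α) = σ x

theorem Generous.exists_agree {k : ℕ} (hgen : Generous M (α := α) k) (s : Finset α)
    (hs : s.card = k + 1) (π : Equiv.Perm α) (hπ : ∀ y, y ∈ s → π y ∈ s) :
    ∃ e : M, ∀ y ∈ s, e • y = π y := by
  obtain ⟨e, he⟩ := hgen s hs (π.subtypePermOfFintype hπ)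
  refine ⟨e, fun y hy => ?_⟩
  have := he ⟨y, hy⟩
  simpa using this

theorem Generous.exists_swap {k : ℕ} (hgen : Generous M (α := α) k) (s : Finset α)
    (hs : s.card = k + 1) {u v : α} (hu : u ∈ s) (hv : v ∈ s) :
    ∃ e : M, e • u = v ∧ e • v = u ∧ ∀ y ∈ s, y ≠ u → y ≠ v → e • y = y := by
  obtain ⟨e, he⟩ := hgen.exists_agree s hs (Equiv.swap u v) (by
    intro y
    by_cases hyu : y = u
    · subst hyu; simp [hu, hv]
    · by_cases hyv : y = v
      · subst hyv; simp [hu, hv]
      · rw [Equiv.swap_apply_of_ne_of_ne hyu hyv]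
        exact id)
  refine ⟨e, ?_, ?_, ?_⟩
  · rw [he u hu, Equiv.swap_apply_left]
  · rw [he v hv, Equiv.swap_apply_right]
  · intro y hy hyu hyv
    rw [he y hy, Equiv.swap_apply_of_ne_of_ne hyu hyv]

theorem Generous.exists_maps_into {k : ℕ} (hgen : Generous M (α := α) k) (n : ℕ) :
    ∀ (Λ Λ' : Finset α), Λ.card = k → Λ'.card = k → (Λ \ Λ').card = n →
      ∃ h : M, ∀ y ∈ Λ, h • y ∈ Λ' := by
  induction n with
  | zero =>
    intro Λ Λ' _ _ h0
    refine ⟨1, fun y hy => ?_⟩
    rw [one_smul]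
    rw [Finset.card_eq_zero, Finset.sdiff_eq_empty_iff_subset] at h0
    exact h0 hy
  | succ n ih =>
    intro Λ Λ' hΛ hΛ' hn
    have hne : (Λ \ Λ').Nonempty := by
      rw [← Finset.card_pos]; omega
    obtain ⟨u, hu⟩ := hne
    rw [Finset.mem_sdiff] at hu
    -- find v ∈ Λ' \ Λ
    have hv : ∃ v, v ∈ Λ' ∧ v ∉ Λ := by
      by_contra hcon
      push Not at hcon
      have hsub : Λ' ⊆ Λ := fun v hv => hcon v hv
      have heq : Λ' = Λ := Finset.eq_of_subset_of_card_le hsub (by omega)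
      exact hu.2 (heq ▸ hu.1)
    obtain ⟨v, hvΛ', hvΛ⟩ := hv
    have hs : (insert v Λ).card = k + 1 := by
      rw [Finset.card_insert_of_notMem hvΛ, hΛ]
    obtain ⟨e, heu, _, hefix⟩ := hgen.exists_swap (insert v Λ) hs
      (Finset.mem_insert_of_mem hu.1) (Finset.mem_insert_self v Λ)
    have huv : u ≠ v := fun h => hvΛ (h ▸ hu.1)
    set Λ₁ := insert v (Λ.erase u) with hΛ₁
    have hΛ₁card : Λ₁.card = k := by
      rw [hΛ₁, Finset.card_insert_of_notMem, Finset.card_erase_of_mem hu.1, hΛ]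
      · have : 0 < k := by rw [← hΛ]; exact Finset.card_pos.mpr ⟨u, hu.1⟩
        omega
      · intro h
        exact hvΛ (Finset.mem_of_mem_erase h)
    have hmap : ∀ y ∈ Λ, e • y ∈ Λ₁ := by
      intro y hy
      by_cases hyu : y = u
      · rw [hyu, heu, hΛ₁]; exact Finset.mem_insert_self _ _
      · have hyv : y ≠ v := fun h => hvΛ (h ▸ hy)
        rw [hefix y (Finset.mem_insert_of_mem hy) hyu hyv, hΛ₁]
        exact Finset.mem_insert_of_mem (Finset.mem_erase.mpr ⟨hyu, hy⟩)
    have hdiff : (Λ₁ \ Λ').card = n := by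
      have h1 : Λ₁ \ Λ' = (Λ \ Λ').erase u := by
        ext y
        simp only [hΛ₁, Finset.mem_sdiff, Finset.mem_insert, Finset.mem_erase]
        constructor
        · rintro ⟨h1 | ⟨h1, h2⟩, h3⟩
          · exact absurd (h1 ▸ hvΛ') h3
          · exact ⟨h1, h2, h3⟩
        · rintro ⟨h1, h2, h3⟩
          exact ⟨Or.inr ⟨h1, h2⟩, h3⟩
      rw [h1, Finset.card_erase_of_mem (Finset.mem_sdiff.mpr hu), hn]
      rfl
    obtain ⟨h₁, hh₁⟩ := ih Λ₁ Λ' hΛ₁card hΛ' hdiff
    refine ⟨h₁ * e, fun y hy => ?_⟩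
    rw [mul_smul]
    exact hh₁ _ (hmap y hy)

/-- the subgroup fixing `Γ \ Γp` pointwise and `Γp` setwise -/
def mixedStab (M : Type*) {α : Type*} [Group M] [MulAction M α] [DecidableEq α]
    (Γ Γp : Finset α) : Subgroup M :=
  fixingSubgroup M ((Γ \ Γp : Finset α) : Set α) ⊓ stabilizer M Γp

theorem mem_mixedStab [Fintype α] {Γ Γp : Finset α} {d : M} :
    d ∈ mixedStab M Γ Γp ↔ (∀ y ∈ Γ \ Γp, d • y = y) ∧ ∀ y ∈ Γp, d • y ∈ Γp := by
  unfold mixedStab
  rw [Subgroup.mem_inf, mem_fixingSubgroup_iff, mem_stabilizer_finset']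
  simp only [Finset.mem_coe]

theorem mixedStab_smul_mem [Fintype α] {Γ Γp : Finset α} (hsub : Γp ⊆ Γ) {d : M}
    (hd : d ∈ mixedStab M Γ Γp) {y : α} (hy : y ∈ Γ) : d • y ∈ Γ := by
  rw [mem_mixedStab] at hd
  by_cases hyp : y ∈ Γp
  · exact hsub (hd.2 y hyp)
  · rw [hd.1 y (Finset.mem_sdiff.mpr ⟨hy, hyp⟩)]; exact hy

theorem fixing_le_mixedStab [Fintype α] {Γ Γp : Finset α} (hsub : Γp ⊆ Γ) :
    fixingSubgroup M (Γ : Set α) ≤ mixedStab M Γ Γp := by
  intro a ha
  rw [mem_fixingSubgroup_iff] at ha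
  rw [mem_mixedStab]
  refine ⟨fun y hy => ha y (Finset.mem_coe.mpr (Finset.mem_sdiff.mp hy).1), fun y hy => ?_⟩
  rw [ha y (Finset.mem_coe.mpr (hsub hy))]; exact hy

/-- an element of the mixed stabilizer acts on a point outside `Γ` as an element of the pointwise
stabilizer of `Γ` does. -/
theorem Generous.exists_fixing_smul_eq [Fintype α] {k : ℕ} (hgen : Generous M (α := α) k)
    {Γ Γp : Finset α} (hΓ : Γ.card = k) (hsub : Γp ⊆ Γ) {d : M} (hd : d ∈ mixedStab M Γ Γp)
    {x : α} (hx : x ∉ Γ) : ∃ a ∈ fixingSubgroup M (Γ : Set α), d • x = a • x := by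
  have hdinv : d⁻¹ ∈ mixedStab M Γ Γp := Subgroup.inv_mem _ hd
  have hs : (insert x Γ).card = k + 1 := by rw [Finset.card_insert_of_notMem hx, hΓ]
  have hdx : d • x ∉ Γ := by
    intro h
    have := mixedStab_smul_mem hsub hdinv h
    rw [inv_smul_smul] at this
    exact hx this
  have hπ : ∀ y ∈ Γ, ((Equiv.swap x (d • x) * MulAction.toPerm d : Equiv.Perm α)) y = d • y := by
    intro y hy
    have h1 : d • y ∈ Γ := mixedStab_smul_mem hsub hd hy
    have h2 : d • y ≠ x := fun h => hx (h ▸ h1)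
    have h3 : d • y ≠ d • x := fun h => hdx (h ▸ h1)
    rw [Equiv.Perm.mul_apply, MulAction.toPerm_apply, Equiv.swap_apply_of_ne_of_ne h2 h3]
  have hπx : ((Equiv.swap x (d • x) * MulAction.toPerm d : Equiv.Perm α)) x = x := by
    rw [Equiv.Perm.mul_apply, MulAction.toPerm_apply, Equiv.swap_apply_right]
  obtain ⟨e, he⟩ := hgen.exists_agree (insert x Γ) hs
    (Equiv.swap x (d • x) * MulAction.toPerm d) (by
      intro y hy
      rw [Finset.mem_insert] at hy
      rcases hy with rfl | hy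
      · rw [hπx]; exact Finset.mem_insert_self _ _
      · rw [hπ y hy]
        exact Finset.mem_insert_of_mem (mixedStab_smul_mem hsub hd hy))
  have hex : e • x = x := by rw [he x (Finset.mem_insert_self _ _), hπx]
  have hey : ∀ y ∈ Γ, e • y = d • y := fun y hy => by
    rw [he y (Finset.mem_insert_of_mem hy), hπ y hy]
  refine ⟨d * e⁻¹, ?_, ?_⟩
  · rw [mem_fixingSubgroup_iff]
    intro y hy
    have hy' : y ∈ Γ := Finset.mem_coe.mp hy
    have h1 : d⁻¹ • y ∈ Γ := mixedStab_smul_mem hsub hdinv hy'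
    have h2 : e • (d⁻¹ • y) = y := by rw [hey _ h1, smul_inv_smul]
    have h3 : e⁻¹ • y = d⁻¹ • y := by rw [inv_smul_eq_iff, h2]
    rw [mul_smul, h3, smul_inv_smul]
  · have : e⁻¹ • x = x := by rw [inv_smul_eq_iff, hex]
    rw [mul_smul, this]

/-- points outside `Γ` stay outside under the pointwise stabilizer -/
theorem fixing_smul_notMem {Γ : Finset α} {a : M} (ha : a ∈ fixingSubgroup M (Γ : Set α)) {x : α}
    (hx : x ∉ Γ) : a • x ∉ Γ := by
  intro h
  rw [mem_fixingSubgroup_iff] at ha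
  have h1 : a • (a • x) = a • x := ha _ (Finset.mem_coe.mpr h)
  have h2 : a • x = x := smul_left_cancel a h1
  exact hx (h2 ▸ h)

/-- Neumann's lemma on generously `k`-transitive groups (abstract version). -/
theorem generous_orbits_aux [Finite M] [Fintype α] {k : ℕ} (hk : k < Fintype.card α)
    (hgen : Generous M (α := α) k) {p : ℕ} (hp : p.Prime) (hpk : p ≤ k) (Γ : Finset α)
    (hΓ : Γ.card = k) (f : Fin p → α) (hf : ∀ i, f i ∉ Γ)
    (hdist : ∀ i j, i ≠ j → f j ∉ orbit (fixingSubgroup M (Γ : Set α)) (f i)) :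
    ∃ i, p ∣ Nat.card (orbit (fixingSubgroup M (Γ : Set α)) (f i)) := by
  classical
  by_contra hcon
  push Not at hcon
  have hfact : Fact p.Prime := ⟨hp⟩
  obtain ⟨Γp, hsub, hΓpcard⟩ := Finset.exists_subset_card_eq (hΓ ▸ hpk)
  -- orbits are invariant under the mixed stabilizer
  have horb : ∀ (i : Fin p) (d : mixedStab M Γ Γp) (x : α),
      x ∈ orbit (fixingSubgroup M (Γ : Set α)) (f i) →
      d • x ∈ orbit (fixingSubgroup M (Γ : Set α)) (f i) := by
    intro i d x hx
    obtain ⟨a', rfl⟩ := hx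
    have hx' : (a' : M) • f i ∉ Γ := fixing_smul_notMem a'.2 (hf i)
    obtain ⟨a, ha, hda⟩ := hgen.exists_fixing_smul_eq hΓ hsub d.2 hx'
    refine ⟨⟨a, ha⟩ * a', ?_⟩
    change ((⟨a, ha⟩ : fixingSubgroup M (Γ : Set α)) * a') • f i = (d : M) • ((a' : M) • f i)
    rw [mul_smul]
    exact hda.symm
  -- the invariant subsets as sub-actions
  let O : Fin p → SubMulAction (mixedStab M Γ Γp) α := fun i =>
    { carrier := orbit (fixingSubgroup M (Γ : Set α)) (f i)
      smul_mem' := fun d x hx => horb i d x hx }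
  obtain ⟨T⟩ : Nonempty (Sylow p (mixedStab M Γ Γp)) := inferInstance
  -- fixed points of T in each orbit
  have hfix : ∀ i : Fin p, ∃ z : α, z ∈ orbit (fixingSubgroup M (Γ : Set α)) (f i) ∧
      ∀ t ∈ T, ((t : mixedStab M Γ Γp) : M) • z = z := by
    intro i
    have hcard : ¬ p ∣ Nat.card (O i) := hcon i
    obtain ⟨z, hz⟩ := T.isPGroup'.nonempty_fixed_point_of_prime_not_dvd_card (O i) hcard
    refine ⟨z.1, z.2, fun t ht => ?_⟩
    have := hz ⟨t, ht⟩
    exact congrArg Subtype.val this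
  choose z hzorb hzfix using hfix
  have hzΓ : ∀ i, z i ∉ Γ := by
    intro i
    obtain ⟨a, ha⟩ := hzorb i
    rw [← ha]
    exact fixing_smul_notMem a.2 (hf i)
  have hzinj : Function.Injective z := by
    intro i j hij
    by_contra hne
    apply hdist i j hne
    have h1 : orbit (fixingSubgroup M (Γ : Set α)) (z i) = orbit (fixingSubgroup M (Γ : Set α)) (f i) :=
      orbit_eq_iff.mpr (hzorb i)
    have h2 : orbit (fixingSubgroup M (Γ : Set α)) (z j) = orbit (fixingSubgroup M (Γ : Set α)) (f j) :=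
      orbit_eq_iff.mpr (hzorb j)
    rw [← h1, hij, h2]
    exact mem_orbit_self _
  -- the new k-set
  have hdisj : Disjoint (Γ \ Γp) (Finset.image z Finset.univ) := by
    rw [Finset.disjoint_left]
    intro y hy hy'
    obtain ⟨i, -, rfl⟩ := Finset.mem_image.mp hy'
    exact hzΓ i (Finset.mem_sdiff.mp hy).1
  have hΓscard : ((Γ \ Γp) ∪ Finset.image z Finset.univ).card = k := by
    rw [Finset.card_union_of_disjoint hdisj, Finset.card_sdiff_of_subset hsub,
      Finset.card_image_of_injective _ hzinj, Finset.card_univ, Fintype.card_fin, hΓ, hΓpcard]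
    omega
  have hTfix : ∀ t ∈ T, ∀ y ∈ (Γ \ Γp) ∪ Finset.image z Finset.univ,
      ((t : mixedStab M Γ Γp) : M) • y = y := by
    intro t ht y hy
    rw [Finset.mem_union] at hy
    rcases hy with hy | hy
    · exact (mem_mixedStab.mp t.2).1 y hy
    · obtain ⟨i, -, rfl⟩ := Finset.mem_image.mp hy
      exact hzfix i t ht
  obtain ⟨h, hh⟩ := hgen.exists_maps_into _ Γ _ hΓ hΓscard rfl
  have hconj : ∀ t ∈ T, h⁻¹ * ((t : mixedStab M Γ Γp) : M) * h ∈
      fixingSubgroup M (Γ : Set α) := by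
    intro t ht
    rw [mem_fixingSubgroup_iff]
    intro y hy
    rw [mul_smul, mul_smul, hTfix t ht _ (hh y (Finset.mem_coe.mp hy)), inv_smul_smul]
  let fψ : ↥(T : Subgroup (mixedStab M Γ Γp)) →
      ↥((fixingSubgroup M (Γ : Set α)).subgroupOf (mixedStab M Γ Γp)) := fun t =>
    ⟨⟨h⁻¹ * ((t : mixedStab M Γ Γp) : M) * h, fixing_le_mixedStab hsub (hconj t.1 t.2)⟩,
      Subgroup.mem_subgroupOf.mpr (hconj t.1 t.2)⟩
  have hfval : ∀ t, (((fψ t : (fixingSubgroup M (Γ : Set α)).subgroupOf (mixedStab M Γ Γp)) :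
      mixedStab M Γ Γp) : M) = h⁻¹ * ((t : mixedStab M Γ Γp) : M) * h := fun t => rfl
  have hfmul : ∀ t₁ t₂, fψ (t₁ * t₂) = fψ t₁ * fψ t₂ := by
    intro t₁ t₂
    apply Subtype.ext
    apply Subtype.ext
    rw [hfval]
    simp only [Subgroup.coe_mul]
    rw [hfval, hfval]
    group
  let ψ : ↥(T : Subgroup (mixedStab M Γ Γp)) →*
      ↥((fixingSubgroup M (Γ : Set α)).subgroupOf (mixedStab M Γ Γp)) := MonoidHom.mk' fψ hfmul
  have hψ : Function.Injective ψ := by
    intro t₁ t₂ ht
    have h0 : fψ t₁ = fψ t₂ := ht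
    have h1 : h⁻¹ * ((t₁ : mixedStab M Γ Γp) : M) * h = h⁻¹ * ((t₂ : mixedStab M Γ Γp) : M) * h := by
      rw [← hfval, ← hfval, h0]
    rw [mul_left_inj, mul_right_inj] at h1
    apply Subtype.ext
    apply Subtype.ext
    exact h1
  -- the index
  have hindex : p ∣ ((fixingSubgroup M (Γ : Set α)).subgroupOf (mixedStab M Γ Γp)).index := by
    have hne : Γp.Nonempty := by
      rw [← Finset.card_pos, hΓpcard]; exact hp.pos
    obtain ⟨γ₁, hγ₁⟩ := hne
    have hle : (fixingSubgroup M (Γ : Set α)).subgroupOf (mixedStab M Γ Γp) ≤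
        stabilizer (mixedStab M Γ Γp) γ₁ := by
      intro a ha
      rw [Subgroup.mem_subgroupOf, mem_fixingSubgroup_iff] at ha
      rw [mem_stabilizer_iff]
      exact ha γ₁ (Finset.mem_coe.mpr (hsub hγ₁))
    have horbit : orbit (mixedStab M Γ Γp) γ₁ = (Γp : Set α) := by
      ext γ
      constructor
      · rintro ⟨d, rfl⟩
        exact Finset.mem_coe.mpr ((mem_mixedStab.mp d.2).2 γ₁ hγ₁)
      · intro hγ
        have hγ' : γ ∈ Γp := Finset.mem_coe.mp hγ
        obtain ⟨x₀, hx₀⟩ : ∃ x₀, x₀ ∉ Γ := by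
          by_contra hall
          push Not at hall
          have : Γ = Finset.univ := Finset.eq_univ_iff_forall.mpr hall
          rw [this, Finset.card_univ] at hΓ
          omega
        have hs : (insert x₀ Γ).card = k + 1 := by rw [Finset.card_insert_of_notMem hx₀, hΓ]
        obtain ⟨e, he1, he2, he3⟩ := hgen.exists_swap (insert x₀ Γ) hs
          (Finset.mem_insert_of_mem (hsub hγ₁)) (Finset.mem_insert_of_mem (hsub hγ'))
        have heD : e ∈ mixedStab M Γ Γp := by
          rw [mem_mixedStab]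
          constructor
          · intro y hy
            rw [Finset.mem_sdiff] at hy
            apply he3 y (Finset.mem_insert_of_mem hy.1)
            · intro hyγ; exact hy.2 (hyγ ▸ hγ₁)
            · intro hyγ; exact hy.2 (hyγ ▸ hγ')
          · intro y hy
            by_cases h1 : y = γ₁
            · rw [h1, he1]; exact hγ'
            · by_cases h2 : y = γ
              · rw [h2, he2]; exact hγ₁
              · rw [he3 y (Finset.mem_insert_of_mem (hsub hy)) h1 h2]; exact hy
        exact ⟨⟨e, heD⟩, he1⟩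
    have hB : (stabilizer (mixedStab M Γ Γp) γ₁).index = p := by
      rw [index_stabilizer, horbit, Set.ncard_coe_finset, hΓpcard]
    rw [← hB]
    exact Subgroup.index_dvd_of_le hle
  exact false_of_sylow_embeds_of_dvd_index p T _ hindex ψ hψ

end Generous

end Cfsg.Agent.Helper59
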