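import Cfsg.Agent.S0708

/-! Jordan's theorem on the degrees of sharply 4- and 5-transitive groups (helper59), building on
helper60's formalisation of Tits' argument (S0708). -/

set_option autoImplicit false

namespace Cfsg.Agent.Helper59

open MulAction Cfsg.Agent.S0708

section Sharp4

variable {G : Type*} [Group G] {Ω : Type*} [MulAction G Ω]

/-- Tits' argument, refined: if the involution `x = (a b)(p)(q)…` of a sharply 4-transitive group has
exactly three fixed points and there is a point outside the fixed points and `{a, b}`, then there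
are at least 11 points. -/
theorem eleven_le_card_of_three_fixed [DecidableEq Ω] [Fintype Ω]
    (h4 : IsMultiplyPretransitive G Ω 4)
    (hsharp : ∀ x : Fin 4 ↪ Ω, stabilizer G x = ⊥) {x : G}
    (hx : ∀ y : Ω, x • x • y = y) {a : Ω} (ha : a ≠ x • a)
    (F : Finset Ω) (hF : ∀ y, x • y = y ↔ y ∈ F) (hFc : F.card = 3)
    {c₀ : Ω} (hc₀F : c₀ ∉ F) (hc₀a : c₀ ≠ a) (hc₀b : c₀ ≠ x • a) :
    11 ≤ Fintype.card Ω := by
  -- basic facts
  have haF : a ∉ F := fun h => ha ((hF a).mpr h).symm
  have hbF : x • a ∉ F := by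
    intro h
    have := (hF _).mpr h
    rw [hx] at this
    exact ha this
  have hxF : ∀ y, y ∈ F → x • y = y := fun y hy => (hF y).mpr hy
  have hxnF : ∀ y, y ∉ F → x • y ∉ F := by
    intro y hy h
    apply hy
    have := (hF _).mpr h
    rw [hx] at this
    rw [this]; exact h
  have hxc₀ : x • c₀ ≠ c₀ := fun h => hc₀F ((hF c₀).mp h)
  have hxc₀a : x • c₀ ≠ a := by
    intro h
    apply hc₀b
    rw [← h, hx]
  have hxc₀b : x • c₀ ≠ x • a := fun h => hc₀a (MulAction.injective x h)
  -- the element g₀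
  obtain ⟨g₀, g1, g2, g3, g4⟩ := exists_map4 h4 ha (Ne.symm hc₀a) (Ne.symm hxc₀a) (Ne.symm hc₀b)
    (Ne.symm hxc₀b) (Ne.symm hxc₀) ha (Ne.symm hxc₀a) (Ne.symm hc₀a) (Ne.symm hxc₀b)
    (Ne.symm hc₀b) hxc₀
  have hg₀x : g₀ * x = x * g₀ :=
    commute_of_map_pairs hsharp hx ha (Ne.symm hxc₀a) (by rw [hx]; exact Ne.symm hc₀a)
      (Ne.symm hxc₀b) (by rw [hx]; exact Ne.symm hc₀b) (by rw [hx]; exact hxc₀) g1 g2 g3
      (by rw [hx]; exact g4)
  have hg₀sq : g₀ * g₀ = 1 := by
    apply eq_one_of_fix4 hsharp ha (Ne.symm hc₀a) (Ne.symm hxc₀a) (Ne.symm hc₀b) (Ne.symm hxc₀b)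
      (Ne.symm hxc₀)
    · rw [mul_smul, g1, g1]
    · rw [mul_smul, g2, g2]
    · rw [mul_smul, g3, g4]
    · rw [mul_smul, g4, g3]
  have hinv₀ : ∀ y : Ω, g₀ • g₀ • y = y := fun y => by rw [← mul_smul, hg₀sq, one_smul]
  have hg₀F : ∀ p ∈ F, g₀ • p ∈ F := fun p hp => by
    rw [← hF, ← mul_smul, ← hg₀x, mul_smul, hxF p hp]
  have hg₀ne : g₀ ≠ 1 := by
    rintro rfl
    rw [one_smul] at g3
    exact hxc₀ g3.symm
  -- two fixed points in F force the identity
  have htwo : ∀ (g : G), g • a = a → g • x • a = x • a → ∀ q ∈ F, ∀ q' ∈ F, q ≠ q' →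
      g • q = q → g • q' = q' → g = 1 := by
    intro g e1 e2 q hq q' hq' hqq e3 e4
    exact eq_one_of_fix4 hsharp ha (fun h => haF (h ▸ hq)) (fun h => haF (h ▸ hq'))
      (fun h => hbF (h ▸ hq)) (fun h => hbF (h ▸ hq')) hqq e1 e2 e3 e4
  -- g₀ has a fixed point in F
  have hq₀ : ∃ q₀ ∈ F, g₀ • q₀ = q₀ := by
    by_contra hcon
    push Not at hcon
    obtain ⟨p3, p4, p5, h34, h35, h45, rfl⟩ := Finset.card_eq_three.mp hFc
    have m3 := hg₀F p3 (by simp)
    have m4 := hg₀F p4 (by simp)
    have m5 := hg₀F p5 (by simp)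
    have n3 := hcon p3 (by simp)
    have n4 := hcon p4 (by simp)
    have n5 := hcon p5 (by simp)
    simp only [Finset.mem_insert, Finset.mem_singleton] at m3 m4 m5
    rcases m3 with h | h | h
    · exact n3 h
    · have h' : g₀ • p4 = p3 := by rw [← h, hinv₀]
      rcases m5 with k | k | k
      · exact h45 (MulAction.injective g₀ (h'.trans k.symm))
      · exact h35 (MulAction.injective g₀ (h.trans k.symm))
      · exact n5 k
    · have h' : g₀ • p5 = p3 := by rw [← h, hinv₀]
      rcases m4 with k | k | k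
      · exact h45 (MulAction.injective g₀ (k.trans h'.symm))
      · exact n4 k
      · exact h34 (MulAction.injective g₀ (h.trans k.symm))
  obtain ⟨q₀, hq₀F, hg₀q₀⟩ := hq₀
  have hF1 : 1 < F.card := by omega
  obtain ⟨q₀', hq₀'F, hq₀'ne⟩ := Finset.exists_mem_ne hF1 q₀
  -- the conjugating elements
  have hex : ∀ q : F, ∃ h : G, h • a = a ∧ h • x • a = x • a ∧ h • q₀ = (q : Ω) ∧
      h * x = x * h := by
    intro q
    obtain ⟨q', hq'F, hq'ne⟩ := Finset.exists_mem_ne hF1 (q : Ω)
    obtain ⟨h, e1, e2, e3, e4⟩ := exists_map4 h4 ha (fun h => haF (h ▸ hq₀F))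
      (fun h => haF (h ▸ hq₀'F)) (fun h => hbF (h ▸ hq₀F)) (fun h => hbF (h ▸ hq₀'F))
      (Ne.symm hq₀'ne) ha (fun h => haF (h ▸ q.2)) (fun h => haF (h ▸ hq'F))
      (fun h => hbF (h ▸ q.2)) (fun h => hbF (h ▸ hq'F)) (Ne.symm hq'ne)
    refine ⟨h, e1, e2, e3, ?_⟩
    have hxinv : ∀ y : Ω, x⁻¹ • y = x • y := fun y => by rw [inv_smul_eq_iff, hx]
    have i1 : h⁻¹ • a = a := by rw [inv_smul_eq_iff, e1]
    have i2 : h⁻¹ • x • a = x • a := by rw [inv_smul_eq_iff, e2]
    have i3 : h⁻¹ • (q : Ω) = q₀ := by rw [inv_smul_eq_iff, e3]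
    have i4 : h⁻¹ • q' = q₀' := by rw [inv_smul_eq_iff, e4]
    have key : h * x * h⁻¹ * x⁻¹ = 1 := by
      apply htwo _ ?_ ?_ (q : Ω) q.2 q' hq'F (Ne.symm hq'ne)
      · rw [mul_smul, mul_smul, mul_smul, hxinv, hxF _ q.2, i3, hxF _ hq₀F, e3]
      · rw [mul_smul, mul_smul, mul_smul, hxinv, hxF _ hq'F, i4, hxF _ hq₀'F, e4]
      · rw [mul_smul, mul_smul, mul_smul, hxinv, i2, hx, e1]
      · rw [mul_smul, mul_smul, mul_smul, hxinv, hx, i1, e2]
    calc h * x = (h * x * h⁻¹ * x⁻¹) * (x * h) := by group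
      _ = x * h := by rw [key, one_mul]
  choose h he1 he2 he3 hcomm using hex
  have hcomm' : ∀ (q : F) (y : Ω), h q • x • y = x • h q • y := fun q y => by
    rw [← mul_smul, hcomm q, mul_smul]
  have hhF : ∀ (q : F) (y : Ω), h q • y ∈ F ↔ y ∈ F := by
    intro q y
    rw [← hF, ← hF, ← hcomm']
    exact (MulAction.injective (h q)).eq_iff
  -- the points c q
  have hcF : ∀ q : F, h q • c₀ ∉ F := fun q hmem => hc₀F ((hhF q c₀).mp hmem)
  have hca : ∀ q : F, h q • c₀ ≠ a := by
    intro q hq
    apply hc₀a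
    exact MulAction.injective (h q) (hq.trans (he1 q).symm)
  have hcb : ∀ q : F, h q • c₀ ≠ x • a := by
    intro q hq
    apply hc₀b
    exact MulAction.injective (h q) (hq.trans (he2 q).symm)
  -- the elements g q
  have hg1 : ∀ q : F, (h q * g₀ * (h q)⁻¹) • a = a := by
    intro q
    have : (h q)⁻¹ • a = a := by rw [inv_smul_eq_iff, he1]
    rw [mul_smul, mul_smul, this, g1, he1]
  have hg2 : ∀ q : F, (h q * g₀ * (h q)⁻¹) • x • a = x • a := by
    intro q
    have : (h q)⁻¹ • x • a = x • a := by rw [inv_smul_eq_iff, he2]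
    rw [mul_smul, mul_smul, this, g2, he2]
  have hg3 : ∀ q : F, (h q * g₀ * (h q)⁻¹) • (q : Ω) = q := by
    intro q
    have : (h q)⁻¹ • (q : Ω) = q₀ := by rw [inv_smul_eq_iff, he3]
    rw [mul_smul, mul_smul, this, hg₀q₀, he3]
  have hg4 : ∀ q : F, (h q * g₀ * (h q)⁻¹) • (h q • c₀) = x • (h q • c₀) := by
    intro q
    rw [mul_smul, mul_smul, inv_smul_smul, g3, hcomm']
  have hg5 : ∀ q : F, (h q * g₀ * (h q)⁻¹) • (x • (h q • c₀)) = h q • c₀ := by
    intro q
    rw [mul_smul, mul_smul, ← hcomm', inv_smul_smul, g4]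
  -- distinctness of the 2-cycles
  have hdist : ∀ q q' : F, (h q • c₀ = h q' • c₀ ∨ h q • c₀ = x • (h q' • c₀)) → q = q' := by
    intro q q' hor
    by_contra hne
    have hne' : (q : Ω) ≠ (q' : Ω) := fun hh => hne (Subtype.ext hh)
    -- both elements agree on four points
    have hsame : (h q * g₀ * (h q)⁻¹)⁻¹ * (h q' * g₀ * (h q')⁻¹) = 1 := by
      have hcne : h q' • c₀ ≠ x • (h q' • c₀) := fun hh => hcF q' ((hF _).mp hh.symm)
      apply eq_one_of_fix4 hsharp ha (Ne.symm (hca q')) (fun hh => hcb q' (by rw [hh, hx]))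
        (Ne.symm (hcb q')) (fun hh => hca q' (MulAction.injective x hh).symm) hcne
      · rw [mul_smul, hg1, inv_smul_eq_iff, hg1]
      · rw [mul_smul, hg2, inv_smul_eq_iff, hg2]
      · rw [mul_smul, hg4, inv_smul_eq_iff]
        rcases hor with hh | hh
        · rw [← hh, hg4]
        · have hh' : h q' • c₀ = x • (h q • c₀) := by rw [hh, hx]
          rw [hh', hx, hg5]
      · beta_reduce
        rw [mul_smul, hg5, inv_smul_eq_iff]
        rcases hor with hh | hh
        · rw [← hh, hg5]
        · have hh' : h q' • c₀ = x • (h q • c₀) := by rw [hh, hx]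
          rw [hh', hx, hg4]
    have heq : h q * g₀ * (h q)⁻¹ = h q' * g₀ * (h q')⁻¹ := by
      have := congrArg (fun z => (h q * g₀ * (h q)⁻¹) * z) hsame
      simpa [mul_assoc] using this.symm
    have hone : h q * g₀ * (h q)⁻¹ = 1 := by
      apply htwo _ (hg1 q) (hg2 q) (q : Ω) q.2 (q' : Ω) q'.2 hne' (hg3 q)
      rw [heq]; exact hg3 q'
    have : g₀ = 1 := by
      have := congrArg (fun z => (h q)⁻¹ * z * h q) hone
      simpa [mul_assoc] using this
    exact hg₀ne this
  -- injectivity of q ↦ c q and q ↦ x • c q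
  have hcinj : Function.Injective (fun q : F => h q • c₀) := fun q q' hqq => hdist q q' (Or.inl hqq)
  have hxcinj : Function.Injective (fun q : F => x • (h q • c₀)) := fun q q' hqq =>
    hdist q q' (Or.inl (MulAction.injective x hqq))
  -- the four pieces
  have hS1 : ({a, x • a} : Finset Ω).card = 2 := Finset.card_pair ha
  have hS3 : (Finset.image (fun q : F => h q • c₀) Finset.univ).card = 3 := by
    rw [Finset.card_image_of_injective _ hcinj, Finset.card_univ, Fintype.card_coe, hFc]
  have hS4 : (Finset.image (fun q : F => x • (h q • c₀)) Finset.univ).card = 3 := by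
    rw [Finset.card_image_of_injective _ hxcinj, Finset.card_univ, Fintype.card_coe, hFc]
  have hd12 : Disjoint ({a, x • a} : Finset Ω) F := by
    rw [Finset.disjoint_left]
    intro y hy hyF
    simp only [Finset.mem_insert, Finset.mem_singleton] at hy
    rcases hy with rfl | rfl
    · exact haF hyF
    · exact hbF hyF
  have hd3 : Disjoint (({a, x • a} : Finset Ω) ∪ F)
      (Finset.image (fun q : F => h q • c₀) Finset.univ) := by
    rw [Finset.disjoint_left]
    intro y hy hy'
    obtain ⟨q, -, rfl⟩ := Finset.mem_image.mp hy'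
    simp only [Finset.mem_union, Finset.mem_insert, Finset.mem_singleton] at hy
    rcases hy with (hy | hy) | hy
    · exact hca q hy
    · exact hcb q hy
    · exact hcF q hy
  have hd4 : Disjoint ((({a, x • a} : Finset Ω) ∪ F) ∪
      (Finset.image (fun q : F => h q • c₀) Finset.univ))
      (Finset.image (fun q : F => x • (h q • c₀)) Finset.univ) := by
    rw [Finset.disjoint_left]
    intro y hy hy'
    obtain ⟨q, -, rfl⟩ := Finset.mem_image.mp hy'
    simp only [Finset.mem_union, Finset.mem_insert, Finset.mem_singleton, Finset.mem_image,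
      Finset.mem_univ, true_and] at hy
    rcases hy with ((hy | hy) | hy) | ⟨q', hq'⟩
    · apply hcb q
      rw [← hy, hx]
    · exact hca q (MulAction.injective x hy)
    · exact hxnF _ (hcF q) hy
    · have := hdist q' q (Or.inr hq')
      subst this
      exact hcF q' ((hF _).mp hq'.symm)
  have hcardS : (((({a, x • a} : Finset Ω) ∪ F) ∪
      (Finset.image (fun q : F => h q • c₀) Finset.univ)) ∪
      (Finset.image (fun q : F => x • (h q • c₀)) Finset.univ)).card = 11 := by
    rw [Finset.card_union_of_disjoint hd4, Finset.card_union_of_disjoint hd3,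
      Finset.card_union_of_disjoint hd12, hS1, hFc, hS3, hS4]
  rw [← hcardS]
  exact Finset.card_le_univ _

/-- Jordan: a sharply 4-transitive group has degree 4, 5, 6 or 11 (abstract version). -/
theorem sharp4_card [DecidableEq Ω] [Fintype Ω] (h4 : IsMultiplyPretransitive G Ω 4)
    (hsharp : ∀ x : Fin 4 ↪ Ω, stabilizer G x = ⊥) (hn : 4 ≤ Fintype.card Ω) :
    Fintype.card Ω = 4 ∨ Fintype.card Ω = 5 ∨ Fintype.card Ω = 6 ∨ Fintype.card Ω = 11 := by
  have hne : Nonempty (Fin 4 ↪ Ω) :=
    Function.Embedding.nonempty_of_card_le (by simpa using hn)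
  obtain ⟨x, a, p3, p4, F, hx, ha, h34, hF, hp3, hp4, hFc⟩ := exists_involution h4 hsharp hne
  have h11 : Fintype.card Ω ≤ 11 := by
    have := (Cfsg.Agent.S0708.result h4 hsharp hne).2.1
    rwa [Nat.card_eq_fintype_card] at this
  rcases hFc with hFc | hFc
  · have := card_finset_le h4 hsharp hx ha h34 F hF hp3 hp4 Finset.univ
    rw [hFc, Finset.card_univ] at this
    omega
  · have haF : a ∉ F := fun h => ha ((hF a).mpr h).symm
    have hbF : x • a ∉ F := by
      intro h
      have := (hF _).mpr h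
      rw [hx] at this
      exact ha this
    by_cases hc : ∃ c₀, c₀ ∉ F ∧ c₀ ≠ a ∧ c₀ ≠ x • a
    · obtain ⟨c₀, h1, h2, h3⟩ := hc
      have := eleven_le_card_of_three_fixed h4 hsharp hx ha F hF hFc h1 h2 h3
      omega
    · push Not at hc
      have hsub : (Finset.univ : Finset Ω) ⊆ F ∪ {a, x • a} := by
        intro y _
        by_cases hyF : y ∈ F
        · exact Finset.mem_union_left _ hyF
        · by_cases hya : y = a
          · rw [hya]; simp
          · have := hc y hyF hya
            rw [this]; simp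
      have hd : Disjoint F ({a, x • a} : Finset Ω) := by
        rw [Finset.disjoint_right]
        intro y hy hyF
        simp only [Finset.mem_insert, Finset.mem_singleton] at hy
        rcases hy with rfl | rfl
        · exact haF hyF
        · exact hbF hyF
      have hcard : (F ∪ {a, x • a}).card = 5 := by
        rw [Finset.card_union_of_disjoint hd, hFc, Finset.card_pair ha]
      have h1 := Finset.card_le_card hsub
      have h2 := Finset.card_le_univ (F ∪ {a, x • a})
      rw [Finset.card_univ] at h1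
      omega

/-- the point stabilizer of a sharply `(n+1)`-transitive action is sharply `n`-transitive on
the remaining points. -/
theorem stabilizer_sharp {n : ℕ} (hsharp : ∀ x : Fin (n + 1) ↪ Ω, stabilizer G x = ⊥) (a : Ω)
    (y : Fin n ↪ SubMulAction.ofStabilizer G a) :
    stabilizer (stabilizer G a) y = ⊥ := by
  rw [Subgroup.eq_bot_iff_forall]
  intro g hg
  rw [mem_stabilizer_iff] at hg
  have hmem : (g : G) ∈ stabilizer G (SubMulAction.ofStabilizer.snoc y) := by
    rw [mem_stabilizer_iff]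
    ext i
    rw [Function.Embedding.smul_apply]
    rcases Fin.eq_castSucc_or_eq_last i with ⟨j, rfl⟩ | rfl
    · rw [SubMulAction.ofStabilizer.snoc_castSucc]
      have := DFunLike.congr_fun hg j
      rw [Function.Embedding.smul_apply] at this
      exact congrArg Subtype.val this
    · rw [SubMulAction.ofStabilizer.snoc_last]
      exact g.2
  rw [hsharp, Subgroup.mem_bot] at hmem
  exact Subtype.ext hmem

/-- Jordan: a sharply 5-transitive group has degree 5, 6, 7 or 12 (abstract version). -/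
theorem sharp5_card [Finite Ω] (h5 : IsMultiplyPretransitive G Ω 5)
    (hsharp : ∀ x : Fin 5 ↪ Ω, stabilizer G x = ⊥) (hn : 5 ≤ Nat.card Ω) :
    Nat.card Ω = 5 ∨ Nat.card Ω = 6 ∨ Nat.card Ω = 7 ∨ Nat.card Ω = 12 := by
  classical
  have hne : Nonempty Ω := by
    rw [← Finite.card_pos_iff]; omega
  obtain ⟨a⟩ := hne
  have h1 : IsMultiplyPretransitive G Ω 1 :=
    isMultiplyPretransitive_of_le (n := 5) (by omega) hn
  have hGt : IsPretransitive G Ω := is_one_pretransitive_iff.mp h1
  have h4 : IsMultiplyPretransitive (stabilizer G a) (SubMulAction.ofStabilizer G a) 4 :=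
    SubMulAction.ofStabilizer.isMultiplyPretransitive.mp h5
  have hsharp4 := stabilizer_sharp hsharp a
  have : Fintype (SubMulAction.ofStabilizer G a) := Fintype.ofFinite _
  have hcard : Fintype.card (SubMulAction.ofStabilizer G a) = Nat.card Ω - 1 := by
    rw [← Nat.card_eq_fintype_card, SubMulAction.nat_card_ofStabilizer_eq]
  have := sharp4_card h4 hsharp4 (by rw [hcard]; omega)
  rw [hcard] at this
  omega

end Sharp4

end Cfsg.Agent.Helper59
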