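import Cfsg.Agent.Helper61.HallDefs
import Cfsg.Agent.Helper59.SharpFour
import Cfsg.Agent.Helper59.MultTrans

/-! # Hall's theorem on 4-transitive groups with odd 4-point stabiliser: the small cases (T13) -/

set_option autoImplicit false

namespace Cfsg.Agent.Helper59.HallT13

open MulAction Cfsg.Agent.Helper61.Hall

section Generic

variable {G : Type*} [Group G] {Ω : Type*} [MulAction G Ω]

theorem mem_stabilizer_emb {x : Fin 4 ↪ Ω} {g : G} :
    g ∈ stabilizer G x ↔ ∀ i, g • x i = x i := by
  rw [mem_stabilizer_iff]
  constructor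
  · intro h i
    exact DFunLike.congr_fun h i
  · intro h
    ext i
    exact h i

theorem stabilizer_emb_eq_stab4 (x : Fin 4 ↪ Ω) :
    stabilizer G x = stab4 G (x 0) (x 1) (x 2) (x 3) := by
  ext g
  rw [mem_stabilizer_emb, mem_stab4]
  constructor
  · intro h
    exact ⟨h 0, h 1, h 2, h 3⟩
  · rintro ⟨h0, h1, h2, h3⟩ i
    fin_cases i
    · exact h0
    · exact h1
    · exact h2
    · exact h3

theorem card_stabilizer_emb_eq (h4 : IsMultiplyPretransitive G Ω 4) (x y : Fin 4 ↪ Ω) :
    Nat.card (stabilizer G x) = Nat.card (stabilizer G y) := by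
  obtain ⟨g, hg⟩ := h4.exists_smul_eq x y
  exact Nat.card_congr (stabilizerEquivStabilizer hg.symm).toEquiv

theorem oddStab4_of {G : Type*} [Group G] {Ω : Type*} [MulAction G Ω]
    (h4 : IsMultiplyPretransitive G Ω 4) (x : Fin 4 ↪ Ω)
    (hodd : Odd (Nat.card (stabilizer G x))) : OddStab4 G Ω := by
  intro a b c d hab hac had hbc hbd hcd
  set y : Fin 4 ↪ Ω := ⟨![a, b, c, d], Cfsg.Agent.Helper59.injective_vec4 hab hac had hbc hbd hcd⟩
    with hy
  have h1 := stabilizer_emb_eq_stab4 (G := G) y
  have h2 : stab4 G (y 0) (y 1) (y 2) (y 3) = stab4 G a b c d := rfl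
  rw [← h2, ← h1, card_stabilizer_emb_eq h4 y x]
  exact hodd

/-- if one 4-point stabiliser is trivial, all are. -/
theorem sharp_of_one (h4 : IsMultiplyPretransitive G Ω 4) (x : Fin 4 ↪ Ω)
    (hx : stabilizer G x = ⊥) : ∀ y : Fin 4 ↪ Ω, stabilizer G y = ⊥ := by
  intro y
  have h1 := card_stabilizer_emb_eq h4 y x
  rw [hx, Subgroup.card_bot] at h1
  exact Subgroup.card_eq_one.mp h1

theorem not_sharp_seven [DecidableEq Ω] [Fintype Ω] (h4 : IsMultiplyPretransitive G Ω 4)
    (x : Fin 4 ↪ Ω) (hx : stabilizer G x = ⊥) (h7 : Fintype.card Ω = 7) : False := by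
  have := Cfsg.Agent.Helper59.sharp4_card h4 (sharp_of_one h4 x hx) (by omega)
  omega

/-- the order of a sharply 4-transitive group. -/
theorem card_eq_of_sharp [Fintype Ω] (h4 : IsMultiplyPretransitive G Ω 4)
    (hsharp : ∀ x : Fin 4 ↪ Ω, stabilizer G x = ⊥) (hn : 4 ≤ Fintype.card Ω) :
    Nat.card G = (Fintype.card Ω).descFactorial 4 := by
  classical
  obtain ⟨x₀⟩ : Nonempty (Fin 4 ↪ Ω) :=
    Function.Embedding.nonempty_of_card_le (by simpa using hn)
  have hbij : Function.Bijective (fun g : G => g • x₀) := by
    constructor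
    · intro g h hgh
      have hmem : h⁻¹ * g ∈ stabilizer G x₀ := by
        rw [mem_stabilizer_iff, mul_smul]
        have : g • x₀ = h • x₀ := hgh
        rw [this, inv_smul_smul]
      rw [hsharp, Subgroup.mem_bot] at hmem
      exact (inv_mul_eq_one.mp hmem).symm
    · intro y
      exact h4.exists_smul_eq x₀ y
  rw [Nat.card_congr (Equiv.ofBijective _ hbij), Nat.card_eq_fintype_card,
    Fintype.card_embedding_eq, Fintype.card_fin]

end Generic

section PermGroups

open Equiv Equiv.Perm

theorem small_top {α : Type*} [Fintype α] [DecidableEq α] (G : Subgroup (Equiv.Perm α))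
    (hG : IsMultiplyPretransitive G α 4) (hn : Fintype.card α = 4 ∨ Fintype.card α = 5) :
    G = ⊤ := by
  apply Equiv.Perm.eq_top_of_isMultiplyPretransitive
  rw [Nat.card_eq_fintype_card]
  rcases hn with h | h
  · rw [h]
    exact isMultiplyPretransitive_of_le (n := 4) (by norm_num)
      (by rw [Nat.card_eq_fintype_card, h])
  · rw [h]
    exact hG

/-- elementwise form of the odd-order hypothesis. -/
theorem odd_orderOf_of_fix {α : Type*} [Fintype α] [DecidableEq α] (G : Subgroup (Equiv.Perm α))
    (x : Fin 4 ↪ α) (hodd : Odd (Nat.card (stabilizer G x))) {g : Perm α} (hg : g ∈ G)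
    (hfix : ∀ i, g (x i) = x i) : Odd (orderOf g) := by
  have hmem : (⟨g, hg⟩ : G) ∈ stabilizer G x := by
    rw [mem_stabilizer_iff]
    ext i
    exact hfix i
  have h1 : orderOf (⟨⟨g, hg⟩, hmem⟩ : stabilizer G x) ∣ Nat.card (stabilizer G x) :=
    orderOf_dvd_natCard _
  have h2 : orderOf (⟨⟨g, hg⟩, hmem⟩ : stabilizer G x) = orderOf g := by
    rw [← Subgroup.orderOf_coe, ← Subgroup.orderOf_coe]
  rw [h2] at h1
  exact Odd.of_dvd_nat hodd h1

theorem small_alt {α : Type*} [Fintype α] [DecidableEq α] (G : Subgroup (Equiv.Perm α))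
    (hG : IsMultiplyPretransitive G α 4) (x : Fin 4 ↪ α)
    (hodd : Odd (Nat.card (stabilizer G x)))
    (hn : Fintype.card α = 6 ∨ Fintype.card α = 7) :
    G = alternatingGroup α := by
  classical
  have h6 : 6 ≤ Fintype.card α := by rcases hn with h | h <;> omega
  haveI : Nontrivial α := by
    rw [← Fintype.one_lt_card_iff_nontrivial]; omega
  have hoddg := fun {g : Perm α} (hg : g ∈ G) hfix => odd_orderOf_of_fix G x hodd hg hfix
  -- the points outside the range of `x`
  set R : Finset α := Finset.univ.image x with hR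
  have hRcard : R.card = 4 := by
    rw [hR, Finset.card_image_of_injective _ x.injective]; simp
  have hRc : Rᶜ.card = Fintype.card α - 4 := by rw [Finset.card_compl, hRcard]
  have hmemR : ∀ i, x i ∈ R := fun i => Finset.mem_image_of_mem _ (Finset.mem_univ i)
  -- `G ≠ ⊤`
  have hnetop : G ≠ ⊤ := by
    intro htop
    obtain ⟨p, hp, q, hq, hpq⟩ := Finset.one_lt_card.mp (by rw [hRc]; omega : 1 < Rᶜ.card)
    rw [Finset.mem_compl] at hp hq
    have hsw : swap p q ∈ G := by rw [htop]; exact Subgroup.mem_top _
    have hfix : ∀ i, swap p q (x i) = x i := by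
      intro i
      apply swap_apply_of_ne_of_ne
      · intro h; exact hp (h ▸ hmemR i)
      · intro h; exact hq (h ▸ hmemR i)
    have := hoddg hsw hfix
    rw [(show (swap p q).IsSwap from ⟨p, q, hpq, rfl⟩).orderOf] at this
    exact absurd this (by decide)
  -- `alternatingGroup α ≤ G`
  have hle : alternatingGroup α ≤ G := by
    rcases hn with h | h
    · apply IsMultiplyPretransitive.alternatingGroup_le
      rw [Nat.card_eq_fintype_card, h]
      exact hG
    · by_cases hex : ∃ g ∈ G, g ≠ 1 ∧ ∀ i, g (x i) = x i
      · obtain ⟨g, hgG, hg1, hfix⟩ := hex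
        have hsub : g.support ⊆ Rᶜ := by
          intro y hy
          rw [Finset.mem_compl, hR, Finset.mem_image]
          rintro ⟨i, -, rfl⟩
          exact (mem_support.mp hy) (hfix i)
        have hle3 : g.support.card ≤ 3 := by
          have := Finset.card_le_card hsub
          rw [hRc, h] at this
          exact this
        have hge2 := two_le_card_support_of_ne_one hg1
        have h3 : g.support.card = 3 := by
          rcases Nat.lt_or_ge g.support.card 3 with hlt | hge
          · exfalso
            have h2 : g.support.card = 2 := by omega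
            have hsw := card_support_eq_two.mp h2
            have := hoddg hgG hfix
            rw [hsw.orderOf] at this
            exact absurd this (by decide)
          · omega
        have h3c : g.IsThreeCycle := card_support_eq_three_iff.mp h3
        have h2t : IsMultiplyPretransitive G α 2 :=
          isMultiplyPretransitive_of_le (n := 4) (by norm_num)
            (by rw [Nat.card_eq_fintype_card, h]; norm_num)
        have hprim : IsPreprimitive G α := isPreprimitive_of_is_two_pretransitive h2t
        exact alternatingGroup_le_of_isPreprimitive_of_isThreeCycle_mem hprim h3c hgG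
      · exfalso
        push Not at hex
        have hx : stabilizer G x = ⊥ := by
          rw [eq_bot_iff]
          intro k hk
          rw [Subgroup.mem_bot]
          have hk' := mem_stabilizer_iff.mp hk
          by_contra hk1
          have hk1' : (k : Perm α) ≠ 1 := fun h1 => hk1 (Subtype.ext h1)
          obtain ⟨i, hi⟩ := hex k k.2 hk1'
          exact hi (DFunLike.congr_fun hk' i)
        exact not_sharp_seven hG x hx h
  -- conclude
  have hidx : G.index ∣ 2 := by
    rw [← alternatingGroup.index_eq_two (α := α)]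
    exact Subgroup.index_dvd_of_le hle
  rcases (Nat.dvd_prime Nat.prime_two).mp hidx with h1 | h2
  · exact absurd (Subgroup.index_eq_one.mp h1) hnetop
  · exact eq_alternatingGroup_of_index_eq_two h2

theorem card_eq_7920 {α : Type*} [Fintype α] [DecidableEq α] (G : Subgroup (Equiv.Perm α))
    (hG : IsMultiplyPretransitive G α 4) (hsharp : ∀ x : Fin 4 ↪ α, stabilizer G x = ⊥)
    (hn : Fintype.card α = 11) : Nat.card G = 7920 := by
  have := card_eq_of_sharp hG hsharp (by omega)
  rw [this, hn]
  decide

end PermGroups

end Cfsg.Agent.Helper59.HallT13
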