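import Mathlib
import Cfsg.Prelude.Def_Classical
import Cfsg.Agent.Helper99.Is8.Defs
import Cfsg.Agent.Helper94.Eo.P_GRAM
import Cfsg.Agent.Helper94.Eo.P_CHAR

/-!
# S3590 piece (CHI) for helper99: the characteristic polynomial of an isometry of the minus form in
dimension 8 (characteristic 2) is self-reciprocal of degree 8.
-/

set_option autoImplicit false
set_option linter.unusedSectionVars false
set_option linter.unusedVariables false

universe u

namespace Cfsg.Agent.Helper59.Is8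

open Matrix Polynomial QuadraticMap Cfsg.Agent.Helper99.Is8

section orth

variable {F : Type u} [Field F] [Fintype F]

theorem CHI_card : Fintype.card I8 = 8 := by simp [I8]

theorem CHI_natDegree (A : Matrix I8 I8 F) : A.charpoly.natDegree = 8 := by
  rw [Matrix.charpoly_natDegree_eq_dim, CHI_card]

theorem CHI_det [CharP F 2] (d : F) (hdet : d * d = 1) : d = 1 := by
  have h1 : (d + 1) ^ 2 = 0 := by
    rw [CharTwo.add_sq, one_pow, pow_two, hdet]
    exact CharTwo.add_self_eq_zero 1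
  have h2 := pow_eq_zero_iff (two_ne_zero) |>.1 h1
  exact (CharTwo.add_eq_zero).1 h2

theorem CHI_rev (A : Matrix I8 I8 F) (hdet1 : A.det = 1)
    (hrev : A.charpoly.reverse = C (A.det * (-1) ^ Fintype.card I8) * A.charpoly) :
    A.charpoly.reverse = A.charpoly := by
  rw [hrev, hdet1, CHI_card]
  norm_num

theorem CHI_gram (a b : F)
    (hab : ∀ z₁ z₂ : F, z₁ ^ 2 + a * z₁ * z₂ + b * z₂ ^ 2 = 0 → z₁ = 0 ∧ z₂ = 0)
    (g : ↥(Cfsg.isometryGroup F (Cfsg.quadFormMinus 3 F a b))) :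
    ∃ B : Matrix I8 I8 F, B.det ≠ 0 ∧
      ((g : Matrix.GeneralLinearGroup I8 F) : Matrix I8 I8 F)ᵀ * B *
        ((g : Matrix.GeneralLinearGroup I8 F) : Matrix I8 I8 F) = B := by
  obtain ⟨B, hB, hpolar⟩ := Cfsg.Agent.Helper94.Eo.gram_minus 3 a b hab
  exact ⟨B, hB, Cfsg.Agent.Helper94.Eo.gram_of_isometry (Cfsg.quadFormMinus 3 F a b) B hpolar
    ((g : Matrix.GeneralLinearGroup I8 F) : Matrix I8 I8 F)
    (Cfsg.Agent.Helper94.Eo.isometry_of_mem _ g)⟩

/-- (CHI) -/
theorem charpoly_data [CharP F 2] (a b : F)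
    (hab : ∀ z₁ z₂ : F, z₁ ^ 2 + a * z₁ * z₂ + b * z₂ ^ 2 = 0 → z₁ = 0 ∧ z₂ = 0)
    (g : ↥(Cfsg.isometryGroup F (Cfsg.quadFormMinus 3 F a b))) :
    ((g : Matrix.GeneralLinearGroup I8 F) : Matrix I8 I8 F).charpoly.natDegree = 8 ∧
      ((g : Matrix.GeneralLinearGroup I8 F) : Matrix I8 I8 F).charpoly.reverse =
        ((g : Matrix.GeneralLinearGroup I8 F) : Matrix I8 I8 F).charpoly := by
  refine ⟨CHI_natDegree _, ?_⟩
  obtain ⟨B, hB, hgram⟩ := CHI_gram a b hab g
  obtain ⟨hdet, hrev⟩ := Cfsg.Agent.Helper94.Eo.charpoly_reverse_of_gram _ B hB hgram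
  exact CHI_rev _ (CHI_det _ hdet) hrev

end orth

end Cfsg.Agent.Helper59.Is8
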