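import Mathlib
import Cfsg.Prelude.Def_Classical
import Cfsg.Agent.Helper99.Is8.Defs
import Cfsg.Agent.Helper94.Eo.P_GRAM
import Cfsg.Agent.Helper45.OmegaParity
import Cfsg.Agent.Helper44.StdForms
import Cfsg.Agent.Helper44.StdNondeg

/-!
# S3590 piece (EVR) for helper99: elements of `Ω⁻_8(q)`, `q` even, have even rank of `k - 1`.
-/

set_option autoImplicit false
set_option linter.unusedSectionVars false
set_option linter.unusedVariables false

universe u

namespace Cfsg.Agent.Helper59.Is8

open Matrix Polynomial QuadraticMap Cfsg.Agent.Helper99.Is8 Cfsg.Agent.Helper44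

section orth

variable {F : Type u} [Field F] [Fintype F]

/-- (EVR) -/
theorem even_rank_of_mem_Omega [CharP F 2] (a b : F)
    (hab : ∀ z₁ z₂ : F, z₁ ^ 2 + a * z₁ * z₂ + b * z₂ ^ 2 = 0 → z₁ = 0 ∧ z₂ = 0)
    (k : ↥(Cfsg.Omega F (Cfsg.quadFormMinus 3 F a b))) :
    Even (rho F a b k - 1).rank := by
  have hD : a ^ 2 - 4 * b ≠ 0 := by
    have h1 := Cfsg.Agent.Helper94.Eo.binary_disc_ne_zero a b hab
    intro h
    apply h1
    linear_combination -h
  have hQ := nondegenerate_minusForm 3 a b hD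
  have h := (Cfsg.Agent.Helper45.OmegaParity.mem_Omega_iff_even_rank (minusForm 3 F a b) hQ
    (Or.inr (by decide)) (k : ↥(Cfsg.isometryGroup F (Cfsg.quadFormMinus 3 F a b)))).1 k.2
  exact h

end orth

end Cfsg.Agent.Helper59.Is8
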