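import Mathlib
import Cfsg.Agent.Helper99.Is8.Defs
import Cfsg.Agent.Helper44.OrthRealizeC

set_option autoImplicit false
set_option linter.unusedSectionVars false

/-!
# S3590 (helper99), unipotent pieces: `UR` from `0/1` matrices in characteristic `2`

A matrix `M₀` over `ZMod 2` with `M₀ ^ 2 ^ (n + 1) = 1`, `M₀ ^ 2 ^ n ≠ 1` whose image in `F` preserves `Q`,
together with a rank certificate `M₀ - 1 = C₀ * R₀`, `L₀ * (M₀ - 1) * R₀' = 1` (`r × r`, `r` even) and a vector `w₀` with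
`(M₀ + 1) ^ (2 ^ (n + 1) - 1) *ᵥ w₀ ≠ 0`, gives `UR F m ε (n + 1)`.
(Model: `Cfsg.Agent.Helper55.Sg.real_of_zmod_two`.)
-/

namespace Cfsg.Agent.Helper59.Is8

open QuadraticMap Cfsg.Agent.Helper44.QType Cfsg.Agent.Helper99.Is8

universe u
variable {F : Type u} [Field F] [Fintype F]

/-- rank certificate: `N = C * R` with `r` columns and `L * N * R' = 1` give `rank N = r` -/
theorem rank_eq_of_sandwich {ι : Type} [Fintype ι] [DecidableEq ι] (N : Matrix ι ι F) (r : ℕ)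
    (C : Matrix ι (Fin r) F) (R : Matrix (Fin r) ι F) (L : Matrix (Fin r) ι F)
    (R' : Matrix ι (Fin r) F) (hfac : N = C * R) (hsand : L * N * R' = 1) : N.rank = r := by
  apply le_antisymm
  · rw [hfac]
    calc (C * R).rank ≤ C.rank := Matrix.rank_mul_le_left C R
      _ ≤ Fintype.card (Fin r) := Matrix.rank_le_card_width C
      _ = r := Fintype.card_fin r
  · calc r = Fintype.card (Fin r) := (Fintype.card_fin r).symm
      _ = (1 : Matrix (Fin r) (Fin r) F).rank := Matrix.rank_one.symm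
      _ = (L * N * R').rank := by rw [hsand]
      _ ≤ (L * N).rank := Matrix.rank_mul_le_left _ _
      _ ≤ N.rank := Matrix.rank_mul_le_right _ _

theorem ur_of_zmod_two [CharP F 2] {ι : Type} [Fintype ι] [DecidableEq ι]
    (Q : QuadraticForm F (ι → F)) (m : ℕ) (ε : ℤ)
    (hcard : Fintype.card ι = 2 * m) (hnd : ∀ x, (∀ y, polar Q x y = 0) → x = 0)
    (hT : HasType (⇑Q) m ε) (M₀ : Matrix ι ι (ZMod 2)) (n : ℕ)
    (hM : ∀ v : ι → F, Q (Matrix.mulVec ((ZMod.castHom (dvd_refl 2) F).mapMatrix M₀) v) = Q v)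
    (hpow : M₀ ^ 2 ^ (n + 1) = 1) (hne : M₀ ^ 2 ^ n ≠ 1)
    (r : ℕ) (hr : Even r) (C₀ : Matrix ι (Fin r) (ZMod 2)) (R₀ : Matrix (Fin r) ι (ZMod 2))
    (L₀ : Matrix (Fin r) ι (ZMod 2)) (R₀' : Matrix ι (Fin r) (ZMod 2))
    (hfac : M₀ - 1 = C₀ * R₀) (hsand : L₀ * (M₀ - 1) * R₀' = 1)
    (w₀ : ι → ZMod 2) (hw : Matrix.mulVec ((M₀ + 1) ^ (2 ^ (n + 1) - 1)) w₀ ≠ 0) :
    UR F m ε (n + 1) := by
  set φ : ZMod 2 →+* F := ZMod.castHom (dvd_refl 2) F with hφ
  set M : Matrix ι ι F := φ.mapMatrix M₀ with hMdef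
  have hMpow : M ^ 2 ^ (n + 1) = 1 := by rw [hMdef, ← map_pow, hpow, map_one]
  have hpos : 1 ≤ 2 ^ (n + 1) := Nat.one_le_two_pow
  let g : GL ι F := ⟨M, M ^ (2 ^ (n + 1) - 1),
    by rw [← pow_succ', Nat.sub_add_cancel hpos, hMpow],
    by rw [← pow_succ, Nat.sub_add_cancel hpos, hMpow]⟩
  have hg : g ∈ Cfsg.isometryGroup F ⇑Q := (Cfsg.Agent.Helper44.mem_isometryGroup_iff _ g).mpr hM
  have hinj : Function.Injective (φ.mapMatrix (m := ι)) := by
    intro A B hAB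
    simp only [RingHom.mapMatrix_apply] at hAB
    exact Matrix.map_injective φ.injective hAB
  refine ⟨ι, inferInstance, inferInstance, Q, hcard, hnd, hT, ⟨g, hg⟩, fun i => φ (w₀ i), ?_, ?_, ?_⟩
  · have hcoe : ∀ k : ℕ, (((⟨g, hg⟩ : ↥(Cfsg.isometryGroup F ⇑Q)) ^ k :
        ↥(Cfsg.isometryGroup F ⇑Q)) : GL ι F).1 = M ^ k := by
      intro k
      rw [Subgroup.coe_pow, Units.val_pow_eq_pow_val]
    have : Fact (Nat.Prime 2) := ⟨Nat.prime_two⟩
    apply orderOf_eq_prime_pow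
    · intro h1
      have h2 := hcoe (2 ^ n)
      rw [h1] at h2
      have h3 : M ^ 2 ^ n = 1 := h2.symm
      rw [hMdef, ← map_pow] at h3
      apply hne
      apply hinj
      rw [h3, map_one]
    · apply Subtype.ext
      apply Units.ext
      rw [hcoe, hMpow]
      rfl
  · show Even (M - 1).rank
    have h1 : M - 1 = C₀.map φ * R₀.map φ := by
      rw [hMdef, ← map_one (φ.mapMatrix (m := ι)), ← map_sub, hfac]
      simp only [RingHom.mapMatrix_apply, Matrix.map_mul]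
    have h2 : L₀.map φ * (M - 1) * R₀'.map φ = 1 := by
      have := congrArg (fun A : Matrix (Fin r) (Fin r) (ZMod 2) => A.map φ) hsand
      simp only [Matrix.map_mul, Matrix.map_one, map_zero, map_one] at this
      rw [← this, hMdef]
      have h3 : (M₀ - 1).map φ = M₀.map φ - 1 := by
        rw [Matrix.map_sub (f := φ) (fun a b => map_sub φ a b),
          Matrix.map_one φ (map_zero φ) (map_one φ)]
      rw [h3]
      rfl
    rw [rank_eq_of_sandwich (M - 1) r _ _ _ _ h1 h2]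
    exact hr
  · show Matrix.mulVec ((M + 1) ^ (2 ^ (n + 1) - 1)) (fun i => φ (w₀ i)) ≠ 0
    intro h0
    apply hw
    have h1 : (M + 1) ^ (2 ^ (n + 1) - 1) = ((M₀ + 1) ^ (2 ^ (n + 1) - 1)).map φ := by
      rw [hMdef, ← map_one (φ.mapMatrix (m := ι)), ← map_add, ← map_pow]
      rfl
    rw [h1] at h0
    ext i
    have h2 := RingHom.map_mulVec φ ((M₀ + 1) ^ (2 ^ (n + 1) - 1)) w₀ i
    have h3 := congrFun h0 i
    have h4 : (((M₀ + 1) ^ (2 ^ (n + 1) - 1)).map φ).mulVec (fun i => φ (w₀ i)) i =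
        (((M₀ + 1) ^ (2 ^ (n + 1) - 1)).map φ).mulVec (φ ∘ w₀) i := rfl
    rw [h4, ← h2] at h3
    simp only [Pi.zero_apply] at h3 ⊢
    exact φ.injective (by rw [h3, map_zero])

end Cfsg.Agent.Helper59.Is8
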