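import Mathlib
import Cfsg.Agent.Helper59.Is8URZ2
import Cfsg.Agent.Helper94.Sg.Defs
import Cfsg.Agent.Helper94.Sg.Aniso
import Cfsg.Agent.Helper44.OrthRealizeC

set_option autoImplicit false
set_option linter.unusedSectionVars false
set_option linter.unusedVariables false
set_option maxRecDepth 100000

/-!
# S3590 piece (U21M) for helper99: two commuting reflections on `minusForm 1 F 1 ζ`
-/

namespace Cfsg.Agent.Helper59.Is8

open Matrix Polynomial QuadraticMap Cfsg.Agent.Helper99.Is8 Cfsg.Agent.Helper94.Sg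
  Cfsg.Agent.Helper44 Cfsg.Agent.Helper44.QType

universe u

/-- the swap `x₁ ↔ y₁` together with `z₁ ↦ z₁ + z₂`, `z₂ ↦ z₂` over `ZMod 2` -/
def U21M_M : Matrix ((Fin 1 ⊕ Fin 1) ⊕ Fin 2) ((Fin 1 ⊕ Fin 1) ⊕ Fin 2) (ZMod 2) :=
  Matrix.fromBlocks (Matrix.fromBlocks 0 1 1 0) 0 0 !![1, 1; 0, 1]

def U21M_C : Matrix ((Fin 1 ⊕ Fin 1) ⊕ Fin 2) (Fin 2) (ZMod 2) :=
  Matrix.of fun i j =>
    match i, j with
    | Sum.inl _, 0 => 1
    | Sum.inr 0, 1 => 1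
    | _, _ => 0

def U21M_R : Matrix (Fin 2) ((Fin 1 ⊕ Fin 1) ⊕ Fin 2) (ZMod 2) :=
  Matrix.of fun j i =>
    match i, j with
    | Sum.inl _, 0 => 1
    | Sum.inr 1, 1 => 1
    | _, _ => 0

def U21M_L : Matrix (Fin 2) ((Fin 1 ⊕ Fin 1) ⊕ Fin 2) (ZMod 2) :=
  Matrix.of fun j i =>
    match i, j with
    | Sum.inl (Sum.inl _), 0 => 1
    | Sum.inr 0, 1 => 1
    | _, _ => 0

def U21M_R' : Matrix ((Fin 1 ⊕ Fin 1) ⊕ Fin 2) (Fin 2) (ZMod 2) :=
  Matrix.of fun i j =>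
    match i, j with
    | Sum.inl (Sum.inl _), 0 => 1
    | Sum.inr 1, 1 => 1
    | _, _ => 0

def U21M_w : (Fin 1 ⊕ Fin 1) ⊕ Fin 2 → ZMod 2 := Pi.single (Sum.inl (Sum.inl 0)) 1

theorem U21M_pow : U21M_M ^ 2 ^ (0 + 1) = 1 := by decide

theorem U21M_ne : U21M_M ^ 2 ^ 0 ≠ 1 := by decide

theorem U21M_fac : U21M_M - 1 = U21M_C * U21M_R := by decide

theorem U21M_sand : U21M_L * (U21M_M - 1) * U21M_R' = 1 := by decide

theorem U21M_w_ne : Matrix.mulVec ((U21M_M + 1) ^ (2 ^ (0 + 1) - 1)) U21M_w ≠ 0 := by decide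

section real

variable {F : Type u} [Field F] [Fintype F]

/-- (U21M) -/
theorem ur_2_minus_1 [CharP F 2] : UR F 2 (-1) 1 := by
  have h2 : (2 : F) = 0 := CharTwo.two_eq_zero
  obtain ⟨ζ, hζ⟩ := exists_aniso (F := F)
  have hD : (1 : F) ^ 2 - 4 * ζ ≠ 0 := by
    have h4 : (4 : F) = 0 := by linear_combination (2 : F) * h2
    rw [h4, zero_mul, sub_zero, one_pow]
    exact one_ne_zero
  have h := ur_of_zmod_two (F := F) (Cfsg.Agent.Helper44.minusForm 1 F 1 ζ) 2 (-1)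
    (by simp) ((Cfsg.Agent.Helper44.QType.nondeg_iff _).mp
      (Cfsg.Agent.Helper44.nondegenerate_minusForm 1 1 ζ hD))
    (Cfsg.Agent.Helper44.QType.hasType_minus 1 1 ζ hζ) U21M_M 0 ?_ U21M_pow U21M_ne
    2 (by decide) U21M_C U21M_R U21M_L U21M_R' U21M_fac U21M_sand U21M_w U21M_w_ne
  · exact h
  · intro v
    rw [Cfsg.Agent.Helper44.minusForm_coe]
    unfold Cfsg.quadFormMinus
    simp only [Fin.sum_univ_two, Fin.sum_univ_one, U21M_M, RingHom.mapMatrix_apply, Matrix.mulVec,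
      dotProduct, Fintype.sum_sum_type, Matrix.map_apply, Matrix.fromBlocks_apply₁₁,
      Matrix.fromBlocks_apply₁₂, Matrix.fromBlocks_apply₂₁, Matrix.fromBlocks_apply₂₂]
    simp
    linear_combination (v (Sum.inr 0) * v (Sum.inr 1) + v (Sum.inr 1) ^ 2) * h2

end real

end Cfsg.Agent.Helper59.Is8
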