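import Mathlib
import Cfsg.Agent.Helper59.Is8URZ2
import Cfsg.Agent.Helper94.Sg.Defs
import Cfsg.Agent.Helper94.Sg.Aniso
import Cfsg.Agent.Helper44.OrthRealizeC

set_option autoImplicit false
set_option linter.unusedSectionVars false
set_option linter.unusedVariables false
set_option maxRecDepth 100000

/-!
# S3590 piece (U21P) for helper99: two commuting reflections on `plusForm 2 F`
-/

namespace Cfsg.Agent.Helper59.Is8

open Matrix Polynomial QuadraticMap Cfsg.Agent.Helper99.Is8 Cfsg.Agent.Helper94.Sg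
  Cfsg.Agent.Helper44 Cfsg.Agent.Helper44.QType

universe u

/-- the swap `x₁ ↔ y₁`, `x₂ ↔ y₂` over `ZMod 2` -/
def U21P_M : Matrix (Fin 2 ⊕ Fin 2) (Fin 2 ⊕ Fin 2) (ZMod 2) :=
  Matrix.fromBlocks 0 1 1 0

def U21P_C : Matrix (Fin 2 ⊕ Fin 2) (Fin 2) (ZMod 2) :=
  Matrix.of fun i j => if Sum.elim id id i = j then 1 else 0

def U21P_L : Matrix (Fin 2) (Fin 2 ⊕ Fin 2) (ZMod 2) :=
  Matrix.of fun i j => if Sum.inl i = j then 1 else 0

def U21P_w : Fin 2 ⊕ Fin 2 → ZMod 2 := Pi.single (Sum.inl 0) 1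

theorem U21P_pow : U21P_M ^ 2 ^ (0 + 1) = 1 := by decide

theorem U21P_ne : U21P_M ^ 2 ^ 0 ≠ 1 := by decide

theorem U21P_fac : U21P_M - 1 = U21P_C * U21P_Cᵀ := by decide

theorem U21P_sand : U21P_L * (U21P_M - 1) * U21P_Lᵀ = 1 := by decide

theorem U21P_w_ne : Matrix.mulVec ((U21P_M + 1) ^ (2 ^ (0 + 1) - 1)) U21P_w ≠ 0 := by decide

section real

variable {F : Type u} [Field F] [Fintype F]

/-- (U21P) -/
theorem ur_2_plus_1 [CharP F 2] : UR F 2 1 1 := by
  have h := ur_of_zmod_two (F := F) (Cfsg.Agent.Helper44.plusForm 2 F) 2 1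
    (by simp) ((Cfsg.Agent.Helper44.QType.nondeg_iff _).mp
      (Cfsg.Agent.Helper44.nondegenerate_plusForm 2))
    (Cfsg.Agent.Helper44.QType.hasType_plus 2) U21P_M 0 ?_ U21P_pow U21P_ne
    2 (by decide) U21P_C U21P_Cᵀ U21P_L U21P_Lᵀ U21P_fac U21P_sand U21P_w U21P_w_ne
  · exact h
  · intro v
    rw [Cfsg.Agent.Helper44.plusForm_coe]
    unfold Cfsg.quadFormPlus
    simp only [Fin.sum_univ_two, U21P_M, RingHom.mapMatrix_apply, Matrix.mulVec, dotProduct,
      Fintype.sum_sum_type, Matrix.map_apply, Matrix.fromBlocks_apply₁₁, Matrix.fromBlocks_apply₁₂,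
      Matrix.fromBlocks_apply₂₁, Matrix.fromBlocks_apply₂₂]
    simp
    ring

end real

end Cfsg.Agent.Helper59.Is8
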