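import Mathlib
import Cfsg.Prelude.Def_JordanBlocks
import Cfsg.Agent.Helper43.JTMat

set_option autoImplicit false

/-! Centraliser of a unipotent matrix of given Jordan type: formulas for the nilpotent part. -/

namespace Cfsg.Agent.Helper59.JCent

open Module Matrix
open Cfsg.Agent.Helper43 Cfsg.Agent.Helper43.JT

universe u
variable {F : Type u} [Field F] {t : ℕ} (d : Fin t → ℕ)

/-- shift an index down by `m` inside its block (truncated subtraction). -/
def dn (m : ℕ) (x : (k : Fin t) × Fin (d k)) : (k : Fin t) × Fin (d k) :=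
  ⟨x.1, ⟨x.2.val - m, lt_of_le_of_lt (Nat.sub_le _ _) x.2.isLt⟩⟩

@[simp] theorem dn_fst (m : ℕ) (x : (k : Fin t) × Fin (d k)) : (dn d m x).1 = x.1 := rfl
@[simp] theorem dn_snd (m : ℕ) (x : (k : Fin t) × Fin (d k)) :
    ((dn d m x).2 : ℕ) = x.2.val - m := rfl

theorem idx_ext {x y : (k : Fin t) × Fin (d k)} (h1 : x.1 = y.1) (h2 : (x.2 : ℕ) = y.2) :
    x = y := by
  obtain ⟨k, a⟩ := x
  obtain ⟨l, b⟩ := y
  simp only at h1
  subst h1
  simp only at h2
  have : a = b := Fin.ext h2
  rw [this]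

theorem E_apply (x y : (k : Fin t) × Fin (d k)) :
    (Cfsg.jordanTypeMatrix d F - 1) x y
      = if x.1 = y.1 ∧ (x.2 : ℕ) = (y.2 : ℕ) + 1 then 1 else 0 := by
  rw [jordanTypeMatrix_sub_one]
  obtain ⟨k, a⟩ := x
  obtain ⟨l, b⟩ := y
  by_cases h : k = l
  · subst h
    rw [Matrix.blockDiagonal'_apply_eq, jordanBlock_sub_one_apply]
    simp
  · rw [Matrix.blockDiagonal'_apply_ne _ _ _ h]
    simp [h]

theorem Nd_apply' (v : ((k : Fin t) × Fin (d k)) → F) (x : (k : Fin t) × Fin (d k)) :
    Nd d F v x = if 1 ≤ (x.2 : ℕ) then v (dn d 1 x) else 0 := by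
  unfold Nd
  rw [Matrix.toLin'_apply]
  simp only [Matrix.mulVec, dotProduct, E_apply]
  split_ifs with h
  · rw [Finset.sum_eq_single (dn d 1 x)]
    · rw [if_pos, one_mul]
      refine ⟨rfl, ?_⟩
      simp only [dn_snd]
      omega
    · intro y _ hy
      rw [if_neg, zero_mul]
      rintro ⟨h1, h2⟩
      apply hy
      apply idx_ext
      · exact h1.symm
      · simp only [dn_snd]
        omega
    · intro h'
      exact absurd (Finset.mem_univ _) h'
  · apply Finset.sum_eq_zero
    intro y _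
    rw [if_neg, zero_mul]
    rintro ⟨_, h2⟩
    omega

theorem Nd_pow_apply (m : ℕ) (v : ((k : Fin t) × Fin (d k)) → F) :
    ∀ x : (k : Fin t) × Fin (d k),
      (Nd d F ^ m) v x = if m ≤ (x.2 : ℕ) then v (dn d m x) else 0 := by
  induction m with
  | zero =>
    intro x
    rw [pow_zero, if_pos (Nat.zero_le _)]
    rfl
  | succ m ih =>
    intro x
    rw [pow_succ', Module.End.mul_apply, Nd_apply']
    by_cases h1 : 1 ≤ (x.2 : ℕ)
    · rw [if_pos h1, ih]
      by_cases h2 : m + 1 ≤ (x.2 : ℕ)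
      · rw [if_pos (show m ≤ ((dn d 1 x).2 : ℕ) by simp only [dn_snd]; omega), if_pos h2]
        congr 1
        apply idx_ext
        · rfl
        · simp only [dn_snd]
          omega
      · rw [if_neg (show ¬ m ≤ ((dn d 1 x).2 : ℕ) by simp only [dn_snd]; omega), if_neg h2]
    · rw [if_neg h1, if_neg (by omega)]

variable (hd : ∀ k, 1 ≤ d k)

/-- the top index of block `k`. -/
def top (hd : ∀ k, 1 ≤ d k) (k : Fin t) : (k : Fin t) × Fin (d k) := ⟨k, ⟨0, hd k⟩⟩

@[simp] theorem top_fst (k : Fin t) : (top d hd k).1 = k := rfl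
@[simp] theorem top_snd (k : Fin t) : ((top d hd k).2 : ℕ) = 0 := rfl

/-- the generator of block `k`. -/
def gen (F : Type u) [Field F] (hd : ∀ k, 1 ≤ d k) (k : Fin t) : ((k : Fin t) × Fin (d k)) → F :=
  Pi.single (top d hd k) 1

theorem Nd_pow_gen (x : (k : Fin t) × Fin (d k)) :
    (Nd d F ^ (x.2 : ℕ)) (gen d F hd x.1) = Pi.single x 1 := by
  funext y
  rw [Nd_pow_apply]
  by_cases hy : y = x
  · subst hy
    rw [if_pos le_rfl, Pi.single_eq_same]
    have : dn d (y.2 : ℕ) y = top d hd y.1 := by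
      apply idx_ext
      · rfl
      · simp
    rw [this, gen, Pi.single_eq_same]
  · rw [Pi.single_eq_of_ne hy]
    split_ifs with h
    · rw [gen, Pi.single_eq_of_ne]
      intro h'
      apply hy
      have h1 : (dn d (x.2 : ℕ) y).1 = (top d hd x.1).1 := congrArg Sigma.fst h'
      simp only [dn_fst, top_fst] at h1
      have h2 : ((dn d (x.2 : ℕ) y).2 : ℕ) = ((top d hd x.1).2 : ℕ) := by rw [h']
      simp only [dn_snd, top_snd] at h2
      apply idx_ext _ h1
      omega
    · rfl

theorem Nd_pow_gen_eq_zero (k : Fin t) (m : ℕ) (hm : d k ≤ m) :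
    (Nd d F ^ m) (gen d F hd k) = 0 := by
  funext y
  rw [Nd_pow_apply]
  split_ifs with h
  · rw [gen, Pi.single_eq_of_ne]
    · rfl
    · intro h'
      have h1 : (dn d m y).1 = (top d hd k).1 := congrArg Sigma.fst h'
      simp only [dn_fst, top_fst] at h1
      have h2 := y.2.isLt
      have h3 : d y.1 = d k := congrArg d h1
      omega
  · rfl

/-- a vector killed by `N^m` vanishes at the top of every block longer than `m`. -/
theorem apply_top_eq_zero_of_mem_ker {v : ((k : Fin t) × Fin (d k)) → F} {m : ℕ}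
    (hv : (Nd d F ^ m) v = 0) (l : Fin t) (hl : m < d l) : v (top d hd l) = 0 := by
  have h1 := congrFun hv ⟨l, ⟨m, hl⟩⟩
  rw [Nd_pow_apply, if_pos (le_refl _)] at h1
  have : dn d m ⟨l, ⟨m, hl⟩⟩ = top d hd l := by
    apply idx_ext
    · rfl
    · simp
  rw [this] at h1
  exact h1

/-- projection to the top coordinates. -/
def proj (F : Type u) [Field F] (hd : ∀ k, 1 ≤ d k) :
    (((k : Fin t) × Fin (d k)) → F) →ₗ[F] (Fin t → F) where
  toFun v k := v (top d hd k)
  map_add' _ _ := rfl
  map_smul' _ _ := rfl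

@[simp] theorem proj_apply (v : ((k : Fin t) × Fin (d k)) → F) (k : Fin t) :
    proj d F hd v k = v (top d hd k) := rfl

/-- inclusion of the top coordinates. -/
def incl (F : Type u) [Field F] (hd : ∀ k, 1 ≤ d k) :
    (Fin t → F) →ₗ[F] (((k : Fin t) × Fin (d k)) → F) where
  toFun y x := if (x.2 : ℕ) = 0 then y x.1 else 0
  map_add' y z := by
    funext x
    simp only [Pi.add_apply]
    split_ifs <;> simp
  map_smul' c y := by
    funext x
    simp only [Pi.smul_apply, RingHom.id_apply, smul_eq_mul]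
    split_ifs <;> simp

theorem proj_incl (y : Fin t → F) : proj d F hd (incl d F hd y) = y := by
  funext k
  simp [incl]

theorem incl_eq_sum (y : Fin t → F) : incl d F hd y = ∑ k, y k • gen d F hd k := by
  funext x
  rw [Finset.sum_apply]
  simp only [Pi.smul_apply, smul_eq_mul, gen]
  rw [Finset.sum_eq_single x.1]
  · by_cases h : (x.2 : ℕ) = 0
    · have : x = top d hd x.1 := idx_ext d rfl h
      have h2 : (Pi.single (top d hd x.1) (1 : F) : ((k : Fin t) × Fin (d k)) → F) x = 1 := by
        rw [Pi.single_apply, if_pos this]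
      rw [h2, mul_one]
      simp [incl, h]
    · rw [Pi.single_eq_of_ne, mul_zero]
      · simp [incl, h]
      · intro h'
        apply h
        rw [h']
        rfl
  · intro k _ hk
    rw [Pi.single_eq_of_ne, mul_zero]
    intro h'
    apply hk
    rw [h']
    rfl
  · intro h
    exact absurd (Finset.mem_univ _) h

theorem proj_Nd (v : ((k : Fin t) × Fin (d k)) → F) : proj d F hd (Nd d F v) = 0 := by
  funext k
  rw [proj_apply, Nd_apply', if_neg]
  · rfl
  · simp

theorem mem_range_Nd_of_proj_eq_zero {v : ((k : Fin t) × Fin (d k)) → F}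
    (hv : proj d F hd v = 0) : v ∈ LinearMap.range (Nd d F) := by
  refine ⟨fun x => if h : (x.2 : ℕ) + 1 < d x.1 then v ⟨x.1, ⟨(x.2 : ℕ) + 1, h⟩⟩ else 0, ?_⟩
  funext x
  rw [Nd_apply']
  by_cases h1 : 1 ≤ (x.2 : ℕ)
  · rw [if_pos h1]
    have h2 : ((dn d 1 x).2 : ℕ) + 1 < d (dn d 1 x).1 := by
      have := x.2.isLt
      simp only [dn_snd, dn_fst]
      omega
    rw [dif_pos h2]
    congr 1
    apply idx_ext
    · rfl
    · simp only [dn_snd]
      omega
  · rw [if_neg h1]
    have : x = top d hd x.1 := idx_ext d rfl (by simp only [top_snd]; omega)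
    rw [this]
    exact (congrFun hv x.1).symm

/-- Nakayama for the nilpotent `N`: an `N`-stable subspace that together with `range N` spans
everything is everything. -/
theorem eq_top_of_sup_range_Nd (R : Submodule F (((k : Fin t) × Fin (d k)) → F))
    (hR : ∀ v ∈ R, Nd d F v ∈ R) (hsup : R ⊔ LinearMap.range (Nd d F) = ⊤) : R = ⊤ := by
  have key : ∀ m : ℕ, R ⊔ LinearMap.range (Nd d F ^ m) = ⊤ := by
    intro m
    induction m with
    | zero =>
      rw [pow_zero]
      rw [eq_top_iff]
      intro v _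
      exact Submodule.mem_sup_right ⟨v, rfl⟩
    | succ m ih =>
      rw [eq_top_iff]
      intro v _
      have hv : v ∈ R ⊔ LinearMap.range (Nd d F) := by rw [hsup]; trivial
      obtain ⟨r, hr, n, ⟨w, rfl⟩, rfl⟩ := Submodule.mem_sup.mp hv
      have hw : w ∈ R ⊔ LinearMap.range (Nd d F ^ m) := by rw [ih]; trivial
      obtain ⟨r', hr', n', ⟨w', rfl⟩, rfl⟩ := Submodule.mem_sup.mp hw
      rw [map_add, ← add_assoc]
      apply Submodule.add_mem
      · exact Submodule.mem_sup_left (Submodule.add_mem _ hr (hR _ hr'))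
      · apply Submodule.mem_sup_right
        refine ⟨w', ?_⟩
        rw [pow_succ', Module.End.mul_apply]
  obtain ⟨m, hm⟩ := isNilpotent_Nd (F := F) d
  have := key m
  rw [hm] at this
  rw [← this]
  simp

end Cfsg.Agent.Helper59.JCent
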