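import Mathlib
import Cfsg.Prelude.Def_JordanBlocks
import Cfsg.Agent.Helper43.JTMat
import Cfsg.Agent.Helper59.JCentA

set_option autoImplicit false

/-! The commutant of a Jordan type matrix: linear structure and dimension. -/

namespace Cfsg.Agent.Helper59.JCent

open Module Matrix
open Cfsg.Agent.Helper43 Cfsg.Agent.Helper43.JT

universe u
variable {F : Type u} [Field F] {t : ℕ} (d : Fin t → ℕ)

/-- the matrices commuting with the Jordan type matrix. -/
def comm (F : Type u) [Field F] (d : Fin t → ℕ) :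
    Submodule F (Matrix ((k : Fin t) × Fin (d k)) ((k : Fin t) × Fin (d k)) F) where
  carrier := {g | g * Cfsg.jordanTypeMatrix d F = Cfsg.jordanTypeMatrix d F * g}
  add_mem' := by
    intro a b ha hb
    simp only [Set.mem_ofPred_eq] at ha hb ⊢
    rw [add_mul, mul_add, ha, hb]
  zero_mem' := by simp
  smul_mem' := by
    intro c a ha
    simp only [Set.mem_ofPred_eq] at ha ⊢
    rw [Matrix.smul_mul, Matrix.mul_smul, ha]

theorem mem_comm {g : Matrix ((k : Fin t) × Fin (d k)) ((k : Fin t) × Fin (d k)) F} :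
    g ∈ comm F d ↔ g * Cfsg.jordanTypeMatrix d F = Cfsg.jordanTypeMatrix d F * g := Iff.rfl

theorem mem_comm_iff_sub {g : Matrix ((k : Fin t) × Fin (d k)) ((k : Fin t) × Fin (d k)) F} :
    g ∈ comm F d ↔
      g * (Cfsg.jordanTypeMatrix d F - 1) = (Cfsg.jordanTypeMatrix d F - 1) * g := by
  rw [mem_comm, mul_sub, sub_mul, mul_one, one_mul]
  constructor
  · intro h; rw [h]
  · intro h; exact sub_left_injective h

theorem mem_comm_iff_mulVec {g : Matrix ((k : Fin t) × Fin (d k)) ((k : Fin t) × Fin (d k)) F} :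
    g ∈ comm F d ↔ ∀ v, g *ᵥ (Nd d F v) = Nd d F (g *ᵥ v) := by
  rw [mem_comm_iff_sub]
  constructor
  · intro h v
    unfold Nd
    rw [Matrix.toLin'_apply, Matrix.toLin'_apply, Matrix.mulVec_mulVec, Matrix.mulVec_mulVec, h]
  · intro h
    apply Matrix.toLin'.injective
    apply LinearMap.ext
    intro v
    have := h v
    unfold Nd at this
    rw [Matrix.toLin'_apply, Matrix.toLin'_apply, Matrix.mulVec_mulVec, Matrix.mulVec_mulVec]
      at this
    rw [Matrix.toLin'_apply, Matrix.toLin'_apply, this]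

theorem comm_pow {g : Matrix ((k : Fin t) × Fin (d k)) ((k : Fin t) × Fin (d k)) F}
    (hg : g ∈ comm F d) (m : ℕ) (v : ((k : Fin t) × Fin (d k)) → F) :
    g *ᵥ ((Nd d F ^ m) v) = (Nd d F ^ m) (g *ᵥ v) := by
  induction m generalizing v with
  | zero => simp
  | succ m ih =>
    rw [pow_succ, Module.End.mul_apply, Module.End.mul_apply, ih,
      (mem_comm_iff_mulVec d).mp hg]

variable (hd : ∀ k, 1 ≤ d k)

theorem mulVec_gen_mem_ker {g : Matrix ((k : Fin t) × Fin (d k)) ((k : Fin t) × Fin (d k)) F}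
    (hg : g ∈ comm F d) (k : Fin t) :
    g *ᵥ gen d F hd k ∈ LinearMap.ker (Nd d F ^ d k) := by
  rw [LinearMap.mem_ker, ← comm_pow d hg, Nd_pow_gen_eq_zero d hd k (d k) le_rfl,
    Matrix.mulVec_zero]

/-- evaluation at the generators. -/
def evK (F : Type u) [Field F] (d : Fin t → ℕ) (hd : ∀ k, 1 ≤ d k) :
    comm F d →ₗ[F] ((k : Fin t) → LinearMap.ker (Nd d F ^ d k)) where
  toFun g k := ⟨g.1 *ᵥ gen d F hd k, mulVec_gen_mem_ker d hd g.2 k⟩
  map_add' a b := by
    funext k
    apply Subtype.ext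
    simp [Matrix.add_mulVec]
  map_smul' c a := by
    funext k
    apply Subtype.ext
    simp [Matrix.smul_mulVec]

theorem evK_apply (g : comm F d) (k : Fin t) :
    ((evK F d hd g k : LinearMap.ker (Nd d F ^ d k)) : ((k : Fin t) × Fin (d k)) → F)
      = g.1 *ᵥ gen d F hd k := rfl

theorem col_eq {g : Matrix ((k : Fin t) × Fin (d k)) ((k : Fin t) × Fin (d k)) F}
    (hg : g ∈ comm F d) (x : (k : Fin t) × Fin (d k)) :
    g.col x = (Nd d F ^ (x.2 : ℕ)) (g *ᵥ gen d F hd x.1) := by
  rw [← comm_pow d hg, Nd_pow_gen, Matrix.mulVec_single_one]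

theorem evK_injective : Function.Injective (evK F d hd) := by
  rw [← LinearMap.ker_eq_bot, Submodule.eq_bot_iff]
  intro g hg
  rw [LinearMap.mem_ker] at hg
  apply Subtype.ext
  ext y x
  have h1 := col_eq d hd g.2 x
  have h2 : g.1 *ᵥ gen d F hd x.1 = 0 := by
    have := congrArg (fun w => ((w x.1 : LinearMap.ker (Nd d F ^ d x.1)) :
      ((k : Fin t) × Fin (d k)) → F)) hg
    simpa [evK_apply] using this
  rw [h2, map_zero] at h1
  have := congrFun h1 y
  simpa [Matrix.col] using this

/-- the matrix with prescribed images of the generators. -/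
noncomputable def ofGens (w : (k : Fin t) → (((k : Fin t) × Fin (d k)) → F)) :
    Matrix ((k : Fin t) × Fin (d k)) ((k : Fin t) × Fin (d k)) F :=
  Matrix.of fun y x => (Nd d F ^ (x.2 : ℕ)) (w x.1) y

theorem ofGens_mulVec_single (w : (k : Fin t) → (((k : Fin t) × Fin (d k)) → F))
    (x : (k : Fin t) × Fin (d k)) :
    ofGens d w *ᵥ Pi.single x 1 = (Nd d F ^ (x.2 : ℕ)) (w x.1) := by
  rw [Matrix.mulVec_single_one]
  rfl

include hd in
theorem ofGens_mem_comm (w : (k : Fin t) → (((k : Fin t) × Fin (d k)) → F))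
    (hw : ∀ k, (Nd d F ^ d k) (w k) = 0) : ofGens d w ∈ comm F d := by
  rw [mem_comm_iff_mulVec]
  intro v
  -- both sides are linear in `v`; check on the standard basis
  have key : ∀ x : (k : Fin t) × Fin (d k),
      ofGens d w *ᵥ (Nd d F (Pi.single x 1)) = Nd d F (ofGens d w *ᵥ Pi.single x 1) := by
    intro x
    rw [ofGens_mulVec_single, ← Module.End.mul_apply, ← pow_succ']
    rw [← Nd_pow_gen d hd x, ← Module.End.mul_apply, ← pow_succ']
    by_cases h : (x.2 : ℕ) + 1 < d x.1
    · have h1 := Nd_pow_gen (F := F) d hd ⟨x.1, ⟨(x.2 : ℕ) + 1, h⟩⟩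
      simp only at h1
      rw [h1, ofGens_mulVec_single]
    · have h1 : (x.2 : ℕ) + 1 = d x.1 := by
        have := x.2.isLt
        omega
      rw [Nd_pow_gen_eq_zero d hd x.1 _ (by omega), Matrix.mulVec_zero, h1, hw]
  have hlin : (Matrix.toLin' (ofGens d w)).comp (Nd d F)
      = (Nd d F).comp (Matrix.toLin' (ofGens d w)) := by
    apply (Pi.basisFun F ((k : Fin t) × Fin (d k))).ext
    intro x
    simp only [Pi.basisFun_apply, LinearMap.comp_apply, Matrix.toLin'_apply]
    exact key x
  have := LinearMap.congr_fun hlin v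
  simpa [Matrix.toLin'_apply] using this

theorem evK_surjective : Function.Surjective (evK F d hd) := by
  intro w
  refine ⟨⟨ofGens d (fun k => (w k).1), ofGens_mem_comm d hd _ (fun k => ?_)⟩, ?_⟩
  · exact LinearMap.mem_ker.mp (w k).2
  · funext k
    apply Subtype.ext
    rw [evK_apply]
    simp only
    rw [gen, ofGens_mulVec_single]
    simp

/-- the commutant is linearly isomorphic to the product of the kernels. -/
noncomputable def evKEquiv (F : Type u) [Field F] (d : Fin t → ℕ) (hd : ∀ k, 1 ≤ d k) :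
    comm F d ≃ₗ[F] ((k : Fin t) → LinearMap.ker (Nd d F ^ d k)) :=
  LinearEquiv.ofBijective (evK F d hd) ⟨evK_injective d hd, evK_surjective d hd⟩

include hd in
theorem finrank_comm : finrank F (comm F d) = ∑ k, ∑ l, min (d k) (d l) := by
  rw [(evKEquiv F d hd).finrank_eq, Module.finrank_pi_fintype]
  apply Finset.sum_congr rfl
  intro k _
  exact kdim_Nd d (d k)

end Cfsg.Agent.Helper59.JCent
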