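import Mathlib
import Cfsg.Prelude.Def_JordanBlocks
import Cfsg.Agent.Helper43.JTMat
import Cfsg.Agent.Helper59.JCentA
import Cfsg.Agent.Helper59.JCentB

set_option autoImplicit false

/-! Invertibility criterion in the commutant of a Jordan type matrix. -/

namespace Cfsg.Agent.Helper59.JCent

open Module Matrix
open Cfsg.Agent.Helper43 Cfsg.Agent.Helper43.JT

universe u
variable {F : Type u} [Field F] {t : ℕ} (d : Fin t → ℕ) (hd : ∀ k, 1 ≤ d k)

/-- the submatrix on the top indices of the blocks. -/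
def topSub (g : Matrix ((k : Fin t) × Fin (d k)) ((k : Fin t) × Fin (d k)) F) :
    Matrix (Fin t) (Fin t) F := g.submatrix (top d hd) (top d hd)

theorem topSub_apply (g : Matrix ((k : Fin t) × Fin (d k)) ((k : Fin t) × Fin (d k)) F)
    (l k : Fin t) : topSub d hd g l k = (g *ᵥ gen d F hd k) (top d hd l) := by
  rw [gen, Matrix.mulVec_single_one]
  rfl

theorem topSub_blockTriangular
    {g : Matrix ((k : Fin t) × Fin (d k)) ((k : Fin t) × Fin (d k)) F} (hg : g ∈ comm F d) :
    (topSub d hd g).BlockTriangular d := by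
  intro l k hlt
  rw [topSub_apply]
  exact apply_top_eq_zero_of_mem_ker d hd (LinearMap.mem_ker.mp (mulVec_gen_mem_ker d hd hg k))
    l hlt

theorem topSub_mulVec (g : Matrix ((k : Fin t) × Fin (d k)) ((k : Fin t) × Fin (d k)) F)
    (y : Fin t → F) : topSub d hd g *ᵥ y = proj d F hd (g *ᵥ incl d F hd y) := by
  funext l
  rw [proj_apply, incl_eq_sum, Matrix.mulVec_sum]
  rw [Finset.sum_apply]
  simp only [Matrix.mulVec, dotProduct]
  apply Finset.sum_congr rfl
  intro k _
  rw [topSub_apply]
  have : g *ᵥ (y k • gen d F hd k) = y k • (g *ᵥ gen d F hd k) := Matrix.mulVec_smul _ _ _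
  have h2 := congrFun this (top d hd l)
  simp only [Matrix.mulVec, dotProduct, Pi.smul_apply, smul_eq_mul] at h2 ⊢
  rw [h2, mul_comm]

theorem proj_mulVec_of_proj_eq_zero
    {g : Matrix ((k : Fin t) × Fin (d k)) ((k : Fin t) × Fin (d k)) F} (hg : g ∈ comm F d)
    {v : ((k : Fin t) × Fin (d k)) → F} (hv : proj d F hd v = 0) :
    proj d F hd (g *ᵥ v) = 0 := by
  obtain ⟨u, rfl⟩ := mem_range_Nd_of_proj_eq_zero d hd hv
  rw [(mem_comm_iff_mulVec d).mp hg, proj_Nd]

theorem isUnit_iff_topSub
    {g : Matrix ((k : Fin t) × Fin (d k)) ((k : Fin t) × Fin (d k)) F} (hg : g ∈ comm F d) :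
    IsUnit g ↔ IsUnit (topSub d hd g) := by
  rw [← Matrix.mulVec_surjective_iff_isUnit, ← Matrix.mulVec_surjective_iff_isUnit]
  constructor
  · intro hs z
    obtain ⟨w, hw⟩ := hs (incl d F hd z)
    refine ⟨proj d F hd w, ?_⟩
    rw [topSub_mulVec]
    have h1 : proj d F hd (w - incl d F hd (proj d F hd w)) = 0 := by
      rw [map_sub, proj_incl, sub_self]
    have h2 := proj_mulVec_of_proj_eq_zero d hd hg h1
    rw [Matrix.mulVec_sub, map_sub, hw, proj_incl, sub_eq_zero] at h2
    exact h2.symm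
  · intro hs
    have hR : LinearMap.range (Matrix.toLin' g) = ⊤ := by
      apply eq_top_of_sup_range_Nd d
      · rintro _ ⟨v, rfl⟩
        refine ⟨Nd d F v, ?_⟩
        rw [Matrix.toLin'_apply, Matrix.toLin'_apply, (mem_comm_iff_mulVec d).mp hg]
      · rw [eq_top_iff]
        intro v _
        obtain ⟨y, hy⟩ := hs (proj d F hd v)
        rw [topSub_mulVec] at hy
        have h1 : proj d F hd (v - g *ᵥ incl d F hd y) = 0 := by
          rw [map_sub, hy, sub_self]
        have h2 := mem_range_Nd_of_proj_eq_zero d hd h1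
        have : v = g *ᵥ incl d F hd y + (v - g *ᵥ incl d F hd y) := by abel
        rw [this]
        apply Submodule.add_mem
        · apply Submodule.mem_sup_left
          exact ⟨incl d F hd y, Matrix.toLin'_apply _ _⟩
        · exact Submodule.mem_sup_right h2
    intro v
    have : v ∈ LinearMap.range (Matrix.toLin' g) := by rw [hR]; trivial
    obtain ⟨w, hw⟩ := this
    exact ⟨w, by rw [← hw, Matrix.toLin'_apply]⟩

theorem isUnit_det_iff_blocks
    {g : Matrix ((k : Fin t) × Fin (d k)) ((k : Fin t) × Fin (d k)) F} (hg : g ∈ comm F d) :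
    IsUnit g.det ↔ ∀ i : ℕ, IsUnit ((topSub d hd g).toSquareBlock d i).det := by
  rw [← Matrix.isUnit_iff_isUnit_det, isUnit_iff_topSub d hd hg, Matrix.isUnit_iff_isUnit_det,
    (topSub_blockTriangular d hd hg).det, isUnit_iff_ne_zero, Finset.prod_ne_zero_iff]
  constructor
  · intro h i
    by_cases hi : i ∈ Finset.image d Finset.univ
    · exact isUnit_iff_ne_zero.mpr (h i hi)
    · have : IsEmpty {a // d a = i} := by
        constructor
        rintro ⟨a, ha⟩
        exact hi (Finset.mem_image.mpr ⟨a, Finset.mem_univ _, ha⟩)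
      rw [Matrix.det_isEmpty]
      exact isUnit_one
  · intro h i _
    exact isUnit_iff_ne_zero.mp (h i)

end Cfsg.Agent.Helper59.JCent
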