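import Mathlib
import Cfsg.Prelude.Def_JordanBlocks
import Cfsg.Agent.Helper43.JTMat
import Cfsg.Agent.Helper59.JCentA
import Cfsg.Agent.Helper59.JCentB
import Cfsg.Agent.Helper59.JCentC

set_option autoImplicit false

/-! Counting the invertible elements of the commutant of a Jordan type matrix. -/

namespace Cfsg.Agent.Helper59.JCent

open Module Matrix
open Cfsg.Agent.Helper43 Cfsg.Agent.Helper43.JT

universe u
variable {F : Type u} [Field F] {t : ℕ} (d : Fin t → ℕ) (hd : ∀ k, 1 ≤ d k)

theorem lt_sup_succ (k : Fin t) : d k < Finset.univ.sup d + 1 :=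
  Nat.lt_succ_of_le (Finset.le_sup (f := d) (Finset.mem_univ k))

/-- the block-diagonal target. -/
abbrev DD (F : Type u) [Field F] (d : Fin t → ℕ) : Type u :=
  (i : Fin (Finset.univ.sup d + 1)) →
    Matrix {a : Fin t // d a = (i : ℕ)} {a : Fin t // d a = (i : ℕ)} F

/-- the diagonal blocks of the top submatrix. -/
def Phi : comm F d →ₗ[F] DD F d where
  toFun g i := (topSub d hd g.1).toSquareBlock d i
  map_add' a b := by
    funext i
    ext x y
    rfl
  map_smul' c a := by
    funext i
    ext x y
    rfl

theorem Phi_apply (g : comm F d) (i : Fin (Finset.univ.sup d + 1))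
    (a b : {a : Fin t // d a = (i : ℕ)}) :
    Phi d hd g i a b = g.1 (top d hd a.1) (top d hd b.1) := rfl

/-- coefficients for the preimage. -/
noncomputable def cOf (M : DD F d) (l k : Fin t) : F :=
  if h : d l = d k then M ⟨d k, lt_sup_succ d k⟩ ⟨l, h⟩ ⟨k, rfl⟩ else 0

/-- generator images for the preimage. -/
noncomputable def wOf (M : DD F d) (k : Fin t) : ((k : Fin t) × Fin (d k)) → F :=
  ∑ l, cOf d M l k • gen d F hd l

theorem wOf_mem (M : DD F d) (k : Fin t) : (Nd d F ^ d k) (wOf d hd M k) = 0 := by
  unfold wOf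
  rw [map_sum]
  apply Finset.sum_eq_zero
  intro l _
  rw [map_smul]
  by_cases h : d l = d k
  · rw [Nd_pow_gen_eq_zero d hd l (d k) (le_of_eq h), smul_zero]
  · rw [cOf, dif_neg h, zero_smul]

theorem top_injective : Function.Injective (top d hd) := by
  intro a b h
  have := congrArg Sigma.fst h
  simpa using this

theorem wOf_top (M : DD F d) (k l : Fin t) : wOf d hd M k (top d hd l) = cOf d M l k := by
  unfold wOf
  rw [Finset.sum_apply, Finset.sum_eq_single l]
  · simp [gen]
  · intro l' _ hl'
    rw [Pi.smul_apply, gen, Pi.single_eq_of_ne, smul_zero]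
    intro h
    exact hl' (top_injective d hd h).symm
  · intro h
    exact absurd (Finset.mem_univ _) h

theorem Phi_surjective : Function.Surjective (Phi (F := F) d hd) := by
  intro M
  refine ⟨⟨ofGens d (wOf d hd M), ofGens_mem_comm d hd _ (wOf_mem d hd M)⟩, ?_⟩
  funext i
  ext a b
  rw [Phi_apply]
  show (Nd d F ^ ((top d hd b.1).2 : ℕ)) (wOf d hd M b.1) (top d hd a.1) = M i a b
  rw [top_snd, pow_zero, Module.End.one_apply, wOf_top]
  obtain ⟨iv, hi⟩ := i
  obtain ⟨a, ha⟩ := a
  obtain ⟨b, hb⟩ := b
  simp only at ha hb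
  subst hb
  rw [cOf, dif_pos ha]

/-- general fibre decomposition for a surjective linear map. -/
noncomputable def fiberEquiv {C D : Type*} [AddCommGroup C] [Module F C] [AddCommGroup D]
    [Module F D] (Φ : C →ₗ[F] D) (hΦ : Function.Surjective Φ) (P : D → Prop) :
    {g : C // P (Φ g)} ≃ (LinearMap.ker Φ) × {y : D // P y} where
  toFun g := (⟨g.1 - Function.surjInv hΦ (Φ g.1), by
      rw [LinearMap.mem_ker, map_sub, Function.surjInv_eq hΦ, sub_self]⟩, ⟨Φ g.1, g.2⟩)
  invFun p := ⟨p.1.1 + Function.surjInv hΦ p.2.1, by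
      rw [map_add, LinearMap.mem_ker.mp p.1.2, zero_add, Function.surjInv_eq hΦ]
      exact p.2.2⟩
  left_inv g := by
    apply Subtype.ext
    simp
  right_inv p := by
    have h : Φ (p.1.1 + Function.surjInv hΦ p.2.1) = p.2.1 := by
      rw [map_add, LinearMap.mem_ker.mp p.1.2, zero_add, Function.surjInv_eq hΦ]
    apply Prod.ext
    · apply Subtype.ext
      simp only
      rw [h]
      simp
    · apply Subtype.ext
      exact h

/-- matrices with unit determinant, as the general linear group. -/
noncomputable def unitDetEquivGL (K : Type*) [Fintype K] [DecidableEq K] :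
    {M : Matrix K K F // IsUnit M.det} ≃ GL K F where
  toFun M := ((Matrix.isUnit_iff_isUnit_det M.1).mpr M.2).unit
  invFun g := ⟨g.1, (Matrix.isUnit_iff_isUnit_det _).mp g.isUnit⟩
  left_inv M := by
    apply Subtype.ext
    rfl
  right_inv g := by
    apply Units.ext
    rfl

theorem card_unitDet [Fintype F] (K : Type*) [Fintype K] [DecidableEq K] :
    Nat.card {M : Matrix K K F // IsUnit M.det}
      = ∏ j ∈ Finset.range (Fintype.card K),
          (Fintype.card F ^ Fintype.card K - Fintype.card F ^ j) := by
  have e := Fintype.equivFin K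
  have e1 : {M : Matrix K K F // IsUnit M.det}
      ≃ {M : Matrix (Fin (Fintype.card K)) (Fin (Fintype.card K)) F // IsUnit M.det} :=
    Equiv.subtypeEquiv (Matrix.reindex e e) (fun M => by rw [Matrix.det_reindex_self])
  rw [Nat.card_congr e1, Nat.card_congr (unitDetEquivGL _), Matrix.card_GL_field,
    ← Fin.prod_univ_eq_prod_range]

/-- the centraliser in `GL` as the unit-determinant elements of the commutant. -/
noncomputable def centEquiv :
    {g : GL ((k : Fin t) × Fin (d k)) F //
        (g : Matrix ((k : Fin t) × Fin (d k)) ((k : Fin t) × Fin (d k)) F)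
            * Cfsg.jordanTypeMatrix d F
          = Cfsg.jordanTypeMatrix d F
            * (g : Matrix ((k : Fin t) × Fin (d k)) ((k : Fin t) × Fin (d k)) F)}
      ≃ {g : comm F d // IsUnit g.1.det} where
  toFun x := ⟨⟨x.1.1, x.2⟩, (Matrix.isUnit_iff_isUnit_det _).mp x.1.isUnit⟩
  invFun y := ⟨((Matrix.isUnit_iff_isUnit_det _).mpr y.2).unit, y.1.2⟩
  left_inv x := by
    apply Subtype.ext
    apply Units.ext
    rfl
  right_inv y := by
    apply Subtype.ext
    apply Subtype.ext
    rfl

theorem card_centralizer_aux [Fintype F] :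
    Nat.card {g : GL ((k : Fin t) × Fin (d k)) F //
        (g : Matrix ((k : Fin t) × Fin (d k)) ((k : Fin t) × Fin (d k)) F)
            * Cfsg.jordanTypeMatrix d F
          = Cfsg.jordanTypeMatrix d F
            * (g : Matrix ((k : Fin t) × Fin (d k)) ((k : Fin t) × Fin (d k)) F)}
      = Fintype.card F ^ finrank F (LinearMap.ker (Phi (F := F) d hd))
        * ∏ i : Fin (Finset.univ.sup d + 1),
            ∏ j ∈ Finset.range (Fintype.card {a : Fin t // d a = (i : ℕ)}),
              (Fintype.card F ^ Fintype.card {a : Fin t // d a = (i : ℕ)} - Fintype.card F ^ j) := by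
  rw [Nat.card_congr (centEquiv d)]
  have e2 : {g : comm F d // IsUnit g.1.det}
      ≃ {g : comm F d // (fun y : DD F d => ∀ i, IsUnit (y i).det) (Phi d hd g)} := by
    apply Equiv.subtypeEquivRight
    intro g
    rw [isUnit_det_iff_blocks d hd g.2]
    constructor
    · intro h i
      exact h i
    · intro h i
      by_cases hi : i < Finset.univ.sup d + 1
      · exact h ⟨i, hi⟩
      · have : IsEmpty {a // d a = i} := by
          constructor
          rintro ⟨a, ha⟩
          have := lt_sup_succ d a
          omega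
        rw [Matrix.det_isEmpty]
        exact isUnit_one
  rw [Nat.card_congr e2]
  have e3 := fiberEquiv (Phi (F := F) d hd) (Phi_surjective d hd)
    (fun y : DD F d => ∀ i, IsUnit (y i).det)
  rw [Nat.card_congr e3, Nat.card_prod]
  have e4 : {y : DD F d // ∀ i, IsUnit (y i).det}
      ≃ ((i : Fin (Finset.univ.sup d + 1)) →
          {M : Matrix {a : Fin t // d a = (i : ℕ)} {a : Fin t // d a = (i : ℕ)} F //
            IsUnit M.det}) :=
    Equiv.subtypePiEquivPi (β := fun i : Fin (Finset.univ.sup d + 1) =>
      Matrix {a : Fin t // d a = (i : ℕ)} {a : Fin t // d a = (i : ℕ)} F)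
      (p := fun _ M => IsUnit M.det)
  rw [Nat.card_congr e4, Nat.card_pi]
  congr 1
  · rw [Module.natCard_eq_pow_finrank (K := F), Nat.card_eq_fintype_card]
  · apply Finset.prod_congr rfl
    intro i _
    exact card_unitDet _

theorem finrank_ker_Phi_add :
    finrank F (LinearMap.ker (Phi (F := F) d hd))
      + ∑ i : Fin (Finset.univ.sup d + 1), Fintype.card {a : Fin t // d a = (i : ℕ)} ^ 2
      = ∑ k, ∑ l, min (d k) (d l) := by
  rw [← finrank_comm (F := F) d hd, ← LinearMap.finrank_range_add_finrank_ker (Phi (F := F) d hd),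
    LinearMap.range_eq_top.mpr (Phi_surjective d hd), finrank_top, add_comm]
  congr 1
  rw [Module.finrank_pi_fintype]
  apply Finset.sum_congr rfl
  intro i _
  rw [Module.finrank_matrix, Module.finrank_self, mul_one, sq]

end Cfsg.Agent.Helper59.JCent
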