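import Mathlib
import Cfsg.Prelude.Def_JordanBlocks
import Cfsg.Agent.Helper59.JCentD

set_option autoImplicit false

/-! Arithmetic for the centraliser order of a unipotent matrix of given Jordan type. -/

namespace Cfsg.Agent.Helper59.JCent

open Module Matrix

universe u
variable {t : ℕ} (d : Fin t → ℕ)

/-- the multiplicity of the block size `i`. -/
abbrev mult (i : ℕ) : ℕ := (Finset.univ.filter (fun k : Fin t => d k = i)).card

theorem sum_comp_range (f : ℕ → ℕ) :
    ∑ k, f (d k) = ∑ i ∈ Finset.range (Finset.univ.sup d + 1), mult d i * f i := by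
  rw [Finset.sum_comp f d]
  apply Finset.sum_subset
  · intro b hb
    obtain ⟨k, _, rfl⟩ := Finset.mem_image.mp hb
    exact Finset.mem_range.mpr (lt_sup_succ d k)
  · intro b _ hb
    have : (Finset.univ.filter (fun k : Fin t => d k = b)) = ∅ := by
      rw [Finset.filter_eq_empty_iff]
      intro k _ hk
      exact hb (Finset.mem_image.mpr ⟨k, Finset.mem_univ _, hk⟩)
    rw [this]
    simp

theorem mult_zero (hd : ∀ k, 1 ≤ d k) : mult d 0 = 0 := by
  rw [mult, Finset.card_eq_zero, Finset.filter_eq_empty_iff]
  intro k _ hk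
  have := hd k
  omega

theorem sum_min_eq (hd : ∀ k, 1 ≤ d k) :
    ∑ k, ∑ l, min (d k) (d l)
      = 2 * (∑ i ∈ Finset.range (Finset.univ.sup d + 1),
            ∑ j ∈ Finset.range (Finset.univ.sup d + 1),
              if i < j then i * mult d i * mult d j else 0)
        + ∑ i ∈ Finset.range (Finset.univ.sup d + 1), (i - 1) * mult d i ^ 2
        + ∑ i ∈ Finset.range (Finset.univ.sup d + 1), mult d i ^ 2 := by
  set R := Finset.range (Finset.univ.sup d + 1) with hR
  have h1 : ∑ k, ∑ l, min (d k) (d l)
      = ∑ i ∈ R, ∑ j ∈ R, mult d i * mult d j * min i j := by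
    have : ∀ k, ∑ l, min (d k) (d l) = ∑ j ∈ R, mult d j * min (d k) j := by
      intro k
      exact sum_comp_range d (fun j => min (d k) j)
    simp_rw [this]
    rw [sum_comp_range d (fun i => ∑ j ∈ R, mult d j * min i j)]
    apply Finset.sum_congr rfl
    intro i _
    rw [Finset.mul_sum]
    apply Finset.sum_congr rfl
    intro j _
    ring
  have h2 : ∀ i j : ℕ, mult d i * mult d j * min i j
      = (if i < j then i * mult d i * mult d j else 0)
        + (if j < i then j * mult d j * mult d i else 0)
        + (if i = j then i * mult d i ^ 2 else 0) := by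
    intro i j
    rcases lt_trichotomy i j with h | h | h
    · rw [if_pos h, if_neg (by omega), if_neg (by omega), min_eq_left (le_of_lt h)]
      ring
    · subst h
      rw [if_neg (lt_irrefl _), if_pos rfl, min_self]
      ring
    · rw [if_neg (by omega), if_pos h, if_neg (by omega), min_eq_right (le_of_lt h)]
      ring
  rw [h1]
  simp_rw [h2, Finset.sum_add_distrib]
  have h3 : ∑ i ∈ R, ∑ j ∈ R, (if j < i then j * mult d j * mult d i else 0)
      = ∑ i ∈ R, ∑ j ∈ R, (if i < j then i * mult d i * mult d j else 0) := by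
    rw [Finset.sum_comm]
  have h4 : ∑ i ∈ R, ∑ j ∈ R, (if i = j then i * mult d i ^ 2 else 0)
      = ∑ i ∈ R, i * mult d i ^ 2 := by
    apply Finset.sum_congr rfl
    intro i hi
    rw [Finset.sum_ite_eq R i]
    rw [if_pos hi]
  have h5 : ∑ i ∈ R, i * mult d i ^ 2
      = ∑ i ∈ R, (i - 1) * mult d i ^ 2 + ∑ i ∈ R, mult d i ^ 2 := by
    rw [← Finset.sum_add_distrib]
    apply Finset.sum_congr rfl
    intro i _
    rcases Nat.eq_zero_or_pos i with h | h
    · subst h
      rw [mult_zero d hd]
      simp
    · obtain ⟨m, rfl⟩ : ∃ m, i = m + 1 := ⟨i - 1, by omega⟩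
      rw [Nat.add_sub_cancel]
      ring
  rw [h3, h4, h5]
  ring

end Cfsg.Agent.Helper59.JCent
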