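import Cfsg.Agent.Helper59.LawBasic
import Cfsg.Agent.S2352
import Cfsg.Agent.S2353
import Cfsg.Agent.Helper5.PSL2Simple

/-!
# The two base cases: large alternating groups and `SL₂` of large fields
-/

set_option autoImplicit false

namespace Cfsg.Agent.Helper59.Law

open Matrix

theorem exists_alt_bound (w : FreeGroup ℕ) (hw : w ≠ 1) :
    ∃ K : ℕ, 5 ≤ K ∧ ∀ n, K ≤ n → ¬ CentralLaw w (alternatingGroup (Fin n)) := by
  obtain ⟨N, hN⟩ := Cfsg.Agent.S2352.result w hw
  refine ⟨max N 5, le_max_right _ _, ?_⟩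
  intro n hn hc
  obtain ⟨f, hf⟩ := hN n (le_trans (le_max_left _ _) hn)
  have h5 : 5 ≤ n := le_trans (le_max_right _ _) hn
  have h1 := hc f
  rw [alternatingGroup.center_eq_bot (by rw [Nat.card_eq_fintype_card, Fintype.card_fin]; omega),
    Subgroup.mem_bot] at h1
  exact hf h1

theorem exists_field_bound (w : FreeGroup ℕ) (hw : w ≠ 1) :
    ∃ Q : ℕ, 4 ≤ Q ∧ ∀ (L : Type) [Field L] [Fintype L], Q ≤ Fintype.card L →
      ¬ CentralLaw w (SpecialLinearGroup (Fin 2) L) := by
  obtain ⟨N, hN⟩ := Cfsg.Agent.S2353.result w hw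
  refine ⟨max N 4, le_max_right _ _, ?_⟩
  intro L _ _ hL hc
  obtain ⟨f, hf⟩ := hN L (le_trans (le_max_left _ _) hL)
  apply hf
  have h1 := hc (fun i => (f i).out)
  have h2 : (fun i => (QuotientGroup.mk' (Subgroup.center (SpecialLinearGroup (Fin 2) L))
      ((f i).out))) = f := by
    funext i
    exact QuotientGroup.out_eq' (f i)
  rw [← h2, lift_comp]
  exact (QuotientGroup.eq_one_iff _).2 h1

theorem sl2_perfect (L : Type*) [Field L] [Fintype L] (h : 4 ≤ Fintype.card L) :
    commutator (SpecialLinearGroup (Fin 2) L) = ⊤ :=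
  Cfsg.Agent.Helper5.commutator_SL_eq_top_of_exists (Cfsg.Agent.Helper5.exists_sq_ne_one_of_card h)

theorem alt_perfect (n : ℕ) (h : 5 ≤ n) : commutator (alternatingGroup (Fin n)) = ⊤ :=
  commutator_alternatingGroup_eq_top (by rw [Nat.card_eq_fintype_card, Fintype.card_fin]; exact h)

end Cfsg.Agent.Helper59.Law
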