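import Mathlib

/-!
# Laws and central laws in groups

`CentralLaw w G` says that all values of the word `w` in `G` are central.  Central laws pass to
groups that embed into `G`; a law of `G ⧸ Z(G)` is a central law of `G`.
-/

set_option autoImplicit false

namespace Cfsg.Agent.Helper59.Law

/-- all values of `w` in `G` are central -/
def CentralLaw (w : FreeGroup ℕ) (G : Type*) [Group G] : Prop :=
  ∀ f : ℕ → G, FreeGroup.lift f w ∈ Subgroup.center G

theorem lift_comp {G H : Type*} [Group G] [Group H] (φ : G →* H) (f : ℕ → G)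
    (w : FreeGroup ℕ) :
    FreeGroup.lift (fun i => φ (f i)) w = φ (FreeGroup.lift f w) := by
  have := FreeGroup.lift_unique (f := fun i => φ (f i)) (φ.comp (FreeGroup.lift f))
    (fun i => by simp) (x := w)
  simpa using this.symm

theorem CentralLaw.of_injective {G H : Type*} [Group G] [Group H] {w : FreeGroup ℕ}
    (φ : H →* G) (hφ : Function.Injective φ) (h : CentralLaw w G) : CentralLaw w H := by
  intro f
  rw [Subgroup.mem_center_iff]
  intro x
  apply hφ
  rw [map_mul, map_mul, ← lift_comp]
  exact Subgroup.mem_center_iff.1 (h _) (φ x)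

theorem centralLaw_of_law_quotient {G : Type*} [Group G] {w : FreeGroup ℕ}
    (h : ∀ f : ℕ → G ⧸ Subgroup.center G, FreeGroup.lift f w = 1) : CentralLaw w G := by
  intro f
  have h1 := h (fun i => (QuotientGroup.mk' (Subgroup.center G) (f i)))
  rw [lift_comp] at h1
  exact (QuotientGroup.eq_one_iff _).1 h1

theorem law_of_mulEquiv {G H : Type*} [Group G] [Group H] {w : FreeGroup ℕ} (e : G ≃* H)
    (h : ∀ f : ℕ → G, FreeGroup.lift f w = 1) (f : ℕ → H) : FreeGroup.lift f w = 1 := by
  have h1 := h (fun i => e.symm (f i))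
  have h2 := lift_comp e.symm.toMonoidHom f w
  have h3 : e.symm (FreeGroup.lift f w) = 1 := by
    rw [← h1]
    exact h2.symm
  exact (MulEquiv.map_eq_one_iff e.symm).1 h3

/-- a law of a group isomorphic to `G̃ ⧸ Z(G̃)` is a central law of every group embedding in `G̃` -/
theorem centralLaw_of_iso_quotient {G Gt H : Type*} [Group G] [Group Gt] [Group H]
    {w : FreeGroup ℕ} (e : G ≃* Gt ⧸ Subgroup.center Gt)
    (h : ∀ f : ℕ → G, FreeGroup.lift f w = 1) (φ : H →* Gt) (hφ : Function.Injective φ) :
    CentralLaw w H :=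
  CentralLaw.of_injective φ hφ (centralLaw_of_law_quotient (law_of_mulEquiv e h))

theorem map_mem_commutator' {G H : Type*} [Group G] [Group H] (f : G →* H) {g : G}
    (hg : g ∈ commutator G) : f g ∈ commutator H := by
  rw [commutator_def] at hg ⊢
  have h1 : f g ∈ Subgroup.map f ⁅(⊤ : Subgroup G), ⊤⁆ := Subgroup.mem_map_of_mem f hg
  rw [Subgroup.map_commutator] at h1
  exact Subgroup.commutator_mono le_top le_top h1

/-- a homomorphism from a perfect group, with values in the commutator subgroup -/
def toCommutator {H K : Type*} [Group H] [Group K] (φ : H →* K) (hH : commutator H = ⊤) :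
    H →* commutator K :=
  φ.codRestrict (commutator K) (fun h => map_mem_commutator' φ (by rw [hH]; trivial))

theorem toCommutator_injective {H K : Type*} [Group H] [Group K] (φ : H →* K)
    (hH : commutator H = ⊤) (hφ : Function.Injective φ) :
    Function.Injective (toCommutator φ hH) := by
  intro a b hab
  apply hφ
  exact congrArg Subtype.val hab

/-- the cardinality of a quotient of a group of matrices -/
theorem card_quotient_le {ι F H : Type*} [Fintype ι] [DecidableEq ι] [Field F] [Fintype F]
    [Group H] (j : H → Matrix ι ι F) (hj : Function.Injective j) (Z : Subgroup H)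
    {Q d : ℕ} (hQ : 1 ≤ Q) (hF : Fintype.card F ≤ Q) (hι : Fintype.card ι ≤ d) :
    Nat.card (H ⧸ Z) ≤ Q ^ (d ^ 2) := by
  classical
  have : Finite H := Finite.of_injective j hj
  have h1 : Nat.card (H ⧸ Z) ≤ Nat.card H :=
    Nat.card_le_card_of_surjective _ (QuotientGroup.mk_surjective (s := Z))
  have h2 : Nat.card H ≤ Nat.card (Matrix ι ι F) := Nat.card_le_card_of_injective j hj
  have h3 : Nat.card (Matrix ι ι F) = Fintype.card F ^ (Fintype.card ι ^ 2) := by
    rw [Nat.card_eq_fintype_card]
    show Fintype.card (ι → ι → F) = _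
    rw [Fintype.card_fun, Fintype.card_fun, ← pow_mul, sq]
  have h4 : Fintype.card F ^ (Fintype.card ι ^ 2) ≤ Q ^ (d ^ 2) := by
    calc Fintype.card F ^ (Fintype.card ι ^ 2) ≤ Q ^ (Fintype.card ι ^ 2) :=
          Nat.pow_le_pow_left hF _
      _ ≤ Q ^ (d ^ 2) := Nat.pow_le_pow_right hQ (Nat.pow_le_pow_left hι 2)
  omega

end Cfsg.Agent.Helper59.Law
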