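import Cfsg.Agent.Helper59.LawSL
import Cfsg.Agent.Helper5.Siegel3
import Cfsg.Agent.Helper44.StdHyp

/-!
# Laws in the orthogonal groups `PΩ(Q)`
-/

set_option autoImplicit false

namespace Cfsg.Agent.Helper59.Law

open Matrix Cfsg Cfsg.Agent.Helper44 Cfsg.Agent.Helper5

section Generic

variable {F : Type*} [Field F] {ι : Type} [Fintype ι] [DecidableEq ι]

/-- two disjoint hyperbolic coordinate pairs give a frame -/
def frameOfHypPairs {Q : QuadraticForm F (ι → F)} {a b c d : ι} (h1 : IsHypPair Q a b)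
    (h2 : IsHypPair Q c d) (had : a ≠ d) (hbc : b ≠ c) (hbd : b ≠ d) : Frame4 Q where
  p₁ := Pi.single a 1
  r₁ := Pi.single c 1
  p₂ := Pi.single b 1
  r₂ := Pi.single d 1
  Qp₁ := h1.Qa
  Qr₁ := h2.Qa
  Qp₂ := h1.Qb
  Qr₂ := h2.Qb
  p₁r₁ := by rw [h1.polar_a, Pi.single_eq_of_ne hbc]
  p₂r₂ := by rw [h1.polar_b, Pi.single_eq_of_ne had]
  p₁p₂ := by rw [h1.polar_a, Pi.single_eq_same]
  p₁r₂ := by rw [h1.polar_a, Pi.single_eq_of_ne hbd]
  r₁p₂ := by rw [h2.polar_a, Pi.single_eq_of_ne (Ne.symm hbd)]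
  r₁r₂ := by rw [h2.polar_a, Pi.single_eq_same]

/-- permutation matrices in `GL` -/
noncomputable def permGL' (ι : Type) [Fintype ι] [DecidableEq ι] (F : Type*) [Field F] :
    Equiv.Perm ι →* GL ι F :=
  (Matrix.permMatrixHom (n := ι) (R := F)).toHomUnits

theorem permGL'_coe (τ : Equiv.Perm ι) :
    ((permGL' ι F τ : GL ι F) : Matrix ι ι F) = Matrix.permMatrixHom (R := F) τ := rfl

theorem permGL'_injective : Function.Injective (permGL' ι F) := by
  intro a b hab
  apply permMatrixHom_injective ι F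
  rw [← permGL'_coe, ← permGL'_coe, hab]

/-- a group acting by coordinate permutations preserving `Q` -/
noncomputable def permIsoHom {H : Type*} [Group H] (Q : (ι → F) → F) (ρ : H →* Equiv.Perm ι)
    (hρ : ∀ h v, Q (v ∘ ρ h) = Q v) : H →* isometryGroup F Q :=
  ((permGL' ι F).comp ρ).codRestrict (isometryGroup F Q) (fun h => by
    show ∀ u v : ι → F, Q (((permGL' ι F (ρ h) : GL ι F) : Matrix ι ι F) *ᵥ u) = Q u
    intro u _
    rw [permGL'_coe, Matrix.permMatrixHom_apply, permMatrix_mulVec, ← map_inv]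
    exact hρ h⁻¹ u)

theorem permIsoHom_injective {H : Type*} [Group H] (Q : (ι → F) → F) (ρ : H →* Equiv.Perm ι)
    (hρ : ∀ h v, Q (v ∘ ρ h) = Q v) (hinj : Function.Injective ρ) :
    Function.Injective (permIsoHom Q ρ hρ) := by
  intro a b hab
  apply hinj
  apply permGL'_injective (F := F)
  exact congrArg Subtype.val hab

end Generic

section Core

/-- the common argument for the three orthogonal families -/
theorem omega_core {w : FreeGroup ℕ} {G : Type*} [Group G] {K Q : ℕ} (hQ4 : 4 ≤ Q) (hK5 : 5 ≤ K)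
    (hK : ∀ n, K ≤ n → ¬ CentralLaw w (alternatingGroup (Fin n)))
    (hQ : ∀ (L : Type) [Field L] [Fintype L], Q ≤ Fintype.card L →
      ¬ CentralLaw w (SpecialLinearGroup (Fin 2) L))
    (hlaw : ∀ f : ℕ → G, FreeGroup.lift f w = 1)
    (F : Type) [Field F] [Fintype F] {ι : Type} [Fintype ι] [DecidableEq ι]
    (Qf : (ι → F) → F) (m : ℕ) (hι : Fintype.card ι ≤ 2 * m + 2)
    (hsl2 : ∃ φ : SpecialLinearGroup (Fin 2) F →* isometryGroup F Qf, Function.Injective φ)
    (halt : ∃ φ : alternatingGroup (Fin m) →* isometryGroup F Qf, Function.Injective φ)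
    (e : G ≃* POmega F Qf) :
    Nat.card G ≤ (Q ^ 2) ^ ((2 * K + 2) ^ 2) := by
  have hmK : m < K := by
    by_contra hcon
    push Not at hcon
    obtain ⟨φ, hφ⟩ := halt
    have hperf := alt_perfect m (le_trans hK5 hcon)
    exact hK m hcon (centralLaw_of_iso_quotient e hlaw (toCommutator φ hperf)
      (toCommutator_injective φ hperf hφ))
  have hFQ : Fintype.card F < Q := by
    by_contra hcon
    push Not at hcon
    obtain ⟨φ, hφ⟩ := hsl2
    have hperf := sl2_perfect F (le_trans hQ4 hcon)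
    exact hQ F hcon (centralLaw_of_iso_quotient e hlaw (toCommutator φ hperf)
      (toCommutator_injective φ hperf hφ))
  rw [Nat.card_congr e.toEquiv]
  refine card_quotient_le (fun g : Omega F Qf =>
      (((g : isometryGroup F Qf) : GL ι F) : Matrix ι ι F))
    (Units.val_injective.comp (Subtype.val_injective.comp Subtype.val_injective)) _
    (Nat.one_le_pow _ _ (by omega)) ?_ ?_
  · have : Q ≤ Q ^ 2 := by nlinarith
    omega
  · omega

end Core

section Forms

variable {F : Type*} [Field F]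

/-- simultaneous permutation of the two halves -/
def rhoPlus (m : ℕ) : Equiv.Perm (Fin m) →* Equiv.Perm (Fin m ⊕ Fin m) where
  toFun σ := Equiv.Perm.sumCongr σ σ
  map_one' := by
    ext x
    rcases x with x | x <;> rfl
  map_mul' σ τ := by
    ext x
    rcases x with x | x <;> rfl

theorem rhoPlus_injective (m : ℕ) : Function.Injective (rhoPlus m) := by
  intro σ τ h
  ext i
  have h1 := congrArg (fun p : Equiv.Perm (Fin m ⊕ Fin m) => p (Sum.inl i)) h
  exact congrArg Fin.val (Sum.inl.inj h1)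

theorem quadFormPlus_rhoPlus (m : ℕ) (σ : Equiv.Perm (Fin m)) (v : Fin m ⊕ Fin m → F) :
    quadFormPlus m F (v ∘ rhoPlus m σ) = quadFormPlus m F v := by
  unfold quadFormPlus
  exact Equiv.sum_comp σ (fun i => v (Sum.inl i) * v (Sum.inr i))

/-- the same on the odd-dimensional index type -/
def rhoOdd (m : ℕ) : Equiv.Perm (Fin m) →* Equiv.Perm (Unit ⊕ (Fin m ⊕ Fin m)) where
  toFun σ := Equiv.Perm.sumCongr 1 (rhoPlus m σ)
  map_one' := by
    ext x
    rcases x with x | x | x <;> rfl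
  map_mul' σ τ := by
    ext x
    rcases x with x | x | x <;> rfl

theorem rhoOdd_injective (m : ℕ) : Function.Injective (rhoOdd m) := by
  intro σ τ h
  ext i
  have h1 := congrArg (fun p : Equiv.Perm (Unit ⊕ (Fin m ⊕ Fin m)) => p (Sum.inr (Sum.inl i))) h
  exact congrArg Fin.val (Sum.inl.inj (Sum.inr.inj h1))

theorem quadFormOdd_rhoOdd (m : ℕ) (σ : Equiv.Perm (Fin m)) (v : Unit ⊕ (Fin m ⊕ Fin m) → F) :
    quadFormOdd m F (v ∘ rhoOdd m σ) = quadFormOdd m F v := by
  unfold quadFormOdd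
  congr 1
  exact Equiv.sum_comp σ (fun i => v (Sum.inr (Sum.inl i)) * v (Sum.inr (Sum.inr i)))

/-- the same on the index type of the minus form -/
def rhoMinus (k : ℕ) : Equiv.Perm (Fin k) →* Equiv.Perm ((Fin k ⊕ Fin k) ⊕ Fin 2) where
  toFun σ := Equiv.Perm.sumCongr (rhoPlus k σ) 1
  map_one' := by
    ext x
    rcases x with (x | x) | x <;> rfl
  map_mul' σ τ := by
    ext x
    rcases x with (x | x) | x <;> rfl

theorem rhoMinus_injective (k : ℕ) : Function.Injective (rhoMinus k) := by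
  intro σ τ h
  ext i
  have h1 := congrArg (fun p : Equiv.Perm ((Fin k ⊕ Fin k) ⊕ Fin 2) => p (Sum.inl (Sum.inl i))) h
  exact congrArg Fin.val (Sum.inl.inj (Sum.inl.inj h1))

theorem quadFormMinus_rhoMinus (k : ℕ) (a b : F) (σ : Equiv.Perm (Fin k))
    (v : (Fin k ⊕ Fin k) ⊕ Fin 2 → F) :
    quadFormMinus k F a b (v ∘ rhoMinus k σ) = quadFormMinus k F a b v := by
  unfold quadFormMinus
  congr 1
  exact Equiv.sum_comp σ (fun i => v (Sum.inl (Sum.inl i)) * v (Sum.inl (Sum.inr i)))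

end Forms

section Cases

variable {w : FreeGroup ℕ} {G : Type*} [Group G] {K Q : ℕ}

/-- the case of `PΩ_{2m+1}(q)` -/
theorem omega_odd_case (hQ4 : 4 ≤ Q) (hK5 : 5 ≤ K)
    (hK : ∀ n, K ≤ n → ¬ CentralLaw w (alternatingGroup (Fin n)))
    (hQ : ∀ (L : Type) [Field L] [Fintype L], Q ≤ Fintype.card L →
      ¬ CentralLaw w (SpecialLinearGroup (Fin 2) L))
    (hlaw : ∀ f : ℕ → G, FreeGroup.lift f w = 1)
    (F : Type) [Field F] [Fintype F] (m : ℕ) (hm : 2 ≤ m)
    (e : G ≃* POmega F (quadFormOdd m F)) :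
    Nat.card G ≤ (Q ^ 2) ^ ((2 * K + 2) ^ 2) := by
  refine omega_core hQ4 hK5 hK hQ hlaw F (quadFormOdd m F) m ?_ ?_ ?_ e
  · rw [Fintype.card_sum, Fintype.card_sum, Fintype.card_fin, Fintype.card_unit]
    omega
  · let i0 : Fin m := ⟨0, by omega⟩
    let i1 : Fin m := ⟨1, by omega⟩
    have h01 : i0 ≠ i1 := by simp [i0, i1, Fin.ext_iff]
    let T : Frame4 (oddForm m F) := frameOfHypPairs (isHypPair_oddForm m i0)
      (isHypPair_oddForm m i1) (by simp) (by simp) (by simp [h01])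
    exact ⟨T.hom, T.hom_injective⟩
  · exact ⟨permIsoHom (quadFormOdd m F) ((rhoOdd m).comp (alternatingGroup (Fin m)).subtype)
        (fun h v => quadFormOdd_rhoOdd m h.1 v),
      permIsoHom_injective _ _ _ ((rhoOdd_injective m).comp Subtype.val_injective)⟩

/-- the case of `PΩ⁺_{2m}(q)` -/
theorem omega_plus_case (hQ4 : 4 ≤ Q) (hK5 : 5 ≤ K)
    (hK : ∀ n, K ≤ n → ¬ CentralLaw w (alternatingGroup (Fin n)))
    (hQ : ∀ (L : Type) [Field L] [Fintype L], Q ≤ Fintype.card L →
      ¬ CentralLaw w (SpecialLinearGroup (Fin 2) L))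
    (hlaw : ∀ f : ℕ → G, FreeGroup.lift f w = 1)
    (F : Type) [Field F] [Fintype F] (m : ℕ) (hm : 2 ≤ m)
    (e : G ≃* POmega F (quadFormPlus m F)) :
    Nat.card G ≤ (Q ^ 2) ^ ((2 * K + 2) ^ 2) := by
  refine omega_core hQ4 hK5 hK hQ hlaw F (quadFormPlus m F) m ?_ ?_ ?_ e
  · rw [Fintype.card_sum, Fintype.card_fin]
    omega
  · let i0 : Fin m := ⟨0, by omega⟩
    let i1 : Fin m := ⟨1, by omega⟩
    have h01 : i0 ≠ i1 := by simp [i0, i1, Fin.ext_iff]
    let T : Frame4 (plusForm m F) := frameOfHypPairs (isHypPair_plusForm m i0)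
      (isHypPair_plusForm m i1) (by simp) (by simp) (by simp [h01])
    exact ⟨T.hom, T.hom_injective⟩
  · exact ⟨permIsoHom (quadFormPlus m F) ((rhoPlus m).comp (alternatingGroup (Fin m)).subtype)
        (fun h v => quadFormPlus_rhoPlus m h.1 v),
      permIsoHom_injective _ _ _ ((rhoPlus_injective m).comp Subtype.val_injective)⟩

/-- the case of `PΩ⁻_{2k+2}(q)` -/
theorem omega_minus_case (hQ4 : 4 ≤ Q) (hK5 : 5 ≤ K)
    (hK : ∀ n, K ≤ n → ¬ CentralLaw w (alternatingGroup (Fin n)))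
    (hQ : ∀ (L : Type) [Field L] [Fintype L], Q ≤ Fintype.card L →
      ¬ CentralLaw w (SpecialLinearGroup (Fin 2) L))
    (hlaw : ∀ f : ℕ → G, FreeGroup.lift f w = 1)
    (F : Type) [Field F] [Fintype F] (k : ℕ) (hk : 2 ≤ k) (a b : F)
    (e : G ≃* POmega F (quadFormMinus k F a b)) :
    Nat.card G ≤ (Q ^ 2) ^ ((2 * K + 2) ^ 2) := by
  refine omega_core hQ4 hK5 hK hQ hlaw F (quadFormMinus k F a b) k ?_ ?_ ?_ e
  · rw [Fintype.card_sum, Fintype.card_sum, Fintype.card_fin, Fintype.card_fin]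
    omega
  · let i0 : Fin k := ⟨0, by omega⟩
    let i1 : Fin k := ⟨1, by omega⟩
    have h01 : i0 ≠ i1 := by simp [i0, i1, Fin.ext_iff]
    let T : Frame4 (minusForm k F a b) := frameOfHypPairs (isHypPair_minusForm k a b i0)
      (isHypPair_minusForm k a b i1) (by simp) (by simp) (by simp [h01])
    exact ⟨T.hom, T.hom_injective⟩
  · exact ⟨permIsoHom (quadFormMinus k F a b)
        ((rhoMinus k).comp (alternatingGroup (Fin k)).subtype)
        (fun h v => quadFormMinus_rhoMinus k a b h.1 v),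
      permIsoHom_injective _ _ _ ((rhoMinus_injective k).comp Subtype.val_injective)⟩

end Cases

end Cfsg.Agent.Helper59.Law
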