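import Cfsg.Agent.Helper59.LawBase
import Cfsg.Agent.Helper94.SLRootD

/-!
# Laws in `PSL_n(F)`: embeddings of `SL₂(F)` and of `A_n` into `SL_n(F)`
-/

set_option autoImplicit false

namespace Cfsg.Agent.Helper59.Law

open Matrix

theorem permMatrixHom_injective (ι : Type*) [DecidableEq ι] [Fintype ι] (R : Type*) [CommRing R]
    [Nontrivial R] : Function.Injective (Matrix.permMatrixHom (n := ι) (R := R)) := by
  intro σ τ h
  have h' : ∀ v : ι → R, v ∘ ⇑σ⁻¹ = v ∘ ⇑τ⁻¹ := by
    intro v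
    have h1 := congrArg (fun M => M *ᵥ v) h
    simpa [Matrix.permMatrixHom_apply, permMatrix_mulVec] using h1
  have h2 : σ⁻¹ = τ⁻¹ := by
    ext i
    have h3 := congrFun (h' (Pi.single (σ⁻¹ i) 1)) i
    simp only [Function.comp_apply, Pi.single_eq_same] at h3
    by_contra hne
    rw [Pi.single_eq_of_ne (fun h => hne h.symm)] at h3
    exact one_ne_zero h3
  exact inv_injective h2

/-- even permutation matrices -/
def altSL (n : ℕ) (F : Type*) [Field F] :
    alternatingGroup (Fin n) →* SpecialLinearGroup (Fin n) F where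
  toFun σ := ⟨Matrix.permMatrixHom (R := F) σ.1, by
    have h1 := σ.2
    rw [Equiv.Perm.mem_alternatingGroup] at h1
    rw [Matrix.permMatrixHom_apply, det_permutation, Equiv.Perm.sign_inv, h1]
    simp⟩
  map_one' := by
    apply Subtype.ext
    simp
  map_mul' a b := by
    apply Subtype.ext
    show Matrix.permMatrixHom (R := F)
        ((a * b : alternatingGroup (Fin n)) : Equiv.Perm (Fin n))
      = Matrix.permMatrixHom (R := F) a.1 * Matrix.permMatrixHom (R := F) b.1
    rw [Subgroup.coe_mul, map_mul]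

theorem altSL_coe (n : ℕ) (F : Type*) [Field F] (σ : alternatingGroup (Fin n)) :
    ((altSL n F σ : SpecialLinearGroup (Fin n) F) : Matrix (Fin n) (Fin n) F)
      = Matrix.permMatrixHom (R := F) σ.1 := rfl

theorem altSL_injective (n : ℕ) (F : Type*) [Field F] : Function.Injective (altSL n F) := by
  intro a b hab
  apply Subtype.ext
  apply permMatrixHom_injective (Fin n) F
  rw [← altSL_coe, ← altSL_coe, hab]

/-- `SL₂(F)` embeds in `SL_n(F)` for `n ≥ 2` -/
theorem exists_sl2_embedding_SL (F : Type*) [Field F] (n : ℕ) (hn : 2 ≤ n) :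
    ∃ φ : SpecialLinearGroup (Fin 2) F →* SpecialLinearGroup (Fin n) F, Function.Injective φ := by
  let i0 : Fin n := ⟨0, by omega⟩
  let i1 : Fin n := ⟨1, by omega⟩
  have h01 : i0 ≠ i1 := by simp [i0, i1, Fin.ext_iff]
  have h : (Pi.single i1 (1 : F) : Fin n → F) ⬝ᵥ Pi.single i0 1 = 0 := by
    simp [h01]
  have h' : (Pi.single i0 (1 : F) : Fin n → F) ⬝ᵥ Pi.single i1 1 = 0 := by
    simp [h01.symm]
  have h1 : (Pi.single i1 (1 : F) : Fin n → F) ⬝ᵥ Pi.single i1 1 = 1 := by simp
  have h2 : (Pi.single i0 (1 : F) : Fin n → F) ⬝ᵥ Pi.single i0 1 = 1 := by simp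
  exact ⟨Cfsg.Agent.Helper94.SLRoot.sl2Hom h h' h1 h2,
    Cfsg.Agent.Helper94.SLRoot.sl2Hom_injective h h' h1 h2⟩

/-- the case of `PSL_n(F)` -/
theorem psl_case {w : FreeGroup ℕ} {G : Type*} [Group G] {K Q : ℕ} (hQ4 : 4 ≤ Q)
    (hK : ∀ n, K ≤ n → ¬ CentralLaw w (alternatingGroup (Fin n)))
    (hQ : ∀ (L : Type) [Field L] [Fintype L], Q ≤ Fintype.card L →
      ¬ CentralLaw w (SpecialLinearGroup (Fin 2) L))
    (hlaw : ∀ f : ℕ → G, FreeGroup.lift f w = 1)
    (F : Type) [Field F] [Fintype F] (n : ℕ) (hn : 2 ≤ n)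
    (e : G ≃* Matrix.ProjectiveSpecialLinearGroup (Fin n) F) :
    Nat.card G ≤ (Q ^ 2) ^ ((2 * K + 2) ^ 2) := by
  have hnK : n < K := by
    by_contra hcon
    push Not at hcon
    exact hK n hcon (centralLaw_of_iso_quotient e hlaw (altSL n F) (altSL_injective n F))
  have hFQ : Fintype.card F < Q := by
    by_contra hcon
    push Not at hcon
    obtain ⟨φ, hφ⟩ := exists_sl2_embedding_SL F n hn
    exact hQ F hcon (centralLaw_of_iso_quotient e hlaw φ hφ)
  rw [Nat.card_congr e.toEquiv]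
  refine card_quotient_le (fun g : SpecialLinearGroup (Fin n) F => (g : Matrix (Fin n) (Fin n) F))
    Subtype.val_injective _ (Nat.one_le_pow _ _ (by omega)) ?_ ?_
  · have : Q ≤ Q ^ 2 := by nlinarith
    omega
  · rw [Fintype.card_fin]
    omega

end Cfsg.Agent.Helper59.Law
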