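import Cfsg.Agent.Helper59.LawSL
import Cfsg.Agent.Helper94.SURootC

/-!
# Laws in `PSU_n(q)`
-/

set_option autoImplicit false

namespace Cfsg.Agent.Helper59.Law

open Matrix Cfsg Cfsg.Agent.Helper45.GU Cfsg.Agent.Helper94.SURoot

theorem altSL_mem_SU (n : ℕ) (F : Type*) [Field F] (q : ℕ) (σ : alternatingGroup (Fin n)) :
    altSL n F σ ∈ Cfsg.SU n F q := by
  show ∀ u v, Cfsg.hermForm n F q (slToMat n F (altSL n F σ) *ᵥ u)
    (slToMat n F (altSL n F σ) *ᵥ v) = Cfsg.hermForm n F q u v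
  intro u v
  have h1 : (slToMat n F (altSL n F σ) : Matrix (Fin n) (Fin n) F) = (σ.1⁻¹).permMatrix F := rfl
  rw [h1, permMatrix_mulVec, permMatrix_mulVec]
  unfold Cfsg.hermForm
  exact Equiv.sum_comp (σ.1⁻¹) (fun i => u i * v i ^ q)

/-- even permutation matrices in `SU_n` -/
def altSU (n : ℕ) (F : Type*) [Field F] (q : ℕ) : alternatingGroup (Fin n) →* Cfsg.SU n F q :=
  (altSL n F).codRestrict (Cfsg.SU n F q) (altSL_mem_SU n F q)

theorem altSU_injective (n : ℕ) (F : Type*) [Field F] (q : ℕ) :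
    Function.Injective (altSU n F q) := by
  intro a b hab
  apply altSL_injective n F
  exact congrArg Subtype.val hab

theorem exists_sl2_embedding_SU (F : Type) [Field F] [Fintype F] (n q : ℕ)
    (hF : Fintype.card F = q ^ 2) (hn : 2 ≤ n) :
    ∃ (L : Type) (_ : Field L) (_ : Fintype L), Fintype.card L = q ∧
      ∃ φ : SpecialLinearGroup (Fin 2) L →* Cfsg.SU n F q, Function.Injective φ := by
  classical
  obtain ⟨bar, hbar⟩ := exists_bar hF
  have hne := bar_ne_id hF bar hbar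
  have hinv : ∀ a, bar (bar a) = a := by
    intro a
    rw [hbar, hbar, ← pow_mul, ← sq, ← hF, FiniteField.pow_card]
  obtain ⟨L, instL, instFL, ι, hcard, hι, hsurj⟩ := exists_small_field bar hF hne hinv
  obtain ⟨p, hp, hpp⟩ := exists_isotropic (n := n) bar hne hinv hn
  obtain ⟨r, hr, hrr, hrp, -⟩ := exists_isotropic_both bar hne hinv hp hpp hp hpp
  have h : herm bar p r ≠ 0 := by
    rw [← herm_conj bar hinv r p]
    exact (map_ne_zero bar).mpr hrp
  obtain ⟨θ, hθ0, hθ⟩ := exists_trace_zero bar hne hinv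
  obtain ⟨μ, hμ⟩ : ∃ μ, μ = bar (θ / herm bar p r) := ⟨_, rfl⟩
  have hrr' : herm bar (μ • r) (μ • r) = 0 := by
    rw [herm_smul_left, herm_smul_right, hrr, mul_zero, mul_zero]
  have hpr' : herm bar p (μ • r) = θ := by
    rw [herm_smul_right, hμ, hinv, div_mul_cancel₀ _ h]
  have hη : bar θ⁻¹ = -θ⁻¹ := by rw [map_inv₀, hθ, inv_neg]
  have hηθ : θ⁻¹ * θ = 1 := inv_mul_cancel₀ hθ0
  exact ⟨L, instL, instFL, hcard, sl2Hom bar ι hbar hinv hι hpp hrr' hpr' hθ hη hηθ,
    sl2Hom_injective bar ι hbar hinv hι hpp hrr' hpr' hθ hη hηθ⟩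

/-- the case of `PSU_n(q)` -/
theorem psu_case {w : FreeGroup ℕ} {G : Type*} [Group G] {K Q : ℕ} (hQ4 : 4 ≤ Q)
    (hK : ∀ n, K ≤ n → ¬ CentralLaw w (alternatingGroup (Fin n)))
    (hQ : ∀ (L : Type) [Field L] [Fintype L], Q ≤ Fintype.card L →
      ¬ CentralLaw w (SpecialLinearGroup (Fin 2) L))
    (hlaw : ∀ f : ℕ → G, FreeGroup.lift f w = 1)
    (F : Type) [Field F] [Fintype F] (n q : ℕ) (hF : Fintype.card F = q ^ 2) (hn : 3 ≤ n)
    (e : G ≃* Cfsg.PSU n F q) :
    Nat.card G ≤ (Q ^ 2) ^ ((2 * K + 2) ^ 2) := by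
  have hnK : n < K := by
    by_contra hcon
    push Not at hcon
    exact hK n hcon (centralLaw_of_iso_quotient e hlaw (altSU n F q) (altSU_injective n F q))
  have hqQ : q < Q := by
    by_contra hcon
    push Not at hcon
    obtain ⟨L, instL, instFL, hcard, φ, hφ⟩ := exists_sl2_embedding_SU F n q hF (by omega)
    exact hQ L (by rw [hcard]; exact hcon) (centralLaw_of_iso_quotient e hlaw φ hφ)
  rw [Nat.card_congr e.toEquiv]
  refine card_quotient_le (fun g : Cfsg.SU n F q =>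
      ((g : SpecialLinearGroup (Fin n) F) : Matrix (Fin n) (Fin n) F))
    (Subtype.val_injective.comp Subtype.val_injective) _ (Nat.one_le_pow _ _ (by omega)) ?_ ?_
  · rw [hF]
    exact Nat.pow_le_pow_left hqQ.le 2
  · rw [Fintype.card_fin]
    omega

end Cfsg.Agent.Helper59.Law
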