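import Cfsg.Agent.Helper59.LawBase
import Cfsg.Agent.Helper42.SpSylA
import Cfsg.Prelude.Def_Classical

/-!
# Laws in `PSp_{2m}(F)`
-/

set_option autoImplicit false

namespace Cfsg.Agent.Helper59.Law

open Matrix Cfsg.Agent.Helper42

theorem pHom_injective (F : Type*) [Field F] (n : ℕ) : Function.Injective (pHom F n) := by
  intro σ τ h
  have h1 : bHom F n 1 * pHom F n σ = bHom F n 1 * pHom F n τ := by rw [h]
  exact (bHom_pHom_inj h1).2

theorem bHom_injective (F : Type*) [Field F] (n : ℕ) : Function.Injective (bHom F n) := by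
  intro f g h
  have h1 : bHom F n f * pHom F n 1 = bHom F n g * pHom F n 1 := by rw [h]
  exact (bHom_pHom_inj h1).1

/-- the case of `PSp_{2m}(F)` -/
theorem psp_case {w : FreeGroup ℕ} {G : Type*} [Group G] {K Q : ℕ} (hQ4 : 4 ≤ Q)
    (hK : ∀ n, K ≤ n → ¬ CentralLaw w (alternatingGroup (Fin n)))
    (hQ : ∀ (L : Type) [Field L] [Fintype L], Q ≤ Fintype.card L →
      ¬ CentralLaw w (SpecialLinearGroup (Fin 2) L))
    (hlaw : ∀ f : ℕ → G, FreeGroup.lift f w = 1)
    (F : Type) [Field F] [Fintype F] (m : ℕ) (hm : 2 ≤ m)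
    (e : G ≃* Cfsg.PSp m F) :
    Nat.card G ≤ (Q ^ 2) ^ ((2 * K + 2) ^ 2) := by
  have hmK : m < K := by
    by_contra hcon
    push Not at hcon
    refine hK m hcon (centralLaw_of_iso_quotient e hlaw
      ((pHom F m).comp (alternatingGroup (Fin m)).subtype) ?_)
    exact (pHom_injective F m).comp Subtype.val_injective
  have hFQ : Fintype.card F < Q := by
    by_contra hcon
    push Not at hcon
    let i0 : Fin m := ⟨0, by omega⟩
    refine hQ F hcon (centralLaw_of_iso_quotient e hlaw
      ((bHom F m).comp (MonoidHom.mulSingle (fun _ : Fin m => SpecialLinearGroup (Fin 2) F) i0)) ?_)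
    refine (bHom_injective F m).comp ?_
    intro a b hab
    have h1 := congrFun hab i0
    simpa using h1
  rw [Nat.card_congr e.toEquiv]
  refine card_quotient_le (fun g : symplecticGroup (Fin m) F =>
      (g : Matrix (Fin m ⊕ Fin m) (Fin m ⊕ Fin m) F))
    Subtype.val_injective _ (Nat.one_le_pow _ _ (by omega)) ?_ ?_
  · have : Q ≤ Q ^ 2 := by nlinarith
    omega
  · rw [Fintype.card_sum, Fintype.card_fin]
    omega

end Cfsg.Agent.Helper59.Law
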