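import Cfsg.Agent.Helper59.MultTrans

/-! Normal subgroups of multiply primitive groups (helper59). -/

set_option autoImplicit false

namespace Cfsg.Agent.Helper59

open MulAction SubMulAction
open scoped Pointwise

section

variable {G : Type*} {Ω : Type*} [Group G] [MulAction G Ω]

/-- A semiregular normal subgroup of a 2-primitive group of degree at least 4 has exponent 2. -/
theorem sq_eq_one_of_semiregular_normal_of_two_preprimitive [Finite Ω]
    (h2p : IsMultiplyPreprimitive G Ω 2) (hcard : 4 ≤ Nat.card Ω) (N : Subgroup G) [N.Normal]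
    (hsr : ∀ n ∈ N, ∀ a : Ω, n • a = a → n = 1) : ∀ n ∈ N, n ^ 2 = 1 := by
  intro x hx
  by_contra hx2
  have hne : Nonempty Ω := by
    rw [← Finite.card_pos_iff]; omega
  obtain ⟨b⟩ := hne
  have h2t : IsMultiplyPretransitive G Ω 2 := h2p.isMultiplyPretransitive
  have hGt : IsPretransitive G Ω := isPretransitive_of_is_two_pretransitive
  have hprim : IsPreprimitive (stabilizer G b) (ofStabilizer G b) := by
    rw [← is_one_preprimitive_iff]
    exact isMultiplyPreprimitive_ofStabilizer (M := G) (α := Ω) (n := 1) (a := b)
  have hx1 : x ≠ 1 := by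
    intro h; apply hx2; rw [h]; simp
  have h1 : x • b ≠ b := fun h => hx1 (hsr x hx b h)
  have h2 : x⁻¹ • b ≠ b := by
    intro h
    apply h1
    rw [inv_smul_eq_iff] at h
    exact h.symm
  have h3 : x • b ≠ x⁻¹ • b := by
    intro h
    apply hx2
    apply hsr _ (N.pow_mem hx 2) b
    rw [pow_two, mul_smul, h, smul_inv_smul]
  -- the block
  let B : Set (ofStabilizer G b) := {y | (y : Ω) = x • b ∨ (y : Ω) = x⁻¹ • b}
  have key : ∀ (g : stabilizer G b) (y : G), y ∈ N → ∀ z : ofStabilizer G b,
      (z : Ω) = y • b → ((g • z : ofStabilizer G b) : Ω) = ((g : G) * y * (g : G)⁻¹) • b := by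
    intro g y _ z hz
    have hgi : (g : G)⁻¹ • b = b := by rw [inv_smul_eq_iff, g.2]
    change (g : G) • (z : Ω) = _
    rw [hz, mul_smul, mul_smul, hgi]
  have hBblock : IsBlock (stabilizer G b) B := by
    rw [isBlock_iff_smul_eq_of_mem]
    intro g z hz hgz
    -- conjugate of x by g is x or x⁻¹
    have hconj : (g : G) * x * (g : G)⁻¹ = x ∨ (g : G) * x * (g : G)⁻¹ = x⁻¹ := by
      have hcN : (g : G) * x * (g : G)⁻¹ ∈ N := ‹N.Normal›.conj_mem x hx g
      have hciN : (g : G) * x⁻¹ * (g : G)⁻¹ ∈ N := ‹N.Normal›.conj_mem x⁻¹ (N.inv_mem hx) g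
      have eq_of_smul : ∀ u ∈ N, ∀ v ∈ N, u • b = v • b → u = v := by
        intro u hu v hv huv
        have : v⁻¹ * u = 1 := by
          apply hsr _ (N.mul_mem (N.inv_mem hv) hu) b
          rw [mul_smul, huv, inv_smul_smul]
        have h2 := congrArg (fun z => v * z) this
        simpa using h2
      rcases hz with hz | hz
      · have e1 := key g x hx z hz
        rcases hgz with hgz | hgz
        · left
          exact eq_of_smul _ hcN _ hx (by rw [← e1, hgz])
        · right
          exact eq_of_smul _ hcN _ (N.inv_mem hx) (by rw [← e1, hgz])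
      · have e1 := key g x⁻¹ (N.inv_mem hx) z hz
        rcases hgz with hgz | hgz
        · right
          have : (g : G) * x⁻¹ * (g : G)⁻¹ = x := eq_of_smul _ hciN _ hx (by rw [← e1, hgz])
          have h4 := congrArg (fun z => z⁻¹) this
          simpa [mul_assoc] using h4
        · left
          have : (g : G) * x⁻¹ * (g : G)⁻¹ = x⁻¹ :=
            eq_of_smul _ hciN _ (N.inv_mem hx) (by rw [← e1, hgz])
          have h4 := congrArg (fun z => z⁻¹) this
          simpa [mul_assoc] using h4
    have hconj' : (g : G) * x⁻¹ * (g : G)⁻¹ = x⁻¹ ∨ (g : G) * x⁻¹ * (g : G)⁻¹ = x := by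
      rcases hconj with h | h
      · left
        have h4 := congrArg (fun z => z⁻¹) h
        simpa [mul_assoc] using h4
      · right
        have h4 := congrArg (fun z => z⁻¹) h
        simpa [mul_assoc] using h4
    have hsub : ∀ w ∈ B, g • w ∈ B := by
      intro w hw
      rcases hw with hw | hw
      · have e1 := key g x hx w hw
        rcases hconj with h | h
        · left; rw [e1, h]
        · right; rw [e1, h]
      · have e1 := key g x⁻¹ (N.inv_mem hx) w hw
        rcases hconj' with h | h
        · right; rw [e1, h]
        · left; rw [e1, h]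
    apply Set.Subset.antisymm
    · rintro _ ⟨w, hw, rfl⟩
      exact hsub w hw
    · -- B finite, g • B ⊆ B, same card
      have hfin : B.Finite := Set.toFinite B
      have hcardeq : (g • B).ncard = B.ncard := Set.ncard_image_of_injective _ (MulAction.injective g)
      have hsub' : g • B ⊆ B := by
        rintro _ ⟨w, hw, rfl⟩
        exact hsub w hw
      exact (Set.eq_of_subset_of_ncard_le hsub' (le_of_eq hcardeq.symm) hfin).symm.subset
  rcases hprim.isTrivialBlock_of_isBlock hBblock with hsub | huniv
  · have e1 : (⟨x • b, h1⟩ : ofStabilizer G b) ∈ B := Or.inl rfl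
    have e2 : (⟨x⁻¹ • b, h2⟩ : ofStabilizer G b) ∈ B := Or.inr rfl
    have := hsub e1 e2
    exact h3 (congrArg Subtype.val this)
  · obtain ⟨d, hd⟩ := exists_notMem_list [b, x • b, x⁻¹ • b] (by simp; omega)
    simp only [List.mem_cons, List.not_mem_nil, or_false, not_or] at hd
    obtain ⟨hdb, hdx, hdxi⟩ := hd
    have : (⟨d, hdb⟩ : ofStabilizer G b) ∈ B := by rw [huniv]; trivial
    rcases this with h | h
    · exact hdx h
    · exact hdxi h

end

universe u v

/-- A non-regular normal subgroup of a `k`-primitive group of degree at least `k+2`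
is `k`-transitive. Abstract version for faithful actions. -/
theorem normal_multiply_pretransitive_aux (k : ℕ) (hk : 1 ≤ k) :
    ∀ {G : Type u} {Ω : Type v} [Group G] [MulAction G Ω] [FaithfulSMul G Ω] [Finite Ω],
      k + 2 ≤ Nat.card Ω → IsMultiplyPreprimitive G Ω k → ∀ (H : Subgroup G) [H.Normal],
      (∃ a : Ω, ∃ h ∈ H, h ≠ 1 ∧ h • a = a) → IsMultiplyPretransitive H Ω k := by
  induction k, hk using Nat.le_induction with
  | base =>
    intro G Ω _ _ _ _ hcard hG H _ hH
    have hprim : IsPreprimitive G Ω := (is_one_preprimitive_iff G Ω).mp hG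
    obtain ⟨a, h, hh, hh1, -⟩ := hH
    have hHne : H ≠ ⊥ := by
      intro hbot
      rw [hbot, Subgroup.mem_bot] at hh
      exact hh1 hh
    have : IsPretransitive H Ω := normal_pretransitive_of_preprimitive (Ω := Ω) H hHne
    exact is_one_pretransitive_iff.mpr this
  | succ k hk ih =>
    intro G Ω _ _ _ _ hcard hG H _ hH
    have hGt' : IsMultiplyPretransitive G Ω (k + 1) := hG.isMultiplyPretransitive
    have h2t : IsMultiplyPretransitive G Ω 2 :=
      isMultiplyPretransitive_of_le (n := k + 1) (by omega) (by omega)
    have hprim : IsPreprimitive G Ω := isPreprimitive_of_is_two_pretransitive h2t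
    have hGt : IsPretransitive G Ω := hprim.toIsPretransitive
    obtain ⟨a, h, hh, hh1, hha⟩ := hH
    have hHne : H ≠ ⊥ := by
      intro hbot
      rw [hbot, Subgroup.mem_bot] at hh
      exact hh1 hh
    have hHt : IsPretransitive H Ω := normal_pretransitive_of_preprimitive (Ω := Ω) H hHne
    have hfa : FaithfulSMul (stabilizer G a) (ofStabilizer G a) := faithful_ofStabilizer a
    have hGa : IsMultiplyPreprimitive (stabilizer G a) (ofStabilizer G a) k :=
      isMultiplyPreprimitive_ofStabilizer (M := G) (α := Ω) (n := k) (a := a)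
    have hcarda : k + 2 ≤ Nat.card (ofStabilizer G a) := by
      rw [nat_card_ofStabilizer_eq]; omega
    have hHan : (H.subgroupOf (stabilizer G a)).Normal := inferInstance
    have hHa : H.subgroupOf (stabilizer G a) ≠ ⊥ := by
      intro hbot
      have : (⟨h, hha⟩ : stabilizer G a) ∈ H.subgroupOf (stabilizer G a) := by
        rw [Subgroup.mem_subgroupOf]; exact hh
      rw [hbot, Subgroup.mem_bot] at this
      exact hh1 (congrArg Subtype.val this)
    by_cases hcase : ∃ b : ofStabilizer G a, ∃ u ∈ H.subgroupOf (stabilizer G a), u ≠ 1 ∧ u • b = b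
    · have hA := ih hcarda hGa (H.subgroupOf (stabilizer G a)) hcase
      have h1 : IsMultiplyPretransitive (stabilizer H a) (ofStabilizer H a) k :=
        (isMultiplyPretransitive_stab_iff H a k).mp hA
      exact ofStabilizer.isMultiplyPretransitive.mpr h1
    · push Not at hcase
      have hprima : IsPreprimitive (stabilizer G a) (ofStabilizer G a) := by
        rw [← is_one_preprimitive_iff]
        apply isMultiplyPreprimitive_of_le _ _ hGa hk
        rw [ENat.card_eq_coe_natCard, ENat.natCast_le_natCast]
        omega
      have hHat : IsPretransitive (H.subgroupOf (stabilizer G a)) (ofStabilizer G a) :=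
        normal_pretransitive_of_preprimitive (Ω := ofStabilizer G a) _ hHa
      rcases Nat.eq_or_lt_of_le hk with hk1 | hk2
      · -- k = 1
        have h1 : IsMultiplyPretransitive (stabilizer H a) (ofStabilizer H a) k := by
          apply (isMultiplyPretransitive_stab_iff H a k).mp
          rw [← hk1]
          exact is_one_pretransitive_iff.mpr hHat
        exact ofStabilizer.isMultiplyPretransitive.mpr h1
      · -- k ≥ 2 : contradiction
        exfalso
        have h2pa : IsMultiplyPreprimitive (stabilizer G a) (ofStabilizer G a) 2 := by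
          apply isMultiplyPreprimitive_of_le _ _ hGa hk2
          rw [ENat.card_eq_coe_natCard, ENat.natCast_le_natCast]
          omega
        have hexp := sq_eq_one_of_semiregular_normal_of_two_preprimitive h2pa (by omega)
          (H.subgroupOf (stabilizer G a)) (by
            intro n hn b hb
            by_contra hn1
            exact hcase b n hn hn1 hb)
        apply false_of_sharply_two_exponent_two H a
        · intro b
          obtain ⟨n, hn⟩ := exists_smul_eq H a b
          exact ⟨n, n.2, hn⟩
        · intro b c hb hc
          obtain ⟨u, hu⟩ := exists_smul_eq (H.subgroupOf (stabilizer G a))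
            (⟨b, hb⟩ : ofStabilizer G a) ⟨c, hc⟩
          refine ⟨u.1.1, u.2, u.1.2, ?_⟩
          exact congrArg Subtype.val hu
        · intro u hu hua
          have := hexp ⟨u, hua⟩ (by rw [Subgroup.mem_subgroupOf]; exact hu)
          exact congrArg Subtype.val this
        · intro u hu hua b hb hub
          have hu' : (⟨u, hua⟩ : stabilizer G a) ∈ H.subgroupOf (stabilizer G a) := by
            rw [Subgroup.mem_subgroupOf]; exact hu
          by_contra hu1
          apply hcase ⟨b, hb⟩ ⟨u, hua⟩ hu'
          · intro h1
            exact hu1 (congrArg Subtype.val h1)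
          · apply Subtype.ext
            exact hub
        · omega

end Cfsg.Agent.Helper59
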