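-- helper59: piece (EIG) `exists_eigen` of helper62's S2444 (Ore/Thompson for SL_n) farm #12939.
import Mathlib
import Cfsg.Agent.Helper62.Ore.Defs

set_option autoImplicit false

namespace Cfsg.Agent.Helper59.Ore

open Polynomial Module Cfsg.Agent.Helper62.Ore

variable {F : Type*} [Field F] {V : Type*} [AddCommGroup V] [Module F V]

theorem EIG_eps_pow (Y : Module.End F V) (ε : Module.Dual F V) (s : F)
    (hY : ∀ x, ε (Y x) = s * ε x) (n : ℕ) (x : V) : ε ((Y ^ n) x) = s ^ n * ε x := by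
  induction n generalizing x with
  | zero => simp
  | succ n ih => rw [pow_succ, Module.End.mul_apply, ih, hY, pow_succ, mul_assoc]

theorem EIG_eps_aeval (Y : Module.End F V) (ε : Module.Dual F V) (s : F)
    (hY : ∀ x, ε (Y x) = s * ε x) (p : F[X]) (x : V) :
    ε (aeval Y p x) = p.eval s * ε x := by
  rw [Polynomial.aeval_eq_sum_range, Polynomial.eval_eq_sum_range, LinearMap.sum_apply, map_sum,
    Finset.sum_mul]
  apply Finset.sum_congr rfl
  intro i _
  rw [LinearMap.smul_apply, map_smul, EIG_eps_pow Y ε s hY, smul_eq_mul, mul_assoc]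

/-- (EIG) a cyclic operator with relation `(X - s) f₁` acting by `s` on `V / ker ε` has an
eigenvector `u` with `ε u = 1`. -/
theorem exists_eigen [FiniteDimensional F V] {m : ℕ} (hn : finrank F V = m + 1)
    (Y : Module.End F V) (ε : Module.Dual F V) (hε : ε ≠ 0) (s : F)
    (hY : ∀ x, ε (Y x) = s * ε x) (u₀ : V) (f₁ : F[X]) (hf₁ : f₁.Monic) (hdeg : f₁.natDegree = m)
    (hcyc : Cyc (m + 1) Y u₀) (hrel : Rel (m + 1) Y u₀ ((X - C s) * f₁)) (hs : f₁.eval s ≠ 0) :
    ∃ u, ε u = 1 ∧ Y u = s • u := by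
  have hspan : Submodule.span F (Set.range (fun i : Fin (m + 1) => (Y ^ (i : ℕ)) u₀)) = ⊤ :=
    LinearIndependent.span_eq_top_of_card_eq_finrank' hcyc (by rw [Fintype.card_fin, hn])
  have hu₀ : ε u₀ ≠ 0 := by
    intro h0
    apply hε
    apply LinearMap.ext_on_range hspan
    intro i
    rw [EIG_eps_pow Y ε s hY, h0, mul_zero, LinearMap.zero_apply]
  have hεe : ε (aeval Y f₁ u₀) = f₁.eval s * ε u₀ := EIG_eps_aeval Y ε s hY f₁ u₀
  have hεe0 : ε (aeval Y f₁ u₀) ≠ 0 := by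
    rw [hεe]
    exact mul_ne_zero hs hu₀
  have hYe : Y (aeval Y f₁ u₀) = s • (aeval Y f₁ u₀) := by
    have h := hrel.2.2
    rw [map_mul, Module.End.mul_apply, map_sub, aeval_X, aeval_C, LinearMap.sub_apply,
      Module.algebraMap_end_apply] at h
    exact sub_eq_zero.mp h
  refine ⟨(ε (aeval Y f₁ u₀))⁻¹ • (aeval Y f₁ u₀), ?_, ?_⟩
  · rw [map_smul, smul_eq_mul, inv_mul_cancel₀ hεe0]
  · rw [map_smul, hYe, smul_comm]

end Cfsg.Agent.Helper59.Ore
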