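import Mathlib
import Cfsg.Agent.Helper99.P4Defs
import Cfsg.Agent.Helper43.Semisimple
import Cfsg.Agent.Helper43.SSConj

/-!
# S6000 piece (GEN) for helper99: semisimple elements of `GL_4` with the same characteristic
polynomial are conjugate under `SL_4` (helper59)
-/

set_option autoImplicit false
open scoped MatrixGroups

namespace Cfsg.Agent.Helper59.P4

open Matrix Polynomial Cfsg.Agent.Helper99.P4 Cfsg.Geo

variable {F : Type*} [Field F]

/-- (GEN) -/
theorem sl_conj_of_charpoly [Fintype F] (x y : GL (Fin 4) F) (m : ℕ) (hm : (m : F) ≠ 0)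
    (hx : x ^ m = 1) (hy : y ^ m = 1)
    (hc : (x : Matrix (Fin 4) (Fin 4) F).charpoly = (y : Matrix (Fin 4) (Fin 4) F).charpoly) :
    ∃ g ∈ specialLinear (Fin 4) F, g⁻¹ * x * g = y := by
  classical
  have hconj : IsConj x y :=
    Cfsg.Agent.Helper43.SS.isConj_GL_of_charpoly_eq x y m m hm hm hx hy hc
  obtain ⟨c, hc'⟩ := isConj_iff.mp hconj
  set A : Matrix (Fin 4) (Fin 4) F := (x : Matrix (Fin 4) (Fin 4) F) with hA
  have hpow : A ^ m = 1 := by
    have := congrArg (fun w : GL (Fin 4) F => (w : Matrix (Fin 4) (Fin 4) F)) hx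
    simpa using this
  have hφ : (Matrix.toLin' A) ^ m = 1 := by
    rw [← Matrix.toLin'_pow, hpow, Matrix.toLin'_one]
    rfl
  obtain ⟨z, hzcomm, hzdet⟩ := Cfsg.Agent.Helper43.exists_commuting_det
    (V := Fin 4 → F) (Matrix.toLin' A) m hm hφ (c.val.det)
  set Z : Matrix (Fin 4) (Fin 4) F := LinearMap.toMatrix' z with hZdef
  have hZdet : Z.det = c.val.det := by
    rw [hZdef, LinearMap.det_toMatrix', hzdet]
  have hZA : Z * A = A * Z := by
    have h1 := congrArg LinearMap.toMatrix' hzcomm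
    rw [Module.End.mul_eq_comp, Module.End.mul_eq_comp, LinearMap.toMatrix'_comp,
      LinearMap.toMatrix'_comp, LinearMap.toMatrix'_toLin'] at h1
    exact h1
  have hcdet : c.val.det ≠ 0 := Matrix.GeneralLinearGroup.det_ne_zero c
  set gZ : GL (Fin 4) F := Matrix.GeneralLinearGroup.mkOfDetNeZero Z (by rw [hZdet]; exact hcdet)
    with hgZ
  have hgZval : gZ.val = Z := rfl
  set P : GL (Fin 4) F := gZ * c⁻¹ with hPdef
  have hPdet : P.val.det = 1 := by
    have h1 : (c.val.det) * ((c⁻¹ : GL (Fin 4) F).val.det) = 1 := by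
      rw [← Matrix.det_mul, ← Units.val_mul, mul_inv_cancel, Units.val_one, Matrix.det_one]
    rw [hPdef, Units.val_mul, Matrix.det_mul, hgZval, hZdet, h1]
  have hgZA : gZ * x = x * gZ := by
    apply Units.ext
    rw [Units.val_mul, Units.val_mul, hgZval, ← hA, hZA]
  refine ⟨P, ?_, ?_⟩
  · show P ∈ (Matrix.GeneralLinearGroup.det : GL (Fin 4) F →* Fˣ).ker
    rw [MonoidHom.mem_ker]
    apply Units.ext
    rw [Matrix.GeneralLinearGroup.val_det_apply, hPdet, Units.val_one]
  · rw [hPdef, _root_.mul_inv_rev, inv_inv, ← hc']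
    have : gZ⁻¹ * x * gZ = x := by
      rw [mul_assoc, ← hgZA, ← mul_assoc, inv_mul_cancel, one_mul]
    calc c * gZ⁻¹ * x * (gZ * c⁻¹) = c * (gZ⁻¹ * x * gZ) * c⁻¹ := by group
      _ = c * x * c⁻¹ := by rw [this]

end Cfsg.Agent.Helper59.P4
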