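import Mathlib
import Cfsg.Agent.Helper99.P4Defs
import Cfsg.Agent.Helper43.SSPrime

/-!
# S6000 pieces (K3), (K3t) for helper99: elements with `y ^ 3 = 1` of `M_4(F_p)`, `p ≡ 2 (mod 3)`:
the characteristic polynomial is `(X - 1)^a (X² + X + 1)^b` and is determined by the trace (helper59)
-/

set_option autoImplicit false
set_option linter.unusedSectionVars false
set_option linter.unusedVariables false
open scoped MatrixGroups

namespace Cfsg.Agent.Helper59.P4

open Matrix Polynomial Cfsg.Agent.Helper99.P4 Cfsg.Geo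

variable {F : Type*} [Field F]

/-- a monic polynomial all of whose monic irreducible factors are `L` or `Q` is `L ^ a * Q ^ b` -/
theorem K3_eq_pow_mul_pow (L Q : F[X]) : ∀ (n : ℕ) (f : F[X]), f.natDegree = n → f.Monic →
    (∀ P : F[X], P.Monic → Irreducible P → P ∣ f → P = L ∨ P = Q) →
    ∃ a b : ℕ, f = L ^ a * Q ^ b := by
  intro n
  induction n using Nat.strong_induction_on with
  | _ n ih =>
    intro f hn hf hfac
    by_cases h1 : f = 1
    · exact ⟨0, 0, by rw [h1, pow_zero, pow_zero, mul_one]⟩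
    have hf0 : f ≠ 0 := hf.ne_zero
    have hnu : ¬ IsUnit f := by
      intro hu
      exact h1 (hf.eq_one_of_isUnit hu)
    obtain ⟨P0, hP0i, hP0d⟩ := WfDvdMonoid.exists_irreducible_factor hnu hf0
    have hP00 : P0 ≠ 0 := hP0i.ne_zero
    set P : F[X] := P0 * C (leadingCoeff P0)⁻¹ with hP
    have hPm : P.Monic := monic_mul_leadingCoeff_inv hP00
    have hPi : Irreducible P := irreducible_mul_leadingCoeff_inv.2 hP0i
    have hPd : P ∣ f := by
      obtain ⟨g, hg⟩ := hP0d
      refine ⟨C (leadingCoeff P0) * g, ?_⟩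
      rw [hP, hg]
      have hlc : (leadingCoeff P0)⁻¹ * leadingCoeff P0 = 1 :=
        inv_mul_cancel₀ (leadingCoeff_ne_zero.2 hP00)
      calc P0 * g = P0 * (C ((leadingCoeff P0)⁻¹ * leadingCoeff P0) * g) := by
            rw [hlc, C_1, one_mul]
        _ = P0 * C (leadingCoeff P0)⁻¹ * (C (leadingCoeff P0) * g) := by
            rw [C_mul]; ring
    obtain ⟨g, hg⟩ := hPd
    have hgm : g.Monic := by
      have : (P * g).Monic := by rw [← hg]; exact hf
      exact hPm.of_mul_monic_left this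
    have hPdeg : 0 < P.natDegree := hPi.natDegree_pos
    have hdeg : f.natDegree = P.natDegree + g.natDegree := by
      rw [hg, hPm.natDegree_mul hgm]
    have hglt : g.natDegree < n := by omega
    obtain ⟨a, b, hab⟩ := ih g.natDegree hglt g rfl hgm (fun P' hP'm hP'i hP'd =>
      hfac P' hP'm hP'i (hg ▸ Dvd.dvd.mul_left hP'd P))
    rcases hfac P hPm hPi ⟨g, hg⟩ with hPL | hPQ
    · refine ⟨a + 1, b, ?_⟩
      rw [hg, hab, hPL]; ring
    · refine ⟨a, b + 1, ?_⟩
      rw [hg, hab, hPQ]; ring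

section fin

variable [Fintype F] {p : ℕ} [Fact p.Prime] [CharP F p]

theorem K3_three_ne_zero (hp3 : p % 3 = 2) : (3 : F) ≠ 0 := by
  intro h
  have h' : ((3 : ℕ) : F) = 0 := by exact_mod_cast h
  rw [CharP.cast_eq_zero_iff F p 3] at h'
  have hp : p = 3 := (Nat.prime_dvd_prime_iff_eq (Fact.out : p.Prime) Nat.prime_three).1 h'
  rw [hp] at hp3
  omega

theorem K3_monic_Q : (X ^ 2 + X + 1 : F[X]).Monic := by
  have : (X ^ 2 + X + 1 : F[X]) = X ^ 2 + (X + 1) := by ring
  rw [this]
  apply monic_X_pow_add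
  have : (X + 1 : F[X]) = X + C 1 := by rw [C_1]
  rw [this, degree_X_add_C]
  norm_num

theorem K3_natDegree_Q : (X ^ 2 + X + 1 : F[X]).natDegree = 2 := by
  have h1 : (X ^ 2 + X + 1 : F[X]) = X ^ 2 + (X + C 1) := by rw [C_1]; ring
  rw [h1, natDegree_add_eq_left_of_natDegree_lt, natDegree_X_pow]
  rw [natDegree_X_pow, natDegree_X_add_C]
  norm_num

theorem K3_no_root (hF : Fintype.card F = p) (hp3 : p % 3 = 2) (w : F) :
    w ^ 2 + w + 1 ≠ 0 := by
  classical
  intro hw
  have h3 : (3 : F) ≠ 0 := K3_three_ne_zero hp3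
  have hw3 : w ^ 3 = 1 := by
    have : w ^ 3 - 1 = (w - 1) * (w ^ 2 + w + 1) := by ring
    rw [hw, mul_zero] at this
    exact sub_eq_zero.1 this
  have hw1 : w ≠ 1 := by
    rintro rfl
    apply h3
    rw [← hw]; ring
  have hw0 : w ≠ 0 := by
    rintro rfl
    rw [zero_pow (by norm_num)] at hw3
    exact zero_ne_one hw3
  let u : Fˣ := Units.mk0 w hw0
  have hu3 : u ^ 3 = 1 := by
    apply Units.ext
    rw [Units.val_pow_eq_pow_val, Units.val_mk0, hw3, Units.val_one]
  have hu1 : u ≠ 1 := by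
    intro h
    apply hw1
    have := congrArg Units.val h
    simpa [u] using this
  have hord : orderOf u = 3 := orderOf_eq_prime hu3 hu1
  have hdvd : orderOf u ∣ Fintype.card Fˣ := orderOf_dvd_card
  rw [hord, Fintype.card_units, hF] at hdvd
  omega

theorem K3_irreducible_Q (hF : Fintype.card F = p) (hp3 : p % 3 = 2) :
    Irreducible (X ^ 2 + X + 1 : F[X]) := by
  rw [K3_monic_Q.irreducible_iff_roots_eq_zero_of_degree_le_three
    (by rw [K3_natDegree_Q]) (by rw [K3_natDegree_Q]; norm_num)]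
  rw [Multiset.eq_zero_iff_forall_notMem]
  intro w hw
  rw [mem_roots K3_monic_Q.ne_zero, IsRoot.def] at hw
  simp only [eval_add, eval_pow, eval_X, eval_one] at hw
  exact K3_no_root hF hp3 w hw

/-- the structure of the characteristic polynomial -/
theorem K3_structure (hF : Fintype.card F = p) (hp3 : p % 3 = 2)
    (y : Matrix (Fin 4) (Fin 4) F) (hy : y ^ 3 = 1) :
    ∃ a b : ℕ, a + 2 * b = 4 ∧ y.charpoly = (X - C 1) ^ a * (X ^ 2 + X + 1) ^ b ∧
      Matrix.trace y = (a : F) - (b : F) := by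
  have h3 : (3 : F) ≠ 0 := K3_three_ne_zero hp3
  have hQi := K3_irreducible_Q (F := F) hF hp3
  have hLi : Irreducible (X - C (1 : F)) := irreducible_X_sub_C 1
  have hfac : (X ^ 3 - 1 : F[X]) = (X - C 1) * (X ^ 2 + X + 1) := by
    rw [C_1]; ring
  have hsf : Squarefree (X ^ 3 - 1 : F[X]) := by
    have := Polynomial.separable_X_pow_sub_C (1 : F) (n := 3) (by exact_mod_cast h3) one_ne_zero
    rw [C_1] at this
    exact this.squarefree
  have hAX : aeval y (X ^ 3 - 1 : F[X]) = 0 := by
    rw [map_sub, map_pow, aeval_X, map_one, hy, sub_self]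
  have hP : ∀ P : F[X], P.Monic → Irreducible P → P ∣ y.charpoly →
      P = X - C 1 ∨ P = X ^ 2 + X + 1 := by
    intro P hPm hPi hPd
    have h1 := Cfsg.Agent.Helper43.SS.dvd_of_dvd_charpoly y _ hsf hAX P hPm hPi hPd
    rw [hfac] at h1
    rcases hPi.prime.dvd_or_dvd h1 with h | h
    · left
      exact eq_of_monic_of_associated hPm (monic_X_sub_C 1) (hPi.associated_of_dvd hLi h)
    · right
      exact eq_of_monic_of_associated hPm K3_monic_Q (hPi.associated_of_dvd hQi h)
  obtain ⟨a, b, hab⟩ := K3_eq_pow_mul_pow (X - C 1) (X ^ 2 + X + 1) _ y.charpoly rfl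
    y.charpoly_monic hP
  have hLm : (X - C (1 : F)).Monic := monic_X_sub_C 1
  have hQm : (X ^ 2 + X + 1 : F[X]).Monic := K3_monic_Q
  have hdeg : y.charpoly.natDegree = 4 := by
    rw [Matrix.charpoly_natDegree_eq_dim, Fintype.card_fin]
  have hdeg' : a + 2 * b = 4 := by
    rw [hab, (hLm.pow a).natDegree_mul (hQm.pow b), hLm.natDegree_pow, hQm.natDegree_pow,
      natDegree_X_sub_C, K3_natDegree_Q] at hdeg
    omega
  refine ⟨a, b, hdeg', hab, ?_⟩
  have htr : Matrix.trace y = -y.charpoly.coeff 3 := by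
    have := Matrix.trace_eq_neg_charpoly_coeff y
    rwa [Fintype.card_fin] at this
  have hnc : y.charpoly.nextCoeff = y.charpoly.coeff 3 := by
    rw [nextCoeff_of_natDegree_pos (by rw [hdeg]; norm_num), hdeg]
  have hncQ : (X ^ 2 + X + 1 : F[X]).nextCoeff = 1 := by
    rw [nextCoeff_of_natDegree_pos (by rw [K3_natDegree_Q]; norm_num), K3_natDegree_Q]
    simp [coeff_X, coeff_one]
  have hnc2 : y.charpoly.nextCoeff = -(a : F) + (b : F) := by
    rw [hab, (hLm.pow a).nextCoeff_mul (hQm.pow b), hLm.nextCoeff_pow, hQm.nextCoeff_pow,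
      nextCoeff_X_sub_C, hncQ]
    simp
  rw [htr, ← hnc, hnc2]; ring

/-- (K3t) -/
theorem cube_trace (h2 : (2 : F) ≠ 0)
    (hF : Fintype.card F = p) (hp3 : p % 3 = 2) (y : Matrix (Fin 4) (Fin 4) F)
    (hy : y ^ 3 = 1) :
    (Matrix.trace y = 4 ∧ y = 1) ∨ Matrix.trace y = 1 ∨ Matrix.trace y = -2 := by
  have h3 : (3 : F) ≠ 0 := K3_three_ne_zero hp3
  obtain ⟨a, b, hab, hch, htr⟩ := K3_structure hF hp3 y hy
  have hb : b = 0 ∨ b = 1 ∨ b = 2 := by omega
  rcases hb with rfl | rfl | rfl
  · have ha : a = 4 := by omega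
    subst ha
    left
    refine ⟨by rw [htr]; norm_num, ?_⟩
    -- `y = 1`
    have hcop : IsCoprime (X ^ 2 + X + 1 : F[X]) ((X - C 1) ^ 4) := by
      apply IsCoprime.pow_right
      refine ⟨C (3 : F)⁻¹, -(C (3 : F)⁻¹ * (X + C 2)), ?_⟩
      have h33 : C (3 : F)⁻¹ * C (3 : F) = 1 := by
        rw [← C_mul, inv_mul_cancel₀ h3, C_1]
      have : C (3 : F)⁻¹ * (X ^ 2 + X + 1) + -(C (3 : F)⁻¹ * (X + C 2)) * (X - C 1) =
          C (3 : F)⁻¹ * C (3 : F) := by
        have e2 : (C (2 : F) : F[X]) = 2 := map_ofNat C 2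
        have e3 : (C (3 : F) : F[X]) = 3 := map_ofNat C 3
        rw [e2, e3, C_1]; ring
      rw [this, h33]
    obtain ⟨u, v, huv⟩ := hcop
    have hCH : aeval y ((X - C (1 : F)) ^ 4) = 0 := by
      have := Matrix.aeval_self_charpoly y
      rwa [hch, pow_zero, mul_one] at this
    have hAX : aeval y ((X - C (1 : F)) * (X ^ 2 + X + 1)) = 0 := by
      have : ((X - C (1 : F)) * (X ^ 2 + X + 1)) = X ^ 3 - 1 := by rw [C_1]; ring
      rw [this, map_sub, map_pow, aeval_X, map_one, hy, sub_self]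
    have hkey : (X - C (1 : F)) = u * ((X - C 1) * (X ^ 2 + X + 1)) + v * (X - C 1) * (X - C 1) ^ 4 := by
      calc (X - C (1 : F)) = (X - C 1) * (u * (X ^ 2 + X + 1) + v * (X - C 1) ^ 4) := by
            rw [huv, mul_one]
        _ = _ := by ring
    have := congrArg (aeval y) hkey
    rw [map_add, map_mul (aeval y) u, map_mul (aeval y) (v * (X - C 1)), hAX, hCH, mul_zero,
      mul_zero, add_zero, map_sub, aeval_X, aeval_C, map_one] at this
    exact sub_eq_zero.1 this
  · have ha : a = 2 := by omega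
    subst ha
    right; left
    rw [htr]; norm_num
  · have ha : a = 0 := by omega
    subst ha
    right; right
    rw [htr]; norm_num

/-- (K3) -/
theorem cube_class (h2 : (2 : F) ≠ 0)
    (hF : Fintype.card F = p) (hp3 : p % 3 = 2) (y z : Matrix (Fin 4) (Fin 4) F)
    (hy : y ^ 3 = 1) (hz : z ^ 3 = 1) (htr : Matrix.trace y = Matrix.trace z) :
    y.charpoly = z.charpoly := by
  have h3 : (3 : F) ≠ 0 := K3_three_ne_zero hp3
  have h6 : (6 : F) ≠ 0 := by
    have : (6 : F) = 2 * 3 := by norm_num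
    rw [this]; exact mul_ne_zero h2 h3
  obtain ⟨a, b, hab, hch, htr1⟩ := K3_structure hF hp3 y hy
  obtain ⟨a', b', hab', hch', htr2⟩ := K3_structure hF hp3 z hz
  have hbb : b = b' := by
    rw [htr1, htr2] at htr
    have hc1 : (a : F) + 2 * (b : F) = 4 := by exact_mod_cast congrArg (Nat.cast (R := F)) hab
    have hc2 : (a' : F) + 2 * (b' : F) = 4 := by exact_mod_cast congrArg (Nat.cast (R := F)) hab'
    have hcast : (b : F) = (b' : F) := by
      have : (3 : F) * ((b : F) - (b' : F)) = 0 := by linear_combination hc1 - hc2 - htr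
      rcases mul_eq_zero.1 this with h | h
      · exact absurd h h3
      · exact sub_eq_zero.1 h
    have hb : b = 0 ∨ b = 1 ∨ b = 2 := by omega
    have hb' : b' = 0 ∨ b' = 1 ∨ b' = 2 := by omega
    have h10 : (1 : F) ≠ 0 := one_ne_zero
    rcases hb with rfl | rfl | rfl <;> rcases hb' with rfl | rfl | rfl
    · rfl
    · exfalso; apply h10; push_cast at hcast; linear_combination -hcast
    · exfalso; apply h2; push_cast at hcast; linear_combination -hcast
    · exfalso; apply h10; push_cast at hcast; linear_combination hcast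
    · rfl
    · exfalso; apply h10; push_cast at hcast; linear_combination -hcast
    · exfalso; apply h2; push_cast at hcast; linear_combination hcast
    · exfalso; apply h10; push_cast at hcast; linear_combination hcast
    · rfl
  subst hbb
  have haa : a = a' := by omega
  subst haa
  rw [hch, hch']

end fin

end Cfsg.Agent.Helper59.P4
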