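import Mathlib
import Cfsg.Prelude.Def_Classical
import Cfsg.Agent.Helper99.PGDefs
import Cfsg.Agent.Helper99.BCDefs
import Cfsg.Agent.Helper99.BCLin
import Cfsg.Agent.Helper44.Spinor
import Cfsg.Agent.Helper44.StdForms
import Cfsg.Agent.Helper44.OrthSumForm
import Cfsg.Agent.Helper44.OrthOddA
import Cfsg.Agent.Helper44.OrthRealizeC

/-!
# (O1) of helper99's S2474 farm (#10721): the block embedding `O(Q₁) × O(Q₂) → O_{2n+1}`

Block sum, then a similarity onto the standard odd form, then the identification of the isometry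
groups of a form and of a non-zero multiple of it.
-/

set_option autoImplicit false

universe u

namespace Cfsg.Agent.Helper59.PG

open Module Matrix Cfsg.Agent.Helper99.BC Cfsg.Agent.Helper99.PG Cfsg.Agent.Helper44

variable {F : Type u} [Field F] [Fintype F]

omit [Fintype F] in
theorem det_conjMatAlgEquiv {ι₁ ι₂ : Type} [Fintype ι₁] [DecidableEq ι₁] [Fintype ι₂]
    [DecidableEq ι₂] (C : (ι₁ → F) ≃ₗ[F] (ι₂ → F)) (M : Matrix ι₁ ι₁ F) :
    (conjMatAlgEquiv C M).det = M.det := by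
  have h1 : conjMatAlgEquiv C M = LinearMap.toMatrix' (C.conj (Matrix.toLin' M)) := rfl
  rw [h1, ← LinearMap.det_toLin', Matrix.toLin'_toMatrix', LinearEquiv.conj_apply,
    LinearMap.comp_assoc, LinearMap.det_conj, LinearMap.det_toLin']

/-- (O1) block sum then similarity -/
theorem exists_blockHom (h2 : (2 : F) ≠ 0) {ι₁ ι₂ : Type} [Fintype ι₁] [DecidableEq ι₁] [Fintype ι₂]
    [DecidableEq ι₂] (Q₁ : QuadraticForm F (ι₁ → F)) (Q₂ : QuadraticForm F (ι₂ → F))
    (h₁ : ∀ x, (∀ y, QuadraticMap.polar Q₁ x y = 0) → x = 0)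
    (h₂ : ∀ x, (∀ y, QuadraticMap.polar Q₂ x y = 0) → x = 0) (n : ℕ)
    (hcard : Fintype.card ι₁ + Fintype.card ι₂ = 2 * n + 1) :
    ∃ Φ : ↥(Cfsg.isometryGroup F ⇑Q₁) × ↥(Cfsg.isometryGroup F ⇑Q₂) →* OOdd n F,
      Function.Injective Φ ∧
      ∀ g, (((Φ g).1 : GL (Unit ⊕ (Fin n ⊕ Fin n)) F) : Matrix (Unit ⊕ (Fin n ⊕ Fin n)) (Unit ⊕ (Fin n ⊕ Fin n)) F).det =
        ((g.1.1 : GL ι₁ F) : Matrix ι₁ ι₁ F).det * ((g.2.1 : GL ι₂ F) : Matrix ι₂ ι₂ F).det := by
  classical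
  -- non-degeneracy of the sum
  have hnd : ∀ x : ι₁ ⊕ ι₂ → F, (∀ y, QuadraticMap.polar (orthSumForm Q₁ Q₂) x y = 0) → x = 0 := by
    intro x hx
    have hl : x ∘ Sum.inl = 0 := by
      apply h₁
      intro y₁
      have := hx (Sum.elim y₁ 0)
      rw [QuadraticMap.polar_comm, polar_orthSumForm_elim_zero, QuadraticMap.polar_comm] at this
      exact this
    have hr : x ∘ Sum.inr = 0 := by
      apply h₂
      intro y₂
      have := hx (Sum.elim 0 y₂)
      rw [polar_orthSumForm] at this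
      have e1 : (Sum.elim (0 : ι₁ → F) y₂) ∘ Sum.inl = 0 := rfl
      have e2 : (Sum.elim (0 : ι₁ → F) y₂) ∘ Sum.inr = y₂ := rfl
      rw [e1, e2, QuadraticMap.polar_zero_right, zero_add] at this
      exact this
    funext i
    rcases i with i | i
    · exact congrFun hl i
    · exact congrFun hr i
  have hV : Module.finrank F (ι₁ ⊕ ι₂ → F) = 2 * n + 1 := by
    rw [Module.finrank_fintype_fun_eq_card, Fintype.card_sum, hcard]
  obtain ⟨a, C, ha, hC⟩ := QType.exists_similarity_odd (orthSumForm Q₁ Q₂) hV hnd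
  -- the three steps
  let Φ₁ := blockDiagIso (F := F) ⇑Q₁ ⇑Q₂
  let Φ₂ := isoTransport (orthSum ⇑Q₁ ⇑Q₂) (fun v => a * Cfsg.quadFormOdd n F v) C
    (fun w => hC w)
  have hle : Cfsg.isometryGroup F (fun v => a * Cfsg.quadFormOdd n F v)
      ≤ Cfsg.isometryGroup F (Cfsg.quadFormOdd n F) := by
    intro g hg
    exact (QType.mem_isometryGroup_smul_iff (Cfsg.quadFormOdd n F) a ha g).1 hg
  let Φ₃ := Subgroup.inclusion hle
  refine ⟨Φ₃.comp (Φ₂.comp Φ₁), ?_, ?_⟩
  · have i3 : Function.Injective Φ₃ := Subgroup.inclusion_injective hle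
    have i2 : Function.Injective Φ₂ := QType.isoTransport_injective _ _ C _
    have i1 : Function.Injective Φ₁ := by
      intro p q hpq
      have hm := congrArg (fun x : ↥(Cfsg.isometryGroup F (orthSum ⇑Q₁ ⇑Q₂)) =>
        ((x : GL (ι₁ ⊕ ι₂) F) : Matrix (ι₁ ⊕ ι₂) (ι₁ ⊕ ι₂) F)) hpq
      simp only [Φ₁, blockDiagIso_coe] at hm
      rw [Matrix.fromBlocks_inj] at hm
      apply Prod.ext
      · apply Subtype.ext
        apply Units.ext
        exact hm.1
      · apply Subtype.ext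
        apply Units.ext
        exact hm.2.2.2
    exact i3.comp (i2.comp i1)
  · intro g
    show (conjMatAlgEquiv C (((Φ₁ g).1 : GL (ι₁ ⊕ ι₂) F) : Matrix (ι₁ ⊕ ι₂) (ι₁ ⊕ ι₂) F)).det = _
    rw [det_conjMatAlgEquiv]
    simp only [Φ₁, blockDiagIso_coe]
    rw [Matrix.det_fromBlocks_zero₁₂]

end Cfsg.Agent.Helper59.PG
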