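import Mathlib
import Cfsg.Prelude.Def_Classical
import Cfsg.Agent.Helper99.PGDefs
import Cfsg.Agent.Helper99.BCDefs
import Cfsg.Agent.Helper99.BCLin
import Cfsg.Agent.Helper44.Spinor
import Cfsg.Agent.Helper44.StdForms
import Cfsg.Agent.Helper44.OrthOddA
import Cfsg.Agent.Helper38.IsomOdd
import Cfsg.Agent.Helper87.BCLA3
import Cfsg.Agent.Helper87.BCLA9
import Cfsg.Agent.Helper93.BCLA1
import Cfsg.Agent.Helper93.BCLA2
import Cfsg.Agent.Helper93.BCLA4

/-!
# (O6) of helper99's S2474 farm (#10721): a commuting involution in the case `η = n` of `O_{2n+1}`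

`a` of prime order `s` with `q² mod s` of order `n`: the moving space of `a` has dimension `2n`,
the fixed space is a line, and a commuting involution of determinant one is `-1` on the moving space
and `+1` on the line.
-/

set_option autoImplicit false

universe u

namespace Cfsg.Agent.Helper59.PG

open Module Matrix Cfsg.Agent.Helper99.BC Cfsg.Agent.Helper99.PG Cfsg.Agent.Helper44

section abstract

variable {F : Type*} [Field F] {V : Type*} [AddCommGroup V] [Module F V]

/-- the form is non-degenerate on the moving space -/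
theorem nondeg_on_movS (Q : QuadraticForm F V) (A : Module.End F V) (r : ℕ)
    (hr : (r : F) ≠ 0) (hA : A ^ r = 1) (hiso : ∀ x, Q (A x) = Q x)
    (hnd : ∀ x : V, (∀ y, QuadraticMap.polar Q x y = 0) → x = 0) :
    ∀ x ∈ movS A r, (∀ y ∈ movS A r, QuadraticMap.polar Q x y = 0) → x = 0 := by
  intro x hx hxy
  apply hnd x
  intro y
  have hc := Cfsg.Agent.Helper93.BC.isCompl_fixS_movS A r hr hA
  have hy : y ∈ fixS A ⊔ movS A r := by
    rw [hc.sup_eq_top]; exact Submodule.mem_top
  obtain ⟨y1, hy1, y2, hy2, rfl⟩ := Submodule.mem_sup.mp hy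
  rw [QuadraticMap.polar_add_right, hxy y2 hy2, QuadraticMap.polar_comm,
    Cfsg.Agent.Helper93.BC.polar_eq_zero_of_fixS_movS Q A r hr hA hiso hy1 hx, add_zero]

/-- the `ε`-eigenspace of `T` inside `M` -/
def eigIn (T : Module.End F V) (ε : F) (M : Submodule F V) : Submodule F V :=
  M ⊓ LinearMap.ker (T - ε • (1 : Module.End F V))

theorem mem_eigIn {T : Module.End F V} {ε : F} {M : Submodule F V} {x : V} :
    x ∈ eigIn T ε M ↔ x ∈ M ∧ T x = ε • x := by
  unfold eigIn
  rw [Submodule.mem_inf, LinearMap.mem_ker, LinearMap.sub_apply, LinearMap.smul_apply,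
    Module.End.one_apply, sub_eq_zero]

theorem eigIn_le (T : Module.End F V) (ε : F) (M : Submodule F V) : eigIn T ε M ≤ M :=
  inf_le_left

/-- the form is non-degenerate on the eigenspaces of an isometric involution -/
theorem nondeg_on_eigIn (h2 : (2 : F) ≠ 0) (Q : QuadraticForm F V) (T : Module.End F V)
    (hT : T * T = 1) (hiso : ∀ x, Q (T x) = Q x) (M : Submodule F V) (hM : ∀ x ∈ M, T x ∈ M)
    (hnd : ∀ x ∈ M, (∀ y ∈ M, QuadraticMap.polar Q x y = 0) → x = 0) (ε : F) (hε : ε * ε = 1) :
    ∀ x ∈ eigIn T ε M, (∀ y ∈ eigIn T ε M, QuadraticMap.polar Q x y = 0) → x = 0 := by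
  intro x hx hxy
  rw [mem_eigIn] at hx
  apply hnd x hx.1
  intro y hy
  have hTT : ∀ z, T (T z) = z := fun z => by
    rw [← Module.End.mul_apply, hT, Module.End.one_apply]
  have hy' : y + ε • T y ∈ eigIn T ε M := by
    rw [mem_eigIn]
    refine ⟨M.add_mem hy (M.smul_mem _ (hM y hy)), ?_⟩
    rw [map_add, map_smul, hTT, smul_add, smul_smul, hε, one_smul, add_comm]
  have h1 := hxy _ hy'
  have h3 : QuadraticMap.polar Q x (T y) = ε * QuadraticMap.polar Q x y := by
    have hx2 : x = ε • T x := by rw [hx.2, smul_smul, hε, one_smul]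
    conv_lhs => rw [hx2]
    rw [QuadraticMap.polar_smul_left, Cfsg.Agent.Helper93.BC.polar_map_of_isometry Q T hiso,
      smul_eq_mul]
  rw [QuadraticMap.polar_add_right, QuadraticMap.polar_smul_right, h3, smul_eq_mul, ← mul_assoc,
    hε, one_mul, ← two_mul] at h1
  exact (mul_eq_zero.mp h1).resolve_left h2

/-- parity: a non-degenerate invariant subspace of the moving space has even dimension -/
theorem even_finrank_of_le_movS [FiniteDimensional F V] (h2 : (2 : F) ≠ 0)
    (Q : QuadraticForm F V) (A : Module.End F V) (s : ℕ) (hsodd : Odd s) (hs : (s : F) ≠ 0)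
    (hA : A ^ s = 1) (hiso : ∀ x, Q (A x) = Q x) (W : Submodule F V) (hW : W ≤ movS A s)
    (hinv : ∀ x ∈ W, A x ∈ W)
    (hnd : ∀ x ∈ W, (∀ y ∈ W, QuadraticMap.polar Q x y = 0) → x = 0) :
    Even (finrank F W) := by
  by_contra hodd
  rw [Nat.not_even_iff_odd] at hodd
  let B : LinearMap.BilinForm F W := LinearMap.BilinForm.restrict (QuadraticMap.polarBilin Q) W
  have hB : ∀ x y : W, B x y = QuadraticMap.polar Q (x : V) (y : V) := fun x y => rfl
  have hBnd : B.Nondegenerate := by
    constructor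
    · intro x hx
      apply Subtype.ext
      apply hnd x.1 x.2
      intro y hy
      exact hx ⟨y, hy⟩
    · intro y hy
      apply Subtype.ext
      apply hnd y.1 y.2
      intro x hx
      rw [QuadraticMap.polar_comm]
      exact hy ⟨x, hx⟩
  let g : W →ₗ[F] W := A.restrict hinv
  have hg : ∀ x y, B (g x) (g y) = B x y := by
    intro x y
    rw [hB, hB]
    exact Cfsg.Agent.Helper93.BC.polar_map_of_isometry Q A hiso _ _
  obtain ⟨v, hv0, t, ht, hgv⟩ :=
    Cfsg.Agent.Helper38.exists_eigenvector_of_isometry B hBnd g hg hodd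
  apply hv0
  apply Subtype.ext
  have hAv : A (v : V) = t • (v : V) := by
    have := congrArg Subtype.val hgv
    exact this
  rcases mul_self_eq_one_iff.mp ht with rfl | rfl
  · rw [one_smul] at hAv
    exact Cfsg.Agent.Helper87.BC.eq_zero_of_fix_of_mem_movS A s hs hAv (hW v.2)
  · have hpow : ∀ i : ℕ, (A ^ i) (v : V) = ((-1 : F) ^ i) • (v : V) := by
      intro i
      induction i with
      | zero => simp
      | succ i ih =>
        rw [pow_succ, Module.End.mul_apply, hAv, map_smul, ih, smul_smul, pow_succ, mul_comm]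
    have h1 := hpow s
    rw [hA, Module.End.one_apply, hsodd.neg_one_pow, neg_one_smul] at h1
    have h3 : (2 : F) • (v : V) = 0 := by
      rw [two_smul]
      nth_rewrite 1 [h1]
      exact neg_add_cancel _
    rcases smul_eq_zero.mp h3 with h | h
    · exact absurd h h2
    · exact h

/-- dimension: zero or at least `2n` -/
theorem finrank_eq_zero_or_le [Fintype F] [FiniteDimensional F V] (h2 : (2 : F) ≠ 0)
    (Q : QuadraticForm F V) (A : Module.End F V) (s : ℕ) (hsp : s.Prime) (hs2 : s ≠ 2)
    (hs : (s : F) ≠ 0) (n : ℕ)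
    (hmin : ∀ i : ℕ, 0 < i → s ∣ Fintype.card F ^ (2 * i) - 1 → n ∣ i)
    (hA : A ^ s = 1) (hiso : ∀ x, Q (A x) = Q x) (W : Submodule F V) (hW : W ≤ movS A s)
    (hinv : ∀ x ∈ W, A x ∈ W)
    (hnd : ∀ x ∈ W, (∀ y ∈ W, QuadraticMap.polar Q x y = 0) → x = 0) :
    finrank F W = 0 ∨ 2 * n ≤ finrank F W := by
  have hsodd : Odd s := hsp.odd_of_ne_two hs2
  obtain ⟨e, he⟩ := even_finrank_of_le_movS h2 Q A s hsodd hs hA hiso W hW hinv hnd
  have hdvd := Cfsg.Agent.Helper87.BC.prime_dvd_card_pow_sub_one A s hsp hA hs W hW hinv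
  rcases Nat.eq_zero_or_pos e with h0 | hpos
  · left
    rw [he, h0]
  · right
    have h1 : n ∣ e := hmin e hpos (by rw [two_mul, ← he]; exact hdvd)
    have := Nat.le_of_dvd hpos h1
    omega

/-- the determinant of a map which is scalar on two complementary subspaces -/
theorem det_of_scalars [FiniteDimensional F V] (T : Module.End F V) (L M : Submodule F V)
    (hc : IsCompl L M) (ε c : F) (hM : ∀ x ∈ M, T x = ε • x) (hL : ∀ x ∈ L, T x = c • x) :
    LinearMap.det T = ε ^ finrank F M * c ^ finrank F L := by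
  have key : T = (Submodule.prodEquivOfIsCompl L M hc).conj
      (LinearMap.prodMap (c • LinearMap.id) (ε • LinearMap.id)) := by
    apply LinearMap.ext
    intro x
    obtain ⟨⟨l, m⟩, rfl⟩ := (Submodule.prodEquivOfIsCompl L M hc).surjective x
    rw [LinearEquiv.conj_apply_apply, LinearEquiv.symm_apply_apply]
    simp [Submodule.coe_prodEquivOfIsCompl', hL l l.2, hM m m.2]
  rw [key, LinearEquiv.conj_apply, LinearMap.comp_assoc, LinearMap.det_conj, LinearMap.det_prodMap,
    LinearMap.det_smul, LinearMap.det_smul, LinearMap.det_id, LinearMap.det_id, mul_one, mul_one,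
    mul_comm]

/-- the abstract form of (O6) -/
theorem abstract_structure [Fintype F] [FiniteDimensional F V] (h2 : (2 : F) ≠ 0)
    (Q : QuadraticForm F V)
    (hnd : ∀ x : V, (∀ y, QuadraticMap.polar Q x y = 0) → x = 0) (n : ℕ)
    (hV : finrank F V = 2 * n + 1) (s : ℕ) (hsp : s.Prime) (hs2 : s ≠ 2) (hs : (s : F) ≠ 0)
    (hmin : ∀ i : ℕ, 0 < i → s ∣ Fintype.card F ^ (2 * i) - 1 → n ∣ i)
    (A T : Module.End F V) (hA : A ^ s = 1) (hA1 : A ≠ 1) (hAiso : ∀ x, Q (A x) = Q x)
    (hT : T * T = 1) (hT1 : T ≠ 1) (hTiso : ∀ x, Q (T x) = Q x) (hc : Commute T A)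
    (hdet : LinearMap.det T = 1) :
    finrank F (fixS A) = 1 ∧ (∀ y ∈ movS A s, T y = -y) ∧ (∀ y ∈ fixS A, T y = y) := by
  have hsodd : Odd s := hsp.odd_of_ne_two hs2
  have hcompl := Cfsg.Agent.Helper93.BC.isCompl_fixS_movS A s hs hA
  have hdim := Submodule.finrank_add_eq_of_isCompl hcompl
  have hTT : ∀ z, T (T z) = z := fun z => by
    rw [← Module.End.mul_apply, hT, Module.End.one_apply]
  have hAA : Commute A A := Commute.refl A
  -- the moving space is non-zero
  have hMne : movS A s ≠ ⊥ := by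
    intro hbot
    apply hA1
    apply LinearMap.ext
    intro x
    have hx : x ∈ fixS A ⊔ movS A s := by
      rw [hcompl.sup_eq_top]; exact Submodule.mem_top
    rw [hbot, sup_bot_eq] at hx
    rw [Module.End.one_apply]
    exact mem_fixS.1 hx
  have hMnd := nondeg_on_movS Q A s hs hA hAiso hnd
  have hMinv : ∀ x ∈ movS A s, A x ∈ movS A s := fun x hx =>
    Cfsg.Agent.Helper93.BC.map_mem_movS hAA hx
  have hMT : ∀ x ∈ movS A s, T x ∈ movS A s := fun x hx =>
    Cfsg.Agent.Helper93.BC.map_mem_movS hc hx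
  have hLT : ∀ x ∈ fixS A, T x ∈ fixS A := fun x hx =>
    Cfsg.Agent.Helper93.BC.map_mem_fixS hc hx
  -- dimensions
  have hMeven := even_finrank_of_le_movS h2 Q A s hsodd hs hA hAiso (movS A s) le_rfl hMinv hMnd
  have hMdim := finrank_eq_zero_or_le h2 Q A s hsp hs2 hs n hmin hA hAiso (movS A s) le_rfl hMinv
    hMnd
  have hM0 : finrank F (movS A s) ≠ 0 := by
    intro h0
    exact hMne (Submodule.finrank_eq_zero.mp h0)
  have hM2n : finrank F (movS A s) = 2 * n := by
    obtain ⟨e, he⟩ := hMeven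
    rcases hMdim with h | h
    · exact absurd h hM0
    · omega
  have hL1 : finrank F (fixS A) = 1 := by omega
  -- the eigenspaces of `T` in the moving space
  have hE : ∀ ε : F, ε * ε = 1 → finrank F (eigIn T ε (movS A s)) = 0 ∨
      2 * n ≤ finrank F (eigIn T ε (movS A s)) := by
    intro ε hε
    apply finrank_eq_zero_or_le h2 Q A s hsp hs2 hs n hmin hA hAiso _ (eigIn_le T ε _)
    · intro x hx
      rw [mem_eigIn] at hx ⊢
      refine ⟨hMinv x hx.1, ?_⟩
      rw [← Module.End.mul_apply, hc.eq, Module.End.mul_apply, hx.2, map_smul]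
    · exact nondeg_on_eigIn h2 Q T hT hTiso (movS A s) hMT hMnd ε hε
  have hEtop : ∀ ε : F, ε * ε = 1 → eigIn T ε (movS A s) = ⊥ ∨
      eigIn T ε (movS A s) = movS A s := by
    intro ε hε
    rcases hE ε hε with h | h
    · left
      exact Submodule.finrank_eq_zero.mp h
    · right
      apply Submodule.eq_of_le_of_finrank_le (eigIn_le T ε _)
      rw [hM2n]
      exact h
  have hone : (1 : F) * 1 = 1 := one_mul 1
  have hneg : (-1 : F) * (-1) = 1 := by ring
  -- `T` is `1` or `-1` on the moving space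
  have hTM : (∀ y ∈ movS A s, T y = y) ∨ (∀ y ∈ movS A s, T y = -y) := by
    rcases hEtop 1 hone with h1 | h1
    · right
      intro y hy
      have hy' : y + T y ∈ eigIn T 1 (movS A s) := by
        rw [mem_eigIn]
        refine ⟨Submodule.add_mem _ hy (hMT y hy), ?_⟩
        rw [map_add, hTT, one_smul, add_comm]
      rw [h1, Submodule.mem_bot] at hy'
      exact (neg_eq_of_add_eq_zero_right hy').symm
    · left
      intro y hy
      rw [← h1, mem_eigIn, one_smul] at hy
      exact hy.2
  -- `T` is `1` or `-1` on the fixed line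
  have hTL : (∀ y ∈ fixS A, T y = y) ∨ (∀ y ∈ fixS A, T y = -y) := by
    have hle : eigIn T 1 (fixS A) ≤ fixS A := eigIn_le T 1 _
    have hfr := Submodule.finrank_mono hle
    rw [hL1] at hfr
    rcases Nat.eq_zero_or_pos (finrank F (eigIn T 1 (fixS A))) with h0 | hpos
    · right
      intro y hy
      have hy' : y + T y ∈ eigIn T 1 (fixS A) := by
        rw [mem_eigIn]
        refine ⟨Submodule.add_mem _ hy (hLT y hy), ?_⟩
        rw [map_add, hTT, one_smul, add_comm]
      rw [Submodule.finrank_eq_zero.mp h0, Submodule.mem_bot] at hy'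
      exact (neg_eq_of_add_eq_zero_right hy').symm
    · left
      have heq : eigIn T 1 (fixS A) = fixS A := by
        apply Submodule.eq_of_le_of_finrank_le hle
        rw [hL1]
        exact hpos
      intro y hy
      rw [← heq, mem_eigIn, one_smul] at hy
      exact hy.2
  -- the determinant decides
  have hdet' : ∀ ε c : F, (∀ x ∈ movS A s, T x = ε • x) → (∀ x ∈ fixS A, T x = c • x) →
      ε * ε = 1 → c = 1 := by
    intro ε c hM hL hε
    have h := det_of_scalars T (fixS A) (movS A s) hcompl ε c hM hL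
    rw [hdet, hM2n, hL1, pow_mul, pow_two, hε, one_pow, one_mul, pow_one] at h
    exact h.symm
  have hm1 : (-1 : F) ≠ 1 := by
    intro h
    apply h2
    have : (2 : F) = 1 - (-1) := by ring
    rw [this, h, sub_self]
  refine ⟨hL1, ?_, ?_⟩
  · rcases hTM with hM | hM
    · exfalso
      rcases hTL with hL | hL
      · apply hT1
        apply LinearMap.ext
        intro x
        have hx : x ∈ fixS A ⊔ movS A s := by
          rw [hcompl.sup_eq_top]; exact Submodule.mem_top
        obtain ⟨l, hl, m, hm, rfl⟩ := Submodule.mem_sup.mp hx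
        rw [map_add, hL l hl, hM m hm, Module.End.one_apply]
      · exact hm1 (hdet' 1 (-1) (fun x hx => by rw [hM x hx, one_smul])
          (fun x hx => by rw [hL x hx, neg_one_smul]) hone)
    · exact hM
  · rcases hTL with hL | hL
    · exact hL
    · exfalso
      rcases hTM with hM | hM
      · exact hm1 (hdet' 1 (-1) (fun x hx => by rw [hM x hx, one_smul])
          (fun x hx => by rw [hL x hx, neg_one_smul]) hone)
      · exact hm1 (hdet' (-1) (-1) (fun x hx => by rw [hM x hx, neg_one_smul])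
          (fun x hx => by rw [hL x hx, neg_one_smul]) hneg)

end abstract

variable {F : Type u} [Field F] [Fintype F]

/-- (O6) the case `η = n` in `O_{2n+1}`: `movS` has dimension `2n`, the fixed space is a line, and
a commuting involution of determinant one is `-1` on `movS`, `+1` on the line -/
theorem structure_of_commuting_involution (h2 : (2 : F) ≠ 0) (n : ℕ) (hn : 1 ≤ n) (s : ℕ)
    (hs : s.Prime) (hs2 : s ≠ 2) (hsq : ¬ s ∣ Fintype.card F)
    (hmin : ∀ i : ℕ, 0 < i → s ∣ Fintype.card F ^ (2 * i) - 1 → n ∣ i)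
    (a t : OOdd n F) (hc : Commute a t) (ha : orderOf a = s) (ht : orderOf t = 2)
    (hdet : ((t.1 : GL (Unit ⊕ (Fin n ⊕ Fin n)) F) : Matrix (Unit ⊕ (Fin n ⊕ Fin n)) (Unit ⊕ (Fin n ⊕ Fin n)) F).det = 1) :
    finrank F (fixS (lin a)) = 1 ∧ (∀ y ∈ movS (lin a) s, lin t y = -y) ∧
      (∀ y ∈ fixS (lin a), lin t y = y) := by
  have hsF : (s : F) ≠ 0 := by
    have hcop : Nat.Coprime s (Fintype.card F) := (Nat.Prime.coprime_iff_not_dvd hs).mpr hsq
    have h1 : IsCoprime ((s : ℤ)) ((Fintype.card F : ℕ) : ℤ) := Nat.isCoprime_iff_coprime.mpr hcop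
    have h3 := h1.map (Int.castRingHom F)
    simp only [eq_intCast, Int.cast_natCast, FiniteField.cast_card_eq_zero] at h3
    rw [isCoprime_zero_right] at h3
    exact h3.ne_zero
  have hV : finrank F (Unit ⊕ (Fin n ⊕ Fin n) → F) = 2 * n + 1 := by
    rw [Module.finrank_fintype_fun_eq_card, Fintype.card_sum, Fintype.card_sum, Fintype.card_fin,
      Fintype.card_unit]
    ring
  apply abstract_structure h2 (oddForm n F) (QType.nondeg_oddForm h2 n) n hV s hs hs2 hsF hmin
    (lin a) (lin t)
  · rw [← lin_pow, ← ha, pow_orderOf_eq_one, lin_one]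
  · rw [Ne, lin_eq_one_iff]
    intro h
    rw [h, orderOf_one] at ha
    exact hs.ne_one ha.symm
  · intro x
    exact lin_iso a x
  · rw [← lin_mul, ← pow_two, ← ht, pow_orderOf_eq_one, lin_one]
  · rw [Ne, lin_eq_one_iff]
    intro h
    rw [h, orderOf_one] at ht
    omega
  · intro x
    exact lin_iso t x
  · exact lin_commute hc.symm
  · unfold lin
    rw [LinearMap.det_toLin']
    exact hdet

end Cfsg.Agent.Helper59.PG
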