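import Mathlib
import Cfsg.Agent.Helper13.UPair5

/-! # PSU_n(q) on pairs of complementary totally isotropic subspaces: basics and
derangement criteria -/

set_option autoImplicit false

namespace Cfsg.Agent.Helper59.Polar

open Matrix Cfsg.Agent.Helper13 Cfsg.Agent.S0837

variable {F : Type*} [Field F] [Fintype F] {q n : ℕ}

local notation "⟪" x ", " y "⟫" => Cfsg.hermForm n F q x y
local notation "Matn" => Matrix (Fin n) (Fin n) F

omit [Fintype F] in
/-- the given decomposition is a Lagrangian pair. -/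
theorem lagPair_of_decomp {k : ℕ} (D : Fin 2 → Submodule F (Fin n → F))
    (hD : Cfsg.Geo.IsMDecomposition k D)
    (hts : ∀ i, Cfsg.Geo.IsTotallySingularFor (Cfsg.hermForm n F q) (D i)) :
    LagPair q (D 0) (D 1) k := by
  have hinf : D 0 ⊓ D 1 = ⊥ := by
    have h01 : (0 : Fin 2) ≠ 1 := by decide
    exact disjoint_iff.mp (hD.indep.pairwiseDisjoint h01)
  have hsup : D 0 ⊔ D 1 = ⊤ := by
    rw [eq_top_iff, ← hD.iSup_eq_top]
    apply iSup_le
    intro i
    fin_cases i
    · exact le_sup_left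
    · exact le_sup_right
  exact ⟨hts 0, hts 1, hsup, hinf, hD.finrank_eq 0, hD.finrank_eq 1⟩

/-- `x` preserves both members of the pair. -/
def Pres (x : Matn) (U W : Submodule F (Fin n → F)) : Prop :=
  (∀ v ∈ U, x *ᵥ v ∈ U) ∧ (∀ v ∈ W, x *ᵥ v ∈ W)

/-- `x` interchanges the members of the pair. -/
def Swp (x : Matn) (U W : Submodule F (Fin n → F)) : Prop :=
  (∀ v ∈ U, x *ᵥ v ∈ W) ∧ (∀ v ∈ W, x *ᵥ v ∈ U)

omit [Fintype F] in
theorem Swp.pres_sq {x : Matn} {U W : Submodule F (Fin n → F)} (h : Swp x U W) :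
    Pres (x * x) U W := by
  constructor
  · intro v hv
    rw [← Matrix.mulVec_mulVec]
    exact h.2 _ (h.1 v hv)
  · intro v hv
    rw [← Matrix.mulVec_mulVec]
    exact h.1 _ (h.2 v hv)

omit [Fintype F] in
theorem Pres.of_smul {x : Matn} {U W : Submodule F (Fin n → F)} {c : F} (hc : c ≠ 0)
    (h : Pres (c • x) U W) : Pres x U W := by
  constructor
  · intro v hv
    have := h.1 v hv
    rw [Matrix.smul_mulVec] at this
    have h2 := U.smul_mem c⁻¹ this
    rwa [smul_smul, inv_mul_cancel₀ hc, one_smul] at h2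
  · intro v hv
    have := h.2 v hv
    rw [Matrix.smul_mulVec] at this
    have h2 := W.smul_mem c⁻¹ this
    rwa [smul_smul, inv_mul_cancel₀ hc, one_smul] at h2

omit [Fintype F] in
theorem Swp.of_smul {x : Matn} {U W : Submodule F (Fin n → F)} {c : F} (hc : c ≠ 0)
    (h : Swp (c • x) U W) : Swp x U W := by
  constructor
  · intro v hv
    have := h.1 v hv
    rw [Matrix.smul_mulVec] at this
    have h2 := W.smul_mem c⁻¹ this
    rwa [smul_smul, inv_mul_cancel₀ hc, one_smul] at h2
  · intro v hv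
    have := h.2 v hv
    rw [Matrix.smul_mulVec] at this
    have h2 := U.smul_mem c⁻¹ this
    rwa [smul_smul, inv_mul_cancel₀ hc, one_smul] at h2

omit [Fintype F] in
theorem Pres.smul {x : Matn} {U W : Submodule F (Fin n → F)} (c : F)
    (h : Pres x U W) : Pres (c • x) U W := by
  constructor
  · intro v hv
    rw [Matrix.smul_mulVec]
    exact U.smul_mem c (h.1 v hv)
  · intro v hv
    rw [Matrix.smul_mulVec]
    exact W.smul_mem c (h.2 v hv)

omit [Fintype F] in
theorem toLin'_injective_of_GL (g : GL (Fin n) F) :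
    Function.Injective (Matrix.toLin' (g : Matn)) := by
  intro x y hxy
  rw [Matrix.toLin'_apply, Matrix.toLin'_apply] at hxy
  exact glU_mulVec_injective g hxy

omit [Fintype F] in
/-- the image of a Lagrangian pair under a unitary matrix. -/
theorem lagPair_map {A B : Submodule F (Fin n → F)} {k : ℕ} (h : LagPair q A B k)
    (g : GL (Fin n) F) (hg : g ∈ Cfsg.GU n F q) :
    LagPair q (A.map (Matrix.toLin' (g : Matn))) (B.map (Matrix.toLin' (g : Matn))) k := by
  have hinj := toLin'_injective_of_GL g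
  have hU : IsU q (g : Matn) := (mem_GU_iff g).mp hg
  have hfin : ∀ X : Submodule F (Fin n → F),
      Module.finrank F (X.map (Matrix.toLin' (g : Matn))) = Module.finrank F X := by
    intro X
    have h3 := LinearEquiv.finrank_map_eq (LinearEquiv.ofInjectiveEndo _ hinj) X
    rw [← h3]
    congr 2
  refine ⟨?_, ?_, ?_, ?_, ?_, ?_⟩
  · rintro _ ⟨a, ha, rfl⟩ _ ⟨a', ha', rfl⟩
    rw [Matrix.toLin'_apply, Matrix.toLin'_apply, hU a a']
    exact h.tiA a ha a' ha'
  · rintro _ ⟨a, ha, rfl⟩ _ ⟨a', ha', rfl⟩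
    rw [Matrix.toLin'_apply, Matrix.toLin'_apply, hU a a']
    exact h.tiB a ha a' ha'
  · rw [← Submodule.map_sup, h.sup_eq, Submodule.map_top, LinearMap.range_eq_top]
    intro y
    refine ⟨((g⁻¹ : GL (Fin n) F) : Matn) *ᵥ y, ?_⟩
    rw [Matrix.toLin'_apply]
    exact glU_mulVec_inv g y
  · rw [← Submodule.map_inf _ hinj, h.inf_eq, Submodule.map_bot]
  · rw [hfin, h.finA]
  · rw [hfin, h.finB]

omit [Fintype F] in
/-- an element with a conjugate in the stabilizer fixes or swaps a Lagrangian pair. -/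
theorem exists_pair_of_conj_mem {k : ℕ} (D : Fin 2 → Submodule F (Fin n → F))
    (hL : LagPair q (D 0) (D 1) k) (x g : GL (Fin n) F) (hg : g ∈ Cfsg.GU n F q)
    (h : g⁻¹ * x * g ∈ Cfsg.Geo.decompositionStabilizer D) :
    ∃ U W : Submodule F (Fin n → F), LagPair q U W k ∧ (Pres (x : Matn) U W ∨ Swp (x : Matn) U W) := by
  obtain ⟨σ, hσ⟩ := maps_of_mem_decompStab_two_fin h
  refine ⟨(D 0).map (Matrix.toLin' (g : Matn)), (D 1).map (Matrix.toLin' (g : Matn)),
    lagPair_map hL g hg, ?_⟩
  have key : ∀ i, ∀ v ∈ (D i).map (Matrix.toLin' (g : Matn)),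
      (x : Matn) *ᵥ v ∈ (D (σ i)).map (Matrix.toLin' (g : Matn)) := by
    rintro i _ ⟨d, hd, rfl⟩
    refine ⟨((g⁻¹ * x * g : GL (Fin n) F) : Matn) *ᵥ d, hσ i d hd, ?_⟩
    rw [Matrix.toLin'_apply, Matrix.toLin'_apply, Matrix.mulVec_mulVec, Matrix.mulVec_mulVec,
      ← Units.val_mul, ← Units.val_mul]
    congr 2
    group
  have h01 : σ 0 ≠ σ 1 := fun h => by
    have := σ.injective h
    exact absurd this (by decide)
  have hfin2 : ∀ i : Fin 2, i = 0 ∨ i = 1 := by decide
  rcases hfin2 (σ 0) with h0 | h0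
  · have h1 : σ 1 = 1 := by
      rcases hfin2 (σ 1) with h1 | h1
      · exact absurd (h0.trans h1.symm) h01
      · exact h1
    left
    constructor
    · intro v hv
      have := key 0 v hv
      rwa [h0] at this
    · intro v hv
      have := key 1 v hv
      rwa [h1] at this
  · have h1 : σ 1 = 0 := by
      rcases hfin2 (σ 1) with h1 | h1
      · exact h1
      · exact absurd (h0.trans h1.symm) h01
    right
    constructor
    · intro v hv
      have := key 0 v hv
      rwa [h0] at this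
    · intro v hv
      have := key 1 v hv
      rwa [h1] at this

end Cfsg.Agent.Helper59.Polar
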