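import Mathlib
import Cfsg.Agent.Helper59.PolarA

/-! # PSU_n(q) on pairs of complementary totally isotropic subspaces: derangement criteria -/

set_option autoImplicit false

namespace Cfsg.Agent.Helper59.Polar

open Matrix Cfsg.Agent.Helper13 Cfsg.Agent.S0837

variable {F : Type*} [Field F] [Fintype F] {q n : ℕ}

local notation "⟪" x ", " y "⟫" => Cfsg.hermForm n F q x y
local notation "Matn" => Matrix (Fin n) (Fin n) F

omit [Fintype F] in
/-- an eigenvalue with a non-isotropic eigenline obstructs preserving a Lagrangian pair. -/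
theorem no_pres_of_eigen {U W : Submodule F (Fin n → F)} {k : ℕ} (hL : LagPair q U W k)
    (x : Matn) (hP : Pres x U W) (v : Fin n → F) (hvv : ⟪v, v⟫ ≠ 0) (l : F)
    (hv : x *ᵥ v = l • v) (hline : ∀ w, x *ᵥ w = l • w → ∃ c : F, w = c • v) : False := by
  obtain ⟨a, ha, b, hb, hab⟩ := hL.decomp v
  have h1 : x *ᵥ a - l • a = -(x *ᵥ b - l • b) := by
    have h := hv
    rw [hab, Matrix.mulVec_add, smul_add] at h
    have : x *ᵥ a - l • a + (x *ᵥ b - l • b) = 0 := by
      rw [sub_add_sub_comm, h, sub_self]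
    exact eq_neg_of_add_eq_zero_left this
  have hA : x *ᵥ a - l • a ∈ U := U.sub_mem (hP.1 a ha) (U.smul_mem l ha)
  have hB : x *ᵥ a - l • a ∈ W := by
    rw [h1]; exact W.neg_mem (W.sub_mem (hP.2 b hb) (W.smul_mem l hb))
  have h0 := hL.eq_zero_of_mem hA hB
  have hxa : x *ᵥ a = l • a := sub_eq_zero.mp h0
  have hxb : x *ᵥ b = l • b := by
    rw [h0] at h1
    have : x *ᵥ b - l • b = 0 := by
      have := neg_eq_zero.mp h1.symm
      exact this
    exact sub_eq_zero.mp this
  obtain ⟨c₁, hc₁⟩ := hline a hxa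
  obtain ⟨c₂, hc₂⟩ := hline b hxb
  have key : ∀ (X : Submodule F (Fin n → F)), (∀ y ∈ X, ∀ y' ∈ X, ⟪y, y'⟫ = 0) →
      ∀ (c : F) (y : Fin n → F), y ∈ X → y = c • v → c = 0 := by
    intro X hX c y hy hyc
    by_contra hc
    have hvX : v ∈ X := by
      have := X.smul_mem c⁻¹ hy
      rwa [hyc, smul_smul, inv_mul_cancel₀ hc, one_smul] at this
    exact hvv (hX v hvX v hvX)
  have e1 := key U hL.tiA c₁ a ha hc₁
  have e2 := key W hL.tiB c₂ b hb hc₂
  have ha0 : a = 0 := by rw [hc₁, e1, zero_smul]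
  have hb0 : b = 0 := by rw [hc₂, e2, zero_smul]
  have hv0 : v = 0 := by rw [hab, ha0, hb0, add_zero]
  apply hvv
  rw [hv0]
  exact hermForm_zero_left _

omit [Fintype F] in
/-- a diagonal matrix with a simple eigenvalue preserves no Lagrangian pair. -/
theorem no_pres_diagonal {U W : Submodule F (Fin n → F)} {k : ℕ} (hL : LagPair q U W k)
    (d : Fin n → F) (i0 : Fin n) (hd : ∀ j, j ≠ i0 → d j ≠ d i0)
    (hP : Pres (Matrix.diagonal d) U W) : False := by
  refine no_pres_of_eigen hL (Matrix.diagonal d) hP (Pi.single i0 1) ?_ (d i0) ?_ ?_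
  · rw [hermForm_single_left]
    simp
  · ext j
    rw [Matrix.mulVec_diagonal, Pi.smul_apply, smul_eq_mul]
    by_cases hj : j = i0
    · subst hj; simp
    · simp [hj]
  · intro w hw
    refine ⟨w i0, ?_⟩
    ext j
    have hj := congrFun hw j
    rw [Matrix.mulVec_diagonal, Pi.smul_apply, smul_eq_mul] at hj
    by_cases hji : j = i0
    · subst hji; simp
    · have h0 : (d j - d i0) * w j = 0 := by rw [sub_mul, hj, sub_self]
      rcases mul_eq_zero.mp h0 with h | h
      · exact absurd (sub_eq_zero.mp h) (hd j hji)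
      · simp [h, hji]

/-- a unitary transvection preserves no Lagrangian pair. -/
theorem no_pres_transvection (hF : Fintype.card F = q ^ 2) {U W : Submodule F (Fin n → F)}
    {k : ℕ} (hL : LagPair q U W k) (v : Fin n → F) (hv0 : v ≠ 0)
    (c : F) (hc : c ≠ 0) (hP : Pres (Cfsg.unitaryTransvection n q v c) U W) : False := by
  have claim : ∀ (X : Submodule F (Fin n → F)), (∀ y ∈ X, ∀ y' ∈ X, ⟪y, y'⟫ = 0) →
      (∀ y ∈ X, Cfsg.unitaryTransvection n q v c *ᵥ y ∈ X) → ∀ u ∈ X, ⟪u, v⟫ = 0 := by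
    intro X hX hPX u hu
    by_contra hne
    have h1 := X.sub_mem (hPX u hu) hu
    rw [unitaryTransvection_mulVec, add_sub_cancel_left] at h1
    have hvX : v ∈ X := by
      have := X.smul_mem (c * ⟪u, v⟫)⁻¹ h1
      rwa [smul_smul, inv_mul_cancel₀ (mul_ne_zero hc hne), one_smul] at this
    exact hne (hX u hu v hvX)
  have hU := claim U hL.tiA hP.1
  have hW := claim W hL.tiB hP.2
  apply hv0
  apply eq_zero_of_hermForm_eq_zero hF
  intro y
  apply hermForm_eq_zero_symm hF
  obtain ⟨a, ha, b, hb, rfl⟩ := hL.decomp y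
  rw [hermForm_add_left, hU a ha, hW b hb, add_zero]

omit [Fintype F] in
/-- an element differing from the identity by a map of rank one swaps no Lagrangian pair of
dimension at least two. -/
theorem no_swap_rank_one {U W : Submodule F (Fin n → F)} {k : ℕ} (hL : LagPair q U W k)
    (hk : 2 ≤ k) (x : Matn) (v₀ : Fin n → F) (hx : ∀ u, ∃ c : F, x *ᵥ u - u = c • v₀)
    (hS : Swp x U W) : False := by
  let f : U →ₗ[F] (Fin n → F) := (Matrix.toLin' x - LinearMap.id).comp U.subtype
  have hf : ∀ u : U, f u = x *ᵥ (u : Fin n → F) - u := by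
    intro u
    simp [f, Matrix.toLin'_apply]
  have hinj : Function.Injective f := by
    rw [← LinearMap.ker_eq_bot, LinearMap.ker_eq_bot']
    intro u hu
    rw [hf, sub_eq_zero] at hu
    have h1 : (u : Fin n → F) ∈ W := by rw [← hu]; exact hS.1 _ u.2
    exact Subtype.ext (hL.eq_zero_of_mem u.2 h1)
  have hrange : LinearMap.range f ≤ Submodule.span F {v₀} := by
    rintro _ ⟨u, rfl⟩
    rw [hf]
    obtain ⟨c, hc⟩ := hx u
    rw [hc]
    exact Submodule.smul_mem _ _ (Submodule.mem_span_singleton_self v₀)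
  have h1 := LinearMap.finrank_range_of_inj hinj
  have h2 := Submodule.finrank_mono hrange
  have h3 := finrank_span_singleton_le_one' v₀
  have h4 := hL.finA
  omega

/-- a totally isotropic subspace inside `E`, where `E'` is orthogonal to `E` and independent of it,
has at most half the dimension of `E`. -/
theorem two_mul_finrank_le (hF : Fintype.card F = q ^ 2) (A E E' : Submodule F (Fin n → F))
    (hA : ∀ y ∈ A, ∀ y' ∈ A, ⟪y, y'⟫ = 0) (hAE : A ≤ E)
    (hperp : ∀ a ∈ E, ∀ b ∈ E', ⟪b, a⟫ = 0) (hinf : E ⊓ E' = ⊥) (e : ℕ)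
    (hE' : Module.finrank F E' + e = n) : 2 * Module.finrank F A ≤ e := by
  have h1 : A ⊔ E' ≤ perpSub q A := by
    apply sup_le
    · intro a ha y hy
      exact hA a ha y hy
    · intro b hb y hy
      exact hperp y (hAE hy) b hb
  have h2 : A ⊓ E' = ⊥ := by
    rw [eq_bot_iff, ← hinf]
    exact inf_le_inf_right _ hAE
  have h3 := Submodule.finrank_sup_add_finrank_inf_eq A E'
  rw [h2, finrank_bot, add_zero] at h3
  have h4 := Submodule.finrank_mono h1
  have h5 := finrank_perpSub hF A
  omega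

/-- an element acting without fixed vectors on a non-degenerate subspace `E` of odd dimension and
trivially on its orthogonal complement preserves no Lagrangian pair. -/
theorem no_pres_odd (hF : Fintype.card F = q ^ 2) {U W : Submodule F (Fin n → F)} {k : ℕ}
    (hL : LagPair q U W k) (x : Matn) (E E' : Submodule F (Fin n → F)) (e : ℕ) (he : Odd e)
    (hE : Module.finrank F E = e) (hE' : Module.finrank F E' + e = n)
    (hperp : ∀ a ∈ E, ∀ b ∈ E', ⟪b, a⟫ = 0) (hinf : E ⊓ E' = ⊥)
    (h1 : ∀ v, x *ᵥ v - v ∈ E) (h2 : ∀ v ∈ E, x *ᵥ v = v → v = 0)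
    (hP : Pres x U W) : False := by
  let N : (Fin n → F) →ₗ[F] (Fin n → F) := Matrix.toLin' x - LinearMap.id
  have hN : ∀ v, N v = x *ᵥ v - v := by
    intro v
    simp [N, Matrix.toLin'_apply]
  have hNE : ∀ v ∈ E, N v ∈ E := fun v _ => by rw [hN]; exact h1 v
  let NE : E →ₗ[F] E := N.restrict hNE
  have hNEinj : Function.Injective NE := by
    rw [← LinearMap.ker_eq_bot, LinearMap.ker_eq_bot']
    intro v hv
    have : N (v : Fin n → F) = 0 := by
      have := congrArg Subtype.val hv
      simpa [NE] using this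
    rw [hN, sub_eq_zero] at this
    exact Subtype.ext (h2 v v.2 this)
  have hNEsurj : Function.Surjective NE := LinearMap.injective_iff_surjective.mp hNEinj
  have hAU : U.map N ≤ U := by
    rintro _ ⟨u, hu, rfl⟩
    rw [hN]
    exact U.sub_mem (hP.1 u hu) hu
  have hBW : W.map N ≤ W := by
    rintro _ ⟨u, hu, rfl⟩
    rw [hN]
    exact W.sub_mem (hP.2 u hu) hu
  have hAE : U.map N ≤ E := by
    rintro _ ⟨u, -, rfl⟩
    rw [hN]
    exact h1 u
  have hBE : W.map N ≤ E := by
    rintro _ ⟨u, -, rfl⟩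
    rw [hN]
    exact h1 u
  have hEle : E ≤ U.map N ⊔ W.map N := by
    intro y hy
    obtain ⟨v, hv⟩ := hNEsurj ⟨y, hy⟩
    have hv' : N (v : Fin n → F) = y := by
      have := congrArg Subtype.val hv
      simpa [NE] using this
    obtain ⟨a, ha, b, hb, hab⟩ := hL.decomp (v : Fin n → F)
    rw [← hv', hab, map_add]
    exact Submodule.add_mem_sup (Submodule.mem_map_of_mem ha) (Submodule.mem_map_of_mem hb)
  have hA2 := two_mul_finrank_le hF (U.map N) E E'
    (fun y hy y' hy' => hL.tiA y (hAU hy) y' (hAU hy')) hAE hperp hinf e hE'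
  have hB2 := two_mul_finrank_le hF (W.map N) E E'
    (fun y hy y' hy' => hL.tiB y (hBW hy) y' (hBW hy')) hBE hperp hinf e hE'
  have h3 := Submodule.finrank_mono hEle
  have h4 := Submodule.finrank_add_le_finrank_add_finrank (U.map N) (W.map N)
  obtain ⟨t, ht⟩ := he
  omega

end Cfsg.Agent.Helper59.Polar
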