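import Mathlib
import Cfsg.Agent.Helper59.PolarB
import Cfsg.Agent.Helper59.FieldSubL

/-! # PSU_n(q) on pairs of complementary totally isotropic subspaces: explicit derangements -/

set_option autoImplicit false

namespace Cfsg.Agent.Helper59.Polar

open Matrix Cfsg.Agent.Helper13 Cfsg.Agent.S0837

variable {F : Type*} [Field F] [Fintype F] {q n : ℕ}

local notation "⟪" x ", " y "⟫" => Cfsg.hermForm n F q x y
local notation "Matn" => Matrix (Fin n) (Fin n) F

omit [Fintype F] in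
/-- diagonal matrices with entries of norm one are unitary. -/
theorem diagonal_isU (d : Fin n → F) (hd : ∀ i, d i ^ (q + 1) = 1) :
    IsU q (Matrix.diagonal d) := by
  intro x y
  unfold Cfsg.hermForm
  refine Finset.sum_congr rfl fun i _ => ?_
  rw [Matrix.mulVec_diagonal, Matrix.mulVec_diagonal, mul_pow]
  have : d i * x i * (d i ^ q * y i ^ q) = d i ^ (q + 1) * (x i * y i ^ q) := by
    rw [pow_succ]; ring
  rw [this, hd, one_mul]

omit [Fintype F] in
theorem transvection_pow (v : Fin n → F) (c : F) (hv : ⟪v, v⟫ = 0) (m : ℕ) :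
    Cfsg.unitaryTransvection n q v c ^ m = Cfsg.unitaryTransvection n q v (m • c) := by
  induction m with
  | zero => rw [pow_zero, zero_smul, unitaryTransvection_zero]
  | succ m ih => rw [pow_succ, ih, unitaryTransvection_mul _ _ _ hv, succ_nsmul]

/-- **Derangements of order `p`**: unitary transvections. -/
theorem exists_der_transvection (hF : Fintype.card F = q ^ 2) {p : ℕ} [CharP F p]
    (hn : 2 ≤ n) {k : ℕ} (hk : 2 ≤ k) :
    ∃ x : GL (Fin n) F, x ∈ Cfsg.GU n F q ⊓ Cfsg.Geo.specialLinear (Fin n) F ∧ x ^ p = 1 ∧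
      (∀ z : F, (x : Matn) ≠ z • (1 : Matn)) ∧
      ∀ U W : Submodule F (Fin n → F), LagPair q U W k →
        ¬ (Pres (x : Matn) U W ∨ Swp (x : Matn) U W) := by
  obtain ⟨v, hv0, hvv⟩ := exists_isotropic_ne_zero hF hn
  obtain ⟨c, hc0, hcq⟩ := Cfsg.Agent.Helper5.exists_trace_zero hF (F := F)
  have hc' : c + c ^ q = 0 := by rw [hcq]; ring
  have hdet := det_unitaryTransvection (q := q) v c hvv
  refine ⟨glOfDetOne _ hdet, Subgroup.mem_inf.mpr ⟨?_, ?_⟩, ?_, ?_, ?_⟩
  · exact (Cfsg.Agent.Helper13.mem_GU_iff _).mpr (by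
      rw [glOfDetOne_coe]; exact isU_unitaryTransvection hF v c hvv hc')
  · exact (mem_specialLinear_iff _).mpr (by rw [glOfDetOne_coe]; exact hdet)
  · apply Units.ext
    rw [Units.val_pow_eq_pow_val, glOfDetOne_coe, transvection_pow v c hvv, Units.val_one]
    have : p • c = 0 := by
      rw [nsmul_eq_mul, CharP.cast_eq_zero F p, zero_mul]
    rw [this, unitaryTransvection_zero]
  · intro z hz
    rw [glOfDetOne_coe] at hz
    have h1 : ∀ u : Fin n → F, (c * ⟪u, v⟫) • v = (z - 1) • u := by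
      intro u
      have := congrArg (fun M : Matn => M *ᵥ u) hz
      simp only [unitaryTransvection_mulVec, Matrix.smul_mulVec, Matrix.one_mulVec] at this
      rw [sub_smul, one_smul, ← this]
      abel
    have hz1 : z = 1 := by
      have := h1 v
      rw [hvv, mul_zero, zero_smul] at this
      rcases smul_eq_zero.mp this.symm with h | h
      · exact sub_eq_zero.mp h
      · exact absurd h hv0
    apply hv0
    apply eq_zero_of_hermForm_eq_zero hF
    intro y
    apply hermForm_eq_zero_symm hF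
    have := h1 y
    rw [hz1, sub_self, zero_smul] at this
    rcases smul_eq_zero.mp this with h | h
    · rcases mul_eq_zero.mp h with h' | h'
      · exact absurd h' hc0
      · exact h'
    · exact absurd h hv0
  · intro U W hL hor
    rw [glOfDetOne_coe] at hor
    rcases hor with hP | hS
    · exact no_pres_transvection hF hL v hv0 c hc0 hP
    · refine no_swap_rank_one hL hk _ v (fun u => ⟨c * ⟪u, v⟫, ?_⟩) hS
      rw [unitaryTransvection_mulVec, add_sub_cancel_left]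

/-- the diagonal matrix `diag(ξ, ξ⁻¹, 1, …, 1)`. -/
def dd (i0 i1 : Fin n) (ξ : F) : Fin n → F :=
  Function.update (Function.update (fun _ => (1 : F)) i0 ξ) i1 ξ⁻¹

omit [Fintype F] in
theorem dd_i1 (i0 i1 : Fin n) (ξ : F) : dd i0 i1 ξ i1 = ξ⁻¹ := by
  unfold dd; simp

omit [Fintype F] in
theorem dd_i0 (i0 i1 : Fin n) (h : i0 ≠ i1) (ξ : F) : dd i0 i1 ξ i0 = ξ := by
  unfold dd; rw [Function.update_of_ne h]; simp

omit [Fintype F] in
theorem dd_other (i0 i1 : Fin n) (ξ : F) (j : Fin n) (h0 : j ≠ i0) (h1 : j ≠ i1) :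
    dd i0 i1 ξ j = 1 := by
  unfold dd; rw [Function.update_of_ne h1, Function.update_of_ne h0]

omit [Fintype F] in
theorem dd_pow (i0 i1 : Fin n) (h : i0 ≠ i1) (ξ : F) (m : ℕ) (j : Fin n) :
    dd i0 i1 ξ j ^ m = dd i0 i1 (ξ ^ m) j := by
  by_cases h1 : j = i1
  · subst h1; rw [dd_i1, dd_i1, inv_pow]
  · by_cases h0 : j = i0
    · subst h0; rw [dd_i0 _ _ h, dd_i0 _ _ h]
    · rw [dd_other _ _ _ _ h0 h1, dd_other _ _ _ _ h0 h1, one_pow]

omit [Fintype F] in
theorem prod_dd (i0 i1 : Fin n) (h : i0 ≠ i1) (ξ : F) (hξ : ξ ≠ 0) : ∏ j, dd i0 i1 ξ j = 1 := by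
  classical
  unfold dd
  rw [Finset.prod_update_of_mem (Finset.mem_univ i1)]
  have hmem : i0 ∈ Finset.univ \ {i1} := by simp [h]
  rw [Finset.prod_update_of_mem hmem]
  simp [hξ]

omit [Fintype F] in
theorem no_pres_dd {U W : Submodule F (Fin n → F)} {k : ℕ} (hL : LagPair q U W k)
    (i0 i1 : Fin n) (h : i0 ≠ i1) (ξ : F) (h1 : ξ ≠ 1) (h2 : ξ ^ 2 ≠ 1) (hξ : ξ ≠ 0)
    (hP : Pres (Matrix.diagonal (dd i0 i1 ξ)) U W) : False := by
  refine no_pres_diagonal hL (dd i0 i1 ξ) i0 ?_ hP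
  intro j hj
  rw [dd_i0 _ _ h]
  by_cases hj1 : j = i1
  · subst hj1
    rw [dd_i1]
    intro he
    apply h2
    rw [pow_two]
    nth_rw 1 [← he]
    exact inv_mul_cancel₀ hξ
  · rw [dd_other _ _ _ _ hj hj1]
    exact fun he => h1 he.symm

/-- **Derangements of odd prime order `r ∣ q + 1`**. -/
theorem exists_der_diag (hF : Fintype.card F = q ^ 2) (hn : 2 ≤ n) {k : ℕ}
    (r : ℕ) (hr : r.Prime) (hr2 : r ≠ 2) (hrq : r ∣ q + 1) :
    ∃ x : GL (Fin n) F, x ∈ Cfsg.GU n F q ⊓ Cfsg.Geo.specialLinear (Fin n) F ∧ x ^ r = 1 ∧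
      (∀ z : F, (x : Matn) ≠ z • (1 : Matn)) ∧
      ∀ U W : Submodule F (Fin n → F), LagPair q U W k →
        ¬ (Pres (x : Matn) U W ∨ Swp (x : Matn) U W) := by
  have hq2 := two_le_of_card_eq_sq hF
  have hdvd : r ∣ Fintype.card F - 1 := by
    rw [hF]
    have : q ^ 2 - 1 = (q - 1) * (q + 1) := by
      obtain ⟨t, rfl⟩ : ∃ t, q = t + 1 := ⟨q - 1, by omega⟩
      have : (t + 1) ^ 2 = (t + 1 - 1) * (t + 1 + 1) + 1 := by
        simp only [Nat.add_sub_cancel]; ring
      omega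
    rw [this]
    exact Dvd.dvd.mul_left hrq _
  obtain ⟨ζ, hζ⟩ := Cfsg.Agent.Helper59.FieldSub.exists_orderOf_eq (F := F) r hdvd
  have hζr : ζ ^ r = 1 := by rw [← hζ]; exact pow_orderOf_eq_one ζ
  have hpow : ∀ m : ℕ, ζ ^ m = 1 → r ∣ m := fun m hm => by
    rw [← hζ]; exact orderOf_dvd_of_pow_eq_one hm
  have hr3 : 3 ≤ r := by
    have := hr.two_le
    omega
  have hζ1 : ζ ≠ 1 := fun h => by
    have := Nat.le_of_dvd (by norm_num) (hpow 1 (by rw [pow_one]; exact h))
    omega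
  have hζ2 : ζ ^ 2 ≠ 1 := fun h => by
    have := Nat.le_of_dvd (by norm_num) (hpow 2 h)
    omega
  have hζ4 : (ζ ^ 2) ^ 2 ≠ 1 := fun h => by
    rw [← pow_mul] at h
    have h4 := hpow (2 * 2) h
    have : r ∣ 2 := by
      have h22 : r ∣ 2 * 2 := h4
      rcases (Nat.Prime.dvd_mul hr).mp h22 with h' | h' <;> exact h'
    have := Nat.le_of_dvd (by norm_num) this
    omega
  have hζ0 : ζ ≠ 0 := fun h => by
    rw [h, zero_pow (by omega)] at hζr
    exact zero_ne_one hζr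
  have hζq : ζ ^ (q + 1) = 1 := by
    obtain ⟨t, ht⟩ := hrq
    rw [ht, pow_mul, hζr, one_pow]
  set i0 : Fin n := ⟨0, by omega⟩ with hi0
  set i1 : Fin n := ⟨1, by omega⟩ with hi1
  have h01 : i0 ≠ i1 := by
    intro h
    have := congrArg Fin.val h
    simp [hi0, hi1] at this
  have hdet : (Matrix.diagonal (dd i0 i1 ζ)).det = 1 := by
    rw [Matrix.det_diagonal, prod_dd i0 i1 h01 ζ hζ0]
  have hsq : Matrix.diagonal (dd i0 i1 ζ) * Matrix.diagonal (dd i0 i1 ζ) =
      Matrix.diagonal (dd i0 i1 (ζ ^ 2)) := by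
    rw [Matrix.diagonal_mul_diagonal]
    congr 1
    ext j
    rw [← pow_two, dd_pow i0 i1 h01]
  refine ⟨glOfDetOne _ hdet, Subgroup.mem_inf.mpr ⟨?_, ?_⟩, ?_, ?_, ?_⟩
  · refine (Cfsg.Agent.Helper13.mem_GU_iff _).mpr ?_
    rw [glOfDetOne_coe]
    apply diagonal_isU
    intro j
    rw [dd_pow i0 i1 h01, hζq]
    by_cases h1 : j = i1
    · subst h1; rw [dd_i1, inv_one]
    · by_cases h0 : j = i0
      · subst h0; rw [dd_i0 _ _ h01]
      · rw [dd_other _ _ _ _ h0 h1]
  · exact (mem_specialLinear_iff _).mpr (by rw [glOfDetOne_coe]; exact hdet)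
  · apply Units.ext
    rw [Units.val_pow_eq_pow_val, glOfDetOne_coe, Matrix.diagonal_pow, Units.val_one,
      ← Matrix.diagonal_one]
    congr 1
    ext j
    rw [Pi.pow_apply, dd_pow i0 i1 h01, hζr]
    by_cases h1 : j = i1
    · subst h1; rw [dd_i1, inv_one]
    · by_cases h0 : j = i0
      · subst h0; rw [dd_i0 _ _ h01]
      · rw [dd_other _ _ _ _ h0 h1]
  · intro z hz
    rw [glOfDetOne_coe] at hz
    have e0 := congrFun (congrFun hz i0) i0
    have e1 := congrFun (congrFun hz i1) i1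
    rw [Matrix.diagonal_apply_eq, dd_i0 _ _ h01, Matrix.smul_apply, Matrix.one_apply_eq,
      smul_eq_mul, mul_one] at e0
    rw [Matrix.diagonal_apply_eq, dd_i1, Matrix.smul_apply, Matrix.one_apply_eq,
      smul_eq_mul, mul_one] at e1
    apply hζ2
    rw [pow_two]
    nth_rw 1 [e0, ← e1]
    exact inv_mul_cancel₀ hζ0
  · intro U W hL hor
    rw [glOfDetOne_coe] at hor
    rcases hor with hP | hS
    · exact no_pres_dd hL i0 i1 h01 ζ hζ1 hζ2 hζ0 hP
    · have hP2 := hS.pres_sq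
      rw [hsq] at hP2
      exact no_pres_dd hL i0 i1 h01 (ζ ^ 2) hζ2 hζ4 (pow_ne_zero 2 hζ0) hP2

end Cfsg.Agent.Helper59.Polar
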