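import Mathlib
import Cfsg.Agent.Helper59.PolarC

/-! # PSU_n(q) on polar pairs: the reflection-type derangement of order two -/

set_option autoImplicit false

namespace Cfsg.Agent.Helper59.Polar

open Matrix Cfsg.Agent.Helper13 Cfsg.Agent.S0837

variable {F : Type*} [Field F] [Fintype F] {q n : ℕ}

local notation "⟪" x ", " y "⟫" => Cfsg.hermForm n F q x y
local notation "Matn" => Matrix (Fin n) (Fin n) F

theorem q_sq_sub_one (hq2 : 2 ≤ q) : q ^ 2 - 1 = (q - 1) * (q + 1) := by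
  obtain ⟨t, rfl⟩ : ∃ t, q = t + 1 := ⟨q - 1, by omega⟩
  have : (t + 1) ^ 2 = (t + 1 - 1) * (t + 1 + 1) + 1 := by
    simp only [Nat.add_sub_cancel]; ring
  omega

/-- if `v_2(n) < v_2(q + 1)` then there is an element of norm one whose `n`-th power is `-1`. -/
theorem exists_norm_one_pow_eq_neg_one (hF : Fintype.card F = q ^ 2) (h2 : (2 : F) ≠ 0)
    (hn : 0 < n) (hlt : padicValNat 2 n < padicValNat 2 (q + 1)) :
    ∃ c : F, c ^ (q + 1) = 1 ∧ c ^ n = -1 := by
  have hq2 := two_le_of_card_eq_sq hF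
  set a := padicValNat 2 n with ha
  have hdvd1 : 2 ^ (a + 1) ∣ q + 1 := by
    rw [padicValNat_dvd_iff_le (by omega)]
    omega
  have hdvd : 2 ^ (a + 1) ∣ Fintype.card F - 1 := by
    rw [hF, q_sq_sub_one hq2]
    exact Dvd.dvd.mul_left hdvd1 _
  obtain ⟨t, ht⟩ := Cfsg.Agent.Helper59.FieldSub.exists_orderOf_eq (F := F) (2 ^ (a + 1)) hdvd
  have hn' : 2 ^ a ∣ n := pow_padicValNat_dvd
  obtain ⟨n', hn'eq⟩ := hn'
  have hn'odd : Odd n' := by
    rw [← Nat.not_even_iff_odd]
    intro he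
    obtain ⟨s, hs⟩ := he
    have hdvd2 : 2 ^ (a + 1) ∣ n := ⟨s, by rw [hn'eq, hs]; ring⟩
    have := (padicValNat_dvd_iff_le (hn.ne')).mp hdvd2
    omega
  have hsq : (t ^ 2 ^ a) ^ 2 = 1 := by
    rw [← pow_mul, ← pow_succ, ← ht]
    exact pow_orderOf_eq_one t
  have hne1 : t ^ 2 ^ a ≠ 1 := by
    apply pow_ne_one_of_lt_orderOf (by positivity)
    rw [ht]
    exact Nat.pow_lt_pow_right (by norm_num) (by omega)
  have hm1 : t ^ 2 ^ a = -1 := by
    have h : (t ^ 2 ^ a - 1) * (t ^ 2 ^ a + 1) = 0 := by linear_combination hsq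
    rcases mul_eq_zero.mp h with h | h
    · exact absurd (sub_eq_zero.mp h) hne1
    · exact eq_neg_of_add_eq_zero_left h
  refine ⟨t, ?_, ?_⟩
  · obtain ⟨s, hs⟩ := hdvd1
    rw [hs, pow_mul, ← ht, pow_orderOf_eq_one, one_pow]
  · rw [hn'eq, pow_mul, hm1, hn'odd.neg_one_pow]

omit [Fintype F] in
/-- if `c^{q+1} = 1` and `c^n = -1` (odd characteristic) then `v_2(n) < v_2(q + 1)`. -/
theorem lt_of_norm_one_pow_eq_neg_one (h2 : (2 : F) ≠ 0) (hn : 0 < n) (c : F)
    (hcq : c ^ (q + 1) = 1) (hc : c ^ n = -1) : padicValNat 2 n < padicValNat 2 (q + 1) := by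
  set a := padicValNat 2 n with ha
  have hn' : 2 ^ a ∣ n := pow_padicValNat_dvd
  obtain ⟨n', hn'eq⟩ := hn'
  have hne : (-1 : F) ≠ 1 := by
    intro h
    apply h2
    linear_combination -h
  haveI : Fact (Nat.Prime 2) := ⟨Nat.prime_two⟩
  have hd1 : ¬ (c ^ n') ^ 2 ^ a = 1 := by
    rw [← pow_mul, mul_comm, ← hn'eq, hc]
    exact hne
  have hd2 : (c ^ n') ^ 2 ^ (a + 1) = 1 := by
    rw [pow_succ, pow_mul, ← pow_mul c, mul_comm n', ← hn'eq, hc]
    norm_num
  have hord : orderOf (c ^ n') = 2 ^ (a + 1) := orderOf_eq_prime_pow hd1 hd2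
  have hdq : (c ^ n') ^ (q + 1) = 1 := by
    rw [← pow_mul, mul_comm, pow_mul, hcq, one_pow]
  have hdvd : 2 ^ (a + 1) ∣ q + 1 := by
    rw [← hord]
    exact orderOf_dvd_of_pow_eq_one hdq
  have := (padicValNat_dvd_iff_le (by omega : q + 1 ≠ 0)).mp hdvd
  omega

/-- **Derangements of order two** when `v_2(n) < v_2(q + 1)`: `c · diag(-1, 1, …, 1)`. -/
theorem exists_der_refl (hF : Fintype.card F = q ^ 2) (h2 : (2 : F) ≠ 0) (hn : 2 ≤ n) {k : ℕ}
    (hk : 2 ≤ k) (hlt : padicValNat 2 n < padicValNat 2 (q + 1)) :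
    ∃ x : GL (Fin n) F, x ∈ Cfsg.GU n F q ⊓ Cfsg.Geo.specialLinear (Fin n) F ∧
      (∃ z : F, ((x ^ 2 : GL (Fin n) F) : Matn) = z • (1 : Matn)) ∧
      (∀ z : F, (x : Matn) ≠ z • (1 : Matn)) ∧
      ∀ U W : Submodule F (Fin n → F), LagPair q U W k →
        ¬ (Pres (x : Matn) U W ∨ Swp (x : Matn) U W) := by
  classical
  obtain ⟨c, hcq, hcn⟩ := exists_norm_one_pow_eq_neg_one hF h2 (by omega : 0 < n) hlt
  have hc0 : c ≠ 0 := by
    rintro rfl
    rw [zero_pow (by omega)] at hcq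
    exact zero_ne_one hcq
  have hqeven : Even (q + 1) := by
    -- `v_2(q+1) > 0`
    have hpos : 0 < padicValNat 2 (q + 1) := by omega
    have : 2 ^ 1 ∣ q + 1 := by
      rw [padicValNat_dvd_iff_le (by omega)]
      omega
    rw [pow_one] at this
    exact even_iff_two_dvd.mpr this
  set i0 : Fin n := ⟨0, by omega⟩ with hi0
  set i1 : Fin n := ⟨1, by omega⟩ with hi1
  have h01 : i1 ≠ i0 := by
    intro h
    have := congrArg Fin.val h
    simp [hi0, hi1] at this
  set e : Fin n → F := Function.update (fun _ => (1 : F)) i0 (-1) with he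
  set d : Fin n → F := Function.update (fun _ => c) i0 (-c) with hd
  have hde : Matrix.diagonal d = c • Matrix.diagonal e := by
    rw [← Matrix.diagonal_smul]
    congr 1
    ext j
    by_cases hj : j = i0
    · subst hj; simp [hd, he]
    · simp [hd, he, hj]
  have hdi0 : d i0 = -c := by simp [hd]
  have hdj : ∀ j, j ≠ i0 → d j = c := fun j hj => by simp [hd, hj]
  have hprod : ∏ j, d j = 1 := by
    rw [hd, Finset.prod_update_of_mem (Finset.mem_univ i0)]
    rw [Finset.prod_const]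
    have hcard : (Finset.univ \ {i0} : Finset (Fin n)).card = n - 1 := by
      rw [Finset.card_sdiff_of_subset (Finset.subset_univ _), Finset.card_univ, Fintype.card_fin,
        Finset.card_singleton]
    rw [hcard]
    have : -c * c ^ (n - 1) = -(c ^ n) := by
      obtain ⟨m, rfl⟩ : ∃ m, n = m + 1 := ⟨n - 1, by omega⟩
      rw [Nat.add_sub_cancel, pow_succ]; ring
    rw [this, hcn, neg_neg]
  have hdet : (Matrix.diagonal d).det = 1 := by
    rw [Matrix.det_diagonal, hprod]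
  have hcne : c ≠ -c := by
    intro h
    have : (2 : F) * c = 0 := by linear_combination h
    rcases mul_eq_zero.mp this with h' | h'
    · exact h2 h'
    · exact hc0 h'
  refine ⟨glOfDetOne _ hdet, Subgroup.mem_inf.mpr ⟨?_, ?_⟩, ?_, ?_, ?_⟩
  · refine (Cfsg.Agent.Helper13.mem_GU_iff _).mpr ?_
    rw [glOfDetOne_coe]
    apply diagonal_isU
    intro j
    by_cases hj : j = i0
    · rw [hj, hdi0, hqeven.neg_pow, hcq]
    · rw [hdj j hj, hcq]
  · exact (mem_specialLinear_iff _).mpr (by rw [glOfDetOne_coe]; exact hdet)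
  · refine ⟨c ^ 2, ?_⟩
    rw [Units.val_pow_eq_pow_val, glOfDetOne_coe, Matrix.diagonal_pow, ← Matrix.diagonal_one,
      ← Matrix.diagonal_smul]
    congr 1
    ext j
    rw [Pi.pow_apply, Pi.smul_apply, smul_eq_mul]
    by_cases hj : j = i0
    · rw [hj, hdi0, neg_sq]; simp
    · rw [hdj j hj]; simp
  · intro z hz
    rw [glOfDetOne_coe] at hz
    have e0 := congrFun (congrFun hz i0) i0
    have e1 := congrFun (congrFun hz i1) i1
    rw [Matrix.diagonal_apply_eq, hdi0, Matrix.smul_apply, Matrix.one_apply_eq,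
      smul_eq_mul, mul_one] at e0
    rw [Matrix.diagonal_apply_eq, hdj i1 h01, Matrix.smul_apply, Matrix.one_apply_eq,
      smul_eq_mul, mul_one] at e1
    exact hcne (e1.trans e0.symm)
  · intro U W hL hor
    rw [glOfDetOne_coe] at hor
    rcases hor with hP | hS
    · refine no_pres_diagonal hL d i0 ?_ hP
      intro j hj
      rw [hdj j hj, hdi0]
      exact hcne
    · rw [hde] at hS
      have hS' := Swp.of_smul hc0 hS
      refine no_swap_rank_one hL hk _ (Pi.single i0 1) (fun u => ⟨-2 * u i0, ?_⟩) hS'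
      ext j
      rw [Pi.sub_apply, Matrix.mulVec_diagonal, Pi.smul_apply, smul_eq_mul]
      by_cases hj : j = i0
      · subst hj
        simp [he]
        ring
      · simp [he, hj]

end Cfsg.Agent.Helper59.Polar
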