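import Mathlib
import Cfsg.Agent.Helper59.PolarA

/-! # Hyperbolic bases adapted to a pair of complementary totally isotropic subspaces -/

set_option autoImplicit false

namespace Cfsg.Agent.Helper59.Polar

open Matrix Cfsg.Agent.Helper13 Cfsg.Agent.S0837

variable {F : Type*} [Field F] [Fintype F] {q n : ℕ}

local notation "⟪" x ", " y "⟫" => Cfsg.hermForm n F q x y
local notation "Matn" => Matrix (Fin n) (Fin n) F

omit [Fintype F] in
theorem hermForm_sum_left {ι : Type*} [Fintype ι] (c : ι → F) (w : ι → (Fin n → F))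
    (v : Fin n → F) : ⟪∑ s, c s • w s, v⟫ = ∑ s, c s * ⟪w s, v⟫ := by
  unfold Cfsg.hermForm
  simp only [Finset.sum_apply, Pi.smul_apply, smul_eq_mul, Finset.sum_mul, Finset.mul_sum]
  rw [Finset.sum_comm]
  refine Finset.sum_congr rfl fun s _ => Finset.sum_congr rfl fun i _ => ?_
  ring

/-- the hyperbolic form in coordinates. -/
def hyp (q : ℕ) {k : ℕ} (a b : Fin k ⊕ Fin k → F) : F :=
  ∑ i, (a (Sum.inl i) * b (Sum.inr i) ^ q + a (Sum.inr i) * b (Sum.inl i) ^ q)

/-- a hyperbolic basis adapted to the pair `(A, B)`. -/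
structure HypBasis (q : ℕ) (A B : Submodule F (Fin n → F)) {k : ℕ}
    (β : Module.Basis (Fin k ⊕ Fin k) F (Fin n → F)) : Prop where
  memA : ∀ i, β (Sum.inl i) ∈ A
  memB : ∀ i, β (Sum.inr i) ∈ B
  tiA : ∀ x ∈ A, ∀ y ∈ A, Cfsg.hermForm n F q x y = 0
  tiB : ∀ x ∈ B, ∀ y ∈ B, Cfsg.hermForm n F q x y = 0
  gram : ∀ i j, Cfsg.hermForm n F q (β (Sum.inr i)) (β (Sum.inl j)) = if i = j then 1 else 0

section basis

variable {A B : Submodule F (Fin n → F)} {k : ℕ}
  {β : Module.Basis (Fin k ⊕ Fin k) F (Fin n → F)}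

theorem HypBasis.gram' (hF : Fintype.card F = q ^ 2) (h : HypBasis q A B β) (i j : Fin k) :
    ⟪β (Sum.inl i), β (Sum.inr j)⟫ = if i = j then 1 else 0 := by
  rw [← hermForm_conj hF, h.gram j i]
  by_cases hij : i = j
  · subst hij; simp
  · have : ¬ j = i := fun h' => hij h'.symm
    have hq : q ≠ 0 := by have := two_le_of_card_eq_sq hF; omega
    simp [hij, this, hq]

/-- pairing with the basis vectors reads off the coordinates. -/
theorem HypBasis.pair_inr (hF : Fintype.card F = q ^ 2) (h : HypBasis q A B β) (v : Fin n → F)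
    (j : Fin k) : ⟪v, β (Sum.inr j)⟫ = β.repr v (Sum.inl j) := by
  conv_lhs => rw [← β.sum_repr v]
  rw [hermForm_sum_left, Fintype.sum_sum_type]
  simp only [h.gram' hF, h.tiB _ (h.memB _) _ (h.memB _), mul_zero, Finset.sum_const_zero,
    add_zero, mul_ite, mul_one]
  rw [Finset.sum_ite_eq']
  simp

theorem HypBasis.pair_inl (h : HypBasis q A B β) (v : Fin n → F)
    (j : Fin k) : ⟪v, β (Sum.inl j)⟫ = β.repr v (Sum.inr j) := by
  conv_lhs => rw [← β.sum_repr v]
  rw [hermForm_sum_left, Fintype.sum_sum_type]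
  simp only [h.gram, h.tiA _ (h.memA _) _ (h.memA _), mul_zero, Finset.sum_const_zero,
    zero_add, mul_ite, mul_one]
  rw [Finset.sum_ite_eq']
  simp

/-- the form in hyperbolic coordinates. -/
theorem HypBasis.form_eq (hF : Fintype.card F = q ^ 2) (h : HypBasis q A B β)
    (u v : Fin n → F) : ⟪u, v⟫ = hyp q (⇑(β.repr u)) (⇑(β.repr v)) := by
  conv_lhs => rw [← β.sum_repr u]
  rw [hermForm_sum_left, Fintype.sum_sum_type, hyp, Finset.sum_add_distrib]
  congr 1
  · refine Finset.sum_congr rfl fun i _ => ?_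
    rw [← hermForm_conj hF, h.pair_inl]
  · refine Finset.sum_congr rfl fun i _ => ?_
    rw [← hermForm_conj hF, h.pair_inr hF]

theorem HypBasis.mem_A_iff (h : HypBasis q A B β) (v : Fin n → F) :
    v ∈ A ↔ ∀ j, β.repr v (Sum.inr j) = 0 := by
  constructor
  · intro hv j
    rw [← h.pair_inl]
    exact h.tiA v hv _ (h.memA j)
  · intro hv
    rw [← β.sum_repr v, Fintype.sum_sum_type]
    simp only [hv, zero_smul, Finset.sum_const_zero, add_zero]
    exact A.sum_mem fun i _ => A.smul_mem _ (h.memA i)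

theorem HypBasis.mem_B_iff (hF : Fintype.card F = q ^ 2) (h : HypBasis q A B β) (v : Fin n → F) :
    v ∈ B ↔ ∀ j, β.repr v (Sum.inl j) = 0 := by
  constructor
  · intro hv j
    rw [← h.pair_inr hF]
    exact h.tiB v hv _ (h.memB j)
  · intro hv
    rw [← β.sum_repr v, Fintype.sum_sum_type]
    simp only [hv, zero_smul, Finset.sum_const_zero, zero_add]
    exact B.sum_mem fun i _ => B.smul_mem _ (h.memB i)

end basis

/-- every Lagrangian pair has an adapted hyperbolic basis. -/
theorem exists_hypBasis (hF : Fintype.card F = q ^ 2) {A B : Submodule F (Fin n → F)} {k : ℕ}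
    (hL : LagPair q A B k) :
    ∃ β : Module.Basis (Fin k ⊕ Fin k) F (Fin n → F), HypBasis q A B β := by
  classical
  have hq : q ≠ 0 := by have := two_le_of_card_eq_sq hF; omega
  let a := Module.finBasisOfFinrankEq F A hL.finA
  have hali : LinearIndependent F (fun i => (a i : Fin n → F)) :=
    a.linearIndependent.map' A.subtype (Submodule.ker_subtype A)
  have hb : ∀ i : Fin k, ∃ f ∈ B, (∀ j, ⟪f, (a j : Fin n → F)⟫ = if i = j then 1 else 0) := by
    intro i
    set X := Submodule.span F ((fun j => (a j : Fin n → F)) '' {j | j ≠ i}) with hX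
    have hXA : X ≤ A := by
      rw [hX, Submodule.span_le]
      rintro _ ⟨j, -, rfl⟩
      exact (a j).2
    have hnot : (a i : Fin n → F) ∉ X := by
      have := hali.notMem_span_image (s := {j | j ≠ i}) (x := i) (by simp)
      exact this
    obtain ⟨f, hfB, hfX, hfe⟩ := hL.sep hF hXA (a i).2 hnot
    refine ⟨(⟪f, (a i : Fin n → F)⟫)⁻¹ • f, B.smul_mem _ hfB, ?_⟩
    intro j
    rw [hermForm_smul_left]
    by_cases hij : i = j
    · subst hij
      rw [if_pos rfl, inv_mul_cancel₀ hfe]
    · rw [if_neg hij, hfX _ (Submodule.subset_span ⟨j, fun h => hij h.symm, rfl⟩), mul_zero]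
  choose b hbB hba using hb
  set h : Fin k ⊕ Fin k → (Fin n → F) := Sum.elim (fun i => (a i : Fin n → F)) b with hh
  have hab : ∀ i j, ⟪(a i : Fin n → F), b j⟫ = if i = j then 1 else 0 := by
    intro i j
    rw [← hermForm_conj hF, hba j i]
    by_cases hij : i = j
    · subst hij; simp
    · have : ¬ j = i := fun h' => hij h'.symm
      simp [hij, this, hq]
  have hli : LinearIndependent F h := by
    rw [Fintype.linearIndependent_iff]
    intro g hg s
    rcases s with j | j
    · have h1 : ⟪∑ s, g s • h s, b j⟫ = 0 := by rw [hg]; exact hermForm_zero_left _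
      rw [hermForm_sum_left, Fintype.sum_sum_type] at h1
      simp only [hh, Sum.elim_inl, Sum.elim_inr, hab, hL.tiB _ (hbB _) _ (hbB _), mul_zero,
        Finset.sum_const_zero, add_zero, mul_ite, mul_one] at h1
      rw [Finset.sum_ite_eq'] at h1
      simpa using h1
    · have h1 : ⟪∑ s, g s • h s, (a j : Fin n → F)⟫ = 0 := by
        rw [hg]; exact hermForm_zero_left _
      rw [hermForm_sum_left, Fintype.sum_sum_type] at h1
      simp only [hh, Sum.elim_inl, Sum.elim_inr, hba, hL.tiA _ (a _).2 _ (a _).2, mul_zero,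
        Finset.sum_const_zero, zero_add, mul_ite, mul_one] at h1
      rw [Finset.sum_ite_eq'] at h1
      simpa using h1
  have hcard : Fintype.card (Fin k ⊕ Fin k) = Module.finrank F (Fin n → F) := by
    rw [Fintype.card_sum, Fintype.card_fin, Module.finrank_fintype_fun_eq_card, Fintype.card_fin]
    have := hL.two_mul
    omega
  have hspan : ⊤ ≤ Submodule.span F (Set.range h) := by
    rw [hli.span_eq_top_of_card_eq_finrank' hcard]
  refine ⟨Module.Basis.mk hli hspan, ?_⟩
  have hcoe : ∀ s, Module.Basis.mk hli hspan s = h s := by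
    intro s
    rw [Module.Basis.mk_apply]
  refine ⟨?_, ?_, hL.tiA, hL.tiB, ?_⟩
  · intro i
    rw [hcoe]
    exact (a i).2
  · intro i
    rw [hcoe]
    exact hbB i
  · intro i j
    rw [hcoe, hcoe]
    exact hba i j

end Cfsg.Agent.Helper59.Polar
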