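import Mathlib
import Cfsg.Agent.Helper59.PolarE
import Cfsg.Agent.Helper13.UStabDet

/-! # Witt transitivity on pairs of complementary totally isotropic subspaces -/

set_option autoImplicit false

namespace Cfsg.Agent.Helper59.Polar

open Matrix Cfsg.Agent.Helper13 Cfsg.Agent.S0837

variable {F : Type*} [Field F] [Fintype F] {q n : ℕ}

local notation "⟪" x ", " y "⟫" => Cfsg.hermForm n F q x y
local notation "Matn" => Matrix (Fin n) (Fin n) F

/-- **Witt**: the unitary group is transitive on Lagrangian pairs. -/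
theorem exists_GU_map_pair (hF : Fintype.card F = q ^ 2) {A B A' B' : Submodule F (Fin n → F)}
    {k : ℕ} (hL : LagPair q A B k) (hL' : LagPair q A' B' k) :
    ∃ g : GL (Fin n) F, g ∈ Cfsg.GU n F q ∧ (∀ v ∈ A, (g : Matn) *ᵥ v ∈ A') ∧
      (∀ v ∈ B, (g : Matn) *ᵥ v ∈ B') := by
  obtain ⟨β, hβ⟩ := exists_hypBasis hF hL
  obtain ⟨β', hβ'⟩ := exists_hypBasis hF hL'
  set T : (Fin n → F) ≃ₗ[F] (Fin n → F) := β.repr.trans β'.repr.symm with hT
  have hTr : ∀ v, β'.repr (T v) = β.repr v := by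
    intro v
    rw [hT, LinearEquiv.trans_apply, LinearEquiv.apply_symm_apply]
  set M : Matn := LinearMap.toMatrix' (T : (Fin n → F) →ₗ[F] (Fin n → F)) with hM
  have hMv : ∀ v, M *ᵥ v = T v := by
    intro v
    rw [hM, LinearMap.toMatrix'_mulVec]
    rfl
  obtain ⟨G, hG⟩ := exists_GU_of_preserves' hF M (by
    intro u v
    rw [hMv, hMv, hβ'.form_eq hF, hTr, hTr, ← hβ.form_eq hF])
  refine ⟨G.1, G.2, ?_, ?_⟩
  · intro v hv
    rw [hG, hMv, hβ'.mem_A_iff]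
    intro j
    rw [hTr]
    exact (hβ.mem_A_iff v).mp hv j
  · intro v hv
    rw [hG, hMv, hβ'.mem_B_iff hF]
    intro j
    rw [hTr]
    exact (hβ.mem_B_iff hF v).mp hv j

/-- every norm one scalar is the determinant of a unitary matrix preserving both members of a
Lagrangian pair. -/
theorem exists_GU_pair_det (hF : Fintype.card F = q ^ 2) {A B : Submodule F (Fin n → F)}
    {k : ℕ} (hk : 1 ≤ k) (hL : LagPair q A B k) (l : F) (hl : l ^ (q + 1) = 1) :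
    ∃ g : GL (Fin n) F, g ∈ Cfsg.GU n F q ∧ (∀ v ∈ A, (g : Matn) *ᵥ v ∈ A) ∧
      (∀ v ∈ B, (g : Matn) *ᵥ v ∈ B) ∧ (g : Matn).det = l := by
  obtain ⟨β, hβ⟩ := exists_hypBasis hF hL
  set i₀ : Fin k := ⟨0, by omega⟩ with hi₀
  set e := β (Sum.inl i₀) with he
  set f := β (Sum.inr i₀) with hf
  have heA : e ∈ A := hβ.memA i₀
  have hfB : f ∈ B := hβ.memB i₀
  have hee : ⟪e, e⟫ = 0 := hL.tiA e heA e heA
  have hff : ⟪f, f⟫ = 0 := hL.tiB f hfB f hfB
  have hef : ⟪e, f⟫ = 1 := by rw [he, hf, hβ.gram' hF, if_pos rfl]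
  have hfe : ⟪f, e⟫ = 1 := by rw [he, hf, hβ.gram, if_pos rfl]
  obtain ⟨a, ha0, hal⟩ := exists_div_frob_eq hF l hl
  have haq0 : a ^ q ≠ 0 := pow_ne_zero _ ha0
  set α : F := a - 1 with hα
  set γ : F := (a ^ q)⁻¹ - 1 with hγ
  have hαq : α ^ q = a ^ q - 1 := by
    rw [hα, frob_sub' hF, one_pow]
  have hγq : γ ^ q = a⁻¹ - 1 := by
    rw [hγ, frob_sub' hF, one_pow, inv_pow, frob_frob hF]
  have hc1 : α ^ q + γ + γ * α ^ q = 0 := by
    rw [hαq, hγ]
    field_simp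
    ring
  have hc2 : γ ^ q + α + α * γ ^ q = 0 := by
    rw [hγq, hα]
    field_simp
    ring
  obtain ⟨G, hG⟩ := exists_GU_of_preserves' hF (hypMat q e f α γ)
    (hypMat_preserves hF e f α γ hee hff hef hc1 hc2)
  refine ⟨G.1, G.2, ?_, ?_, ?_⟩
  · intro x hx
    rw [hG, hypMat_mulVec e f α γ hff, hL.tiA x hx e heA, mul_zero, zero_smul, add_zero]
    exact A.add_mem hx (A.smul_mem _ heA)
  · intro x hx
    rw [hG, hypMat_mulVec e f α γ hff, hL.tiB x hx f hfB, mul_zero, zero_smul, add_zero]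
    exact B.add_mem hx (B.smul_mem _ hfB)
  · rw [hG, det_hypMat, hef, hfe, hα, hγ, ← hal]
    ring

/-- the special unitary group is transitive on Lagrangian pairs. -/
theorem exists_SU_map_pair (hF : Fintype.card F = q ^ 2) {A B A' B' : Submodule F (Fin n → F)}
    {k : ℕ} (hk : 1 ≤ k) (hL : LagPair q A B k) (hL' : LagPair q A' B' k) :
    ∃ g : GL (Fin n) F, g ∈ Cfsg.GU n F q ⊓ Cfsg.Geo.specialLinear (Fin n) F ∧
      (∀ v ∈ A, (g : Matn) *ᵥ v ∈ A') ∧ (∀ v ∈ B, (g : Matn) *ᵥ v ∈ B') := by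
  obtain ⟨g₁, hg₁, hA₁, hB₁⟩ := exists_GU_map_pair hF hL hL'
  have hd : (g₁ : Matn).det ^ (q + 1) = 1 := Cfsg.Agent.Helper5.det_pow_eq_one hF g₁ hg₁
  have hd0 : (g₁ : Matn).det ≠ 0 := by
    intro h
    rw [h, zero_pow (by omega)] at hd
    exact zero_ne_one hd
  obtain ⟨g₂, hg₂, hA₂, hB₂, hdet₂⟩ := exists_GU_pair_det hF hk hL' ((g₁ : Matn).det)⁻¹
    (by rw [inv_pow, hd, inv_one])
  refine ⟨g₂ * g₁, Subgroup.mem_inf.mpr ⟨Subgroup.mul_mem _ hg₂ hg₁, ?_⟩, ?_, ?_⟩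
  · rw [mem_specialLinear_iff, Units.val_mul, Matrix.det_mul, hdet₂, inv_mul_cancel₀ hd0]
  · intro v hv
    rw [Units.val_mul, ← Matrix.mulVec_mulVec]
    exact hA₂ _ (hA₁ v hv)
  · intro v hv
    rw [Units.val_mul, ← Matrix.mulVec_mulVec]
    exact hB₂ _ (hB₁ v hv)

end Cfsg.Agent.Helper59.Polar
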