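import Mathlib
import Cfsg.Agent.Helper59.PolarF

/-! # The Levi embedding `GL_k(q^2) → GU_{2k}(q)` stabilising a Lagrangian pair -/

set_option autoImplicit false

namespace Cfsg.Agent.Helper59.Polar

open Matrix Cfsg.Agent.Helper13 Cfsg.Agent.S0837

variable {F : Type*} [Field F] [Fintype F] {q n : ℕ}

local notation "⟪" x ", " y "⟫" => Cfsg.hermForm n F q x y
local notation "Matn" => Matrix (Fin n) (Fin n) F

section embed

variable {k : ℕ}

/-- the block matrix `diag(M, M^{-σT})`. -/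
noncomputable def leviBlock (hF : Fintype.card F = q ^ 2) (M : GL (Fin k) F) :
    Matrix (Fin k ⊕ Fin k) (Fin k ⊕ Fin k) F :=
  Matrix.fromBlocks (M : Matrix (Fin k) (Fin k) F) 0 0
    ((((M⁻¹ : GL (Fin k) F) : Matrix (Fin k) (Fin k) F)ᵀ).map (frobHom hF))

theorem leviBlock_one (hF : Fintype.card F = q ^ 2) :
    leviBlock (k := k) hF 1 = 1 := by
  unfold leviBlock
  rw [inv_one, Units.val_one, Matrix.transpose_one, Matrix.map_one _ (map_zero _) (map_one _),
    Matrix.fromBlocks_one]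

theorem leviBlock_mul (hF : Fintype.card F = q ^ 2) (M N : GL (Fin k) F) :
    leviBlock hF (M * N) = leviBlock hF M * leviBlock hF N := by
  unfold leviBlock
  rw [Matrix.fromBlocks_multiply, _root_.mul_inv_rev, Units.val_mul, Units.val_mul,
    Matrix.transpose_mul, Matrix.map_mul]
  simp

/-- the block map as a monoid homomorphism. -/
noncomputable def leviHom₀ (hF : Fintype.card F = q ^ 2) :
    GL (Fin k) F →* Matrix (Fin k ⊕ Fin k) (Fin k ⊕ Fin k) F where
  toFun := leviBlock hF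
  map_one' := leviBlock_one hF
  map_mul' := leviBlock_mul hF

variable (β : Module.Basis (Fin k ⊕ Fin k) F (Fin n → F))

/-- the Levi embedding attached to a basis. -/
noncomputable def leviHom (hF : Fintype.card F = q ^ 2) : GL (Fin k) F →* GL (Fin n) F :=
  (Units.map ((Theta β).symm : Matrix (Fin k ⊕ Fin k) (Fin k ⊕ Fin k) F →* Matn)).comp
    (leviHom₀ hF).toHomUnits

theorem leviHom_coe (hF : Fintype.card F = q ^ 2) (M : GL (Fin k) F) :
    ((leviHom β hF M : GL (Fin n) F) : Matn) = (Theta β).symm (leviBlock hF M) := rfl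

theorem leviHom_injective (hF : Fintype.card F = q ^ 2) :
    Function.Injective (leviHom (n := n) β hF) := by
  intro M N h
  have h1 := congrArg (fun g : GL (Fin n) F => (g : Matn)) h
  simp only [leviHom_coe] at h1
  have h2 := (Theta β).symm.injective h1
  unfold leviBlock at h2
  have h3 := (Matrix.fromBlocks_inj.mp h2).1
  exact Units.ext h3

theorem leviHom_repr (hF : Fintype.card F = q ^ 2) (M : GL (Fin k) F) (v : Fin n → F) :
    ⇑(β.repr ((leviHom β hF M : Matn) *ᵥ v)) = leviBlock hF M *ᵥ ⇑(β.repr v) := by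
  rw [← Theta_mulVec_repr, leviHom_coe, AlgEquiv.apply_symm_apply]

theorem leviBlock_mulVec (hF : Fintype.card F = q ^ 2) (M : GL (Fin k) F)
    (a : Fin k ⊕ Fin k → F) :
    leviBlock hF M *ᵥ a = Sum.elim ((M : Matrix (Fin k) (Fin k) F) *ᵥ (a ∘ Sum.inl))
      (((((M⁻¹ : GL (Fin k) F) : Matrix (Fin k) (Fin k) F)ᵀ).map (frobHom hF)) *ᵥ
        (a ∘ Sum.inr)) := by
  unfold leviBlock
  rw [Matrix.fromBlocks_mulVec]
  simp

omit [Fintype F] in
theorem hyp_eq_dot (a b : Fin k ⊕ Fin k → F) :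
    hyp q a b = (a ∘ Sum.inl) ⬝ᵥ (fun i => b (Sum.inr i) ^ q) +
      (a ∘ Sum.inr) ⬝ᵥ (fun i => b (Sum.inl i) ^ q) := by
  unfold hyp dotProduct
  rw [Finset.sum_add_distrib]
  rfl

theorem frob_mulVec (hF : Fintype.card F = q ^ 2) (X : Matrix (Fin k) (Fin k) F)
    (v : Fin k → F) :
    (fun i => (X *ᵥ v) i ^ q) = (X.map (frobHom hF)) *ᵥ (fun i => v i ^ q) := by
  ext i
  have h := RingHom.map_mulVec (frobHom hF) X v i
  rw [frobHom_apply] at h
  rw [h]
  rfl

theorem map_frob_map_frob (hF : Fintype.card F = q ^ 2) (X : Matrix (Fin k) (Fin k) F) :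
    (X.map (frobHom hF)).map (frobHom hF) = X := by
  ext i j
  simp only [Matrix.map_apply]
  exact frobHom_frobHom hF _

/-- the block matrix preserves the hyperbolic form. -/
theorem hyp_leviBlock (hF : Fintype.card F = q ^ 2) (M : GL (Fin k) F)
    (a b : Fin k ⊕ Fin k → F) :
    hyp q (leviBlock hF M *ᵥ a) (leviBlock hF M *ᵥ b) = hyp q a b := by
  have hinv : ((M⁻¹ : GL (Fin k) F) : Matrix (Fin k) (Fin k) F) *
      (M : Matrix (Fin k) (Fin k) F) = 1 := by
    rw [← Units.val_mul, inv_mul_cancel, Units.val_one]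
  rw [hyp_eq_dot, hyp_eq_dot, leviBlock_mulVec, leviBlock_mulVec]
  simp only [Sum.elim_inl, Sum.elim_inr]
  have e1 : (Sum.elim ((M : Matrix (Fin k) (Fin k) F) *ᵥ (a ∘ Sum.inl))
      (((((M⁻¹ : GL (Fin k) F) : Matrix (Fin k) (Fin k) F)ᵀ).map (frobHom hF)) *ᵥ
        (a ∘ Sum.inr))) ∘ Sum.inl = (M : Matrix (Fin k) (Fin k) F) *ᵥ (a ∘ Sum.inl) := by
    ext i; simp
  have e2 : (Sum.elim ((M : Matrix (Fin k) (Fin k) F) *ᵥ (a ∘ Sum.inl))
      (((((M⁻¹ : GL (Fin k) F) : Matrix (Fin k) (Fin k) F)ᵀ).map (frobHom hF)) *ᵥ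
        (a ∘ Sum.inr))) ∘ Sum.inr =
      ((((M⁻¹ : GL (Fin k) F) : Matrix (Fin k) (Fin k) F)ᵀ).map (frobHom hF)) *ᵥ
        (a ∘ Sum.inr) := by
    ext i; simp
  rw [e1, e2, frob_mulVec hF, frob_mulVec hF, map_frob_map_frob hF]
  congr 1
  · rw [Matrix.dotProduct_mulVec, Matrix.vecMul_transpose, Matrix.mulVec_mulVec, hinv,
      Matrix.one_mulVec]
    rfl
  · rw [Matrix.dotProduct_mulVec, ← Matrix.mulVec_transpose, Matrix.mulVec_mulVec,
      Matrix.transpose_map, ← Matrix.transpose_mul, ← Matrix.map_mul, hinv,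
      Matrix.map_one _ (map_zero _) (map_one _), Matrix.transpose_one, Matrix.one_mulVec]
    rfl

variable {β} {A B : Submodule F (Fin n → F)}

theorem leviHom_mem_GU (hF : Fintype.card F = q ^ 2) (hβ : HypBasis q A B β)
    (M : GL (Fin k) F) : leviHom β hF M ∈ Cfsg.GU n F q := by
  refine (Cfsg.Agent.Helper13.mem_GU_iff _).mpr ?_
  intro u v
  rw [hβ.form_eq hF, leviHom_repr, leviHom_repr, hyp_leviBlock, ← hβ.form_eq hF]

theorem leviHom_mapsA (hF : Fintype.card F = q ^ 2) (hβ : HypBasis q A B β)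
    (M : GL (Fin k) F) (v : Fin n → F) (hv : v ∈ A) :
    (leviHom β hF M : Matn) *ᵥ v ∈ A := by
  rw [hβ.mem_A_iff]
  intro j
  rw [leviHom_repr, leviBlock_mulVec, Sum.elim_inr]
  have : (⇑(β.repr v) ∘ Sum.inr : Fin k → F) = 0 := by
    ext i
    exact (hβ.mem_A_iff v).mp hv i
  rw [this, Matrix.mulVec_zero]
  rfl

theorem leviHom_mapsB (hF : Fintype.card F = q ^ 2) (hβ : HypBasis q A B β)
    (M : GL (Fin k) F) (v : Fin n → F) (hv : v ∈ B) :
    (leviHom β hF M : Matn) *ᵥ v ∈ B := by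
  rw [hβ.mem_B_iff hF]
  intro j
  rw [leviHom_repr, leviBlock_mulVec, Sum.elim_inl]
  have : (⇑(β.repr v) ∘ Sum.inl : Fin k → F) = 0 := by
    ext i
    exact (hβ.mem_B_iff hF v).mp hv i
  rw [this, Matrix.mulVec_zero]
  rfl

end embed

end Cfsg.Agent.Helper59.Polar
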