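import Mathlib
import Cfsg.Agent.Helper59.PolarG
import Cfsg.Agent.Helper45.GUCard
import Cfsg.Agent.Helper14.AutSylow

/-! # The index of the stabiliser of a Lagrangian pair in `SU_{2k}(q)` -/

set_option autoImplicit false

namespace Cfsg.Agent.Helper59.Polar

open Matrix Cfsg.Agent.Helper13 Cfsg.Agent.S0837

variable {F : Type*} [Field F] [Fintype F] {q n : ℕ}

local notation "⟪" x ", " y "⟫" => Cfsg.hermForm n F q x y
local notation "Matn" => Matrix (Fin n) (Fin n) F

theorem prod_uFac_two_mul (q k : ℕ) :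
    ∏ i ∈ Finset.range (2 * k), (if Even i then q ^ (i + 1) + 1 else q ^ (i + 1) - 1) =
      (∏ l ∈ Finset.range k, (q ^ (2 * l + 1) + 1)) *
        ∏ l ∈ Finset.range k, (q ^ (2 * l + 2) - 1) := by
  induction k with
  | zero => simp
  | succ k ih =>
    have h2 : 2 * (k + 1) = 2 * k + 1 + 1 := by ring
    rw [h2, Finset.prod_range_succ, Finset.prod_range_succ, ih, Finset.prod_range_succ,
      Finset.prod_range_succ]
    have he : Even (2 * k) := ⟨k, by ring⟩
    have ho : ¬ Even (2 * k + 1) := by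
      rw [Nat.not_even_iff_odd]
      exact ⟨k, rfl⟩
    rw [if_pos he, if_neg ho]
    ring

theorem card_GL_sq (hF : Fintype.card F = q ^ 2) (k : ℕ) :
    Nat.card (GL (Fin k) F) = q ^ (k * (k - 1)) * ∏ l ∈ Finset.range k, (q ^ (2 * l + 2) - 1) := by
  rw [Cfsg.Agent.Helper14.AutPSL.card_GL_split, hF]
  congr 1
  · rw [← pow_mul]
    congr 1
    have h1 : ∑ i : Fin k, (i : ℕ) = ∑ i ∈ Finset.range k, i :=
      Fin.sum_univ_eq_sum_range (fun i => i) k
    rw [h1, mul_comm 2, Finset.sum_range_id_mul_two]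
  · have h1 : ∏ i : Fin k, ((q ^ 2) ^ (k - (i : ℕ)) - 1) =
        ∏ i ∈ Finset.range k, ((q ^ 2) ^ (k - i) - 1) :=
      Fin.prod_univ_eq_prod_range (fun i => (q ^ 2) ^ (k - i) - 1) k
    rw [h1, ← Finset.prod_range_reflect]
    refine Finset.prod_congr rfl fun l hl => ?_
    have hl' := Finset.mem_range.mp hl
    have : k - (k - 1 - l) = l + 1 := by omega
    rw [this, ← pow_mul]
    congr 2

theorem card_GU_two_mul (hF : Fintype.card F = q ^ 2) (k : ℕ) :
    Nat.card (Cfsg.GU (2 * k) F q) = Nat.card (GL (Fin k) F) *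
      (q ^ (k ^ 2) * ∏ l ∈ Finset.range k, (q ^ (2 * l + 1) + 1)) := by
  rw [Cfsg.Agent.Helper45.GU.card_GU hF, prod_uFac_two_mul, card_GL_sq hF]
  have hexp : 2 * k * (2 * k - 1) / 2 = k * (k - 1) + k ^ 2 := by
    rcases k with _ | m
    · simp
    · have : 2 * (m + 1) * (2 * (m + 1) - 1) = 2 * ((m + 1) * (m + 1 - 1) + (m + 1) ^ 2) := by
        simp only [Nat.add_sub_cancel]
        have : 2 * (m + 1) - 1 = 2 * m + 1 := by omega
        rw [this]
        ring
      rw [this, Nat.mul_div_cancel_left _ (by norm_num : 0 < 2)]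
  rw [hexp, pow_add]
  ring

/-- the index of the stabiliser of a Lagrangian pair divides `q^{k²} ∏ (q^{2l+1} + 1)`. -/
theorem relIndex_dvd (hF : Fintype.card F = q ^ 2) {k : ℕ} (hk : 1 ≤ k)
    (D : Fin 2 → Submodule F (Fin n → F)) (hL : LagPair q (D 0) (D 1) k) :
    (Cfsg.Geo.decompositionStabilizer D).relIndex
        (Cfsg.GU n F q ⊓ Cfsg.Geo.specialLinear (Fin n) F) ∣
      q ^ (k ^ 2) * ∏ l ∈ Finset.range k, (q ^ (2 * l + 1) + 1) := by
  classical
  have hnk : 2 * k = n := hL.two_mul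
  subst hnk
  haveI : Nonempty (Fin (2 * k)) := ⟨⟨0, by omega⟩⟩
  set S := Cfsg.Geo.decompositionStabilizer D with hS
  set K := Cfsg.GU (2 * k) F q ⊓ Cfsg.Geo.specialLinear (Fin (2 * k)) F with hK
  obtain ⟨β, hβ⟩ := exists_hypBasis hF hL
  set L := leviHom β hF with hLdef
  have hfin : ∀ i, Module.finrank F (D i) = k := by
    intro i
    fin_cases i
    · exact hL.finA
    · exact hL.finB
  have hLS : ∀ M, L M ∈ S := by
    intro M
    refine mem_decompStab_two_fin hfin (L M) 1 ?_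
    intro i x hx
    fin_cases i
    · exact leviHom_mapsA hF hβ M x hx
    · exact leviHom_mapsB hF hβ M x hx
  have hLU : ∀ M, L M ∈ Cfsg.GU (2 * k) F q := fun M => leviHom_mem_GU hF hβ M
  set ψ : GL (Fin k) F →* Fˣ := Matrix.GeneralLinearGroup.det.comp L with hψ
  -- `|GL_k| = |ker ψ| * |range ψ|`
  have h1 : Nat.card ψ.ker * Nat.card ψ.range = Nat.card (GL (Fin k) F) := by
    rw [← Subgroup.index_ker, Subgroup.card_mul_index]
  -- `|range ψ| ∣ q + 1`
  have h2 : Nat.card ψ.range ∣ q + 1 := by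
    rw [← Cfsg.Agent.Helper5.card_norm_one_units hF]
    apply Subgroup.card_dvd_of_le
    rintro _ ⟨M, rfl⟩
    rw [MonoidHom.mem_ker, powMonoidHom_apply]
    apply Units.ext
    rw [Units.val_pow_eq_pow_val, Units.val_one]
    exact Cfsg.Agent.Helper5.det_pow_eq_one hF (L M) (hLU M)
  -- `|ker ψ| ∣ |S ⊓ K|`
  have h3 : Nat.card ψ.ker ∣ Nat.card ↥(S ⊓ K) := by
    have hmem : ∀ M : ψ.ker, L (M : GL (Fin k) F) ∈ S ⊓ K := by
      intro M
      refine Subgroup.mem_inf.mpr ⟨hLS _, Subgroup.mem_inf.mpr ⟨hLU _, ?_⟩⟩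
      have := M.2
      rw [MonoidHom.mem_ker] at this
      exact this
    let f : ψ.ker →* ↥(S ⊓ K) := (L.comp ψ.ker.subtype).codRestrict (S ⊓ K) hmem
    apply Subgroup.card_dvd_of_injective f
    intro M N hMN
    have := congrArg Subtype.val hMN
    exact Subtype.ext (leviHom_injective β hF this)
  -- `|K| = |S ⊓ K| * relIndex`
  have h4 : Nat.card ↥(S ⊓ K) * S.relIndex K = Nat.card K := by
    have := Subgroup.relIndex_mul_relIndex (⊥ : Subgroup (GL (Fin (2 * k)) F)) (S ⊓ K) K bot_le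
      inf_le_right
    rw [Subgroup.relIndex_bot_left, Subgroup.relIndex_bot_left, Subgroup.inf_relIndex_right] at this
    exact this
  -- `|GU| = |K| * (q + 1)`
  have h5 : Nat.card (Cfsg.GU (2 * k) F q) = Nat.card K * (q + 1) := by
    have e1 := Cfsg.Agent.Helper5.card_GUι_eq_ker_mul (ι := Fin (2 * k)) (F := F) (q := q) hF
    have e2 : (Cfsg.Agent.Helper5.detGU (Fin (2 * k)) F q).ker =
        (Cfsg.Geo.specialLinear (Fin (2 * k)) F).subgroupOf
          (Cfsg.Agent.Helper5.GUι (Fin (2 * k)) F q) := by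
      ext g
      rw [MonoidHom.mem_ker, Subgroup.mem_subgroupOf]
      unfold Cfsg.Geo.specialLinear
      rw [MonoidHom.mem_ker]
      rfl
    have e3 : Nat.card ↥((Cfsg.Geo.specialLinear (Fin (2 * k)) F).subgroupOf
        (Cfsg.Agent.Helper5.GUι (Fin (2 * k)) F q)) = Nat.card K := by
      rw [hK, ← Cfsg.Agent.Helper5.GU_eq_GUι, ← Subgroup.inf_subgroupOf_left]
      exact Nat.card_congr (Subgroup.subgroupOfEquivOfLe inf_le_left).toEquiv
    rw [e2, e3, ← Cfsg.Agent.Helper5.GU_eq_GUι] at e1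
    exact e1
  obtain ⟨a, ha⟩ := h3
  obtain ⟨b, hb⟩ := h2
  have hpos : 0 < Nat.card (GL (Fin k) F) := Nat.card_pos
  have h6 := card_GU_two_mul (F := F) hF k
  rw [h5, ← h4, ha, hb, ← h1] at h6
  have h7 : Nat.card ψ.ker * Nat.card ψ.range * (a * b * S.relIndex K) =
      Nat.card ψ.ker * Nat.card ψ.range *
        (q ^ (k ^ 2) * ∏ l ∈ Finset.range k, (q ^ (2 * l + 1) + 1)) := by
    rw [← h6]; ring
  rw [h1] at h7
  have h8 := Nat.eq_of_mul_eq_mul_left hpos h7
  exact ⟨a * b, by rw [← h8]; ring⟩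

end Cfsg.Agent.Helper59.Polar
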