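import Mathlib
import Cfsg.Agent.Helper59.PolarB

/-! # Embedding `GU_e(q)` into `GU_n(q)` on the first `e` coordinates -/

set_option autoImplicit false

namespace Cfsg.Agent.Helper59.Polar

open Matrix Cfsg.Agent.Helper13 Cfsg.Agent.S0837

variable {F : Type*} [Field F] [Fintype F] {q n e : ℕ}

local notation "⟪" x ", " y "⟫" => Cfsg.hermForm n F q x y
local notation "Matn" => Matrix (Fin n) (Fin n) F
local notation "Mate" => Matrix (Fin e) (Fin e) F

/-- extension of a vector by zero. -/
def up (n : ℕ) (w : Fin e → F) : Fin n → F :=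
  fun i => if hi : (i : ℕ) < e then w ⟨i, hi⟩ else 0

/-- restriction of a vector to the first `e` coordinates. -/
def dn (h : e ≤ n) (v : Fin n → F) : Fin e → F := fun j => v (Fin.castLE h j)

/-- the inclusion matrix. -/
def incl (F : Type*) [Field F] (n e : ℕ) : Matrix (Fin n) (Fin e) F :=
  Matrix.of fun i j => if (i : ℕ) = (j : ℕ) then 1 else 0

omit [Fintype F] in
theorem incl_mulVec (w : Fin e → F) : incl F n e *ᵥ w = up n w := by
  ext i
  unfold up incl
  rw [Matrix.mulVec, dotProduct]
  by_cases hi : (i : ℕ) < e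
  · rw [dif_pos hi, Finset.sum_eq_single ⟨i, hi⟩]
    · simp
    · intro j _ hj
      have : ¬ (i : ℕ) = (j : ℕ) := by
        intro h
        apply hj
        exact Fin.ext h.symm
      simp [this]
    · intro h; exact absurd (Finset.mem_univ _) h
  · rw [dif_neg hi]
    apply Finset.sum_eq_zero
    intro j _
    have : ¬ (i : ℕ) = (j : ℕ) := by
      intro h
      exact hi (h ▸ j.2)
    simp [this]

omit [Fintype F] in
theorem incl_transpose_mulVec (h : e ≤ n) (v : Fin n → F) : (incl F n e)ᵀ *ᵥ v = dn h v := by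
  ext j
  unfold dn incl
  rw [Matrix.mulVec, dotProduct, Finset.sum_eq_single (Fin.castLE h j)]
  · simp
  · intro i _ hi
    have : ¬ (i : ℕ) = (j : ℕ) := by
      intro h'
      apply hi
      exact Fin.ext h'
    simp [this]
  · intro h'; exact absurd (Finset.mem_univ _) h'

omit [Fintype F] in
theorem dn_up (h : e ≤ n) (w : Fin e → F) : dn h (up n w) = w := by
  ext j
  unfold dn up
  have : ((Fin.castLE h j : Fin n) : ℕ) < e := by simp
  rw [dif_pos this]
  congr 1

omit [Fintype F] in
theorem up_add (a b : Fin e → F) : up n (a + b) = up n a + up n b := by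
  rw [← incl_mulVec, ← incl_mulVec, ← incl_mulVec, Matrix.mulVec_add]

omit [Fintype F] in
theorem up_sub (a b : Fin e → F) : up n (a - b) = up n a - up n b := by
  rw [← incl_mulVec, ← incl_mulVec, ← incl_mulVec, Matrix.mulVec_sub]

omit [Fintype F] in
theorem up_injective (h : e ≤ n) {a b : Fin e → F} (hab : up n a = up n b) : a = b := by
  rw [← dn_up h a, ← dn_up h b, hab]

omit [Fintype F] in
theorem incl_transpose_mul_incl (h : e ≤ n) : (incl F n e)ᵀ * incl F n e = 1 := by
  apply mat_ext_mulVec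
  intro w
  rw [← Matrix.mulVec_mulVec, incl_mulVec, incl_transpose_mulVec h, dn_up, Matrix.one_mulVec]

/-- the embedding `M ↦ diag(M, 1)`. -/
def phi (n : ℕ) (M : Matrix (Fin e) (Fin e) F) : Matrix (Fin n) (Fin n) F :=
  1 + incl F n e * (M - 1) * (incl F n e)ᵀ

omit [Fintype F] in
theorem phi_one : phi n (1 : Mate) = 1 := by
  unfold phi
  rw [sub_self, Matrix.mul_zero, Matrix.zero_mul, add_zero]

omit [Fintype F] in
theorem phi_mul (h : e ≤ n) (M N : Mate) : phi n M * phi n N = phi n (M * N) := by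
  unfold phi
  have hQ := incl_transpose_mul_incl (F := F) h
  set Q := incl F n e with hQdef
  have key : Q * (M - 1) * Qᵀ * (Q * (N - 1) * Qᵀ) = Q * ((M - 1) * (N - 1)) * Qᵀ := by
    calc Q * (M - 1) * Qᵀ * (Q * (N - 1) * Qᵀ)
        = Q * (M - 1) * (Qᵀ * Q) * (N - 1) * Qᵀ := by simp only [Matrix.mul_assoc]
      _ = Q * ((M - 1) * (N - 1)) * Qᵀ := by rw [hQ, Matrix.mul_one]; simp only [Matrix.mul_assoc]
  rw [Matrix.add_mul, Matrix.mul_add, Matrix.mul_add, Matrix.one_mul, Matrix.one_mul,
    Matrix.mul_one, key]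
  have e1 : M * N - 1 = (M - 1) + (N - 1) + (M - 1) * (N - 1) := by
    rw [Matrix.sub_mul, Matrix.mul_sub, Matrix.mul_sub, Matrix.mul_one, Matrix.one_mul,
      Matrix.one_mul]
    abel
  rw [e1, Matrix.mul_add, Matrix.mul_add, Matrix.add_mul, Matrix.add_mul]
  abel

omit [Fintype F] in
theorem phi_pow (h : e ≤ n) (M : Mate) (m : ℕ) : phi n M ^ m = phi n (M ^ m) := by
  induction m with
  | zero => rw [pow_zero, pow_zero, phi_one]
  | succ m ih => rw [pow_succ, ih, phi_mul h, pow_succ]

omit [Fintype F] in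
theorem det_phi (h : e ≤ n) (M : Mate) : (phi n M).det = M.det := by
  unfold phi
  rw [Matrix.mul_assoc, Matrix.det_one_add_mul_comm, Matrix.mul_assoc,
    incl_transpose_mul_incl (F := F) h, Matrix.mul_one]
  congr 1
  abel

omit [Fintype F] in
theorem phi_transpose (M : Mate) : (phi n M)ᵀ = phi n Mᵀ := by
  unfold phi
  rw [Matrix.transpose_add, Matrix.transpose_one, Matrix.transpose_mul, Matrix.transpose_mul,
    Matrix.transpose_transpose, Matrix.transpose_sub, Matrix.transpose_one, Matrix.mul_assoc]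

theorem incl_map (hF : Fintype.card F = q ^ 2) : (incl F n e).map (frobHom hF) = incl F n e := by
  ext i j
  unfold incl
  simp only [Matrix.map_apply, Matrix.of_apply]
  split_ifs <;> simp

theorem phi_map (hF : Fintype.card F = q ^ 2) (M : Mate) :
    (phi n M).map (frobHom hF) = phi n (M.map (frobHom hF)) := by
  unfold phi
  rw [Matrix.map_add _ (map_add _), Matrix.map_one _ (map_zero _) (map_one _), Matrix.map_mul,
    Matrix.map_mul, Matrix.map_sub _ (map_sub _), Matrix.map_one _ (map_zero _) (map_one _),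
    Matrix.transpose_map, incl_map hF]

/-- the embedding of a unitary matrix is unitary. -/
theorem phi_isU (hF : Fintype.card F = q ^ 2) (h : e ≤ n) (M : Mate)
    (hM : Mᵀ * M.map (frobHom hF) = 1) : IsU q (phi n M) := by
  have h1 : (phi n M)ᵀ * (phi n M).map (frobHom hF) = 1 := by
    rw [phi_transpose, phi_map hF, phi_mul h, hM, phi_one]
  exact (preserves_iff hF (phi n M)).mpr h1

omit [Fintype F] in
theorem phi_mulVec (h : e ≤ n) (M : Mate) (v : Fin n → F) :
    phi n M *ᵥ v = v + up n ((M - 1) *ᵥ dn h v) := by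
  unfold phi
  rw [Matrix.add_mulVec, Matrix.one_mulVec, ← Matrix.mulVec_mulVec, ← Matrix.mulVec_mulVec,
    incl_transpose_mulVec h, incl_mulVec]

omit [Fintype F] in
theorem phi_mulVec_up (h : e ≤ n) (M : Mate) (w : Fin e → F) :
    phi n M *ᵥ up n w = up n (M *ᵥ w) := by
  rw [phi_mulVec h, dn_up, Matrix.sub_mulVec, Matrix.one_mulVec, up_sub]
  abel

/-- the span of the first `e` coordinates. -/
def upSub (F : Type*) [Field F] (n e : ℕ) : Submodule F (Fin n → F) :=
  LinearMap.range (Matrix.toLin' (incl F n e))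

/-- the vectors vanishing on the first `e` coordinates. -/
def dnKer (F : Type*) [Field F] (n e : ℕ) : Submodule F (Fin n → F) :=
  LinearMap.ker (Matrix.toLin' (incl F n e)ᵀ)

omit [Fintype F] in
theorem mem_upSub (v : Fin n → F) : v ∈ upSub F n e ↔ ∃ w : Fin e → F, v = up n w := by
  unfold upSub
  rw [LinearMap.mem_range]
  constructor
  · rintro ⟨w, rfl⟩
    exact ⟨w, by rw [Matrix.toLin'_apply, incl_mulVec]⟩
  · rintro ⟨w, rfl⟩
    exact ⟨w, by rw [Matrix.toLin'_apply, incl_mulVec]⟩

omit [Fintype F] in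
theorem mem_dnKer (h : e ≤ n) (v : Fin n → F) : v ∈ dnKer F n e ↔ dn h v = 0 := by
  unfold dnKer
  rw [LinearMap.mem_ker, Matrix.toLin'_apply, incl_transpose_mulVec h]

omit [Fintype F] in
theorem finrank_upSub (h : e ≤ n) : Module.finrank F (upSub F n e) = e := by
  unfold upSub
  have hinj : Function.Injective (Matrix.toLin' (incl F n e)) := by
    intro a b hab
    rw [Matrix.toLin'_apply, Matrix.toLin'_apply, incl_mulVec, incl_mulVec] at hab
    exact up_injective h hab
  rw [LinearMap.finrank_range_of_inj hinj, Module.finrank_fintype_fun_eq_card, Fintype.card_fin]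

omit [Fintype F] in
theorem finrank_dnKer (h : e ≤ n) : Module.finrank F (dnKer F n e) + e = n := by
  unfold dnKer
  have hsurj : Function.Surjective (Matrix.toLin' (incl F n e)ᵀ) := by
    intro w
    refine ⟨up n w, ?_⟩
    rw [Matrix.toLin'_apply, incl_transpose_mulVec h, dn_up]
  have h1 := LinearMap.finrank_range_add_finrank_ker (Matrix.toLin' (incl F n e)ᵀ)
  rw [LinearMap.range_eq_top.mpr hsurj, finrank_top, Module.finrank_fintype_fun_eq_card,
    Module.finrank_fintype_fun_eq_card, Fintype.card_fin, Fintype.card_fin] at h1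
  omega

omit [Fintype F] in
theorem upSub_inf_dnKer (h : e ≤ n) : upSub F n e ⊓ dnKer F n e = ⊥ := by
  rw [eq_bot_iff]
  rintro v ⟨h1, h2⟩
  obtain ⟨w, rfl⟩ := (mem_upSub v).mp h1
  have := (mem_dnKer h _).mp h2
  rw [dn_up] at this
  rw [Submodule.mem_bot, this]
  ext i
  simp [up]

theorem hermForm_dnKer_upSub (hF : Fintype.card F = q ^ 2) (h : e ≤ n) (a b : Fin n → F)
    (ha : a ∈ upSub F n e) (hb : b ∈ dnKer F n e) : ⟪b, a⟫ = 0 := by
  obtain ⟨w, rfl⟩ := (mem_upSub a).mp ha
  have hb' := (mem_dnKer h b).mp hb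
  unfold Cfsg.hermForm
  apply Finset.sum_eq_zero
  intro i _
  by_cases hi : (i : ℕ) < e
  · have : b i = 0 := by
      have := congrFun hb' ⟨i, hi⟩
      simpa [dn] using this
    rw [this, zero_mul]
  · have hq : q ≠ 0 := by have := two_le_of_card_eq_sq hF; omega
    simp only [up, dif_neg hi]
    rw [zero_pow hq, mul_zero]

end Cfsg.Agent.Helper59.Polar
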