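import Mathlib
import Cfsg.Agent.Helper59.PolarI
import Cfsg.Agent.Helper59.PolarD
import Cfsg.Agent.Helper45.GUCard

/-! # Derangements of odd prime order `r ∤ q + 1` in `SU_n(q)` acting on Lagrangian pairs -/

set_option autoImplicit false

namespace Cfsg.Agent.Helper59.Polar

open Matrix Cfsg.Agent.Helper13 Cfsg.Agent.S0837

variable {F : Type*} [Field F] [Fintype F] {q n e : ℕ}

local notation "⟪" x ", " y "⟫" => Cfsg.hermForm n F q x y
local notation "Matn" => Matrix (Fin n) (Fin n) F
local notation "Mate" => Matrix (Fin e) (Fin e) F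

/-- an embedded matrix without non-zero fixed vectors, on an odd number of coordinates, preserves
no Lagrangian pair. -/
theorem no_pres_phi (hF : Fintype.card F = q ^ 2) (h : e ≤ n) (he : Odd e) (M : Mate)
    (hfix : ∀ w, M *ᵥ w = w → w = 0) {U W : Submodule F (Fin n → F)} {k : ℕ}
    (hL : LagPair q U W k) (hP : Pres (phi n M) U W) : False := by
  refine no_pres_odd hF hL (phi n M) (upSub F n e) (dnKer F n e) e he (finrank_upSub h)
    (finrank_dnKer h) (fun a ha b hb => hermForm_dnKer_upSub hF h a b ha hb)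
    (upSub_inf_dnKer h) ?_ ?_ hP
  · intro v
    rw [phi_mulVec h, add_sub_cancel_left]
    exact (mem_upSub _).mpr ⟨_, rfl⟩
  · intro v hv hxv
    obtain ⟨w, rfl⟩ := (mem_upSub v).mp hv
    rw [phi_mulVec_up h] at hxv
    have := hfix w (up_injective h hxv)
    rw [this]
    ext i
    simp [up]

/-- a matrix of prime order `r` over `F_{q²}` on `e` coordinates, where `q` has order `2e`
modulo `r`, has no non-zero fixed vector. -/
theorem no_fixed_of_order (hF : Fintype.card F = q ^ 2) (r : ℕ) [hr : Fact r.Prime]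
    (hord : orderOf (q : ZMod r) = 2 * e) (M : Mate) (hMr : M ^ r = 1)
    (hM1 : M ≠ 1) : ∀ w, M *ᵥ w = w → w = 0 := by
  classical
  let f : Function.End (Fin e → F) := fun w => M *ᵥ w
  have hiter : ∀ (m : ℕ) (w : Fin e → F), (f ^ m) w = (M ^ m) *ᵥ w := by
    intro m
    induction m with
    | zero => intro w; rw [pow_zero, pow_zero, Matrix.one_mulVec]; rfl
    | succ m ih =>
      intro w
      rw [pow_succ', pow_succ']
      show M *ᵥ ((f ^ m) w) = _
      rw [ih w, Matrix.mulVec_mulVec]
  have hf : f ^ r ^ 1 = 1 := by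
    funext w
    rw [pow_one, hiter, hMr, Matrix.one_mulVec]
    rfl
  have hmod := Equiv.Perm.card_fixedPoints_modEq (p := r) (n := 1) hf
  set Kf : Submodule F (Fin e → F) := LinearMap.ker (Matrix.toLin' M - LinearMap.id) with hKf
  have hmemK : ∀ w, w ∈ Kf ↔ M *ᵥ w = w := by
    intro w
    rw [hKf, LinearMap.mem_ker, LinearMap.sub_apply, Matrix.toLin'_apply, LinearMap.id_apply,
      sub_eq_zero]
  have hfix : Function.fixedPoints f = (Kf : Set (Fin e → F)) := by
    ext w
    rw [Function.mem_fixedPoints, Function.IsFixedPt, SetLike.mem_coe, hmemK]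
  have hcardfix : Fintype.card (Function.fixedPoints f) = (q ^ 2) ^ Module.finrank F Kf := by
    rw [← Nat.card_eq_fintype_card, hfix]
    have : Nat.card (Kf : Set (Fin e → F)) = Nat.card Kf := rfl
    rw [this, Nat.card_eq_fintype_card, Module.card_eq_pow_finrank (K := F) (V := ↥Kf), hF]
  have hcardV : Fintype.card (Fin e → F) = (q ^ 2) ^ e := by
    rw [Fintype.card_fun, Fintype.card_fin, hF]
  rw [hcardfix, hcardV] at hmod
  have hz := (ZMod.natCast_eq_natCast_iff _ _ _).mpr hmod
  push_cast at hz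
  rw [← pow_mul, ← pow_mul, ← hord, pow_orderOf_eq_one] at hz
  have hdvd : orderOf (q : ZMod r) ∣ 2 * Module.finrank F Kf := orderOf_dvd_of_pow_eq_one hz.symm
  rw [hord] at hdvd
  have hdvd' : e ∣ Module.finrank F Kf := (Nat.mul_dvd_mul_iff_left (by norm_num)).mp hdvd
  have hle : Module.finrank F Kf ≤ e := by
    have := Submodule.finrank_le Kf
    rwa [Module.finrank_fintype_fun_eq_card, Fintype.card_fin] at this
  have hcases : Module.finrank F Kf = 0 ∨ Module.finrank F Kf = e := by
    obtain ⟨t, ht⟩ := hdvd'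
    rcases Nat.eq_zero_or_pos t with h0 | hpos
    · left; rw [ht, h0, mul_zero]
    · right
      have : e * 1 ≤ e * t := Nat.mul_le_mul_left e hpos
      rw [mul_one, ← ht] at this
      omega
  rcases hcases with h0 | he
  · intro w hw
    have hbot : Kf = ⊥ := Submodule.finrank_eq_zero.mp h0
    have := (hmemK w).mpr hw
    rwa [hbot, Submodule.mem_bot] at this
  · exfalso
    apply hM1
    have htop : Kf = ⊤ := by
      apply Submodule.eq_top_of_finrank_eq
      rw [he, Module.finrank_fintype_fun_eq_card, Fintype.card_fin]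
    apply mat_ext_mulVec
    intro w
    rw [Matrix.one_mulVec]
    exact (hmemK w).mp (by rw [htop]; exact Submodule.mem_top)

/-- **Derangements of odd prime order** `r` with `q` of order `2e` modulo `r`, `e ≥ 3` odd. -/
theorem exists_der_odd (hF : Fintype.card F = q ^ 2) (r : ℕ) [hr : Fact r.Prime] (hr2 : r ≠ 2)
    (he : Odd e) (he3 : 3 ≤ e) (hen : e < n) (hord : orderOf (q : ZMod r) = 2 * e) {k : ℕ} :
    ∃ x : GL (Fin n) F, x ∈ Cfsg.GU n F q ⊓ Cfsg.Geo.specialLinear (Fin n) F ∧ x ^ r = 1 ∧
      (∀ z : F, (x : Matn) ≠ z • (1 : Matn)) ∧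
      ∀ U W : Submodule F (Fin n → F), LagPair q U W k →
        ¬ (Pres (x : Matn) U W ∨ Swp (x : Matn) U W) := by
  classical
  have hq2 := two_le_of_card_eq_sq hF
  have hrp := hr.out
  -- `q^e = -1` modulo `r`
  have hqe : (q : ZMod r) ^ e = -1 := by
    have h1 : ((q : ZMod r) ^ e) ^ 2 = 1 := by
      rw [← pow_mul, mul_comm, ← hord, pow_orderOf_eq_one]
    have h2 : ((q : ZMod r) ^ e - 1) * ((q : ZMod r) ^ e + 1) = 0 := by linear_combination h1
    rcases mul_eq_zero.mp h2 with h | h
    · exfalso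
      have := orderOf_dvd_of_pow_eq_one (sub_eq_zero.mp h)
      rw [hord] at this
      have := Nat.le_of_dvd (by omega) this
      omega
    · exact eq_neg_of_add_eq_zero_left h
  have hrqe : r ∣ q ^ e + 1 := by
    rw [← ZMod.natCast_eq_zero_iff]
    push_cast
    rw [hqe]
    ring
  have hrq1 : ¬ r ∣ q + 1 := by
    intro h
    have h1 : ((q + 1 : ℕ) : ZMod r) = 0 := (ZMod.natCast_eq_zero_iff _ _).mpr h
    push_cast at h1
    have h2 : (q : ZMod r) = -1 := eq_neg_of_add_eq_zero_left h1
    have h3 : (q : ZMod r) ^ 2 = 1 := by rw [h2]; ring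
    have := orderOf_dvd_of_pow_eq_one h3
    rw [hord] at this
    have := Nat.le_of_dvd (by norm_num) this
    omega
  -- Cauchy in `GU_e(q)`
  have hcard : r ∣ Nat.card (Cfsg.GU e F q) := by
    rw [Cfsg.Agent.Helper45.GU.card_GU hF e]
    apply Dvd.dvd.mul_left
    have hmem : e - 1 ∈ Finset.range e := Finset.mem_range.mpr (by omega)
    refine dvd_trans ?_ (Finset.dvd_prod_of_mem _ hmem)
    have hev : Even (e - 1) := by
      obtain ⟨t, ht⟩ := he
      exact ⟨t, by omega⟩
    rw [if_pos hev]
    have : e - 1 + 1 = e := by omega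
    rw [this]
    exact hrqe
  obtain ⟨x₀, hx₀⟩ := exists_prime_orderOf_dvd_card' r hcard
  set M : Mate := ((x₀ : GL (Fin e) F) : Mate) with hM
  have hMr : M ^ r = 1 := by
    have h1 : x₀ ^ r = 1 := by rw [← hx₀]; exact pow_orderOf_eq_one x₀
    have h2 := congrArg (fun g : Cfsg.GU e F q => ((g : GL (Fin e) F) : Mate)) h1
    simpa using h2
  have hM1 : M ≠ 1 := by
    intro h
    have h1 : x₀ = 1 := by
      apply Subtype.ext
      apply Units.ext
      exact h
    rw [h1, orderOf_one] at hx₀
    exact hrp.one_lt.ne hx₀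
  have hMU : Mᵀ * M.map (frobHom hF) = 1 := (Cfsg.Agent.S0837.mem_GU_iff hF e x₀.1).mp x₀.2
  have hdet : M.det = 1 := by
    have hd1 : M.det ^ (q + 1) = 1 := Cfsg.Agent.Helper5.det_pow_eq_one hF x₀.1 x₀.2
    have hd2 : M.det ^ r = 1 := by rw [← Matrix.det_pow, hMr, Matrix.det_one]
    have hco : Nat.Coprime r (q + 1) := (Nat.Prime.coprime_iff_not_dvd hrp).mpr hrq1
    have := pow_gcd_eq_one.mpr ⟨hd2, hd1⟩
    rwa [Nat.Coprime.gcd_eq_one hco, pow_one] at this
  have hfix : ∀ w, M *ᵥ w = w → w = 0 := no_fixed_of_order hF r hord M hMr hM1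
  have hfix2 : ∀ w, (M * M) *ᵥ w = w → w = 0 := by
    intro w hw
    apply hfix
    obtain ⟨s, hs⟩ : ∃ s, r = 2 * s + 1 := by
      rcases hrp.eq_two_or_odd with h | h
      · exact absurd h hr2
      · exact ⟨r / 2, by omega⟩
    have hpow : ∀ t : ℕ, ((M * M) ^ t) *ᵥ w = w := by
      intro t
      induction t with
      | zero => rw [pow_zero, Matrix.one_mulVec]
      | succ t ih => rw [pow_succ, ← Matrix.mulVec_mulVec, hw, ih]
    have h1 : (M * M) ^ (s + 1) = M := by
      rw [← pow_two, ← pow_mul]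
      have : 2 * (s + 1) = r + 1 := by omega
      rw [this, pow_succ, hMr, one_mul]
    have := hpow (s + 1)
    rwa [h1] at this
  have hen' : e ≤ n := hen.le
  have hdetphi : (phi n M).det = 1 := by rw [det_phi hen', hdet]
  refine ⟨glOfDetOne _ hdetphi, Subgroup.mem_inf.mpr ⟨?_, ?_⟩, ?_, ?_, ?_⟩
  · exact (Cfsg.Agent.Helper13.mem_GU_iff _).mpr (by
      rw [glOfDetOne_coe]; exact phi_isU hF hen' M hMU)
  · exact (mem_specialLinear_iff _).mpr (by rw [glOfDetOne_coe]; exact hdetphi)
  · apply Units.ext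
    rw [Units.val_pow_eq_pow_val, glOfDetOne_coe, phi_pow hen', hMr, phi_one, Units.val_one]
  · intro z hz
    rw [glOfDetOne_coe] at hz
    -- a vector outside the first `e` coordinates is fixed, so `z = 1`
    set i₁ : Fin n := ⟨e, hen⟩ with hi₁
    have hv : phi n M *ᵥ (Pi.single i₁ 1 : Fin n → F) = Pi.single i₁ 1 := by
      rw [phi_mulVec hen']
      have : dn hen' (Pi.single i₁ 1 : Fin n → F) = 0 := by
        ext j
        unfold dn
        have hne : (Fin.castLE hen' j : Fin n) ≠ i₁ := by
          intro h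
          have := congrArg Fin.val h
          simp [hi₁] at this
          omega
        simp [hne]
      rw [this, Matrix.mulVec_zero]
      ext i
      simp [up]
    rw [hz, Matrix.smul_mulVec, Matrix.one_mulVec] at hv
    have hz1 : z = 1 := by
      have := congrFun hv i₁
      simpa using this
    -- then `M` fixes every vector
    set w₀ : Fin e → F := Pi.single ⟨0, by omega⟩ 1 with hw₀
    have hw₀0 : w₀ ≠ 0 := by
      intro h
      have := congrFun h ⟨0, by omega⟩
      simp [hw₀] at this
    apply hw₀0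
    apply hfix
    have h1 := phi_mulVec_up hen' M w₀
    rw [hz, hz1, one_smul, Matrix.one_mulVec] at h1
    exact (up_injective hen' h1).symm
  · intro U W hL hor
    rw [glOfDetOne_coe] at hor
    rcases hor with hP | hS
    · exact no_pres_phi hF hen' he M hfix hL hP
    · have hP2 := hS.pres_sq
      rw [phi_mul hen'] at hP2
      exact no_pres_phi hF hen' he (M * M) hfix2 hL hP2

end Cfsg.Agent.Helper59.Polar
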