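import Mathlib
import Cfsg.Agent.Helper59.PolarA

/-! # Hyperbolic decompositions of non-degenerate subspaces of even dimension -/

set_option autoImplicit false

namespace Cfsg.Agent.Helper59.Polar

open Matrix Cfsg.Agent.Helper13 Cfsg.Agent.S0837

variable {F : Type*} [Field F] [Fintype F] {q n : ℕ}

local notation "⟪" x ", " y "⟫" => Cfsg.hermForm n F q x y
local notation "Matn" => Matrix (Fin n) (Fin n) F

/-- a totally isotropic subspace has dimension at most `n / 2`. -/
theorem two_mul_finrank_le_of_ti (hF : Fintype.card F = q ^ 2) (U : Submodule F (Fin n → F))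
    (hU : ∀ x ∈ U, ∀ y ∈ U, ⟪x, y⟫ = 0) : 2 * Module.finrank F U ≤ n := by
  have hle : U ≤ perpSub q U := fun x hx y hy => hU x hx y hy
  have h1 := Submodule.finrank_mono hle
  have h2 := finrank_perpSub hF U
  omega

/-- two complementary totally isotropic subspaces form a Lagrangian pair. -/
theorem lagPair_of_ti (hF : Fintype.card F = q ^ 2) {k : ℕ} (hk : 2 * k = n)
    (U W : Submodule F (Fin n → F))
    (hU : ∀ x ∈ U, ∀ y ∈ U, ⟪x, y⟫ = 0) (hW : ∀ x ∈ W, ∀ y ∈ W, ⟪x, y⟫ = 0)
    (hsup : U ⊔ W = ⊤) (hinf : U ⊓ W = ⊥) : LagPair q U W k := by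
  have h1 := two_mul_finrank_le_of_ti hF U hU
  have h2 := two_mul_finrank_le_of_ti hF W hW
  have h3 := Submodule.finrank_sup_add_finrank_inf_eq U W
  rw [hsup, hinf, finrank_bot, finrank_top, Module.finrank_fintype_fun_eq_card,
    Fintype.card_fin] at h3
  exact ⟨hU, hW, hsup, hinf, by omega, by omega⟩

/-- a non-degenerate subspace of even dimension is the direct sum of two totally isotropic
subspaces. -/
theorem exists_hypDecomp (hF : Fintype.card F = q ^ 2) (m : ℕ) :
    ∀ W : Submodule F (Fin n → F), NonDeg q W → Module.finrank F W = 2 * m →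
      ∃ A B : Submodule F (Fin n → F), A ≤ W ∧ B ≤ W ∧ (∀ x ∈ A, ∀ y ∈ A, ⟪x, y⟫ = 0) ∧
        (∀ x ∈ B, ∀ y ∈ B, ⟪x, y⟫ = 0) ∧ W ≤ A ⊔ B ∧ A ⊓ B = ⊥ := by
  induction m with
  | zero =>
    intro W _ hfin
    have hbot : W = ⊥ := Submodule.finrank_eq_zero.mp (by rw [hfin])
    refine ⟨⊥, ⊥, bot_le, bot_le, ?_, ?_, ?_, ?_⟩
    · intro x hx y _
      rw [(Submodule.mem_bot F).mp hx]
      exact hermForm_zero_left _
    · intro x hx y _
      rw [(Submodule.mem_bot F).mp hx]
      exact hermForm_zero_left _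
    · rw [hbot]; exact bot_le
    · exact inf_bot_eq _
  | succ m ih =>
    intro W hW hfin
    obtain ⟨u, hu, hu0, huu⟩ := exists_isotropic_in hF hW (by omega)
    obtain ⟨u', hu', hu'u', huu'⟩ := exists_hyperbolic_partner_in hF W hW hu hu0 huu
    have hu'u : ⟪u', u⟫ = 1 := by rw [← hermForm_conj hF, huu', one_pow]
    set W₁ := hypCompl q W u u' with hW₁
    have hW₁nd : NonDeg q W₁ := nonDeg_hypCompl hF W hW hu hu' huu hu'u' huu'
    have hle1 : Module.finrank F W₁ + 2 ≤ Module.finrank F W :=
      finrank_hypCompl_add_two_le hF W hu hu' huu huu'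
    have hWle : W ≤ W₁ ⊔ Submodule.span F {u} ⊔ Submodule.span F {u'} := by
      intro x hx
      rw [hypProj_decomp (q := q) u u' x]
      refine Submodule.add_mem _ (Submodule.add_mem _ ?_ ?_) ?_
      · exact Submodule.mem_sup_left (Submodule.mem_sup_right
          (Submodule.smul_mem _ _ (Submodule.mem_span_singleton_self u)))
      · exact Submodule.mem_sup_right
          (Submodule.smul_mem _ _ (Submodule.mem_span_singleton_self u'))
      · exact Submodule.mem_sup_left (Submodule.mem_sup_left
          (hypProj_mem hF W hu hu' huu hu'u' huu' hx))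
    have hfin1 : Module.finrank F W₁ = 2 * m := by
      have h1 := Submodule.finrank_mono hWle
      have h2 := Submodule.finrank_add_le_finrank_add_finrank
        (W₁ ⊔ Submodule.span F {u}) (Submodule.span F {u'})
      have h3 := Submodule.finrank_add_le_finrank_add_finrank W₁ (Submodule.span F {u})
      have h4 := finrank_span_singleton_le_one' u
      have h5 := finrank_span_singleton_le_one' u'
      omega
    obtain ⟨A₁, B₁, hA₁, hB₁, htiA, htiB, hsup, hinf⟩ := ih W₁ hW₁nd hfin1
    have hW₁W : W₁ ≤ W := hypCompl_le W u u'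
    refine ⟨A₁ ⊔ Submodule.span F {u}, B₁ ⊔ Submodule.span F {u'}, ?_, ?_, ?_, ?_, ?_, ?_⟩
    · refine sup_le (hA₁.trans hW₁W) ?_
      rw [Submodule.span_le, Set.singleton_subset_iff]
      exact hu
    · refine sup_le (hB₁.trans hW₁W) ?_
      rw [Submodule.span_le, Set.singleton_subset_iff]
      exact hu'
    · intro x hx y hy
      obtain ⟨a, ha, b, hb, rfl⟩ := Submodule.mem_sup.mp hx
      obtain ⟨c, rfl⟩ := Submodule.mem_span_singleton.mp hb
      obtain ⟨a', ha', b', hb', rfl⟩ := Submodule.mem_sup.mp hy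
      obtain ⟨c', rfl⟩ := Submodule.mem_span_singleton.mp hb'
      have h1 : ⟪a, u⟫ = 0 := (hA₁ ha).2.1
      have h2 : ⟪u, a'⟫ = 0 := hermForm_eq_zero_symm hF (hA₁ ha').2.1
      rw [hermForm_add_left, hermForm_add_right hF, hermForm_add_right hF, hermForm_smul_left,
        hermForm_smul_left, hermForm_smul_right, hermForm_smul_right, htiA a ha a' ha', h1, h2,
        huu]
      ring
    · intro x hx y hy
      obtain ⟨a, ha, b, hb, rfl⟩ := Submodule.mem_sup.mp hx
      obtain ⟨c, rfl⟩ := Submodule.mem_span_singleton.mp hb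
      obtain ⟨a', ha', b', hb', rfl⟩ := Submodule.mem_sup.mp hy
      obtain ⟨c', rfl⟩ := Submodule.mem_span_singleton.mp hb'
      have h1 : ⟪a, u'⟫ = 0 := (hB₁ ha).2.2
      have h2 : ⟪u', a'⟫ = 0 := hermForm_eq_zero_symm hF (hB₁ ha').2.2
      rw [hermForm_add_left, hermForm_add_right hF, hermForm_add_right hF, hermForm_smul_left,
        hermForm_smul_left, hermForm_smul_right, hermForm_smul_right, htiB a ha a' ha', h1, h2,
        hu'u']
      ring
    · intro x hx
      rw [hypProj_decomp (q := q) u u' x]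
      have hp := hsup (hypProj_mem hF W hu hu' huu hu'u' huu' hx)
      obtain ⟨a, ha, b, hb, hab⟩ := Submodule.mem_sup.mp hp
      rw [← hab]
      have e1 : ⟪x, u'⟫ • u + ⟪x, u⟫ • u' + (a + b) =
          (a + ⟪x, u'⟫ • u) + (b + ⟪x, u⟫ • u') := by abel
      rw [e1]
      refine Submodule.add_mem _ (Submodule.mem_sup_left ?_) (Submodule.mem_sup_right ?_)
      · exact Submodule.add_mem _ (Submodule.mem_sup_left ha)
          (Submodule.mem_sup_right (Submodule.smul_mem _ _ (Submodule.mem_span_singleton_self u)))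
      · exact Submodule.add_mem _ (Submodule.mem_sup_left hb)
          (Submodule.mem_sup_right (Submodule.smul_mem _ _ (Submodule.mem_span_singleton_self u')))
    · rw [eq_bot_iff]
      rintro v ⟨hvA, hvB⟩
      obtain ⟨a, ha, b, hb, hab⟩ := Submodule.mem_sup.mp hvA
      obtain ⟨c, rfl⟩ := Submodule.mem_span_singleton.mp hb
      obtain ⟨a', ha', b', hb', hab'⟩ := Submodule.mem_sup.mp hvB
      obtain ⟨c', rfl⟩ := Submodule.mem_span_singleton.mp hb'
      -- pair with `u'`
      have hc : c = 0 := by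
        have h1 : ⟪v, u'⟫ = c := by
          rw [← hab, hermForm_add_left, hermForm_smul_left, (hA₁ ha).2.2, huu']
          ring
        have h2 : ⟪v, u'⟫ = 0 := by
          rw [← hab', hermForm_add_left, hermForm_smul_left, (hB₁ ha').2.2, hu'u']
          ring
        rw [← h1, h2]
      have hc' : c' = 0 := by
        have h1 : ⟪v, u⟫ = c' := by
          rw [← hab', hermForm_add_left, hermForm_smul_left, (hB₁ ha').2.1, hu'u]
          ring
        have h2 : ⟪v, u⟫ = 0 := by
          rw [← hab, hermForm_add_left, hermForm_smul_left, (hA₁ ha).2.1, huu]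
          ring
        rw [← h1, h2]
      rw [hc, zero_smul, add_zero] at hab
      rw [hc', zero_smul, add_zero] at hab'
      have : v ∈ A₁ ⊓ B₁ := ⟨by rw [← hab]; exact ha, by rw [← hab']; exact ha'⟩
      rw [hinf] at this
      exact this

end Cfsg.Agent.Helper59.Polar
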