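import Mathlib
import Cfsg.Agent.Helper59.PolarK
import Cfsg.Agent.Helper59.PolarD

/-! # Involutions of `PSU_n(q)` preserve a Lagrangian pair when `(q+1)_2 ≤ n_2` -/

set_option autoImplicit false

namespace Cfsg.Agent.Helper59.Polar

open Matrix Cfsg.Agent.Helper13 Cfsg.Agent.S0837

variable {F : Type*} [Field F] [Fintype F] {q n : ℕ}

local notation "⟪" x ", " y "⟫" => Cfsg.hermForm n F q x y
local notation "Matn" => Matrix (Fin n) (Fin n) F

/-- the `+1`-eigenspace. -/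
def eigP (Y : Matn) : Submodule F (Fin n → F) := LinearMap.ker (Matrix.toLin' Y - LinearMap.id)

/-- the `-1`-eigenspace. -/
def eigM (Y : Matn) : Submodule F (Fin n → F) := LinearMap.ker (Matrix.toLin' Y + LinearMap.id)

omit [Fintype F] in
theorem mem_eigP (Y : Matn) (v : Fin n → F) : v ∈ eigP Y ↔ Y *ᵥ v = v := by
  unfold eigP
  rw [LinearMap.mem_ker, LinearMap.sub_apply, Matrix.toLin'_apply, LinearMap.id_apply, sub_eq_zero]

omit [Fintype F] in
theorem mem_eigM (Y : Matn) (v : Fin n → F) : v ∈ eigM Y ↔ Y *ᵥ v = -v := by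
  unfold eigM
  rw [LinearMap.mem_ker, LinearMap.add_apply, Matrix.toLin'_apply, LinearMap.id_apply,
    add_eq_zero_iff_eq_neg]

omit [Fintype F] in
theorem eig_sup (h2 : (2 : F) ≠ 0) (Y : Matn) (hYY : Y * Y = 1) : eigP Y ⊔ eigM Y = ⊤ := by
  rw [eq_top_iff]
  intro v _
  have hv : v = (2 : F)⁻¹ • (v + Y *ᵥ v) + (2 : F)⁻¹ • (v - Y *ᵥ v) := by
    rw [← smul_add]
    have : v + Y *ᵥ v + (v - Y *ᵥ v) = (2 : F) • v := by rw [two_smul]; abel
    rw [this, smul_smul, inv_mul_cancel₀ h2, one_smul]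
  rw [hv]
  refine Submodule.add_mem _ (Submodule.mem_sup_left ?_) (Submodule.mem_sup_right ?_)
  · apply Submodule.smul_mem
    rw [mem_eigP, Matrix.mulVec_add, Matrix.mulVec_mulVec, hYY, Matrix.one_mulVec, add_comm]
  · apply Submodule.smul_mem
    rw [mem_eigM, Matrix.mulVec_sub, Matrix.mulVec_mulVec, hYY, Matrix.one_mulVec]
    abel

omit [Fintype F] in
theorem eig_inf (h2 : (2 : F) ≠ 0) (Y : Matn) : eigP Y ⊓ eigM Y = ⊥ := by
  rw [eq_bot_iff]
  rintro v ⟨h1, h3⟩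
  rw [SetLike.mem_coe, mem_eigP] at h1
  rw [SetLike.mem_coe, mem_eigM] at h3
  rw [Submodule.mem_bot]
  have : (2 : F) • v = 0 := by
    rw [two_smul]
    nth_rw 1 [← h1]
    rw [h3]
    abel
  rcases smul_eq_zero.mp this with h | h
  · exact absurd h h2
  · exact h

omit [Fintype F] in
theorem pres_eig (Y : Matn) : Pres Y (eigP Y) (eigM Y) := by
  constructor
  · intro v hv
    rw [(mem_eigP Y v).mp hv]
    exact hv
  · intro v hv
    rw [(mem_eigM Y v).mp hv]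
    exact Submodule.neg_mem _ hv

omit [Fintype F] in
/-- the determinant of an involution. -/
theorem det_invol (h2 : (2 : F) ≠ 0) (Y : Matn) (hYY : Y * Y = 1) :
    Y.det = (-1) ^ Module.finrank F (eigM Y) := by
  have hc : IsCompl (eigP Y) (eigM Y) :=
    ⟨disjoint_iff.mpr (eig_inf h2 Y), codisjoint_iff.mpr (eig_sup h2 Y hYY)⟩
  set e := Submodule.prodEquivOfIsCompl (eigP Y) (eigM Y) hc with he
  have hconj : Matrix.toLin' Y = (e : (eigP Y × eigM Y) →ₗ[F] (Fin n → F)) ∘ₗ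
      (LinearMap.prodMap LinearMap.id ((-1 : F) • LinearMap.id)) ∘ₗ
      (e.symm : (Fin n → F) →ₗ[F] (eigP Y × eigM Y)) := by
    apply LinearMap.ext
    intro v
    obtain ⟨ab, rfl⟩ := e.surjective v
    rw [LinearMap.comp_apply, LinearMap.comp_apply, LinearEquiv.coe_coe, LinearEquiv.coe_coe,
      LinearEquiv.symm_apply_apply]
    obtain ⟨a, b⟩ := ab
    rw [LinearMap.prodMap_apply, he, Submodule.coe_prodEquivOfIsCompl',
      Submodule.coe_prodEquivOfIsCompl']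
    simp only [LinearMap.id_apply, LinearMap.smul_apply, neg_smul, one_smul,
      Submodule.coe_neg]
    rw [Matrix.toLin'_apply, Matrix.mulVec_add, (mem_eigP Y _).mp a.2, (mem_eigM Y _).mp b.2]
  rw [← LinearMap.det_toLin', hconj, LinearMap.det_conj, LinearMap.det_prodMap, LinearMap.det_id,
    LinearMap.det_smul, LinearMap.det_id, one_mul, mul_one]

/-- if `Y` is an involution scaling the form by `-1`, its eigenspaces form a Lagrangian pair. -/
theorem lagPair_eig_of_neg (hF : Fintype.card F = q ^ 2) (h2 : (2 : F) ≠ 0) {k : ℕ}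
    (hk : 2 * k = n) (Y : Matn) (hYY : Y * Y = 1)
    (hform : ∀ u v, ⟪Y *ᵥ u, Y *ᵥ v⟫ = -⟪u, v⟫) : LagPair q (eigP Y) (eigM Y) k := by
  have hzero : ∀ a : F, a = -a → a = 0 := by
    intro a ha
    have : (2 : F) * a = 0 := by linear_combination ha
    rcases mul_eq_zero.mp this with h | h
    · exact absurd h h2
    · exact h
  refine lagPair_of_ti hF hk _ _ ?_ ?_ (eig_sup h2 Y hYY) (eig_inf h2 Y)
  · intro u hu v hv
    apply hzero
    have := hform u v
    rwa [(mem_eigP Y u).mp hu, (mem_eigP Y v).mp hv] at this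
  · intro u hu v hv
    apply hzero
    have := hform u v
    rwa [(mem_eigM Y u).mp hu, (mem_eigM Y v).mp hv, hermForm_neg_left, hermForm_neg_right hF,
      neg_neg] at this

/-- a unitary involution whose `-1`-eigenspace has even dimension preserves a Lagrangian pair. -/
theorem exists_pair_of_unitary_invol (hF : Fintype.card F = q ^ 2) (h2 : (2 : F) ≠ 0) {k : ℕ}
    (hk : 2 * k = n) (Y : Matn) (hYY : Y * Y = 1) (hYU : IsU q Y)
    (heven : Even (Module.finrank F (eigM Y))) :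
    ∃ U W : Submodule F (Fin n → F), LagPair q U W k ∧ Pres Y U W := by
  have hzero : ∀ a : F, a = -a → a = 0 := by
    intro a ha
    have : (2 : F) * a = 0 := by linear_combination ha
    rcases mul_eq_zero.mp this with h | h
    · exact absurd h h2
    · exact h
  have hsup := eig_sup h2 Y hYY
  have hinf := eig_inf h2 Y
  -- the eigenspaces are orthogonal
  have hperp : ∀ u ∈ eigP Y, ∀ v ∈ eigM Y, ⟪u, v⟫ = 0 := by
    intro u hu v hv
    apply hzero
    have := hYU u v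
    rw [(mem_eigP Y u).mp hu, (mem_eigM Y v).mp hv, hermForm_neg_right hF] at this
    exact this.symm
  have hperp' : ∀ v ∈ eigM Y, ∀ u ∈ eigP Y, ⟪v, u⟫ = 0 :=
    fun v hv u hu => hermForm_eq_zero_symm hF (hperp u hu v hv)
  have hdecomp : ∀ y : Fin n → F, ∃ a ∈ eigP Y, ∃ b ∈ eigM Y, y = a + b := by
    intro y
    have hy : y ∈ eigP Y ⊔ eigM Y := by rw [hsup]; exact Submodule.mem_top
    obtain ⟨a, ha, b, hb, rfl⟩ := Submodule.mem_sup.mp hy
    exact ⟨a, ha, b, hb, rfl⟩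
  -- hence non-degenerate
  have hndP : NonDeg q (eigP Y) := by
    intro x hx hxy
    apply eq_zero_of_hermForm_eq_zero hF
    intro y
    obtain ⟨a, ha, b, hb, rfl⟩ := hdecomp y
    rw [hermForm_add_right hF, hxy a ha, hperp x hx b hb, add_zero]
  have hndM : NonDeg q (eigM Y) := by
    intro x hx hxy
    apply eq_zero_of_hermForm_eq_zero hF
    intro y
    obtain ⟨a, ha, b, hb, rfl⟩ := hdecomp y
    rw [hermForm_add_right hF, hxy b hb, hperp' x hx a ha, add_zero]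
  -- dimensions
  have hdim := Submodule.finrank_sup_add_finrank_inf_eq (eigP Y) (eigM Y)
  rw [hsup, hinf, finrank_bot, finrank_top, Module.finrank_fintype_fun_eq_card,
    Fintype.card_fin] at hdim
  obtain ⟨t, ht⟩ := heven
  obtain ⟨s, hs⟩ : ∃ s, Module.finrank F (eigP Y) = 2 * s := ⟨k - t, by omega⟩
  obtain ⟨A₁, B₁, hA₁, hB₁, htiA₁, htiB₁, hsup₁, hinf₁⟩ := exists_hypDecomp hF s (eigP Y) hndP hs
  obtain ⟨A₂, B₂, hA₂, hB₂, htiA₂, htiB₂, hsup₂, hinf₂⟩ :=
    exists_hypDecomp hF t (eigM Y) hndM (by rw [ht]; ring)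
  refine ⟨A₁ ⊔ A₂, B₁ ⊔ B₂, lagPair_of_ti hF hk _ _ ?_ ?_ ?_ ?_, ?_, ?_⟩
  · intro x hx y hy
    obtain ⟨a, ha, b, hb, rfl⟩ := Submodule.mem_sup.mp hx
    obtain ⟨a', ha', b', hb', rfl⟩ := Submodule.mem_sup.mp hy
    rw [hermForm_add_left, hermForm_add_right hF, hermForm_add_right hF, htiA₁ a ha a' ha',
      htiA₂ b hb b' hb', hperp a (hA₁ ha) b' (hA₂ hb'), hperp' b (hA₂ hb) a' (hA₁ ha')]
    ring
  · intro x hx y hy
    obtain ⟨a, ha, b, hb, rfl⟩ := Submodule.mem_sup.mp hx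
    obtain ⟨a', ha', b', hb', rfl⟩ := Submodule.mem_sup.mp hy
    rw [hermForm_add_left, hermForm_add_right hF, hermForm_add_right hF, htiB₁ a ha a' ha',
      htiB₂ b hb b' hb', hperp a (hB₁ ha) b' (hB₂ hb'), hperp' b (hB₂ hb) a' (hB₁ ha')]
    ring
  · rw [eq_top_iff, ← hsup]
    have : A₁ ⊔ A₂ ⊔ (B₁ ⊔ B₂) = (A₁ ⊔ B₁) ⊔ (A₂ ⊔ B₂) := sup_sup_sup_comm _ _ _ _
    rw [this]
    exact sup_le_sup hsup₁ hsup₂
  · rw [eq_bot_iff]
    rintro v ⟨hvA, hvB⟩
    obtain ⟨a₁, ha₁, a₂, ha₂, hav⟩ := Submodule.mem_sup.mp hvA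
    obtain ⟨b₁, hb₁, b₂, hb₂, hbv⟩ := Submodule.mem_sup.mp hvB
    have hdiff : a₁ - b₁ = b₂ - a₂ := by
      have : a₁ + a₂ = b₁ + b₂ := hav.trans hbv.symm
      rw [sub_eq_sub_iff_add_eq_add]
      rw [add_comm b₂ b₁]
      exact this
    have hmem : a₁ - b₁ ∈ eigP Y ⊓ eigM Y := by
      refine ⟨Submodule.sub_mem _ (hA₁ ha₁) (hB₁ hb₁), ?_⟩
      rw [hdiff]
      exact Submodule.sub_mem _ (hB₂ hb₂) (hA₂ ha₂)
    rw [hinf, Submodule.mem_bot] at hmem
    have h1 : a₁ = b₁ := sub_eq_zero.mp hmem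
    have h3 : a₂ = b₂ := by
      have := hdiff
      rw [hmem] at this
      exact (sub_eq_zero.mp this.symm).symm
    have ha₁0 : a₁ = 0 := by
      have : a₁ ∈ A₁ ⊓ B₁ := ⟨ha₁, by rw [h1]; exact hb₁⟩
      rwa [hinf₁, Submodule.mem_bot] at this
    have ha₂0 : a₂ = 0 := by
      have : a₂ ∈ A₂ ⊓ B₂ := ⟨ha₂, by rw [h3]; exact hb₂⟩
      rwa [hinf₂, Submodule.mem_bot] at this
    rw [Submodule.mem_bot, ← hav, ha₁0, ha₂0, add_zero]
  · intro v hv
    obtain ⟨a, ha, b, hb, rfl⟩ := Submodule.mem_sup.mp hv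
    rw [Matrix.mulVec_add, (mem_eigP Y a).mp (hA₁ ha), (mem_eigM Y b).mp (hA₂ hb)]
    exact Submodule.add_mem _ (Submodule.mem_sup_left ha)
      (Submodule.mem_sup_right (Submodule.neg_mem _ hb))
  · intro v hv
    obtain ⟨a, ha, b, hb, rfl⟩ := Submodule.mem_sup.mp hv
    rw [Matrix.mulVec_add, (mem_eigP Y a).mp (hB₁ ha), (mem_eigM Y b).mp (hB₂ hb)]
    exact Submodule.add_mem _ (Submodule.mem_sup_left ha)
      (Submodule.mem_sup_right (Submodule.neg_mem _ hb))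

end Cfsg.Agent.Helper59.Polar
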