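import Mathlib
import Cfsg.Agent.Helper59.PolarL

/-! # Involutions fix a Lagrangian pair; arithmetic of orders -/

set_option autoImplicit false

namespace Cfsg.Agent.Helper59.Polar

open Matrix Cfsg.Agent.Helper13 Cfsg.Agent.S0837

variable {F : Type*} [Field F] [Fintype F] {q n : ℕ}

local notation "⟪" x ", " y "⟫" => Cfsg.hermForm n F q x y
local notation "Matn" => Matrix (Fin n) (Fin n) F

/-- in odd characteristic with `(q+1)_2 ≤ n_2`, every element of `SU_n(q)` whose square is scalar
preserves a Lagrangian pair. -/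
theorem exists_pres_pair (hF : Fintype.card F = q ^ 2) (h2 : (2 : F) ≠ 0) (hqodd : Odd q)
    {k : ℕ} (hk : 2 * k = n) (hn : 0 < n)
    (hv : padicValNat 2 (q + 1) ≤ padicValNat 2 n) (X : Matn) (hXU : IsU q X)
    (hXdet : X.det = 1) (z : F) (hXz : X * X = z • (1 : Matn)) :
    ∃ U W : Submodule F (Fin n → F), LagPair q U W k ∧ Pres X U W := by
  have hq2 := two_le_of_card_eq_sq hF
  -- `z` has norm one
  have hz : z ^ (q + 1) = 1 := by
    set e₀ : Fin n → F := Pi.single ⟨0, hn⟩ 1 with he₀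
    have h1 := hXU (X *ᵥ e₀) (X *ᵥ e₀)
    rw [hXU e₀ e₀, Matrix.mulVec_mulVec, hXz, Matrix.smul_mulVec, Matrix.one_mulVec,
      hermForm_smul_left, hermForm_smul_right, hermForm_single_left, he₀, Pi.single_eq_same,
      one_pow] at h1
    rw [pow_succ']
    linear_combination h1
  have hz0 : z ≠ 0 := by
    rintro rfl
    rw [zero_pow (by omega)] at hz
    exact zero_ne_one hz
  have hchar : ringChar F ≠ 2 := by
    intro h
    haveI : CharP F 2 := by rw [← h]; exact ringChar.charP F
    apply h2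
    have := CharP.cast_eq_zero F 2
    exact_mod_cast this
  -- a square root of `z`
  have hsq : IsSquare z := by
    rw [FiniteField.isSquare_iff hchar hz0, hF]
    obtain ⟨t, ht⟩ := hqodd
    have : q ^ 2 / 2 = (q + 1) * t := by
      rw [ht]
      have : (2 * t + 1) ^ 2 = 2 * ((2 * t + 1 + 1) * t) + 1 := by ring
      rw [this]
      omega
    rw [this, pow_mul, hz, one_pow]
  obtain ⟨c, hc⟩ := hsq
  have hc0 : c ≠ 0 := by
    rintro rfl
    rw [mul_zero] at hc
    exact hz0 hc
  set δ : F := (c⁻¹) ^ (q + 1) with hδ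
  have hδ2 : δ * δ = 1 := by
    rw [hδ, ← mul_pow, ← mul_inv, ← hc, inv_pow, hz, inv_one]
  have hδcases : δ = 1 ∨ δ = -1 := by
    have : (δ - 1) * (δ + 1) = 0 := by linear_combination hδ2
    rcases mul_eq_zero.mp this with h | h
    · left; exact sub_eq_zero.mp h
    · right; exact eq_neg_of_add_eq_zero_left h
  set Y : Matn := c⁻¹ • X with hY
  have hXY : X = c • Y := by rw [hY, smul_smul, mul_inv_cancel₀ hc0, one_smul]
  have hYY : Y * Y = 1 := by
    rw [hY, Matrix.smul_mul, Matrix.mul_smul, hXz, smul_smul, smul_smul, hc]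
    have : c⁻¹ * c⁻¹ * (c * c) = 1 := by field_simp
    rw [this, one_smul]
  have hform : ∀ u v, ⟪Y *ᵥ u, Y *ᵥ v⟫ = δ * ⟪u, v⟫ := by
    intro u v
    rw [hY, Matrix.smul_mulVec, Matrix.smul_mulVec, hermForm_smul_left, hermForm_smul_right,
      hXU u v, hδ, pow_succ']
    ring
  rcases hδcases with h1 | h1
  · -- `Y` is a unitary involution
    have hYU : IsU q Y := by
      intro u v
      rw [hform, h1, one_mul]
    have hcq : c ^ (q + 1) = 1 := by
      have : δ * c ^ (q + 1) = 1 := by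
        rw [hδ, ← mul_pow, inv_mul_cancel₀ hc0, one_pow]
      rw [h1, one_mul] at this
      exact this
    have heven : Even (Module.finrank F (eigM Y)) := by
      rw [← Nat.not_odd_iff_even]
      intro hodd
      have hdetY := det_invol h2 Y hYY
      rw [hodd.neg_one_pow] at hdetY
      have hdetX : X.det = c ^ n * Y.det := by
        rw [hXY, Matrix.det_smul, Fintype.card_fin]
      rw [hXdet, hdetY] at hdetX
      have hcn : c ^ n = -1 := by linear_combination hdetX
      have := lt_of_norm_one_pow_eq_neg_one h2 hn c hcq hcn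
      omega
    obtain ⟨U, W, hL, hP⟩ := exists_pair_of_unitary_invol hF h2 hk Y hYY hYU heven
    refine ⟨U, W, hL, ?_⟩
    rw [hXY]
    exact Pres.smul c hP
  · refine ⟨eigP Y, eigM Y, lagPair_eig_of_neg hF h2 hk Y hYY ?_, ?_⟩
    · intro u v
      rw [hform, h1]
      ring
    · rw [hXY]
      exact Pres.smul c (pres_eig Y)

/-- for an odd prime `r` dividing `q^j + 1` with `j` odd, the order of `q` modulo `r` is twice an
odd divisor of `j`. -/
theorem exists_odd_half_order (r : ℕ) [hr : Fact r.Prime] (hr2 : r ≠ 2) (q j : ℕ) (hj : Odd j)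
    (h : r ∣ q ^ j + 1) : ∃ e, Odd e ∧ e ∣ j ∧ orderOf (q : ZMod r) = 2 * e := by
  have hrp := hr.out
  have ha : (q : ZMod r) ^ j = -1 := by
    have h1 : ((q ^ j + 1 : ℕ) : ZMod r) = 0 := (ZMod.natCast_eq_zero_iff _ _).mpr h
    push_cast at h1
    exact eq_neg_of_add_eq_zero_left h1
  have ha2 : (q : ZMod r) ^ (2 * j) = 1 := by
    rw [mul_comm, pow_mul, ha]
    ring
  have hne : (1 : ZMod r) ≠ -1 := by
    intro h1
    have h3 : ((2 : ℕ) : ZMod r) = 0 := by
      push_cast
      linear_combination h1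
    have := (ZMod.natCast_eq_zero_iff _ _).mp h3
    exact hr2 ((Nat.prime_dvd_prime_iff_eq hrp Nat.prime_two).mp this)
  have hd : orderOf (q : ZMod r) ∣ 2 * j := orderOf_dvd_of_pow_eq_one ha2
  have hnd : ¬ orderOf (q : ZMod r) ∣ j := by
    intro hdj
    have := orderOf_dvd_iff_pow_eq_one.mp hdj
    rw [ha] at this
    exact hne this.symm
  have heven : Even (orderOf (q : ZMod r)) := by
    rw [← Nat.not_odd_iff_even]
    intro hodd
    have hco : Nat.Coprime (orderOf (q : ZMod r)) 2 := Nat.coprime_two_right.mpr hodd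
    exact hnd (hco.dvd_of_dvd_mul_left hd)
  obtain ⟨e, he⟩ := heven
  have he' : orderOf (q : ZMod r) = 2 * e := by rw [he]; ring
  have hej : e ∣ j := by
    rw [he'] at hd
    exact (Nat.mul_dvd_mul_iff_left (by norm_num)).mp hd
  exact ⟨e, Odd.of_dvd_nat hj hej, hej, he'⟩

/-- `2 ≠ 0` in a field of odd square order. -/
theorem two_ne_zero_of_odd (hF : Fintype.card F = q ^ 2) (hqodd : Odd q) : (2 : F) ≠ 0 := by
  intro h
  have h1 : ((2 : ℕ) : F) = 0 := by exact_mod_cast h
  obtain ⟨p, hp⟩ := CharP.exists F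
  haveI := hp
  have hdvd : p ∣ 2 := (CharP.cast_eq_zero_iff F p 2).mp h1
  haveI : Fact p.Prime := ⟨CharP.char_is_prime F p⟩
  have hp2 : p = 2 := (Nat.prime_dvd_prime_iff_eq (Fact.out) Nat.prime_two).mp hdvd
  obtain ⟨a, -, ha⟩ := FiniteField.card F p
  rw [hF, hp2] at ha
  have hev : Even (q ^ 2) := by
    rw [ha]
    exact (Nat.even_pow.mpr ⟨even_two, a.pos.ne'⟩)
  have := (Nat.even_pow.mp hev).1
  exact (Nat.not_even_iff_odd.mpr hqodd) this

end Cfsg.Agent.Helper59.Polar
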