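import Mathlib
import Cfsg.Agent.Helper59.PolarF

/-! # Conjugating an element preserving a Lagrangian pair into the stabiliser of a given pair -/

set_option autoImplicit false

namespace Cfsg.Agent.Helper59.Polar

open Matrix Cfsg.Agent.Helper13 Cfsg.Agent.S0837

variable {F : Type*} [Field F] [Fintype F] {q n : ℕ}

local notation "⟪" x ", " y "⟫" => Cfsg.hermForm n F q x y
local notation "Matn" => Matrix (Fin n) (Fin n) F

/-- an element preserving some Lagrangian pair is conjugate in `SU_n(q)` into the stabiliser of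
any given one. -/
theorem conj_mem_decompStab (hF : Fintype.card F = q ^ 2) {k : ℕ} (hk : 1 ≤ k)
    (D : Fin 2 → Submodule F (Fin n → F)) (hfin : ∀ i, Module.finrank F (D i) = k)
    (hL : LagPair q (D 0) (D 1) k) (x : GL (Fin n) F) {U W : Submodule F (Fin n → F)}
    (hLUW : LagPair q U W k) (hP : Pres (x : Matn) U W) :
    ∃ g ∈ Cfsg.GU n F q ⊓ Cfsg.Geo.specialLinear (Fin n) F,
      g⁻¹ * x * g ∈ Cfsg.Geo.decompositionStabilizer D := by
  obtain ⟨g, hgK, hgA, hgB⟩ := exists_SU_map_pair hF hk hL hLUW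
  refine ⟨g, hgK, ?_⟩
  have hmapA := map_toLin'_eq_of_maps_into_fin g (by rw [hL.finA, hLUW.finA]) hgA
  have hmapB := map_toLin'_eq_of_maps_into_fin g (by rw [hL.finB, hLUW.finB]) hgB
  have hbackA : ∀ u ∈ U, ((g⁻¹ : GL (Fin n) F) : Matn) *ᵥ u ∈ D 0 := by
    intro u hu
    rw [← hmapA] at hu
    obtain ⟨d, hd, rfl⟩ := hu
    rw [Matrix.toLin'_apply, glU_inv_mulVec]
    exact hd
  have hbackB : ∀ u ∈ W, ((g⁻¹ : GL (Fin n) F) : Matn) *ᵥ u ∈ D 1 := by
    intro u hu
    rw [← hmapB] at hu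
    obtain ⟨d, hd, rfl⟩ := hu
    rw [Matrix.toLin'_apply, glU_inv_mulVec]
    exact hd
  have hval : ∀ d : Fin n → F, ((g⁻¹ * x * g : GL (Fin n) F) : Matn) *ᵥ d =
      ((g⁻¹ : GL (Fin n) F) : Matn) *ᵥ ((x : Matn) *ᵥ ((g : Matn) *ᵥ d)) := by
    intro d
    rw [Units.val_mul, Units.val_mul, Matrix.mulVec_mulVec, Matrix.mulVec_mulVec]
  refine mem_decompStab_two_fin (k := k) hfin (g⁻¹ * x * g) 1 ?_
  intro i d hd
  fin_cases i
  · rw [hval]
    exact hbackA _ (hP.1 _ (hgA d hd))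
  · rw [hval]
    exact hbackB _ (hP.2 _ (hgB d hd))

end Cfsg.Agent.Helper59.Polar
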