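import Mathlib
import Cfsg.Agent.Helper32.PGroup
import Cfsg.Agent.Helper63.PGroup

/-!
# A locally-`P` derangement for a `p`-group with two orbits of size `p²` (library for S3557)

`P` a finite `p`-group acting on `Ω` with two orbits `O₁`, `O₂` of size `p²`, `z` a central element
of order `p` fixing `O₁` pointwise and fixed-point-free on `O₂`.  Then some permutation `σ` of
order `p` without fixed points agrees on every pair of points with an element of `P`.
-/

set_option autoImplicit false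

namespace Cfsg.Agent.Helper59.PolyTwo

open MulAction

theorem exists_local_derangement {H Ω : Type*} [Group H] [Finite H] [MulAction H Ω] {p : ℕ}
    [Fact p.Prime] (hH : IsPGroup p H) (a₀ b₀ : Ω)
    (hcover : ∀ ω, ω ∈ orbit H a₀ ∨ ω ∈ orbit H b₀)
    (h1 : (orbit H a₀).ncard = p ^ 2) (h2 : (orbit H b₀).ncard = p ^ 2)
    (z : H) (hzc : ∀ g : H, g * z = z * g) (hzp : z ^ p = 1)
    (hz1 : ∀ a ∈ orbit H a₀, z • a = a) (hz2 : ∀ b ∈ orbit H b₀, z • b ≠ b) :
    ∃ σ : Equiv.Perm Ω, σ ^ p = 1 ∧ (∀ ω, σ ω ≠ ω) ∧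
      ∀ a b : Ω, ∃ g : H, σ a = g • a ∧ σ b = g • b := by
  classical
  have hp : p.Prime := Fact.out
  have hzpc : ∀ (g : H) (i : ℕ), g * z ^ i = z ^ i * g := fun g i =>
    ((Commute.pow_right (hzc g) i : Commute g (z ^ i))).eq
  have hzpow1 : ∀ (i : ℕ), ∀ a ∈ orbit H a₀, (z ^ i) • a = a := by
    intro i
    induction i with
    | zero => intro a _; simp
    | succ i ih => intro a ha; rw [pow_succ, mul_smul, hz1 a ha, ih a ha]
  have hmem1 : ∀ (g : H) (ω : Ω), g • ω ∈ orbit H a₀ ↔ ω ∈ orbit H a₀ := by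
    intro g ω
    constructor
    · intro h
      have := mem_orbit_of_mem_orbit g⁻¹ h
      rwa [inv_smul_smul] at this
    · exact mem_orbit_of_mem_orbit g
  have hmem2 : ∀ (g : H) (ω : Ω), g • ω ∈ orbit H b₀ ↔ ω ∈ orbit H b₀ := by
    intro g ω
    constructor
    · intro h
      have := mem_orbit_of_mem_orbit g⁻¹ h
      rwa [inv_smul_smul] at this
    · exact mem_orbit_of_mem_orbit g
  -- the stabilizer of the block of `b₀`
  let S : Subgroup H :=
    { carrier := {g | ∃ i : ℕ, g • b₀ = z ^ i • b₀}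
      one_mem' := ⟨0, by simp⟩
      mul_mem' := by
        rintro g h ⟨i, hi⟩ ⟨j, hj⟩
        refine ⟨j + i, ?_⟩
        rw [mul_smul, hj, ← mul_smul, hzpc, mul_smul, hi, ← mul_smul, ← pow_add]
      inv_mem' := by
        rintro g ⟨i, hi⟩
        refine ⟨(p - 1) * i, ?_⟩
        have e1 : z ^ ((p - 1) * i) * z ^ i = 1 := by
          rw [← pow_add]
          have : (p - 1) * i + i = p * i := by
            have := hp.one_lt
            calc (p - 1) * i + i = (p - 1 + 1) * i := by ring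
              _ = p * i := by rw [Nat.sub_add_cancel (le_of_lt this)]
          rw [this, pow_mul, hzp, one_pow]
        have e2 : g⁻¹ • (z ^ i • b₀) = b₀ := by rw [← hi, inv_smul_smul]
        rw [← mul_smul, hzpc, mul_smul] at e2
        calc g⁻¹ • b₀ = (z ^ ((p - 1) * i) * z ^ i) • (g⁻¹ • b₀) := by rw [e1, one_smul]
          _ = z ^ ((p - 1) * i) • (z ^ i • (g⁻¹ • b₀)) := by rw [mul_smul]
          _ = z ^ ((p - 1) * i) • b₀ := by rw [e2] }
  have hS : ∀ g : H, g ∈ S ↔ ∃ i : ℕ, g • b₀ = z ^ i • b₀ := fun g => Iff.rfl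
  have hT : (stabilizer H b₀).index = p ^ 2 := by rw [index_stabilizer]; exact h2
  have hT1 : (stabilizer H a₀).index = p ^ 2 := by rw [index_stabilizer]; exact h1
  have hTS : stabilizer H b₀ ≤ S := by
    intro g hg
    rw [mem_stabilizer_iff] at hg
    exact ⟨0, by rw [hg]; simp⟩
  have hzS : z ∈ S := ⟨1, by simp⟩
  have hzT : z ∉ stabilizer H b₀ := by
    rw [mem_stabilizer_iff]
    exact hz2 b₀ (mem_orbit_self b₀)
  have hSne : S ≠ ⊤ := by
    intro htop
    have hsub : orbit H b₀ ⊆ Set.range (fun i : Fin p => z ^ (i : ℕ) • b₀) := by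
      rintro c ⟨g, rfl⟩
      have hg : g ∈ S := by rw [htop]; trivial
      obtain ⟨i, hi⟩ := hg
      refine ⟨⟨i % p, Nat.mod_lt _ hp.pos⟩, ?_⟩
      show z ^ (i % p) • b₀ = g • b₀
      rw [hi]
      conv_rhs => rw [← Nat.div_add_mod i p, pow_add, pow_mul, hzp, one_pow, one_mul]
    have hle := Set.ncard_le_ncard hsub (Set.finite_range _)
    have hle2 : (Set.range (fun i : Fin p => z ^ (i : ℕ) • b₀)).ncard ≤ p := by
      have := Set.ncard_image_le (f := fun i : Fin p => z ^ (i : ℕ) • b₀) (s := Set.univ)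
        Set.finite_univ
      rw [Set.image_univ, Set.ncard_univ, Nat.card_fin] at this
      exact this
    rw [h2] at hle
    have : p < p ^ 2 := by
      rw [pow_two]
      exact lt_mul_self hp.one_lt
    omega
  have hSidx : S.index = p := by
    have hrel := Subgroup.relIndex_mul_index hTS
    rw [hT] at hrel
    have hdvd : S.index ∣ p ^ 2 := Dvd.intro_left _ hrel
    obtain ⟨k, hk2, hk⟩ := (Nat.dvd_prime_pow hp).mp hdvd
    have hk0 : k ≠ 0 := by
      rintro rfl
      rw [pow_zero] at hk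
      exact hSne (Subgroup.index_eq_one.mp hk)
    have hk2' : k ≠ 2 := by
      rintro rfl
      rw [hk] at hrel
      have hp2 : 0 < p ^ 2 := pow_pos hp.pos 2
      have hrel1 : (stabilizer H b₀).relIndex S = 1 := by
        have : (stabilizer H b₀).relIndex S * p ^ 2 = 1 * p ^ 2 := by rw [hrel, one_mul]
        exact Nat.eq_of_mul_eq_mul_right hp2 this
      exact hzT (Subgroup.relIndex_eq_one.mp hrel1 hzS)
    have : k = 1 := by omega
    rw [hk, this, pow_one]
  haveI hSn : S.Normal := Cfsg.Agent.Helper63.normal_of_index_eq_prime hH S hSidx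
  -- elements of `S` preserve every `z`-orbit in `O₂`
  have hF3 : ∀ s ∈ S, ∀ c ∈ orbit H b₀, ∃ i : ℕ, s • c = z ^ i • c := by
    rintro s hs c ⟨g, rfl⟩
    have hconj : g⁻¹ * s * g ∈ S := by
      have := hSn.conj_mem s hs g⁻¹
      rwa [inv_inv] at this
    obtain ⟨i, hi⟩ := hconj
    refine ⟨i, ?_⟩
    have : s • g • b₀ = g • ((g⁻¹ * s * g) • b₀) := by
      simp only [← mul_smul]
      congr 1
      group
    show s • g • b₀ = z ^ i • g • b₀
    rw [this, hi, ← mul_smul, hzpc, mul_smul]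
  -- `S` moves `a₀`
  have hy₀ : ∃ y₀ ∈ S, y₀ • a₀ ≠ a₀ := by
    by_contra hcon
    push Not at hcon
    have hle : S ≤ stabilizer H a₀ := fun g hg => mem_stabilizer_iff.mpr (hcon g hg)
    have := Subgroup.index_dvd_of_le hle
    rw [hT1, hSidx] at this
    have h2 := Nat.le_of_dvd hp.pos this
    have : p < p ^ 2 := by
      rw [pow_two]
      exact lt_mul_self hp.one_lt
    omega
  obtain ⟨y₀, hy₀S, hy₀a⟩ := hy₀
  -- the action on `O₁`
  let ρ : H →* Equiv.Perm (orbit H a₀) := MulAction.toPermHom H (orbit H a₀)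
  have hρ : ∀ (g : H) (a : orbit H a₀), ((ρ g) a : Ω) = g • (a : Ω) := fun g a => rfl
  haveI : Finite ρ.range := Finite.of_surjective ρ.rangeRestrict ρ.rangeRestrict_surjective
  have hQ : IsPGroup p ρ.range := hH.of_surjective ρ.rangeRestrict ρ.rangeRestrict_surjective
  haveI hNn : (S.map ρ.rangeRestrict).Normal := hSn.map ρ.rangeRestrict ρ.rangeRestrict_surjective
  have hNne : S.map ρ.rangeRestrict ≠ ⊥ := by
    intro hbot
    have hmem : ρ.rangeRestrict y₀ ∈ S.map ρ.rangeRestrict := Subgroup.mem_map_of_mem _ hy₀S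
    rw [hbot, Subgroup.mem_bot] at hmem
    have h1' : ρ y₀ = 1 := by
      have := congrArg Subtype.val hmem
      simpa using this
    apply hy₀a
    have := hρ y₀ ⟨a₀, mem_orbit_self a₀⟩
    rw [h1'] at this
    simpa using this.symm
  obtain ⟨x, hxN, hx1, hxc⟩ := Cfsg.Agent.Helper32.exists_mem_center_of_normal hQ _ hNne
  obtain ⟨k, hk⟩ := (IsPGroup.iff_orderOf.mp hQ) x
  have hk0 : k ≠ 0 := by
    rintro rfl
    rw [pow_zero, orderOf_eq_one_iff] at hk
    exact hx1 hk
  set x' := x ^ (p ^ (k - 1)) with hx'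
  have hx'ord : orderOf x' = p := by
    rw [hx', orderOf_pow_of_dvd (pow_ne_zero _ hp.ne_zero)
      (by rw [hk]; exact pow_dvd_pow p (Nat.sub_le k 1)), hk]
    have : k = (k - 1) + 1 := by omega
    conv_lhs => rw [this, pow_succ]
    exact Nat.mul_div_cancel_left p (pow_pos hp.pos _)
  have hx'N : x' ∈ S.map ρ.rangeRestrict := Subgroup.pow_mem _ hxN _
  have hx'c : x' ∈ Subgroup.center ρ.range := Subgroup.pow_mem _ hxc _
  obtain ⟨y, hyS, hyx⟩ := Subgroup.mem_map.mp hx'N
  have hyρ : (x' : Equiv.Perm (orbit H a₀)) = ρ y := by rw [← hyx]; rfl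
  -- properties of `y`
  have hycomm : ∀ (g : H), ∀ a ∈ orbit H a₀, y • g • a = g • y • a := by
    intro g a ha
    have hc := (Subgroup.mem_center_iff.mp hx'c) (ρ.rangeRestrict g)
    have hc' : ρ g * ρ y = ρ y * ρ g := by
      have := congrArg Subtype.val hc
      simpa [hyρ] using this
    have := congrArg (fun f : Equiv.Perm (orbit H a₀) => ((f ⟨a, ha⟩ : orbit H a₀) : Ω)) hc'
    simp only [Equiv.Perm.mul_apply, hρ] at this
    exact this.symm
  have hypow : ∀ a ∈ orbit H a₀, (y ^ p) • a = a := by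
    intro a ha
    have h1' : x' ^ p = 1 := by rw [← hx'ord]; exact pow_orderOf_eq_one x'
    have h2' : ρ (y ^ p) = 1 := by
      rw [map_pow, ← hyρ]
      have := congrArg Subtype.val h1'
      simpa using this
    have := hρ (y ^ p) ⟨a, ha⟩
    rw [h2'] at this
    simpa using this.symm
  have hyne : ∀ a ∈ orbit H a₀, y • a ≠ a := by
    have hex : ∃ a' ∈ orbit H a₀, y • a' ≠ a' := by
      by_contra hcon
      push Not at hcon
      have : x' = 1 := by
        apply Subtype.ext
        rw [hyρ]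
        ext a
        rw [hρ]
        exact hcon a a.2
      rw [this, orderOf_one] at hx'ord
      exact hp.one_lt.ne hx'ord
    obtain ⟨a', ha', hne⟩ := hex
    intro a ha h
    obtain ⟨g, rfl⟩ : ∃ g : H, g • a' = a := by
      have h3 : a ∈ orbit H a' := by
        rw [orbit_eq_iff.mpr ha']
        exact ha
      exact h3
    apply hne
    rw [hycomm g a' ha'] at h
    exact smul_left_cancel g h
  -- the permutation
  let σ : Equiv.Perm Ω :=
    { toFun := fun ω => if ω ∈ orbit H a₀ then y • ω else z • ω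
      invFun := fun ω => if ω ∈ orbit H a₀ then y⁻¹ • ω else z⁻¹ • ω
      left_inv := by
        intro ω
        by_cases hω : ω ∈ orbit H a₀
        · simp only [hω, if_true, (hmem1 y ω).mpr hω, inv_smul_smul]
        · have : z • ω ∉ orbit H a₀ := fun h => hω ((hmem1 z ω).mp h)
          simp only [hω, if_false, this, inv_smul_smul]
      right_inv := by
        intro ω
        by_cases hω : ω ∈ orbit H a₀
        · simp only [hω, if_true, (hmem1 y⁻¹ ω).mpr hω, smul_inv_smul]
        · have : z⁻¹ • ω ∉ orbit H a₀ := fun h => hω ((hmem1 z⁻¹ ω).mp h)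
          simp only [hω, if_false, this, smul_inv_smul] }
  have hσ1 : ∀ ω ∈ orbit H a₀, σ ω = y • ω := by
    intro ω hω
    show (if ω ∈ orbit H a₀ then y • ω else z • ω) = y • ω
    rw [if_pos hω]
  have hσ2 : ∀ ω, ω ∉ orbit H a₀ → σ ω = z • ω := by
    intro ω hω
    show (if ω ∈ orbit H a₀ then y • ω else z • ω) = z • ω
    rw [if_neg hω]
  have hσpow1 : ∀ (i : ℕ), ∀ ω ∈ orbit H a₀, (σ ^ i) ω = (y ^ i) • ω := by
    intro i
    induction i with
    | zero => intro ω _; simp
    | succ i ih =>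
      intro ω hω
      rw [pow_succ', Equiv.Perm.mul_apply, ih ω hω, hσ1 _ ((hmem1 _ ω).mpr hω), pow_succ',
        mul_smul]
  have hσpow2 : ∀ (i : ℕ), ∀ ω, ω ∉ orbit H a₀ → (σ ^ i) ω = (z ^ i) • ω := by
    intro i
    induction i with
    | zero => intro ω _; simp
    | succ i ih =>
      intro ω hω
      have : z ^ i • ω ∉ orbit H a₀ := fun h => hω ((hmem1 _ ω).mp h)
      rw [pow_succ', Equiv.Perm.mul_apply, ih ω hω, hσ2 _ this, pow_succ', mul_smul]
  have hnot1 : ∀ ω, ω ∉ orbit H a₀ → ω ∈ orbit H b₀ := fun ω hω => (hcover ω).resolve_left hω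
  refine ⟨σ, ?_, ?_, ?_⟩
  · ext ω
    rw [Equiv.Perm.one_apply]
    by_cases hω : ω ∈ orbit H a₀
    · rw [hσpow1 p ω hω, hypow ω hω]
    · rw [hσpow2 p ω hω, hzp, one_smul]
  · intro ω
    by_cases hω : ω ∈ orbit H a₀
    · rw [hσ1 ω hω]; exact hyne ω hω
    · rw [hσ2 ω hω]; exact hz2 ω (hnot1 ω hω)
  · -- the mixed pairs
    have hmixed : ∀ a ∈ orbit H a₀, ∀ b, b ∉ orbit H a₀ → ∃ g : H, y • a = g • a ∧ z • b = g • b := by
      intro a ha b hb
      have hb2 := hnot1 b hb
      have hzb : z • b ∈ orbit H b₀ := (hmem2 z b).mpr hb2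
      obtain ⟨i, hi⟩ := hF3 y⁻¹ (S.inv_mem hyS) (z • b) hzb
      refine ⟨y * z ^ (i + 1), ?_, ?_⟩
      · rw [mul_smul, hzpow1 (i + 1) a ha]
      · rw [mul_smul, pow_succ, mul_smul, ← hi, smul_inv_smul]
    intro a b
    by_cases ha : a ∈ orbit H a₀
    · by_cases hb : b ∈ orbit H a₀
      · exact ⟨y, hσ1 a ha, hσ1 b hb⟩
      · rw [hσ1 a ha, hσ2 b hb]
        exact hmixed a ha b hb
    · by_cases hb : b ∈ orbit H a₀
      · rw [hσ2 a ha, hσ1 b hb]
        obtain ⟨g, h1', h2'⟩ := hmixed b hb a ha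
        exact ⟨g, h2', h1'⟩
      · exact ⟨z, hσ2 a ha, hσ2 b hb⟩

end Cfsg.Agent.Helper59.PolyTwo
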