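import Mathlib
import Cfsg.Agent.Helper99.QSpDefs
import Cfsg.Agent.Helper99.QSpEllDefs

/-! (MF2) of helper99's S5990 engine (`εV = -1`, `ε = -1`): pure arithmetic, `Crit` at the maximal
admissible number of blocks gives the right hand side. -/

set_option autoImplicit false

namespace Cfsg.Agent.Helper59.QSpM

open Cfsg.Agent.Helper99.QSp

/-- the right hand side of S5990 for even `i` (copy of `Helper99.QSpMSkel.EvenRHSMM`) -/
def EvenRHSMM (i c d m : ℕ) : Prop :=
  ((2 * d) % c = 0 ∧ (Even ((2 * d) / i) ∨ (m % c = 0 ∧ Odd (m / i)))) ∨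
    (0 < (2 * d) % c ∧ i ≤ m ∧ ((0 < m % c ∧ m % c < (2 * d) % c) ∨ (m % c = 0 ∧ Odd (m / i)) ∨
      (m % c = (2 * d) % c ∧ Even ((2 * d + m - 2 * ((2 * d) % c)) / i))))

theorem divmod_unique_mf {a b q r : ℕ} (hb : 0 < b) (h : a = q * b + r) (hr : r < b) :
    a / b = q ∧ a % b = r := by
  rw [Nat.div_mod_unique hb]
  exact ⟨by rw [h]; ring, hr⟩

/-- (MF2), odd `i`. -/
theorem rhs_of_crit_mm_odd {i c d e : ℕ} (hi : Odd i) (hc : c = 2 * i) (he : 1 ≤ e)
    (hed : e + 1 ≤ d) (hstar : StarEllM i d e)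
    (hcrit : (2 * d) / c * c ≠ 2 * d → Crit i c d e ((2 * d) / c) (-1) (-1)) :
    (2 * d) % c = 0 ∨ (c ≤ 2 * e ∧ 0 < (2 * e) % c ∧ (2 * e) % c ≤ (2 * d) % c) := by
  unfold StarEllM at hstar
  subst hc
  have hi0 : 0 < i := hi.pos
  have hc0 : 0 < 2 * i := by omega
  have hbs : ∀ j, bsign i j = 1 := fun j => by
    unfold bsign; rw [if_neg (Nat.not_even_iff_odd.2 hi)]
  have hcop : Nat.Coprime i 2 := Nat.coprime_two_right.2 hi
  obtain ⟨B, hBdef⟩ : ∃ B, (2 * d) / (2 * i) = B := ⟨_, rfl⟩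
  obtain ⟨k0, hk0def⟩ : ∃ k0, (2 * d) % (2 * i) = k0 := ⟨_, rfl⟩
  have hn : B * (2 * i) + k0 = 2 * d := by
    rw [← hBdef, ← hk0def]; exact Nat.div_add_mod' (2 * d) (2 * i)
  have hk0 : k0 < 2 * i := by rw [← hk0def]; exact Nat.mod_lt _ hc0
  rw [hBdef] at hcrit
  rw [hk0def]
  by_cases hk00 : k0 = 0
  · left; exact hk00
  right
  obtain ⟨b', hb'B, hb'm, hcase⟩ := hcrit (by omega)
  have key : 0 < (2 * e) % (2 * i) ∧ (2 * e) % (2 * i) ≤ k0 ∧ (2 * e) / (2 * i) = b' := by
    rcases hcase with ⟨h1, h2⟩ | ⟨h1, h2⟩ | ⟨h1, h2, _⟩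
    · exfalso; rw [hbs] at h2; omega
    · have := divmod_unique_mf hc0
        (show 2 * e = b' * (2 * i) + (2 * e - b' * (2 * i)) by omega) (by omega)
      omega
    · have := divmod_unique_mf hc0
        (show 2 * e = b' * (2 * i) + (2 * e - b' * (2 * i)) by omega) (by omega)
      omega
  refine ⟨?_, key.1, key.2.1⟩
  by_contra hlt
  push Not at hlt
  have hl : (2 * e) % (2 * i) = 2 * e := Nat.mod_eq_of_lt hlt
  rcases hstar with ⟨h1, h2⟩ | ⟨h1, h2⟩ | ⟨j, hj1, hj2, hj3⟩
  · exact h2 (hcop.dvd_of_dvd_mul_left h1)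
  · exact h2 (hcop.dvd_of_dvd_mul_left h1)
  · have hij : i ∣ j := hcop.dvd_of_dvd_mul_left hj3
    obtain ⟨t, ht⟩ := hij
    have h2 : 2 * d = t * (2 * i) + 2 * (d - j) := by
      have h3 : t * (2 * i) = 2 * (i * t) := by ring
      rw [h3, ← ht]; omega
    have := divmod_unique_mf hc0 h2 (by omega)
    omega

/-- (MF2), even `i`. -/
theorem rhs_of_crit_mm_even {i c d e : ℕ} (hi : Even i) (hi0 : 0 < i) (hc : c = i) (he : 1 ≤ e)
    (hed : e + 1 ≤ d) (hstar : StarEllM i d e)
    (hcrit1 : ((2 * d) / c * c = 2 * d → bsign i ((2 * d) / c) = -1) →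
      Crit i c d e ((2 * d) / c) (-1) (-1))
    (hcrit2 : ((2 * d) / c * c = 2 * d ∧ bsign i ((2 * d) / c) = 1) →
      Crit i c d e ((2 * d) / c - 1) (-1) (-1)) :
    EvenRHSMM i c d (2 * e) := by
  unfold StarEllM at hstar
  unfold EvenRHSMM
  subst hc
  have hbs : ∀ j, bsign c j = (-1) ^ j := fun j => by unfold bsign; rw [if_pos hi]
  obtain ⟨B, hBdef⟩ : ∃ B, (2 * d) / c = B := ⟨_, rfl⟩
  obtain ⟨k0, hk0def⟩ : ∃ k0, (2 * d) % c = k0 := ⟨_, rfl⟩
  have hn : B * c + k0 = 2 * d := by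
    rw [← hBdef, ← hk0def]; exact Nat.div_add_mod' (2 * d) c
  have hk0 : k0 < c := by rw [← hk0def]; exact Nat.mod_lt _ hi0
  obtain ⟨M, hMdef⟩ : ∃ M, (2 * e) / c = M := ⟨_, rfl⟩
  obtain ⟨l0, hl0def⟩ : ∃ l0, (2 * e) % c = l0 := ⟨_, rfl⟩
  have hm : M * c + l0 = 2 * e := by
    rw [← hMdef, ← hl0def]; exact Nat.div_add_mod' (2 * e) c
  have hl0 : l0 < c := by rw [← hl0def]; exact Nat.mod_lt _ hi0
  rw [hBdef] at hcrit1
  rw [hBdef, hk0def, hMdef, hl0def]
  by_cases hk00 : k0 = 0
  · -- `c ∣ 2 d`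
    left
    refine ⟨hk00, ?_⟩
    rcases Nat.even_or_odd B with hB | hB
    · exact Or.inl hB
    · right
      have hadm : B * c = 2 * d → bsign c B = -1 := fun _ => by
        rw [hbs]; exact hB.neg_one_pow
      obtain ⟨b', hb'B, hb'm, hcase⟩ := hcrit1 hadm
      rcases hcase with ⟨h1, h2⟩ | ⟨h1, h2⟩ | ⟨h1, h2, _⟩
      · have := divmod_unique_mf hi0 (show 2 * e = b' * c + 0 by omega) hi0
        rw [hMdef, hl0def] at this
        refine ⟨this.2, ?_⟩
        rw [this.1]
        rw [hbs] at h2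
        by_contra hodd
        rw [Nat.not_odd_iff_even] at hodd
        rw [hodd.neg_one_pow] at h2
        norm_num at h2
      · exfalso; omega
      · exfalso; omega
  · right
    have hk0pos : 0 < k0 := Nat.pos_of_ne_zero hk00
    refine ⟨hk0pos, ?_⟩
    obtain ⟨b', hb'B, hb'm, hcase⟩ := hcrit1 (fun h => by omega)
    -- the small case `2 e < c` contradicts the star
    have hsmall : 2 * e < c → l0 = 2 * e → (l0 < k0 ∨ (l0 = k0 ∧ Even B)) → False := by
      intro hlt hl2e hor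
      rcases hstar with ⟨h1, h2⟩ | ⟨h1, h2⟩ | ⟨j, hj1, hj2, hj3⟩
      · obtain ⟨t, ht⟩ := h1
        have := divmod_unique_mf hi0 (show 2 * d = t * c + 0 by rw [ht]; ring) hi0
        rw [hk0def] at this
        omega
      · obtain ⟨t, ht⟩ := h1
        have h3 : 2 * d = t * c + 2 * e := by
          have : t * c = c * t := by ring
          rw [this, ← ht]; omega
        have h4 := divmod_unique_mf hi0 h3 hlt
        rw [hBdef, hk0def] at h4
        rcases hor with h | ⟨_, hB⟩
        · omega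
        · apply h2
          obtain ⟨B', hB'⟩ := hB
          refine ⟨B', ?_⟩
          have h5 : t * c = 2 * (c * B') := by rw [← h4.1, hB']; ring
          omega
      · obtain ⟨t, ht⟩ := hj3
        have h3 : 2 * d = t * c + 2 * (d - j) := by
          have : t * c = c * t := by ring
          rw [this, ← ht]; omega
        have h4 := divmod_unique_mf hi0 h3 (by omega)
        rw [hk0def] at h4
        rcases hor with h | ⟨h, _⟩ <;> omega
    rcases hcase with ⟨h1, h2⟩ | ⟨h1, h2⟩ | ⟨h1, h2, h3⟩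
    · have := divmod_unique_mf hi0 (show 2 * e = b' * c + 0 by omega) hi0
      rw [hMdef, hl0def] at this
      have hMo : Odd M := by
        rw [this.1]
        rw [hbs] at h2
        by_contra hodd
        rw [Nat.not_odd_iff_even] at hodd
        rw [hodd.neg_one_pow] at h2
        norm_num at h2
      refine ⟨?_, Or.inr (Or.inl ⟨this.2, hMo⟩)⟩
      have h1M : 1 ≤ M := hMo.pos
      nlinarith
    · have := divmod_unique_mf hi0
        (show 2 * e = b' * c + (2 * e - b' * c) by omega) (by omega)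
      rw [hMdef, hl0def] at this
      refine ⟨?_, Or.inl ⟨by omega, by omega⟩⟩
      by_contra hlt
      push Not at hlt
      have hM0 : M = 0 := by
        rcases Nat.eq_zero_or_pos M with h | h
        · exact h
        · exfalso; nlinarith
      exact hsmall hlt (by rw [hM0] at hm; omega) (Or.inl (by omega))
    · have := divmod_unique_mf hi0
        (show 2 * e = b' * c + (2 * e - b' * c) by omega) (by omega)
      rw [hMdef, hl0def] at this
      have hpar : Even (M + B) := by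
        rw [hbs, hbs] at h3
        have h4 : ((-1 : ℤ)) ^ b' * (-1 * (-1) ^ B) = -((-1) ^ (b' + B)) := by
          rw [pow_add]; ring
        rw [h4] at h3
        have h5 : ((-1 : ℤ)) ^ (b' + B) = 1 := by linarith
        rw [this.1]
        exact (neg_one_pow_eq_one_iff_even (by norm_num)).1 h5
      have hlk : l0 = k0 := by omega
      refine ⟨?_, Or.inr (Or.inr ⟨hlk, ?_⟩)⟩
      · by_contra hlt
        push Not at hlt
        have hM0 : M = 0 := by
          rcases Nat.eq_zero_or_pos M with h | h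
          · exact h
          · exfalso; nlinarith
        refine hsmall hlt (by rw [hM0] at hm; omega) (Or.inr ⟨hlk, ?_⟩)
        rw [hM0, zero_add] at hpar
        exact hpar
      · have h5 : 2 * d + 2 * e - 2 * k0 = (B + M) * c := by
          rw [add_mul]; omega
        rw [h5, Nat.mul_div_cancel _ hi0, add_comm]
        exact hpar

end Cfsg.Agent.Helper59.QSpM
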