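import Mathlib
import Cfsg.Agent.Helper59.InvChain

set_option autoImplicit false

/-! Operators `T` with `T^2 = w` (`w` a non-square) on a finite-dimensional space: the space is a
direct sum of `T`-planes `⟨v, T v⟩`; any two such operators are conjugate. -/

namespace Cfsg.Agent.Helper59.Quad

open Module Polynomial
open Cfsg.Agent.Helper59.InvChain

variable {F : Type*} [Field F]

/-- the block `(t₀, t₁) ↦ (w t₁, t₀)`. -/
def blk (w : F) : (Fin 2 → F) →ₗ[F] (Fin 2 → F) where
  toFun t := ![w * t 1, t 0]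
  map_add' a b := by
    ext i; fin_cases i <;> simp [mul_add]
  map_smul' c a := by
    ext i; fin_cases i <;> simp [mul_left_comm]

@[simp] theorem blk_apply_zero (w : F) (t : Fin 2 → F) : blk w t 0 = w * t 1 := rfl
@[simp] theorem blk_apply_one (w : F) (t : Fin 2 → F) : blk w t 1 = t 0 := rfl

/-- the block-diagonal map on `m` blocks. -/
def Blk (w : F) (m : ℕ) : (Fin m → Fin 2 → F) →ₗ[F] (Fin m → Fin 2 → F) :=
  LinearMap.pi (fun j => blk w ∘ₗ LinearMap.proj j)

@[simp] theorem Blk_apply (w : F) (m : ℕ) (t : Fin m → Fin 2 → F) (j : Fin m) :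
    Blk w m t j = blk w (t j) := rfl

variable {V : Type*} [AddCommGroup V] [Module F V]

/-- `T` satisfies `T^2 = w`. -/
def IsQuad (w : F) (T : V →ₗ[F] V) : Prop := ∀ v, T (T v) = w • v

theorem norm_ne_zero {w : F} (hw : ∀ b : F, b ^ 2 ≠ w) (a b : F) (hab : a ≠ 0 ∨ b ≠ 0) :
    a ^ 2 - w * b ^ 2 ≠ 0 := by
  intro h
  by_cases hb : b = 0
  · subst hb
    rcases hab with ha | hb'
    · apply ha
      simpa using h
    · exact hb' rfl
  · apply hw (a / b)
    rw [div_pow]
    field_simp
    linear_combination h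

/-- if `(a + b T) v` lies in a `T`-invariant subspace, so does `v`. -/
theorem mem_of_comb_mem {w : F} (hw : ∀ b : F, b ^ 2 ≠ w) {T : V →ₗ[F] V} (hT : IsQuad w T)
    (U : Submodule F V) (hU : ∀ u ∈ U, T u ∈ U) (a b : F) (hab : a ≠ 0 ∨ b ≠ 0) (v : V)
    (hv : a • v + b • T v ∈ U) : v ∈ U := by
  have h1 : a • (a • v + b • T v) - b • T (a • v + b • T v) ∈ U :=
    U.sub_mem (U.smul_mem _ hv) (U.smul_mem _ (hU _ hv))
  have h2 : a • (a • v + b • T v) - b • T (a • v + b • T v) = (a ^ 2 - w * b ^ 2) • v := by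
    rw [map_add, map_smul, map_smul, hT v]
    module
  rw [h2] at h1
  have h3 := U.smul_mem (a ^ 2 - w * b ^ 2)⁻¹ h1
  rwa [smul_smul, inv_mul_cancel₀ (norm_ne_zero hw a b hab), one_smul] at h3

/-- extension of an equivariant map by one more plane. -/
def extend (T : V →ₗ[F] V) {k : ℕ} (E : (Fin k → Fin 2 → F) →ₗ[F] V) (v : V) :
    (Fin (k + 1) → Fin 2 → F) →ₗ[F] V where
  toFun t := t 0 0 • v + t 0 1 • T v + E (fun j => t j.succ)
  map_add' s t := by
    have : (fun j : Fin k => (s + t) j.succ) = (fun j => s j.succ) + (fun j => t j.succ) := rfl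
    rw [this, map_add]
    simp only [Pi.add_apply]
    module
  map_smul' c t := by
    have : (fun j : Fin k => (c • t) j.succ) = c • (fun j => t j.succ) := rfl
    rw [this, map_smul]
    simp only [Pi.smul_apply, smul_eq_mul, RingHom.id_apply]
    module

theorem extend_apply (T : V →ₗ[F] V) {k : ℕ} (E : (Fin k → Fin 2 → F) →ₗ[F] V) (v : V)
    (t : Fin (k + 1) → Fin 2 → F) :
    extend T E v t = t 0 0 • v + t 0 1 • T v + E (fun j => t j.succ) := rfl

variable [FiniteDimensional F V]

/-- injective equivariant maps from `k` blocks exist as long as `2k ≤ dim V`. -/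
theorem exists_equivariant {w : F} (hw : ∀ b : F, b ^ 2 ≠ w) {T : V →ₗ[F] V} (hT : IsQuad w T) :
    ∀ k : ℕ, 2 * k ≤ finrank F V → ∃ E : (Fin k → Fin 2 → F) →ₗ[F] V,
      Function.Injective E ∧ ∀ t, T (E t) = E (Blk w k t) := by
  intro k
  induction k with
  | zero =>
    intro _
    refine ⟨0, ?_, ?_⟩
    · intro a b _
      exact Subsingleton.elim _ _
    · intro t
      simp
  | succ k ih =>
    intro hk
    obtain ⟨E, hEinj, hEeq⟩ := ih (by omega)
    have hrange : finrank F ↥(LinearMap.range E) = 2 * k := by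
      rw [LinearMap.finrank_range_of_inj hEinj, Module.finrank_pi_fintype]
      simp [mul_comm]
    have hne : LinearMap.range E ≠ ⊤ := by
      intro h
      rw [h, finrank_top] at hrange
      omega
    obtain ⟨v, hv⟩ : ∃ v, v ∉ LinearMap.range E := by
      by_contra hcon
      push Not at hcon
      exact hne (eq_top_iff.mpr (fun x _ => hcon x))
    have hinv : ∀ u ∈ LinearMap.range E, T u ∈ LinearMap.range E := by
      rintro _ ⟨t, rfl⟩
      exact ⟨_, (hEeq t).symm⟩
    refine ⟨extend T E v, ?_, ?_⟩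
    · rw [← LinearMap.ker_eq_bot, Submodule.eq_bot_iff]
      intro t ht
      rw [LinearMap.mem_ker, extend_apply] at ht
      have h0 : t 0 0 = 0 ∧ t 0 1 = 0 := by
        by_contra hcon
        have hab : t 0 0 ≠ 0 ∨ t 0 1 ≠ 0 := by
          by_contra h2
          push Not at h2
          exact hcon h2
        apply hv
        apply mem_of_comb_mem hw hT _ hinv (t 0 0) (t 0 1) hab v
        have : t 0 0 • v + t 0 1 • T v = - E (fun j => t j.succ) := eq_neg_of_add_eq_zero_left ht
        rw [this]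
        exact Submodule.neg_mem _ ⟨_, rfl⟩
      rw [h0.1, h0.2, zero_smul, zero_smul, zero_add, zero_add] at ht
      have h1 : (fun j : Fin k => t j.succ) = 0 := by
        apply hEinj
        rw [ht, map_zero]
      funext j i
      refine Fin.cases ?_ (fun j' => ?_) j
      · fin_cases i
        · exact h0.1
        · exact h0.2
      · exact congrFun (congrFun h1 j') i
    · intro t
      rw [extend_apply, extend_apply, map_add, map_add, map_smul, map_smul, hT v, hEeq]
      have : (fun j : Fin k => Blk w (k + 1) t j.succ) = Blk w k (fun j => t j.succ) := rfl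
      rw [this]
      simp only [Blk_apply, blk_apply_zero, blk_apply_one]
      module

/-- **the plane decomposition.** -/
theorem exists_pairIso {w : F} (hw : ∀ b : F, b ^ 2 ≠ w) {T : V →ₗ[F] V} (hT : IsQuad w T) :
    ∃ (m : ℕ) (E : (Fin m → Fin 2 → F) ≃ₗ[F] V), finrank F V = 2 * m ∧
      ∀ t, T (E t) = E (Blk w m t) := by
  have hirr : Irreducible (X ^ 2 - C w : F[X]) :=
    X_pow_sub_C_irreducible_of_prime Nat.prime_two hw
  have hdeg : (X ^ 2 - C w : F[X]).natDegree = 2 := natDegree_X_pow_sub_C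
  have hP : HP (X ^ 2 - C w : F[X]) 2 := by
    refine ⟨hirr.ne_zero, ?_⟩
    intro Q hQ hdvd
    have hassoc : Associated Q (X ^ 2 - C w : F[X]) :=
      (hQ.associated_of_dvd hirr hdvd)
    rw [natDegree_eq_of_degree_eq (degree_eq_degree_of_associated hassoc), hdeg]
  have hdvd : 2 ∣ finrank F ↥(⊤ : Submodule F V) :=
    dvd_finrank_of_inv T _ 2 (by norm_num) hP ⊤ (inv_top T) (by
      intro u _
      rw [map_sub, map_pow, aeval_X, aeval_C, LinearMap.sub_apply, pow_two, Module.End.mul_apply,
        hT u, Module.algebraMap_end_apply, sub_self])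
  rw [finrank_top] at hdvd
  obtain ⟨m, hm⟩ := hdvd
  obtain ⟨E, hEinj, hEeq⟩ := exists_equivariant hw hT m (by omega)
  have hfr : finrank F (Fin m → Fin 2 → F) = finrank F V := by
    rw [Module.finrank_pi_fintype, hm]
    simp [mul_comm]
  have hbij : Function.Bijective E :=
    ⟨hEinj, (LinearMap.injective_iff_surjective_of_finrank_eq_finrank hfr).mp hEinj⟩
  exact ⟨m, LinearEquiv.ofBijective E hbij, hm, hEeq⟩

/-- two operators with square `w` are conjugate. -/
theorem exists_conj_quad {w : F} (hw : ∀ b : F, b ^ 2 ≠ w) {T T' : V →ₗ[F] V} (hT : IsQuad w T)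
    (hT' : IsQuad w T') : ∃ P : V ≃ₗ[F] V, ∀ v, P (T v) = T' (P v) := by
  obtain ⟨m, E, hm, hE⟩ := exists_pairIso hw hT
  obtain ⟨m', E', hm', hE'⟩ := exists_pairIso hw hT'
  have : m = m' := by omega
  subst this
  refine ⟨E.symm.trans E', ?_⟩
  intro v
  obtain ⟨t, rfl⟩ := E.surjective v
  rw [hE, LinearEquiv.trans_apply, LinearEquiv.trans_apply, E.symm_apply_apply,
    E.symm_apply_apply, hE']

end Cfsg.Agent.Helper59.Quad
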