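import Mathlib
import Cfsg.Agent.Helper59.QuadA

set_option autoImplicit false

/-! Operators with `T^2 = w` (`w` a non-square) over a finite field of odd order: the centraliser
of `T` contains elements of every non-zero determinant. -/

namespace Cfsg.Agent.Helper59.Quad

open Module Polynomial

variable {F : Type*} [Field F]

/-- multiplication by `a + b θ` on a plane. -/
def kap (w a b : F) : (Fin 2 → F) →ₗ[F] (Fin 2 → F) where
  toFun t := ![a * t 0 + w * b * t 1, b * t 0 + a * t 1]
  map_add' s t := by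
    ext i; fin_cases i <;> simp <;> ring
  map_smul' c t := by
    ext i; fin_cases i <;> simp <;> ring

@[simp] theorem kap_apply_zero (w a b : F) (t : Fin 2 → F) :
    kap w a b t 0 = a * t 0 + w * b * t 1 := rfl
@[simp] theorem kap_apply_one (w a b : F) (t : Fin 2 → F) :
    kap w a b t 1 = b * t 0 + a * t 1 := rfl

theorem kap_blk (w a b : F) (t : Fin 2 → F) : kap w a b (blk w t) = blk w (kap w a b t) := by
  ext i
  fin_cases i
  · show a * (blk w t 0) + w * b * (blk w t 1) = w * (kap w a b t 1)
    simp only [blk_apply_zero, blk_apply_one, kap_apply_one]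
    ring
  · show b * (blk w t 0) + a * (blk w t 1) = kap w a b t 0
    simp only [blk_apply_zero, blk_apply_one, kap_apply_zero]
    ring

theorem det_kap (w a b : F) : LinearMap.det (kap w a b) = a ^ 2 - w * b ^ 2 := by
  rw [← LinearMap.det_toMatrix', Matrix.det_fin_two]
  simp only [LinearMap.toMatrix'_apply]
  simp [kap]
  ring

variable {V : Type*} [AddCommGroup V] [Module F V] [FiniteDimensional F V]

theorem exists_norm_eq [Fintype F] (hodd : Fintype.card F % 2 = 1) (w : F) (hw0 : w ≠ 0) (δ : F) :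
    ∃ a b : F, a ^ 2 - w * b ^ 2 = δ := by
  have hf : (X ^ 2 : F[X]).degree = 2 := by
    rw [degree_X_pow]; rfl
  have hg : (C (-w) * X ^ 2 - C δ : F[X]).degree = 2 := by
    have h1 : (C (-w) * X ^ 2 : F[X]).degree = 2 := by
      rw [degree_C_mul_X_pow 2 (neg_ne_zero.mpr hw0)]; rfl
    rw [degree_sub_eq_left_of_degree_lt]
    · exact h1
    · rw [h1]
      exact lt_of_le_of_lt degree_C_le (by norm_num)
  obtain ⟨a, b, hab⟩ := FiniteField.exists_root_sum_quadratic hf hg hodd
  refine ⟨a, b, ?_⟩
  simp only [eval_pow, eval_X, eval_sub, eval_mul, eval_C] at hab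
  linear_combination hab

/-- the centraliser of `T` contains an element of determinant `δ`. -/
theorem exists_centralizer_det [Fintype F] (hodd : Fintype.card F % 2 = 1) {w : F}
    (hw : ∀ b : F, b ^ 2 ≠ w) {T : V →ₗ[F] V} (hT : IsQuad w T) (hV : 0 < finrank F V) (δ : F) :
    ∃ h : V →ₗ[F] V, LinearMap.det h = δ ∧ ∀ v, h (T v) = T (h v) := by
  classical
  obtain ⟨m, E, hm, hE⟩ := exists_pairIso hw hT
  have hm0 : 0 < m := by omega
  have hw0 : w ≠ 0 := by
    intro h
    apply hw 0
    rw [h]; ring
  obtain ⟨a, b, hab⟩ := exists_norm_eq hodd w hw0 δ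
  let j0 : Fin m := ⟨0, hm0⟩
  let f : Fin m → ((Fin 2 → F) →ₗ[F] (Fin 2 → F)) :=
    fun j => if j = j0 then kap w a b else LinearMap.id
  let D0 : (Fin m → Fin 2 → F) →ₗ[F] (Fin m → Fin 2 → F) :=
    LinearMap.pi (fun j => (f j).comp (LinearMap.proj j))
  have hD0 : ∀ t j, D0 t j = f j (t j) := fun t j => rfl
  have hdet0 : LinearMap.det D0 = δ := by
    show LinearMap.det (LinearMap.pi (fun j => (f j).comp (LinearMap.proj j))) = δ
    rw [LinearMap.det_pi]
    rw [Finset.prod_eq_single j0]
    · simp only [f, if_true]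
      rw [det_kap, hab]
    · intro j _ hj
      simp only [f, if_neg hj]
      exact LinearMap.det_id
    · intro h
      exact absurd (Finset.mem_univ _) h
  have hcomm0 : ∀ t, D0 (Blk w m t) = Blk w m (D0 t) := by
    intro t
    funext j
    rw [hD0, Blk_apply, Blk_apply, hD0]
    by_cases hj : j = j0
    · simp only [f, if_pos hj]
      exact kap_blk w a b (t j)
    · simp only [f, if_neg hj]
      rfl
  refine ⟨(E : _ →ₗ[F] V) ∘ₗ D0 ∘ₗ (E.symm : V →ₗ[F] _), ?_, ?_⟩
  · rw [LinearMap.det_conj, hdet0]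
  · intro v
    obtain ⟨t, rfl⟩ := E.surjective v
    simp only [LinearMap.comp_apply, LinearEquiv.coe_coe]
    rw [hE, E.symm_apply_apply, E.symm_apply_apply, hcomm0, hE]

end Cfsg.Agent.Helper59.Quad
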