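import Mathlib
import Cfsg.Prelude.Def_GeometricClasses
import Cfsg.Agent.Helper59.FieldSubA

set_option autoImplicit false

/-! Quadratic field subalgebras of the `n × n` matrices. -/

namespace Cfsg.Agent.Helper59.Quad

open Module Matrix Polynomial
open Cfsg.Geo Cfsg.Agent.Helper59.FieldSub

variable {F : Type*} [Field F] {n : ℕ} {K : Subalgebra F (Matrix (Fin n) (Fin n) F)}

theorem exists_nonscalar_two (hK : IsFieldSubalgebra 2 K) :
    ∃ k0 : ↥K, ∀ c : F, k0 ≠ algebraMap F ↥K c := by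
  by_contra h
  push Not at h
  have h1 : finrank F ↥K ≤ 1 := by
    apply finrank_le_one (1 : ↥K)
    intro k
    obtain ⟨c, hc⟩ := h k
    exact ⟨c, by rw [hc, Algebra.algebraMap_eq_smul_one]⟩
  rw [hK.finrank_eq] at h1
  omega

/-- every element of `K` is `a + b k0`. -/
theorem exists_repr (hK : IsFieldSubalgebra 2 K) (k0 : ↥K)
    (hk0 : ∀ c : F, k0 ≠ algebraMap F ↥K c) (k : ↥K) :
    ∃ a b : F, k = a • (1 : ↥K) + b • k0 := by
  haveI := FieldSub.isDomain hK (by norm_num)
  haveI := FieldSub.finiteDimensional hK (by norm_num)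
  have hli : LinearIndependent F ![(1 : ↥K), k0] := by
    rw [LinearIndependent.pair_iff]
    intro a b hab
    have hb : b = 0 := by
      by_contra hb
      apply hk0 (-(a / b))
      have h1 : b • k0 = -(a • (1 : ↥K)) := eq_neg_of_add_eq_zero_right hab
      have h2 : k0 = b⁻¹ • (b • k0) := by rw [smul_smul, inv_mul_cancel₀ hb, one_smul]
      rw [h2, h1, Algebra.algebraMap_eq_smul_one, smul_neg, smul_smul, neg_smul]
      congr 2
      field_simp
    refine ⟨?_, hb⟩
    rw [hb, zero_smul, add_zero] at hab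
    rcases smul_eq_zero.mp hab with h | h
    · exact h
    · exact absurd h one_ne_zero
  let B := basisOfLinearIndependentOfCardEqFinrank hli (by rw [Fintype.card_fin, hK.finrank_eq])
  have hB : ∀ i, B i = ![(1 : ↥K), k0] i := fun i => by
    rw [coe_basisOfLinearIndependentOfCardEqFinrank]
  refine ⟨B.repr k 0, B.repr k 1, ?_⟩
  have := B.sum_repr k
  rw [Fin.sum_univ_two, hB 0, hB 1] at this
  exact this.symm

/-- in odd characteristic `K = F(θ)` with `θ^2 = w` a non-square. -/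
theorem exists_theta (hK : IsFieldSubalgebra 2 K) (h2 : (2 : F) ≠ 0) :
    ∃ θ : Matrix (Fin n) (Fin n) F, θ ∈ K ∧ ∃ w : F, θ * θ = w • (1 : Matrix (Fin n) (Fin n) F) ∧
      (∀ b : F, b ^ 2 ≠ w) ∧ (∀ c : F, θ ≠ c • (1 : Matrix (Fin n) (Fin n) F)) ∧
      ∀ k ∈ K, ∃ a b : F, k = a • (1 : Matrix (Fin n) (Fin n) F) + b • θ := by
  haveI := FieldSub.isDomain hK (by norm_num)
  obtain ⟨k0, hk0⟩ := exists_nonscalar_two hK
  obtain ⟨β, α, hsq⟩ := exists_repr hK k0 hk0 (k0 * k0)
  -- `k0^2 = β + α k0`; put `θ = k0 - α/2`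
  obtain ⟨h, hα⟩ : ∃ h : F, α = 2 * h := ⟨α / 2, by field_simp⟩
  subst hα
  let θ' : ↥K := k0 - h • (1 : ↥K)
  let w : F := β + h ^ 2
  have hθsq : θ' * θ' = w • (1 : ↥K) := by
    show (k0 - h • (1 : ↥K)) * (k0 - h • (1 : ↥K)) = (β + h ^ 2) • (1 : ↥K)
    rw [sub_mul, mul_sub, mul_sub, hsq]
    simp only [smul_mul_assoc, mul_smul_comm, one_mul, mul_one, smul_smul]
    module
  have hθns : ∀ c : F, θ' ≠ algebraMap F ↥K c := by
    intro c hc
    apply hk0 (c + h)
    have : k0 = θ' + h • (1 : ↥K) := by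
      show k0 = k0 - h • (1 : ↥K) + h • (1 : ↥K)
      rw [sub_add_cancel]
    rw [this, hc, map_add, Algebra.algebraMap_eq_smul_one h]
  have hw : ∀ b : F, b ^ 2 ≠ w := by
    intro b hb
    have h1 : (θ' - b • (1 : ↥K)) * (θ' + b • (1 : ↥K)) = 0 := by
      rw [sub_mul, mul_add, mul_add, hθsq, ← hb]
      simp only [smul_mul_assoc, mul_smul_comm, one_mul, mul_one, smul_smul]
      rw [pow_two]
      module
    rcases mul_eq_zero.mp h1 with h | h
    · apply hθns b
      rw [Algebra.algebraMap_eq_smul_one]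
      exact sub_eq_zero.mp h
    · apply hθns (-b)
      rw [Algebra.algebraMap_eq_smul_one, neg_smul]
      exact eq_neg_of_add_eq_zero_left h
  refine ⟨θ'.1, θ'.2, w, ?_, hw, ?_, ?_⟩
  · have := congrArg Subtype.val hθsq
    exact this
  · intro c hc
    apply hθns c
    apply Subtype.ext
    rw [hc, Algebra.algebraMap_eq_smul_one]
    rfl
  · intro k hk
    obtain ⟨a, b, hab⟩ := exists_repr hK θ' hθns ⟨k, hk⟩
    refine ⟨a, b, ?_⟩
    have := congrArg Subtype.val hab
    exact this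

end Cfsg.Agent.Helper59.Quad
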