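import Mathlib
import Cfsg.Prelude.Def_GeometricClasses
import Cfsg.Agent.Helper59.InvChain
import Cfsg.Agent.Helper59.ElusiveConstr
import Cfsg.Agent.Helper59.FieldSubA
import Cfsg.Agent.Helper59.QuadC

set_option autoImplicit false

/-! Normaliser of a quadratic field subalgebra: eigenspaces are even-dimensional or small. -/

namespace Cfsg.Agent.Helper59.Quad

open Module Matrix Polynomial
open Cfsg.Geo Cfsg.Agent.Helper59.FieldSub Cfsg.Agent.Helper59.InvChain Cfsg.Agent.Helper59.Elusive

variable {F : Type*} [Field F] {n : ℕ} {K : Subalgebra F (Matrix (Fin n) (Fin n) F)}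

theorem even_or_small (hK : IsFieldSubalgebra 2 K) (y : GL (Fin n) F)
    (hy : y ∈ subalgebraNormalizer K) (c : F) (hc : c ≠ 0) :
    Even (finrank F (LinearMap.ker (Matrix.toLin' y.1 - c • (1 : (Fin n → F) →ₗ[F] _)))) ∨
      2 * finrank F (LinearMap.ker (Matrix.toLin' y.1 - c • (1 : (Fin n → F) →ₗ[F] _))) ≤ n := by
  haveI := FieldSub.isDomain hK (by norm_num)
  haveI := FieldSub.finiteDimensional hK (by norm_num)
  set W := LinearMap.ker (Matrix.toLin' y.1 - c • (1 : (Fin n → F) →ₗ[F] _)) with hW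
  have hmem : ∀ v : Fin n → F, v ∈ W ↔ y.1 *ᵥ v = c • v := by
    intro v
    rw [hW, LinearMap.mem_ker, LinearMap.sub_apply, Matrix.toLin'_apply, LinearMap.smul_apply,
      Module.End.one_apply, sub_eq_zero]
  obtain ⟨k0, hk0⟩ := exists_nonscalar_two hK
  have hyinv : (y⁻¹ : GL (Fin n) F).1 * y.1 = 1 := by
    rw [← Units.val_mul, inv_mul_cancel, Units.val_one]
  have hθ' : y.1 * k0.1 * (y⁻¹ : GL (Fin n) F).1 ∈ K := (hy k0.1).mp k0.2
  by_cases hcomm : y.1 * k0.1 * (y⁻¹ : GL (Fin n) F).1 = k0.1
  · left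
    have hyk : y.1 * k0.1 = k0.1 * y.1 := by
      have : y.1 * k0.1 * (y⁻¹ : GL (Fin n) F).1 * y.1 = k0.1 * y.1 := by rw [hcomm]
      rwa [Matrix.mul_assoc, hyinv, mul_one] at this
    have hinv : Inv (Matrix.toLin' k0.1) W := by
      rw [inv_iff]
      intro u hu
      rw [hmem] at hu ⊢
      rw [Matrix.toLin'_apply, Matrix.mulVec_mulVec, hyk, ← Matrix.mulVec_mulVec, hu,
        Matrix.mulVec_smul]
    have hint : IsIntegral F k0 := IsIntegral.of_finite F k0
    have hirr : Irreducible (minpoly F k0) := minpoly.irreducible hint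
    have hdeg : (minpoly F k0).natDegree = 2 := by
      have h1 : (minpoly F k0).natDegree ≤ 2 := by
        have := minpoly.natDegree_le (A := F) k0
        rwa [hK.finrank_eq] at this
      have h2 : (minpoly F k0).natDegree ≠ 1 := by
        intro h
        obtain ⟨c', hc'⟩ := (minpoly.natDegree_eq_one_iff).mp h
        exact hk0 c' hc'.symm
      have h3 : 0 < (minpoly F k0).natDegree := hirr.natDegree_pos
      omega
    have hP : HP (minpoly F k0) 2 := by
      have := HP_of_irreducible _ hirr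
      rwa [hdeg] at this
    have := dvd_finrank_of_inv (Matrix.toLin' k0.1) (minpoly F k0) 2 (by norm_num) hP W hinv
      (fun u _ => by rw [aeval_toLin'_minpoly]; rfl)
    exact (even_iff_two_dvd).mpr this
  · right
    set d : Matrix (Fin n) (Fin n) F := y.1 * k0.1 * (y⁻¹ : GL (Fin n) F).1 - k0.1 with hd
    have hdK : d ∈ K := K.sub_mem hθ' k0.2
    have hd0 : d ≠ 0 := fun h => hcomm (sub_eq_zero.mp h)
    have hkinj : Function.Injective (Matrix.toLin' k0.1) := by
      rw [← LinearMap.ker_eq_bot, Submodule.eq_bot_iff]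
      intro v hv
      rw [LinearMap.mem_ker, Matrix.toLin'_apply] at hv
      by_contra hv0
      have hk00 := eq_zero_of_mulVec_eq_zero hK k0.2 hv0 hv
      apply hk0 0
      apply Subtype.ext
      rw [hk00, map_zero]
      rfl
    have hdisj : Disjoint W (W.map (Matrix.toLin' k0.1)) := by
      rw [Submodule.disjoint_def]
      intro u huW hu
      obtain ⟨v, hvW, rfl⟩ := hu
      have hvW' : v ∈ W := hvW
      rw [hmem] at huW hvW'
      rw [Matrix.toLin'_apply] at huW ⊢
      -- `d v = 0`
      have h1 : (y.1 * k0.1 * (y⁻¹ : GL (Fin n) F).1) *ᵥ (y.1 *ᵥ v) = y.1 *ᵥ (k0.1 *ᵥ v) := by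
        rw [Matrix.mulVec_mulVec, Matrix.mul_assoc, hyinv, mul_one, Matrix.mulVec_mulVec]
      rw [hvW', Matrix.mulVec_smul, huW] at h1
      have h2 : d *ᵥ v = 0 := by
        rw [hd, Matrix.sub_mulVec]
        have := congrArg (fun u => c⁻¹ • u) h1
        simp only [smul_smul, inv_mul_cancel₀ hc, one_smul] at this
        rw [this, sub_self]
      have hv0 : v = 0 := by
        by_contra hv0
        exact hd0 (eq_zero_of_mulVec_eq_zero hK hdK hv0 h2)
      rw [hv0, Matrix.mulVec_zero]
    have h3 := Submodule.finrank_add_finrank_le_of_disjoint hdisj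
    have h4 : finrank F ↥(W.map (Matrix.toLin' k0.1)) = finrank F ↥W :=
      (Submodule.equivMapOfInjective _ hkinj W).finrank_eq.symm
    rw [h4, Module.finrank_fin_fun] at h3
    omega

end Cfsg.Agent.Helper59.Quad
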