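import Mathlib
import Cfsg.Prelude.Def_GeometricClasses
import Cfsg.Agent.Helper59.QuadD

set_option autoImplicit false

/-! Elements with an eigenspace of codimension one are not conjugate into the normaliser of a
quadratic field subalgebra (for `n ≥ 4`). -/

namespace Cfsg.Agent.Helper59.Quad

open Module Matrix Polynomial
open Cfsg.Geo

variable {F : Type*} [Field F] {n : ℕ} {K : Subalgebra F (Matrix (Fin n) (Fin n) F)}

theorem finrank_ker_proj (j : Fin n) :
    finrank F (LinearMap.ker (LinearMap.proj j : (Fin n → F) →ₗ[F] F)) = n - 1 := by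
  have h1 := LinearMap.finrank_range_add_finrank_ker (LinearMap.proj j : (Fin n → F) →ₗ[F] F)
  have h2 : LinearMap.range (LinearMap.proj j : (Fin n → F) →ₗ[F] F) = ⊤ := by
    rw [LinearMap.range_eq_top]
    intro a
    exact ⟨fun _ => a, rfl⟩
  rw [h2, finrank_top, Module.finrank_self, Module.finrank_fin_fun] at h1
  omega

theorem finrank_ker_rank_one (c a : F) (ha : a ≠ 0) (i j : Fin n)
    (M : Matrix (Fin n) (Fin n) F) (hM : M = c • 1 + Matrix.single i j a) :
    finrank F (LinearMap.ker (Matrix.toLin' M - c • (1 : (Fin n → F) →ₗ[F] _))) = n - 1 := by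
  have : LinearMap.ker (Matrix.toLin' M - c • (1 : (Fin n → F) →ₗ[F] _))
      = LinearMap.ker (LinearMap.proj j : (Fin n → F) →ₗ[F] F) := by
    ext v
    rw [LinearMap.mem_ker, LinearMap.mem_ker, LinearMap.sub_apply, Matrix.toLin'_apply,
      LinearMap.smul_apply, Module.End.one_apply, hM, Matrix.add_mulVec, Matrix.smul_mulVec,
      Matrix.one_mulVec, add_sub_cancel_left, Matrix.single_mulVec, LinearMap.proj_apply]
    constructor
    · intro h
      have := congrFun h i
      simp only [Function.update_self, Pi.zero_apply] at this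
      rcases mul_eq_zero.mp this with h1 | h1
      · exact absurd h1 ha
      · exact h1
    · intro h
      rw [h, mul_zero]
      simp
  rw [this, finrank_ker_proj]

/-- conjugation preserves the dimension of eigenspaces. -/
theorem finrank_ker_conj (x P P' : Matrix (Fin n) (Fin n) F) (hPP' : P * P' = 1)
    (hP'P : P' * P = 1) (c : F) :
    finrank F (LinearMap.ker (Matrix.toLin' (P' * x * P) - c • (1 : (Fin n → F) →ₗ[F] _)))
      = finrank F (LinearMap.ker (Matrix.toLin' x - c • (1 : (Fin n → F) →ₗ[F] _))) := by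
  let e := Matrix.toLin'OfInv hPP' hP'P
  have he : ∀ v, e v = P' *ᵥ v := fun v => by
    show Matrix.toLin' P' v = _
    rw [Matrix.toLin'_apply]
  have hmem : ∀ (M : Matrix (Fin n) (Fin n) F) (v : Fin n → F),
      v ∈ LinearMap.ker (Matrix.toLin' M - c • (1 : (Fin n → F) →ₗ[F] _)) ↔ M *ᵥ v = c • v := by
    intro M v
    rw [LinearMap.mem_ker, LinearMap.sub_apply, Matrix.toLin'_apply, LinearMap.smul_apply,
      Module.End.one_apply, sub_eq_zero]
  have : LinearMap.ker (Matrix.toLin' (P' * x * P) - c • (1 : (Fin n → F) →ₗ[F] _))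
      = (LinearMap.ker (Matrix.toLin' x - c • (1 : (Fin n → F) →ₗ[F] _))).map
        (e : (Fin n → F) →ₗ[F] (Fin n → F)) := by
    ext u
    rw [hmem, Submodule.mem_map]
    constructor
    · intro hu
      refine ⟨P *ᵥ u, ?_, ?_⟩
      · rw [hmem]
        have h1 : P *ᵥ ((P' * x * P) *ᵥ u) = x *ᵥ (P *ᵥ u) := by
          rw [Matrix.mulVec_mulVec, Matrix.mulVec_mulVec, ← Matrix.mul_assoc, ← Matrix.mul_assoc,
            hPP', one_mul]
        rw [← h1, hu, Matrix.mulVec_smul]
      · rw [LinearEquiv.coe_coe, he, Matrix.mulVec_mulVec, hP'P, Matrix.one_mulVec]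
    · rintro ⟨v, hv, rfl⟩
      rw [hmem] at hv
      rw [LinearEquiv.coe_coe, he, Matrix.mulVec_mulVec, Matrix.mul_assoc, Matrix.mul_assoc, hPP',
        mul_one, ← Matrix.mulVec_mulVec, hv, Matrix.mulVec_smul]
  rw [this, LinearEquiv.finrank_map_eq]

theorem not_conj_of_rank_one (hK : IsFieldSubalgebra 2 K) (hn4 : 4 ≤ n) (heven : Even n)
    (x : Matrix.SpecialLinearGroup (Fin n) F) (c a : F) (hc : c ≠ 0) (ha : a ≠ 0) (i j : Fin n)
    (hx : x.1 = c • 1 + Matrix.single i j a) (P : Matrix.SpecialLinearGroup (Fin n) F) :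
    P⁻¹ * x * P ∉ ((subalgebraNormalizer K).comap
        (Matrix.SpecialLinearGroup.toGL : Matrix.SpecialLinearGroup (Fin n) F →* GL (Fin n) F)) := by
  intro hmem
  rw [Subgroup.mem_comap] at hmem
  have hyval : ((Matrix.SpecialLinearGroup.toGL (P⁻¹ * x * P) : GL (Fin n) F) :
      Matrix (Fin n) (Fin n) F) = (P⁻¹).1 * x.1 * P.1 := rfl
  have hPinv : (P⁻¹).1 * P.1 = 1 := by
    rw [← Matrix.SpecialLinearGroup.coe_mul, inv_mul_cancel, Matrix.SpecialLinearGroup.coe_one]
  have hPinv' : P.1 * (P⁻¹).1 = 1 := by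
    rw [← Matrix.SpecialLinearGroup.coe_mul, mul_inv_cancel, Matrix.SpecialLinearGroup.coe_one]
  have h1 := even_or_small hK _ hmem c hc
  rw [hyval, finrank_ker_conj x.1 P.1 (P⁻¹).1 hPinv' hPinv c,
    finrank_ker_rank_one c a ha i j x.1 hx] at h1
  rcases h1 with h | h
  · obtain ⟨t, ht⟩ := heven
    obtain ⟨s, hs⟩ := h
    omega
  · omega

end Cfsg.Agent.Helper59.Quad
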