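import Mathlib
import Cfsg.Prelude.Def_GeometricClasses
import Cfsg.Agent.Helper59.QuadE
import Cfsg.Agent.Helper59.FieldSubL

set_option autoImplicit false

/-! Involutions of `PSL_n(q)` not conjugate into the normaliser of a quadratic field
subalgebra. -/

namespace Cfsg.Agent.Helper59.Quad

open Module Matrix Polynomial
open Cfsg.Geo

variable {F : Type*} [Field F] {n : ℕ} {K : Subalgebra F (Matrix (Fin n) (Fin n) F)}

/-- every element of `SL_n` with scalar square, not scalar, is `SL_n`-conjugate into the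
normaliser of `K`. -/
def InvProp (F : Type*) [Field F] (n : ℕ) (K : Subalgebra F (Matrix (Fin n) (Fin n) F)) : Prop :=
  ∀ x : Matrix.SpecialLinearGroup (Fin n) F,
    (∃ z : F, ((x ^ 2 : Matrix.SpecialLinearGroup (Fin n) F) : Matrix (Fin n) (Fin n) F)
      = z • (1 : Matrix (Fin n) (Fin n) F)) →
    (∀ z : F, (x : Matrix (Fin n) (Fin n) F) ≠ z • (1 : Matrix (Fin n) (Fin n) F)) →
    ∃ P : Matrix.SpecialLinearGroup (Fin n) F, P⁻¹ * x * P ∈
      ((subalgebraNormalizer K).comap
        (Matrix.SpecialLinearGroup.toGL : Matrix.SpecialLinearGroup (Fin n) F →* GL (Fin n) F))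

/-- characteristic two, `n ≥ 4`: transvections. -/
theorem not_invProp_of_char_two (hK : IsFieldSubalgebra 2 K) (hn4 : 4 ≤ n) (heven : Even n)
    (h2 : (2 : F) = 0) : ¬ InvProp F n K := by
  intro H
  let i0 : Fin n := ⟨0, by omega⟩
  let i1 : Fin n := ⟨1, by omega⟩
  have h01 : i0 ≠ i1 := by
    intro h
    have := congrArg Fin.val h
    simp [i0, i1] at this
  let x : Matrix.SpecialLinearGroup (Fin n) F :=
    ⟨Matrix.transvection i0 i1 1, Matrix.det_transvection_of_ne i0 i1 h01 1⟩
  have hx : x.1 = Matrix.transvection i0 i1 1 := rfl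
  have hx2 : ((x ^ 2 : Matrix.SpecialLinearGroup (Fin n) F) : Matrix (Fin n) (Fin n) F)
      = (1 : F) • (1 : Matrix (Fin n) (Fin n) F) := by
    rw [Matrix.SpecialLinearGroup.coe_pow, hx, pow_two,
      Matrix.transvection_mul_transvection_same i0 i1 h01,
      show (1 : F) + 1 = 2 by norm_num, h2, Matrix.transvection_zero, one_smul]
  have hentry : x.1 i0 i1 = 1 := by
    rw [hx, Matrix.transvection]
    simp [h01]
  have hns : ∀ z : F, x.1 ≠ z • (1 : Matrix (Fin n) (Fin n) F) := by
    intro z hz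
    have := congrFun (congrFun hz i0) i1
    rw [hentry] at this
    simp [h01] at this
  obtain ⟨P, hP⟩ := H x ⟨1, hx2⟩ hns
  exact not_conj_of_rank_one hK hn4 heven x 1 1 one_ne_zero one_ne_zero i0 i1
    (by rw [hx, Matrix.transvection, one_smul]) P hP

/-- odd characteristic, `n ≥ 4`, `c^n = -1`: the element `c · diag(-1, 1, …, 1)`. -/
theorem not_invProp_of_pow_eq_neg_one (hK : IsFieldSubalgebra 2 K) (hn4 : 4 ≤ n) (heven : Even n)
    (h2 : (2 : F) ≠ 0) (c : F) (hc : c ^ n = -1) : ¬ InvProp F n K := by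
  classical
  intro H
  have hc0 : c ≠ 0 := by
    rintro rfl
    rw [zero_pow (by omega)] at hc
    have : (1 : F) = 0 := by
      have := congrArg (fun t => -t) hc
      simpa using this.symm
    exact one_ne_zero this
  let i0 : Fin n := ⟨0, by omega⟩
  let i1 : Fin n := ⟨1, by omega⟩
  have h01 : i0 ≠ i1 := by
    intro h
    have := congrArg Fin.val h
    simp [i0, i1] at this
  let d : Fin n → F := Function.update (fun _ => c) i0 (-c)
  have hdet : (Matrix.diagonal d).det = 1 := by
    rw [Matrix.det_diagonal, Finset.prod_update_of_mem (Finset.mem_univ i0), Finset.prod_const,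
      Finset.card_sdiff_of_subset (Finset.subset_univ _), Finset.card_univ, Fintype.card_fin,
      Finset.card_singleton]
    have : c ^ n = c ^ (n - 1) * c := by
      rw [← pow_succ]
      congr 1
      omega
    rw [neg_mul, mul_comm, ← this, hc, neg_neg]
  let x : Matrix.SpecialLinearGroup (Fin n) F := ⟨Matrix.diagonal d, hdet⟩
  have hx : x.1 = Matrix.diagonal d := rfl
  have hx2 : ((x ^ 2 : Matrix.SpecialLinearGroup (Fin n) F) : Matrix (Fin n) (Fin n) F)
      = (c ^ 2) • (1 : Matrix (Fin n) (Fin n) F) := by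
    rw [Matrix.SpecialLinearGroup.coe_pow, hx, Matrix.diagonal_pow, ← Matrix.diagonal_one,
      ← Matrix.diagonal_smul]
    congr 1
    funext j
    by_cases hj : j = i0
    · subst hj
      simp [d]
    · simp [d, Function.update_of_ne hj]
  have hform : x.1 = c • 1 + Matrix.single i0 i0 (-(2 * c)) := by
    rw [hx]
    ext a b
    by_cases hab : a = b
    · subst hab
      by_cases ha : a = i0
      · subst ha
        simp [d]
        ring
      · simp [d, Function.update_of_ne ha, Matrix.single, ha]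
        intro h
        exact absurd h.symm ha
    · simp [Matrix.diagonal_apply_ne _ hab, Matrix.one_apply_ne hab, Matrix.single, hab]
      intro h1 h2
      exact absurd (h1.symm.trans h2) hab
  have hns : ∀ z : F, x.1 ≠ z • (1 : Matrix (Fin n) (Fin n) F) := by
    intro z hz
    have e0 := congrFun (congrFun hz i0) i0
    have e1 := congrFun (congrFun hz i1) i1
    rw [hx] at e0 e1
    simp [d, Function.update_of_ne h01.symm] at e0 e1
    have : (2 : F) * c = 0 := by
      have : -c = c := e0.trans e1.symm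
      linear_combination -this
    rcases mul_eq_zero.mp this with h | h
    · exact h2 h
    · exact hc0 h
  obtain ⟨P, hP⟩ := H x ⟨c ^ 2, hx2⟩ hns
  exact not_conj_of_rank_one hK hn4 heven x c (-(2 * c)) hc0
    (neg_ne_zero.mpr (mul_ne_zero h2 hc0)) i0 i0 hform P hP

/-- if `v_2(n) < v_2(q - 1)` then `-1` is an `n`-th power. -/
theorem exists_pow_eq_neg_one [Fintype F] (h2 : (2 : F) ≠ 0) (hn : 0 < n)
    (hlt : padicValNat 2 n < padicValNat 2 (Fintype.card F - 1)) : ∃ c : F, c ^ n = -1 := by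
  set a := padicValNat 2 n with ha
  have hq1 : Fintype.card F - 1 ≠ 0 := by
    have : 1 < Fintype.card F := Fintype.one_lt_card
    omega
  have hdvd : 2 ^ (a + 1) ∣ Fintype.card F - 1 := by
    rw [padicValNat_dvd_iff_le hq1]
    omega
  obtain ⟨t, ht⟩ := FieldSub.exists_orderOf_eq (F := F) (2 ^ (a + 1)) hdvd
  have hn' : 2 ^ a ∣ n := pow_padicValNat_dvd
  obtain ⟨n', hn'eq⟩ := hn'
  have hn'odd : Odd n' := by
    rw [← Nat.not_even_iff_odd]
    intro he
    obtain ⟨s, hs⟩ := he
    have hdvd2 : 2 ^ (a + 1) ∣ n := ⟨s, by rw [hn'eq, hs]; ring⟩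
    have := (padicValNat_dvd_iff_le (hn.ne')).mp hdvd2
    omega
  have hsq : (t ^ 2 ^ a) ^ 2 = 1 := by
    rw [← pow_mul, ← pow_succ, ← ht]
    exact pow_orderOf_eq_one t
  have hne1 : t ^ 2 ^ a ≠ 1 := by
    apply pow_ne_one_of_lt_orderOf (by positivity)
    rw [ht]
    exact Nat.pow_lt_pow_right (by norm_num) (by omega)
  have hm1 : t ^ 2 ^ a = -1 := by
    have h : (t ^ 2 ^ a - 1) * (t ^ 2 ^ a + 1) = 0 := by linear_combination hsq
    rcases mul_eq_zero.mp h with h | h
    · exact absurd (sub_eq_zero.mp h) hne1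
    · exact eq_neg_of_add_eq_zero_left h
  refine ⟨t, ?_⟩
  rw [hn'eq, pow_mul, hm1, hn'odd.neg_one_pow]

/-- if `c^n = -1` (odd characteristic) then `v_2(n) < v_2(q - 1)`. -/
theorem lt_of_pow_eq_neg_one [Fintype F] (h2 : (2 : F) ≠ 0) (hn : 0 < n) (c : F)
    (hc : c ^ n = -1) : padicValNat 2 n < padicValNat 2 (Fintype.card F - 1) := by
  set a := padicValNat 2 n with ha
  have hq1 : Fintype.card F - 1 ≠ 0 := by
    have : 1 < Fintype.card F := Fintype.one_lt_card
    omega
  have hn' : 2 ^ a ∣ n := pow_padicValNat_dvd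
  obtain ⟨n', hn'eq⟩ := hn'
  have hn'odd : Odd n' := by
    rw [← Nat.not_even_iff_odd]
    intro he
    obtain ⟨s, hs⟩ := he
    have hdvd2 : 2 ^ (a + 1) ∣ n := ⟨s, by rw [hn'eq, hs]; ring⟩
    have := (padicValNat_dvd_iff_le (hn.ne')).mp hdvd2
    omega
  have hc0 : c ≠ 0 := by
    rintro rfl
    rw [zero_pow hn.ne'] at hc
    have : (1 : F) = 0 := by
      have := congrArg (fun t => -t) hc
      simpa using this.symm
    exact one_ne_zero this
  have hne : (-1 : F) ≠ 1 := by
    intro h
    apply h2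
    linear_combination -h
  haveI : Fact (Nat.Prime 2) := ⟨Nat.prime_two⟩
  -- `d = c^{n'}` has order `2^(a+1)`
  have hd1 : ¬ (c ^ n') ^ 2 ^ a = 1 := by
    rw [← pow_mul, mul_comm, ← hn'eq, hc]
    exact hne
  have hd2 : (c ^ n') ^ 2 ^ (a + 1) = 1 := by
    rw [pow_succ, pow_mul, ← pow_mul c, mul_comm n', ← hn'eq, hc]
    norm_num
  have hord : orderOf (c ^ n') = 2 ^ (a + 1) := orderOf_eq_prime_pow hd1 hd2
  have h3 : (c ^ n') ^ (Fintype.card F - 1) = 1 :=
    FiniteField.pow_card_sub_one_eq_one _ (pow_ne_zero _ hc0)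
  have h4 := orderOf_dvd_of_pow_eq_one h3
  rw [hord] at h4
  have := (padicValNat_dvd_iff_le hq1).mp h4
  omega

end Cfsg.Agent.Helper59.Quad
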