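import Mathlib
import Cfsg.Agent.Helper59.QuadA
import Cfsg.Agent.Helper59.FieldSubJ

set_option autoImplicit false

/-! Commuting quadratic structures: if `g` is diagonalisable with two eigenspaces of even
dimension then some `T` with `T^2 = w` commutes with `g`. -/

namespace Cfsg.Agent.Helper59.Quad

open Module Polynomial
open Cfsg.Agent.Helper59.FieldSub

variable {F : Type*} [Field F]

theorem blk_blk (w : F) (t : Fin 2 → F) : blk w (blk w t) = w • t := by
  ext i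
  fin_cases i
  · show w * (blk w t 1) = w * t 0
    rw [blk_apply_one]
  · show blk w t 0 = w * t 1
    rw [blk_apply_zero]

theorem Blk_Blk (w : F) (m : ℕ) (t : Fin m → Fin 2 → F) : Blk w m (Blk w m t) = w • t := by
  funext j
  rw [Blk_apply, Blk_apply, blk_blk]
  rfl

theorem exists_quad_of_even (w : F) {U : Type*} [AddCommGroup U] [Module F U]
    [FiniteDimensional F U] (s : ℕ) (h : finrank F U = 2 * s) :
    ∃ T : U →ₗ[F] U, IsQuad w T := by
  have hfr : finrank F U = finrank F (Fin s → Fin 2 → F) := by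
    rw [h, Module.finrank_pi_fintype]
    simp [mul_comm]
  let e : U ≃ₗ[F] (Fin s → Fin 2 → F) := LinearEquiv.ofFinrankEq U _ hfr
  refine ⟨(e.symm : _ →ₗ[F] U) ∘ₗ Blk w s ∘ₗ (e : U →ₗ[F] _), ?_⟩
  intro v
  simp only [LinearMap.comp_apply, LinearEquiv.coe_coe, e.apply_symm_apply]
  rw [Blk_Blk, map_smul, e.symm_apply_apply]

variable {V : Type*} [AddCommGroup V] [Module F V] [FiniteDimensional F V]

theorem exists_commuting_quad (w : F) (g : V →ₗ[F] V) (b c : F)
    (hcompl : IsCompl (eigSp g b) (eigSp g c)) (s s' : ℕ)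
    (hs : finrank F ↥(eigSp g b) = 2 * s) (hs' : finrank F ↥(eigSp g c) = 2 * s') :
    ∃ T : V →ₗ[F] V, IsQuad w T ∧ ∀ v, g (T v) = T (g v) := by
  obtain ⟨TA, hTA⟩ := exists_quad_of_even w s hs
  obtain ⟨TB, hTB⟩ := exists_quad_of_even w s' hs'
  let Φ := Submodule.prodEquivOfIsCompl _ _ hcompl
  have hΦ : ∀ u : ↥(eigSp g b) × ↥(eigSp g c), Φ u = (u.1 : V) + (u.2 : V) := fun u => rfl
  let T : V →ₗ[F] V := (Φ : _ →ₗ[F] V) ∘ₗ (LinearMap.prodMap TA TB) ∘ₗ (Φ.symm : V →ₗ[F] _)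
  have hT : ∀ u, T (Φ u) = Φ (TA u.1, TB u.2) := by
    intro u
    show Φ (LinearMap.prodMap TA TB (Φ.symm (Φ u))) = _
    rw [Φ.symm_apply_apply]
    rfl
  have hg : ∀ u, g (Φ u) = Φ (b • u.1, c • u.2) := by
    intro u
    rw [hΦ, hΦ, map_add, mem_eigSp.mp u.1.2, mem_eigSp.mp u.2.2]
    rfl
  refine ⟨T, ?_, ?_⟩
  · intro v
    obtain ⟨u, rfl⟩ := Φ.surjective v
    rw [hT, hT]
    simp only
    rw [hTA, hTB, ← Prod.smul_mk, map_smul]
  · intro v
    obtain ⟨u, rfl⟩ := Φ.surjective v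
    rw [hT, hg, hg, hT]
    simp only [map_smul]

end Cfsg.Agent.Helper59.Quad
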