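import Mathlib
import Cfsg.Prelude.Def_GeometricClasses
import Cfsg.Agent.Helper59.QuadB
import Cfsg.Agent.Helper59.QuadC
import Cfsg.Agent.Helper59.QuadF
import Cfsg.Agent.Helper59.QuadG

set_option autoImplicit false

/-! Odd `q`, `-1` not an `n`-th power: all involutions of `PSL_n(q)` are conjugate into the
normaliser of a quadratic field subalgebra. -/

namespace Cfsg.Agent.Helper59.Quad

open Module Matrix Polynomial
open Cfsg.Geo Cfsg.Agent.Helper59.FieldSub

variable {F : Type*} [Field F] {n : ℕ} {K : Subalgebra F (Matrix (Fin n) (Fin n) F)}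

/-- an invertible matrix commuting with `K` normalises `K`. -/
theorem mem_normalizer_of_commute (g : GL (Fin n) F) (h : ∀ k ∈ K, g.1 * k = k * g.1) :
    g ∈ subalgebraNormalizer K := by
  have e1 : (g⁻¹ : GL (Fin n) F).1 * g.1 = 1 := by
    rw [← Units.val_mul, inv_mul_cancel, Units.val_one]
  have e2 : g.1 * (g⁻¹ : GL (Fin n) F).1 = 1 := by
    rw [← Units.val_mul, mul_inv_cancel, Units.val_one]
  have hfix : ∀ k ∈ K, g.1 * k * (g⁻¹ : GL (Fin n) F).1 = k := by
    intro k hk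
    rw [h k hk, Matrix.mul_assoc, e2, mul_one]
  change ∀ k : Matrix (Fin n) (Fin n) F, k ∈ K ↔ g.1 * k * (g⁻¹ : GL (Fin n) F).1 ∈ K
  intro k
  constructor
  · intro hk
    rw [hfix k hk]
    exact hk
  · intro hk
    have h1 := h _ hk
    have h2 : k = g.1 * k * (g⁻¹ : GL (Fin n) F).1 := by
      have : (g⁻¹ : GL (Fin n) F).1 * (g.1 * (g.1 * k * (g⁻¹ : GL (Fin n) F).1)) =
          (g⁻¹ : GL (Fin n) F).1 * ((g.1 * k * (g⁻¹ : GL (Fin n) F).1) * g.1) := by rw [h1]
      rw [← Matrix.mul_assoc, e1, one_mul] at this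
      rw [this]
      simp only [Matrix.mul_assoc]
      rw [e1, mul_one, ← Matrix.mul_assoc, e1, one_mul]
    rw [h2]
    exact hk

variable [Fintype F]

/-- the quotient of two non-squares is a square. -/
theorem exists_sq_ratio (h2 : (2 : F) ≠ 0) (z w : F) (hz0 : z ≠ 0)
    (hz : ∀ b : F, b ^ 2 ≠ z) (hw : ∀ b : F, b ^ 2 ≠ w) : ∃ a : F, a ≠ 0 ∧ z = w * a ^ 2 := by
  have hw0 : w ≠ 0 := by
    intro h
    apply hw 0
    rw [h]; ring
  have hchar : ringChar F ≠ 2 := by
    intro h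
    apply h2
    have := CharP.cast_eq_zero F (ringChar F)
    rw [h] at this
    exact_mod_cast this
  have hzn : ¬ IsSquare z := by
    rintro ⟨b, hb⟩
    exact hz b (by rw [hb, pow_two])
  have hwn : ¬ IsSquare w := by
    rintro ⟨b, hb⟩
    exact hw b (by rw [hb, pow_two])
  rw [FiniteField.isSquare_iff hchar hz0] at hzn
  rw [FiniteField.isSquare_iff hchar hw0] at hwn
  have hz1 := (FiniteField.pow_dichotomy hchar hz0).resolve_left hzn
  have hw1 := (FiniteField.pow_dichotomy hchar hw0).resolve_left hwn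
  have hsq : IsSquare (z / w) := by
    rw [FiniteField.isSquare_iff hchar (div_ne_zero hz0 hw0), div_pow, hz1, hw1]
    field_simp
  obtain ⟨a, ha⟩ := hsq
  refine ⟨a, ?_, ?_⟩
  · rintro rfl
    rw [mul_zero] at ha
    exact (div_ne_zero hz0 hw0) ha
  · rw [pow_two, ← ha]
    field_simp

/-- a commuting quadratic structure for an element with scalar square. -/
theorem exists_commuting_quad_of_sq (h2 : (2 : F) ≠ 0) (hn : 0 < n) (heven : Even n)
    (hno : ∀ c : F, c ^ n ≠ -1) (w : F) (hw : ∀ b : F, b ^ 2 ≠ w)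
    (x : Matrix.SpecialLinearGroup (Fin n) F) (z : F)
    (hz : x.1 * x.1 = z • (1 : Matrix (Fin n) (Fin n) F)) :
    ∃ T : (Fin n → F) →ₗ[F] (Fin n → F), IsQuad w T ∧
      ∀ v, Matrix.toLin' x.1 (T v) = T (Matrix.toLin' x.1 v) := by
  haveI : Nonempty (Fin n) := ⟨⟨0, hn⟩⟩
  have hgg : ∀ v, Matrix.toLin' x.1 (Matrix.toLin' x.1 v) = z • v := by
    intro v
    rw [Matrix.toLin'_apply, Matrix.toLin'_apply, Matrix.mulVec_mulVec, hz, Matrix.smul_mulVec,
      Matrix.one_mulVec]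
  have hz0 : z ≠ 0 := by
    rintro rfl
    have h1 : (x.1 * x.1).det = 1 := by rw [Matrix.det_mul, x.2, one_mul]
    rw [hz, zero_smul, Matrix.det_zero] at h1
    exact zero_ne_one h1
  by_cases hsq : ∃ c : F, c ^ 2 = z
  · obtain ⟨c, hc⟩ := hsq
    have hc0 : c ≠ 0 := by
      rintro rfl
      apply hz0
      rw [← hc]; ring
    have hq : ∀ v, Matrix.toLin' x.1 (Matrix.toLin' x.1 v) =
        (-c + c) • Matrix.toLin' x.1 v - (-c * c) • v := by
      intro v
      rw [hgg, neg_add_cancel, zero_smul, zero_sub, ← neg_smul, ← hc]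
      congr 1
      ring
    have hne : -c ≠ c := by
      intro h
      have : (2 : F) * c = 0 := by linear_combination -h
      rcases mul_eq_zero.mp this with h | h
      · exact h2 h
      · exact hc0 h
    have hcompl := isCompl_of_quad (Matrix.toLin' x.1) (-c) c hne hq
    have hdet := det_of_isCompl (Matrix.toLin' x.1) (-c) c hcompl
    rw [LinearMap.det_toLin', x.2] at hdet
    have hsum := Submodule.finrank_add_eq_of_isCompl hcompl
    rw [Module.finrank_fin_fun] at hsum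
    have hevA : Even (finrank F ↥(eigSp (Matrix.toLin' x.1) (-c))) := by
      rw [← Nat.not_odd_iff_even]
      intro hodd
      apply hno c
      rw [hodd.neg_pow, neg_mul, ← pow_add, hsum] at hdet
      linear_combination hdet
    have hevB : Even (finrank F ↥(eigSp (Matrix.toLin' x.1) c)) := by
      have := (Nat.even_add.mp (hsum ▸ heven))
      exact this.mp hevA
    obtain ⟨s, hs⟩ := hevA
    obtain ⟨s', hs'⟩ := hevB
    exact exists_commuting_quad w _ (-c) c hcompl s s' (by omega) (by omega)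
  · push Not at hsq
    obtain ⟨a, ha0, hza⟩ := exists_sq_ratio h2 z w hz0 hsq hw
    refine ⟨a⁻¹ • Matrix.toLin' x.1, ?_, ?_⟩
    · intro v
      rw [LinearMap.smul_apply, LinearMap.smul_apply, map_smul, hgg, smul_smul, smul_smul, hza]
      congr 1
      field_simp
    · intro v
      rw [LinearMap.smul_apply, LinearMap.smul_apply, map_smul]

/-- **odd `q`, `-1` not an `n`-th power.** -/
theorem invProp_of_odd (hK : IsFieldSubalgebra 2 K) (h2 : (2 : F) ≠ 0) (hn : 0 < n)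
    (hno : ∀ c : F, c ^ n ≠ -1) : InvProp F n K := by
  classical
  obtain ⟨θ, hθK, w, hθ2, hw, hθns, hrepr⟩ := exists_theta hK h2
  have hTθ : IsQuad w (Matrix.toLin' θ) := by
    intro v
    rw [Matrix.toLin'_apply, Matrix.toLin'_apply, Matrix.mulVec_mulVec, hθ2, Matrix.smul_mulVec,
      Matrix.one_mulVec]
  obtain ⟨m, -, hm, -⟩ := exists_pairIso hw hTθ
  rw [Module.finrank_fin_fun] at hm
  have heven : Even n := ⟨m, by omega⟩
  have hodd : Fintype.card F % 2 = 1 := by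
    have hchar : ringChar F ≠ 2 := by
      intro h
      apply h2
      have := CharP.cast_eq_zero F (ringChar F)
      rw [h] at this
      exact_mod_cast this
    exact FiniteField.odd_card_of_char_ne_two hchar
  rintro x ⟨z, hz⟩ -
  rw [Matrix.SpecialLinearGroup.coe_pow, pow_two] at hz
  obtain ⟨T, hT, hTx⟩ := exists_commuting_quad_of_sq h2 hn heven hno w hw x z hz
  obtain ⟨P0, hP0⟩ := exists_conj_quad hw hT hTθ
  have hV : 0 < finrank F (Fin n → F) := by rw [Module.finrank_fin_fun]; exact hn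
  have hdet0 : LinearMap.det (P0 : (Fin n → F) →ₗ[F] (Fin n → F)) ≠ 0 := by
    intro h
    have h1 := LinearEquiv.isUnit_det' P0
    rw [h] at h1
    exact not_isUnit_zero h1
  obtain ⟨h, hhdet, hhθ⟩ := exists_centralizer_det hodd hw hTθ hV
    (LinearMap.det (P0 : (Fin n → F) →ₗ[F] (Fin n → F)))⁻¹
  -- the intertwiner of determinant one
  obtain ⟨P1, hP1det, hP1⟩ : ∃ P1 : (Fin n → F) →ₗ[F] (Fin n → F), LinearMap.det P1 = 1 ∧
      ∀ v, P1 (T v) = Matrix.toLin' θ (P1 v) := by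
    refine ⟨h ∘ₗ (P0 : (Fin n → F) →ₗ[F] (Fin n → F)), ?_, ?_⟩
    · rw [LinearMap.det_comp, hhdet, inv_mul_cancel₀ hdet0]
    · intro v
      show h (P0 (T v)) = Matrix.toLin' θ (h (P0 v))
      rw [hP0, hhθ]
  let Q : Matrix.SpecialLinearGroup (Fin n) F :=
    ⟨LinearMap.toMatrix' P1, by rw [LinearMap.det_toMatrix']; exact hP1det⟩
  have hQ : Q.1 = LinearMap.toMatrix' P1 := rfl
  let Tm : Matrix (Fin n) (Fin n) F := LinearMap.toMatrix' T
  have hQT : Q.1 * Tm = θ * Q.1 := by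
    have : P1 ∘ₗ T = Matrix.toLin' θ ∘ₗ P1 := LinearMap.ext hP1
    have h1 := congrArg LinearMap.toMatrix' this
    rw [LinearMap.toMatrix'_comp, LinearMap.toMatrix'_comp, LinearMap.toMatrix'_toLin'] at h1
    exact h1
  have hxT : x.1 * Tm = Tm * x.1 := by
    have : Matrix.toLin' x.1 ∘ₗ T = T ∘ₗ Matrix.toLin' x.1 := LinearMap.ext hTx
    have h1 := congrArg LinearMap.toMatrix' this
    rw [LinearMap.toMatrix'_comp, LinearMap.toMatrix'_comp, LinearMap.toMatrix'_toLin'] at h1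
    exact h1
  have hQinv : Q.1 * (Q⁻¹).1 = 1 := by
    rw [← Matrix.SpecialLinearGroup.coe_mul, mul_inv_cancel, Matrix.SpecialLinearGroup.coe_one]
  have hQinv' : (Q⁻¹).1 * Q.1 = 1 := by
    rw [← Matrix.SpecialLinearGroup.coe_mul, inv_mul_cancel, Matrix.SpecialLinearGroup.coe_one]
  have hTQ : Tm * (Q⁻¹).1 = (Q⁻¹).1 * θ := by
    calc Tm * (Q⁻¹).1 = (Q⁻¹).1 * (Q.1 * Tm) * (Q⁻¹).1 := by
          rw [← Matrix.mul_assoc, hQinv', one_mul]
      _ = (Q⁻¹).1 * θ := by
          rw [hQT, Matrix.mul_assoc, Matrix.mul_assoc, hQinv, mul_one]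
  refine ⟨Q⁻¹, ?_⟩
  rw [inv_inv, Subgroup.mem_comap]
  have hval : ((Matrix.SpecialLinearGroup.toGL (Q * x * Q⁻¹) : GL (Fin n) F) :
      Matrix (Fin n) (Fin n) F) = Q.1 * x.1 * (Q⁻¹).1 := rfl
  apply mem_normalizer_of_commute
  intro k hk
  rw [hval]
  have hyθ : Q.1 * x.1 * (Q⁻¹).1 * θ = θ * (Q.1 * x.1 * (Q⁻¹).1) := by
    calc Q.1 * x.1 * (Q⁻¹).1 * θ = Q.1 * x.1 * ((Q⁻¹).1 * θ) := by rw [Matrix.mul_assoc]
      _ = Q.1 * (x.1 * Tm) * (Q⁻¹).1 := by rw [← hTQ]; simp only [Matrix.mul_assoc]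
      _ = (Q.1 * Tm) * x.1 * (Q⁻¹).1 := by rw [hxT]; simp only [Matrix.mul_assoc]
      _ = θ * (Q.1 * x.1 * (Q⁻¹).1) := by rw [hQT]; simp only [Matrix.mul_assoc]
  obtain ⟨a, b, rfl⟩ := hrepr k hk
  rw [Matrix.mul_add, Matrix.add_mul, Matrix.mul_smul, Matrix.smul_mul, Matrix.mul_smul,
    Matrix.smul_mul, mul_one, one_mul, hyθ]

end Cfsg.Agent.Helper59.Quad
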