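import Mathlib
import Cfsg.Prelude.Def_GeometricClasses
import Cfsg.Agent.Helper59.QuadB

set_option autoImplicit false

/-! Two by two matrices with scalar square: cyclic vectors and conjugacy inside `SL_2`. -/

namespace Cfsg.Agent.Helper59.Quad

open Module Matrix
open Cfsg.Geo

variable {F : Type*} [Field F]

/-- a non-scalar two by two matrix with `M² = z` is, in a suitable basis, the companion matrix. -/
theorem exists_cyclic_two (M : Matrix (Fin 2) (Fin 2) F) (z : F)
    (hM : M * M = z • (1 : Matrix (Fin 2) (Fin 2) F))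
    (hns : ∀ c : F, M ≠ c • (1 : Matrix (Fin 2) (Fin 2) F)) :
    ∃ U : Matrix (Fin 2) (Fin 2) F, U.det ≠ 0 ∧ M * U = U * !![0, z; 1, 0] := by
  have h00 := congrFun (congrFun hM 0) 0
  have h01 := congrFun (congrFun hM 0) 1
  have h10 := congrFun (congrFun hM 1) 0
  have h11 := congrFun (congrFun hM 1) 1
  simp [Matrix.mul_apply, Fin.sum_univ_two] at h00 h01 h10 h11
  by_cases hc : M 1 0 ≠ 0
  · refine ⟨!![1, M 0 0; 0, M 1 0], ?_, ?_⟩
    · rw [Matrix.det_fin_two_of]
      simpa using hc
    · ext i j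
      fin_cases i <;> fin_cases j <;> simp [Matrix.mul_apply, Fin.sum_univ_two]
      · linear_combination h00
      · linear_combination h10
  push Not at hc
  by_cases hb : M 0 1 ≠ 0
  · refine ⟨!![0, M 0 1; 1, M 1 1], ?_, ?_⟩
    · rw [Matrix.det_fin_two_of]
      simpa using hb
    · ext i j
      fin_cases i <;> fin_cases j <;> simp [Matrix.mul_apply, Fin.sum_univ_two]
      · linear_combination h01
      · linear_combination h11
  push Not at hb
  have had : M 0 0 ≠ M 1 1 := by
    intro h
    apply hns (M 0 0)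
    ext i j
    fin_cases i <;> fin_cases j <;> simp [hb, hc, h]
  refine ⟨!![1, M 0 0; 1, M 1 1], ?_, ?_⟩
  · rw [Matrix.det_fin_two_of]
    intro h
    apply had
    linear_combination -h
  · ext i j
    fin_cases i <;> fin_cases j <;> simp [Matrix.mul_apply, Fin.sum_univ_two, hb, hc]
    · rw [hb] at h00; linear_combination h00
    · rw [hc] at h11; linear_combination h11

/-- conjugacy in `SL_2` of two matrices similar to the same companion matrix. -/
theorem exists_sl_conj (x y U W : Matrix (Fin 2) (Fin 2) F) (z : F)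
    (hU : U.det ≠ 0) (hW : W.det ≠ 0) (hxU : x * U = U * !![0, z; 1, 0])
    (hyW : y * W = W * !![0, z; 1, 0]) (a b : F)
    (hab : (a ^ 2 - z * b ^ 2) * W.det = U.det) :
    ∃ Q : Matrix.SpecialLinearGroup (Fin 2) F, Q.1 * x = y * Q.1 := by
  have hUU : U⁻¹ * U = 1 := Matrix.nonsing_inv_mul U (isUnit_iff_ne_zero.mpr hU)
  have hUU' : U * U⁻¹ = 1 := Matrix.mul_nonsing_inv U (isUnit_iff_ne_zero.mpr hU)
  have hRJ : (!![a, z * b; b, a] : Matrix (Fin 2) (Fin 2) F) * !![0, z; 1, 0] =
      !![0, z; 1, 0] * !![a, z * b; b, a] := by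
    ext i j
    fin_cases i <;> fin_cases j <;> simp [Matrix.mul_apply, Fin.sum_univ_two] <;> ring
  have hUx : U⁻¹ * x = !![0, z; 1, 0] * U⁻¹ := by
    calc U⁻¹ * x = U⁻¹ * (x * U) * U⁻¹ := by
          rw [Matrix.mul_assoc, Matrix.mul_assoc, hUU', mul_one]
      _ = !![0, z; 1, 0] * U⁻¹ := by
          rw [hxU, ← Matrix.mul_assoc, hUU, one_mul]
  have hdet : (W * !![a, z * b; b, a] * U⁻¹).det = 1 := by
    rw [Matrix.det_mul, Matrix.det_mul, Matrix.det_nonsing_inv, Matrix.det_fin_two_of,
      Ring.inverse_eq_inv', ← hab]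
    have h1 : a ^ 2 - z * b ^ 2 ≠ 0 := by
      intro h
      rw [h, zero_mul] at hab
      exact hU hab.symm
    field_simp
  refine ⟨⟨W * !![a, z * b; b, a] * U⁻¹, hdet⟩, ?_⟩
  show W * !![a, z * b; b, a] * U⁻¹ * x = y * (W * !![a, z * b; b, a] * U⁻¹)
  calc W * !![a, z * b; b, a] * U⁻¹ * x = W * (!![a, z * b; b, a] * !![0, z; 1, 0]) * U⁻¹ := by
        rw [Matrix.mul_assoc, hUx]; simp only [Matrix.mul_assoc]
    _ = (W * !![0, z; 1, 0]) * !![a, z * b; b, a] * U⁻¹ := by
        rw [hRJ]; simp only [Matrix.mul_assoc]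
    _ = y * (W * !![a, z * b; b, a] * U⁻¹) := by
        rw [← hyW]; simp only [Matrix.mul_assoc]

/-- every element of a finite field is a sum of two squares. -/
theorem exists_sum_two_squares [Fintype F] (δ : F) : ∃ a b : F, a ^ 2 - (-1) * b ^ 2 = δ := by
  by_cases h2 : (2 : F) = 0
  · have hchar : ringChar F = 2 := by
      have hdvd : ringChar F ∣ 2 := by
        rw [← CharP.cast_eq_zero_iff F (ringChar F)]
        exact_mod_cast h2
      have hp : (ringChar F).Prime := CharP.char_is_prime F (ringChar F)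
      exact (Nat.prime_dvd_prime_iff_eq hp Nat.prime_two).mp hdvd
    obtain ⟨a, ha⟩ := FiniteField.isSquare_of_char_two hchar δ
    refine ⟨a, 0, ?_⟩
    rw [ha]; ring
  · have hchar : ringChar F ≠ 2 := by
      intro h
      apply h2
      have := CharP.cast_eq_zero F (ringChar F)
      rw [h] at this
      exact_mod_cast this
    exact exists_norm_eq (FiniteField.odd_card_of_char_ne_two hchar) (-1)
      (neg_ne_zero.mpr one_ne_zero) δ

/-- the determinant of a matrix similar to the companion matrix. -/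
theorem det_of_cyclic_two (M U : Matrix (Fin 2) (Fin 2) F) (z : F) (hU : U.det ≠ 0)
    (hMU : M * U = U * !![0, z; 1, 0]) : M.det = -z := by
  have h := congrArg Matrix.det hMU
  rw [Matrix.det_mul, Matrix.det_mul, Matrix.det_fin_two_of] at h
  have h2 : M.det * U.det = (-z) * U.det := by rw [h]; ring
  exact mul_right_cancel₀ hU h2

end Cfsg.Agent.Helper59.Quad
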