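import Mathlib
import Cfsg.Prelude.Def_GeometricClasses
import Cfsg.Agent.Helper59.FieldSubH
import Cfsg.Agent.Helper59.QuadH
import Cfsg.Agent.Helper59.QuadI

set_option autoImplicit false

/-! `PSL_2(q)`: every involution is conjugate into the normaliser of a quadratic field
subalgebra; and the final criterion. -/

namespace Cfsg.Agent.Helper59.Quad

open Module Matrix
open Cfsg.Geo Cfsg.Agent.Helper59.FieldSub

variable {F : Type*} [Field F] [Fintype F]

theorem ringChar_eq_two (h2 : (2 : F) = 0) : ringChar F = 2 := by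
  have hdvd : ringChar F ∣ 2 := by
    rw [← CharP.cast_eq_zero_iff F (ringChar F)]
    exact_mod_cast h2
  have hp : (ringChar F).Prime := CharP.char_is_prime F (ringChar F)
  exact (Nat.prime_dvd_prime_iff_eq hp Nat.prime_two).mp hdvd

omit [Fintype F] in
theorem ringChar_ne_two (h2 : (2 : F) ≠ 0) : ringChar F ≠ 2 := by
  intro h
  apply h2
  have := CharP.cast_eq_zero F (ringChar F)
  rw [h] at this
  exact_mod_cast this

/-- the Frobenius anticommutes with `θ`. -/
theorem frob_theta {K : Subalgebra F (Matrix (Fin 2) (Fin 2) F)} (hK : IsFieldSubalgebra 2 K)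
    (θ : Matrix (Fin 2) (Fin 2) F) (hθK : θ ∈ K) (w : F)
    (hθ2 : θ * θ = w • (1 : Matrix (Fin 2) (Fin 2) F))
    (hθns : ∀ c : F, θ ≠ c • (1 : Matrix (Fin 2) (Fin 2) F)) :
    ((⟨θ, hθK⟩ : ↥K) ^ Fintype.card F).1 = -θ := by
  haveI := FieldSub.isDomain hK (by norm_num)
  set Θ : ↥K := ⟨θ, hθK⟩ with hΘ
  have hΘ2 : Θ * Θ = algebraMap F ↥K w := by
    apply Subtype.ext
    show θ * θ = _
    rw [hθ2, Algebra.algebraMap_eq_smul_one]
    rfl
  have hq2 : Θ ^ Fintype.card F * Θ ^ Fintype.card F = Θ * Θ := by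
    rw [← (Commute.refl Θ).mul_pow, hΘ2, ← map_pow, FiniteField.pow_card]
  have hcomm : Θ ^ Fintype.card F * Θ = Θ * Θ ^ Fintype.card F :=
    (Commute.pow_self Θ (Fintype.card F)).eq
  have hprod : (Θ ^ Fintype.card F - Θ) * (Θ ^ Fintype.card F + Θ) = 0 := by
    have : (Θ ^ Fintype.card F - Θ) * (Θ ^ Fintype.card F + Θ) =
        Θ ^ Fintype.card F * Θ ^ Fintype.card F - Θ * Θ +
          (Θ ^ Fintype.card F * Θ - Θ * Θ ^ Fintype.card F) := by
      rw [sub_mul, mul_add, mul_add]
      abel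
    rw [this, hq2, hcomm, sub_self, sub_self, add_zero]
  rcases mul_eq_zero.mp hprod with h | h
  · exfalso
    refine frob_ne_of_nonscalar (by norm_num) hK Θ ?_ (sub_eq_zero.mp h)
    intro c hc
    apply hθns c
    have := congrArg Subtype.val hc
    rw [Algebra.algebraMap_eq_smul_one] at this
    exact this
  · have h1 : Θ ^ Fintype.card F = -Θ := eq_neg_of_add_eq_zero_left h
    rw [h1]
    rfl

/-- an element of the normaliser with square `-1`, not scalar. -/
theorem exists_normalizer_sq {K : Subalgebra F (Matrix (Fin 2) (Fin 2) F)}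
    (hK : IsFieldSubalgebra 2 K) :
    ∃ y : GL (Fin 2) F, y ∈ subalgebraNormalizer K ∧
      y.1 * y.1 = (-1 : F) • (1 : Matrix (Fin 2) (Fin 2) F) ∧
      ∀ c : F, y.1 ≠ c • (1 : Matrix (Fin 2) (Fin 2) F) := by
  classical
  obtain ⟨p, hp⟩ := CharP.exists F
  haveI := hp
  haveI : Fact p.Prime := ⟨CharP.char_is_prime F p⟩
  by_cases h2 : (2 : F) = 0
  · obtain ⟨s, hsN, hs2, hsns⟩ := exists_frobenius_nonscalar (p := p) Nat.prime_two hK
    refine ⟨s, hsN, ?_, hsns⟩
    have h1 : s.1 * s.1 = 1 := by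
      rw [← Units.val_mul, ← pow_two, hs2, Units.val_one]
    rw [h1]
    have : (-1 : F) = 1 := by linear_combination (-1 : F) * h2
    rw [this, one_smul]
  · obtain ⟨θ, hθK, w, hθ2, hw, hθns, hrepr⟩ := exists_theta hK h2
    obtain ⟨s, hsN, hs2, hsk⟩ := exists_frobenius_strong (p := p) Nat.prime_two hK
    have hss : s.1 * s.1 = 1 := by
      rw [← Units.val_mul, ← pow_two, hs2, Units.val_one]
    have hsθ : s.1 * θ = -θ * s.1 := by
      have h1 := hsk ⟨θ, hθK⟩
      rw [frob_theta hK θ hθK w hθ2 hθns] at h1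
      exact h1
    have hw0 : w ≠ 0 := by
      intro h
      apply hw 0
      rw [h]; ring
    have hodd := FiniteField.odd_card_of_char_ne_two (ringChar_ne_two h2)
    obtain ⟨a, b, hab⟩ := exists_norm_eq hodd w hw0 (-1)
    set κ : Matrix (Fin 2) (Fin 2) F := a • 1 + b • θ with hκ
    set κ' : Matrix (Fin 2) (Fin 2) F := a • 1 - b • θ with hκ'
    have hκK : κ ∈ K := K.add_mem (K.smul_mem K.one_mem a) (K.smul_mem hθK b)
    have hκκ' : κ * κ' = (-1 : F) • (1 : Matrix (Fin 2) (Fin 2) F) := by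
      rw [← hab, hκ, hκ']
      simp only [add_mul, mul_sub, smul_mul_assoc, mul_smul_comm, one_mul, mul_one, hθ2]
      module
    have hκ'κ : κ' * κ = (-1 : F) • (1 : Matrix (Fin 2) (Fin 2) F) := by
      rw [← hab, hκ, hκ']
      simp only [sub_mul, mul_add, smul_mul_assoc, mul_smul_comm, one_mul, mul_one, hθ2]
      module
    have hsκ : s.1 * κ = κ' * s.1 := by
      rw [hκ, hκ', mul_add, sub_mul, mul_smul_comm, mul_smul_comm, smul_mul_assoc, smul_mul_assoc,
        mul_one, one_mul, hsθ, neg_mul, smul_neg]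
      exact (sub_eq_add_neg _ _).symm
    have hκθ : κ * θ = θ * κ := by
      rw [hκ, add_mul, mul_add, smul_mul_assoc, smul_mul_assoc, mul_smul_comm, mul_smul_comm,
        one_mul, mul_one]
    let κg : GL (Fin 2) F := ⟨κ, -κ', by rw [mul_neg, hκκ']; simp, by rw [neg_mul, hκ'κ]; simp⟩
    have hκg : κg ∈ subalgebraNormalizer K := by
      apply mem_normalizer_of_commute
      intro k hk
      exact hK.comm κ hκK k hk
    have hyval : (κg * s : GL (Fin 2) F).1 = κ * s.1 := rfl
    have hyy : κ * s.1 * (κ * s.1) = (-1 : F) • (1 : Matrix (Fin 2) (Fin 2) F) := by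
      calc κ * s.1 * (κ * s.1) = κ * (s.1 * κ) * s.1 := by simp only [Matrix.mul_assoc]
        _ = (κ * κ') * (s.1 * s.1) := by rw [hsκ]; simp only [Matrix.mul_assoc]
        _ = _ := by rw [hκκ', hss, mul_one]
    refine ⟨κg * s, Subgroup.mul_mem _ hκg hsN, ?_, ?_⟩
    · rw [hyval]; exact hyy
    · intro c hc
      rw [hyval] at hc
      have hanti : κ * s.1 * θ = -(θ * (κ * s.1)) := by
        rw [Matrix.mul_assoc, hsθ, neg_mul, mul_neg, ← Matrix.mul_assoc, hκθ, Matrix.mul_assoc]
      rw [hc, smul_mul_assoc, mul_smul_comm, one_mul, mul_one] at hanti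
      have hc0 : c ≠ 0 := by
        rintro rfl
        rw [hc, zero_smul, zero_mul] at hyy
        have := congrFun (congrFun hyy 0) 0
        simp at this
      have h3 : ((2 : F) * c) • θ = 0 := by
        have : c • θ + c • θ = 0 := by
          nth_rewrite 1 [hanti]
          rw [neg_add_cancel]
        rw [← this, mul_smul, two_smul]
      rw [smul_eq_zero] at h3
      rcases h3 with h3 | h3
      · rcases mul_eq_zero.mp h3 with h | h
        · exact h2 h
        · exact hc0 h
      · apply hθns 0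
        rw [h3, zero_smul]

/-- `n = 2`: every involution of `PSL_2(q)` is conjugate into the normaliser of `K`. -/
theorem invProp_two {K : Subalgebra F (Matrix (Fin 2) (Fin 2) F)}
    (hK : IsFieldSubalgebra 2 K) : InvProp F 2 K := by
  obtain ⟨y, hyN, hy2, hyns⟩ := exists_normalizer_sq hK
  rintro x ⟨z, hz⟩ hxns
  rw [Matrix.SpecialLinearGroup.coe_pow, pow_two] at hz
  obtain ⟨U, hU, hxU⟩ := exists_cyclic_two x.1 z hz hxns
  have hdetx := det_of_cyclic_two x.1 U z hU hxU
  rw [x.2] at hdetx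
  have hz1 : z = -1 := by linear_combination hdetx
  subst hz1
  obtain ⟨W, hW, hyW⟩ := exists_cyclic_two y.1 (-1) hy2 hyns
  obtain ⟨a, b, hab⟩ := exists_sum_two_squares (U.det / W.det)
  obtain ⟨Q, hQ⟩ := exists_sl_conj x.1 y.1 U W (-1) hU hW hxU hyW a b
    (by rw [hab]; field_simp)
  refine ⟨Q⁻¹, ?_⟩
  rw [inv_inv, Subgroup.mem_comap]
  have : (Matrix.SpecialLinearGroup.toGL (Q * x * Q⁻¹) : GL (Fin 2) F) = y := by
    apply Units.ext
    show Q.1 * x.1 * (Q⁻¹).1 = y.1
    rw [hQ, Matrix.mul_assoc, ← Matrix.SpecialLinearGroup.coe_mul, mul_inv_cancel,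
      Matrix.SpecialLinearGroup.coe_one, mul_one]
  rw [this]
  exact hyN

/-- **The criterion.** -/
theorem invProp_iff {n : ℕ} {K : Subalgebra F (Matrix (Fin n) (Fin n) F)} (hn : 2 ≤ n)
    (hkn : 2 ∣ n) (hK : IsFieldSubalgebra 2 K) :
    InvProp F n K ↔ (n = 2 ∨ (Odd (Fintype.card F) ∧
      padicValNat 2 (Fintype.card F - 1) ≤ padicValNat 2 n)) := by
  by_cases hn2 : n = 2
  · subst hn2
    exact iff_of_true (invProp_two hK) (Or.inl rfl)
  have hn4 : 4 ≤ n := by
    obtain ⟨m, rfl⟩ := hkn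
    omega
  have heven : Even n := (even_iff_two_dvd).mpr hkn
  by_cases h2 : (2 : F) = 0
  · apply iff_of_false (not_invProp_of_char_two hK hn4 heven h2)
    rintro (h | ⟨hodd, -⟩)
    · exact hn2 h
    · have := FiniteField.even_card_iff_char_two.mp (ringChar_eq_two h2)
      rw [Nat.odd_iff] at hodd
      omega
  · have hodd : Odd (Fintype.card F) :=
      Nat.odd_iff.mpr (FiniteField.odd_card_of_char_ne_two (ringChar_ne_two h2))
    by_cases hv : padicValNat 2 (Fintype.card F - 1) ≤ padicValNat 2 n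
    · apply iff_of_true _ (Or.inr ⟨hodd, hv⟩)
      apply invProp_of_odd hK h2 (by omega)
      intro c hc
      exact absurd (lt_of_pow_eq_neg_one h2 (by omega) c hc) (not_lt.mpr hv)
    · obtain ⟨c, hc⟩ := exists_pow_eq_neg_one h2 (by omega : 0 < n) (lt_of_not_ge hv)
      apply iff_of_false (not_invProp_of_pow_eq_neg_one hK hn4 heven h2 c hc)
      rintro (h | ⟨-, h⟩)
      · exact hn2 h
      · exact hv h

end Cfsg.Agent.Helper59.Quad
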