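-- helper59: S2282 pieces for helper84: common small facts about the basis vectors of the model
import Mathlib
import Cfsg.Agent.Helper84.RUn.Defs

set_option autoImplicit false
set_option linter.unusedSectionVars false

namespace Cfsg.Agent.Helper59.RUn

open Matrix Cfsg.Agent.Helper84.RUn Cfsg.Agent.Helper84.PSU

variable {K : Type*} [Field K] {j : ℕ}

local notation "Vec" => (I (j + 2) 1 → K)
local notation "Mat" => Matrix (I (j + 2) 1) (I (j + 2) 1) K

variable (bar : K →+* K)

theorem i1_ne_i2 : (i1 : Fin (j + 2)) ≠ i2 := by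
  intro h
  have := congrArg Fin.val h
  simp [i1, i2] at this

theorem hf_vE_vE (a b : Fin (j + 2)) : hf bar (vE a : Vec) (vE b) = 0 := hf_bv_ee bar a b

theorem hf_vF_vF (a b : Fin (j + 2)) : hf bar (vF a : Vec) (vF b) = 0 := hf_bv_ff bar a b

theorem hf_vE_vF (a b : Fin (j + 2)) : hf bar (vE a : Vec) (vF b) = if a = b then 1 else 0 :=
  hf_bv_ef bar a b

theorem hf_vF_vE (a b : Fin (j + 2)) : hf bar (vF a : Vec) (vE b) = if a = b then 1 else 0 :=
  hf_bv_fe bar a b

theorem hf_vB_vE (a : Fin (j + 2)) : hf bar (vB : Vec) (vE a) = 0 := by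
  unfold vB vE
  split_ifs
  · exact hf_bv_ee bar _ _
  · exact hf_bv_we bar _ _

theorem hf_vE_vB (a : Fin (j + 2)) : hf bar (vE a : Vec) vB = 0 := by
  unfold vB vE
  split_ifs
  · exact hf_bv_ee bar _ _
  · exact hf_bv_ew bar _ _

theorem hf_vB_vF2 : hf bar (vB : Vec) (vF i2) = 0 := by
  unfold vB vF
  split_ifs
  · rw [hf_bv_ef, if_neg]
    intro h
    have := congrArg Fin.val h
    simp [i2] at this
  · exact hf_bv_wf bar _ _

theorem hf_vF2_vB : hf bar (vF i2 : Vec) vB = 0 := by
  unfold vB vF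
  split_ifs
  · rw [hf_bv_fe, if_neg]
    intro h
    have := congrArg Fin.val h
    simp [i2] at this
  · exact hf_bv_fw bar _ _

theorem dB_mul_dB : (dB K j) * (dB K j) = 1 := by
  unfold dB
  split_ifs <;> ring

/-- the inverse of a matrix of determinant one, as a two-sided inverse -/
theorem exists_inv_of_det_one {M : Mat} (h : M.det = 1) : ∃ M' : Mat, M * M' = 1 ∧ M' * M = 1 := by
  have hu : IsUnit M.det := by rw [h]; exact isUnit_one
  exact ⟨M⁻¹, Matrix.mul_nonsing_inv M hu, Matrix.nonsing_inv_mul M hu⟩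

/-- an isometry commutes past an Eichler transformation -/
theorem mul_eichM_of_isU {G : Mat} (hG : IsU bar G) (hdet : G.det = 1) (u y : Vec) (c : K) :
    G * eichM bar u y c = eichM bar (G *ᵥ u) (G *ᵥ y) c * G := by
  obtain ⟨G', h1, h2⟩ := exists_inv_of_det_one hdet
  have := conj_eichM bar hG h1 u y c
  calc G * eichM bar u y c = G * eichM bar u y c * (G' * G) := by rw [h2, Matrix.mul_one]
    _ = (G * eichM bar u y c * G') * G := by simp only [Matrix.mul_assoc]
    _ = eichM bar (G *ᵥ u) (G *ᵥ y) c * G := by rw [this]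

end Cfsg.Agent.Helper59.RUn
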