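-- helper59: S2282 piece (BRAID) for helper84: the braid trick (core form: the facts of (UWA) that are used appear
-- as explicit hypotheses)
import Mathlib
import Cfsg.Agent.Helper84.RUn.Defs
import Cfsg.Agent.Helper59.RUnCommon
import Cfsg.Agent.Helper75.RUnUWA
import Cfsg.Agent.Helper33.RUnUWA2

set_option autoImplicit false
set_option linter.unusedSectionVars false
set_option linter.unusedVariables false

namespace Cfsg.Agent.Helper59.RUn

open Matrix Cfsg.Agent.Helper84.RUn Cfsg.Agent.Helper84.PSU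

variable {K : Type*} [Field K] {j : ℕ}

local notation "Vec" => (I (j + 2) 1 → K)
local notation "Mat" => Matrix (I (j + 2) 1) (I (j + 2) 1) K

variable (bar : K →+* K) (hb : ∀ x, bar (bar x) = x)

set_option quotPrecheck false in
local notation "SUk" => ↥(SUm (j + 2) 1 bar)

theorem B12M_one : (B12M bar 1 : Mat) = eichM bar (vE i1) (vE i2) 0 := by
  rw [B12M, one_smul]

theorem C12M_one : (C12M bar 1 : Mat) = eichM bar (vF i1) (vF i2) 0 := by
  rw [C12M, one_smul]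

include hb in
theorem B12M_one_mul_inv :
    (B12M bar 1 : Mat) * eichM bar (vE i1) (-(vE i2)) 0 = 1 ∧
      eichM bar (vE i1) (-(vE i2)) 0 * (B12M bar 1 : Mat) = 1 := by
  have huu : hf bar (vE i1 : Vec) (vE i1) = 0 := hf_vE_vE bar _ _
  have h1 : hf bar (vE i2 : Vec) (vE i1) = 0 := hf_vE_vE bar _ _
  have h2 : hf bar (-(vE i2 : Vec)) (vE i1) = 0 := by rw [hf_neg_left, h1, neg_zero]
  rw [B12M_one]
  constructor
  · rw [eichM_mul bar hb 0 0 huu h1 h2, add_neg_cancel, hf_neg_left, hf_vE_vE, neg_zero, add_zero,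
      sub_zero, eichM_zero_zero]
  · rw [eichM_mul bar hb 0 0 huu h2 h1, neg_add_cancel, hf_neg_right, hf_vE_vE, neg_zero, add_zero,
      sub_zero, eichM_zero_zero]

include hb in
theorem C12M_one_mul_inv :
    (C12M bar 1 : Mat) * eichM bar (vF i1) (-(vF i2)) 0 = 1 ∧
      eichM bar (vF i1) (-(vF i2)) 0 * (C12M bar 1 : Mat) = 1 := by
  have huu : hf bar (vF i1 : Vec) (vF i1) = 0 := hf_vF_vF bar _ _
  have h1 : hf bar (vF i2 : Vec) (vF i1) = 0 := hf_vF_vF bar _ _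
  have h2 : hf bar (-(vF i2 : Vec)) (vF i1) = 0 := by rw [hf_neg_left, h1, neg_zero]
  rw [C12M_one]
  constructor
  · rw [eichM_mul bar hb 0 0 huu h1 h2, add_neg_cancel, hf_neg_left, hf_vF_vF, neg_zero, add_zero,
      sub_zero, eichM_zero_zero]
  · rw [eichM_mul bar hb 0 0 huu h2 h1, neg_add_cancel, hf_neg_right, hf_vF_vF, neg_zero, add_zero,
      sub_zero, eichM_zero_zero]

/-- the braid relation `X Y X = Y X Y` for `X = B_12(1)`, `Y = C_12(1)` -/
theorem braid_B12_C12 :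
    (B12M bar 1 : Mat) * C12M bar 1 * B12M bar 1 = C12M bar 1 * B12M bar 1 * C12M bar 1 := by
  have n12 : (i1 : Fin (j + 2)) ≠ i2 := i1_ne_i2
  have n21 : (i2 : Fin (j + 2)) ≠ i1 := fun h => i1_ne_i2 h.symm
  have a1 : hf bar (vE i1 : Vec) (vF i1) = 1 := by rw [hf_vE_vF, if_pos rfl]
  have a2 : hf bar (vE i1 : Vec) (vF i2) = 0 := by rw [hf_vE_vF, if_neg n12]
  have a3 : hf bar (vE i2 : Vec) (vF i1) = 0 := by rw [hf_vE_vF, if_neg n21]
  have a4 : hf bar (vE i2 : Vec) (vF i2) = 1 := by rw [hf_vE_vF, if_pos rfl]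
  have b1 : hf bar (vF i1 : Vec) (vE i1) = 1 := by rw [hf_vF_vE, if_pos rfl]
  have b2 : hf bar (vF i1 : Vec) (vE i2) = 0 := by rw [hf_vF_vE, if_neg n12]
  have b3 : hf bar (vF i2 : Vec) (vE i1) = 0 := by rw [hf_vF_vE, if_neg n21]
  have b4 : hf bar (vF i2 : Vec) (vE i2) = 1 := by rw [hf_vF_vE, if_pos rfl]
  rw [B12M_one, C12M_one]
  apply mat_ext_mulVec
  intro x
  simp only [← Matrix.mulVec_mulVec, eichM_mulVec, hf_add_left, hf_sub_left, hf_smul_left,
    hf_vE_vE, hf_vF_vF, a1, a2, a3, a4, b1, b2, b3, b4, zero_mul, mul_zero, zero_smul, add_zero,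
    mul_one, sub_zero]
  module

include hb in
/-- (BRAID), core form -/
theorem hasM_C12_UW_core {c : K} (hc : c + bar c + 1 = 0)
    (hU : IsU bar (UWM bar c : Mat)) (hdet : (UWM bar c : Mat).det = 1)
    (hE1 : UWM bar c *ᵥ (vE i1 : Vec) = vE i1) (hE2 : UWM bar c *ᵥ (vE i2 : Vec) = vE i2)
    (H : Subgroup SUk) (hX : HasM bar H (B12M bar 1))
    (hu3 : HasM bar H (UWM bar c * C12M bar 1)) :
    HasM bar H (C12M bar 1) ∧ HasM bar H (UWM bar c) := by
  set UW : Mat := UWM bar c with hUW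
  set X : Mat := B12M bar 1 with hXdef
  set Y : Mat := C12M bar 1 with hYdef
  set Xi : Mat := eichM bar (vE i1) (-(vE i2)) 0 with hXi
  set Yi : Mat := eichM bar (vF i1) (-(vF i2)) 0 with hYi
  obtain ⟨hXXi, hXiX⟩ := B12M_one_mul_inv (j := j) bar hb
  obtain ⟨hYYi, hYiY⟩ := C12M_one_mul_inv (j := j) bar hb
  have hbraid : X * Y * X = Y * X * Y := braid_B12_C12 bar
  -- `UW'` commutes with `X`
  have hcomm : UW * X = X * UW := by
    rw [hXdef, B12M_one, mul_eichM_of_isU bar hU hdet, hE1, hE2]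
  -- the conjugate `M`
  obtain ⟨x3, hx3, hx3m⟩ := hu3
  have hu3i : HasM bar H (mt bar x3⁻¹) := ⟨x3⁻¹, inv_mem hx3, rfl⟩
  have hinv3 : mt bar x3⁻¹ * (UW * Y) = 1 := by rw [← hx3m, mt_inv_mul]
  have hM : HasM bar H (mt bar x3⁻¹ * X * (UW * Y)) :=
    (hu3i.mul bar hX).mul bar ⟨x3, hx3, hx3m⟩
  have hMeq : mt bar x3⁻¹ * X * (UW * Y) = Yi * X * Y := by
    calc mt bar x3⁻¹ * X * (UW * Y) = mt bar x3⁻¹ * (X * UW) * Y := by
          simp only [Matrix.mul_assoc]
      _ = mt bar x3⁻¹ * (UW * X) * Y := by rw [hcomm]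
      _ = mt bar x3⁻¹ * UW * ((Y * Yi) * X) * Y := by
          rw [hYYi, Matrix.one_mul]; simp only [Matrix.mul_assoc]
      _ = (mt bar x3⁻¹ * (UW * Y)) * (Yi * X * Y) := by simp only [Matrix.mul_assoc]
      _ = Yi * X * Y := by rw [hinv3, Matrix.one_mul]
  -- `Yi X Y = X Y Xi`
  have hb2 : Yi * X * Y = X * Y * Xi := by
    calc Yi * X * Y = Yi * (X * Y * (X * Xi)) := by
          rw [hXXi, Matrix.mul_one]; simp only [Matrix.mul_assoc]
      _ = Yi * ((X * Y * X) * Xi) := by simp only [Matrix.mul_assoc]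
      _ = Yi * ((Y * X * Y) * Xi) := by rw [hbraid]
      _ = (Yi * Y) * (X * Y * Xi) := by simp only [Matrix.mul_assoc]
      _ = X * Y * Xi := by rw [hYiY, Matrix.one_mul]
  have hXiH : HasM bar H Xi := hX.inv bar hXXi
  have hY : HasM bar H Y := by
    have h1 : HasM bar H (Xi * (mt bar x3⁻¹ * X * (UW * Y)) * X) := (hXiH.mul bar hM).mul bar hX
    refine h1.of_eq bar ?_
    rw [hMeq, hb2]
    calc Xi * (X * Y * Xi) * X = (Xi * X) * Y * (Xi * X) := by simp only [Matrix.mul_assoc]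
      _ = Y := by rw [hXiX, Matrix.one_mul, Matrix.mul_one]
  refine ⟨hY, ?_⟩
  have hYiH : HasM bar H Yi := hY.inv bar hYYi
  have h2 : HasM bar H ((UW * Y) * Yi) := (HasM.mul bar ⟨x3, hx3, hx3m⟩ hYiH)
  refine h2.of_eq bar ?_
  rw [Matrix.mul_assoc, hYYi, Matrix.mul_one]

include hb in
/-- (BRAID) the braid trick -/
theorem hasM_C12_UW {c : K} (hc : c + bar c + 1 = 0) (H : Subgroup SUk) (hX : HasM bar H (B12M bar 1))
    (hu3 : HasM bar H (UWM bar c * C12M bar 1)) : HasM bar H (C12M bar 1) ∧ HasM bar H (UWM bar c) :=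
  hasM_C12_UW_core bar hb hc (Cfsg.Agent.Helper75.RUn.isU_UWM bar hb hc)
    (Cfsg.Agent.Helper75.RUn.det_UWM bar c) (Cfsg.Agent.Helper33.RUn.UWM_vE1 bar c)
    (Cfsg.Agent.Helper33.RUn.UWM_vE2 bar c) H hX hu3

end Cfsg.Agent.Helper59.RUn
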