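-- helper59: S2282 piece (XU1) for helper84: the commutator `[g, u] = B_12(1)` (core form: the facts of (UWA) that
-- are used appear as explicit hypotheses)
import Mathlib
import Cfsg.Agent.Helper84.RUn.Defs
import Cfsg.Agent.Helper59.RUnCommon
import Cfsg.Agent.Helper75.RUnUWA
import Cfsg.Agent.Helper33.RUnUWA2

set_option autoImplicit false
set_option linter.unusedSectionVars false
set_option linter.unusedVariables false

namespace Cfsg.Agent.Helper59.RUn

open Matrix Cfsg.Agent.Helper84.RUn Cfsg.Agent.Helper84.PSU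

variable {K : Type*} [Field K] {j : ℕ}

local notation "Vec" => (I (j + 2) 1 → K)
local notation "Mat" => Matrix (I (j + 2) 1) (I (j + 2) 1) K

variable (bar : K →+* K) (hb : ∀ x, bar (bar x) = x)

set_option quotPrecheck false in
local notation "SUk" => ↥(SUm (j + 2) 1 bar)

include hb in
/-- (XU1), core form -/
theorem mt_comm_g_u_core {c : K} (hc : c + bar c + 1 = 0)
    (hU : IsU bar (UWM bar c : Mat)) (hdet : (UWM bar c : Mat).det = 1)
    (hE1 : UWM bar c *ᵥ (vE i1 : Vec) = vE i1)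
    (hB : UWM bar c *ᵥ (vB : Vec) = vB - (dB K j) • vE i2)
    (u g : SUk) (hu : mt bar u = uM bar c) (hg : mt bar g = gM bar c) :
    mt bar (g * u * g⁻¹ * u⁻¹) = B12M bar 1 := by
  set cg : K := if 1 ≤ j then 0 else c with hcg
  set UW : Mat := UWM bar c with hUW
  set E1 : Mat := eichM bar (vE i1) ((dB K j) • vB) cg with hE1def
  set A : Mat := A12M bar with hA
  set X : Mat := B12M bar 1 with hX
  set G2 : Mat := eichM bar (vE i1) ((dB K j) • vB - vE i2) cg with hG2
  have huu : hf bar (vE i1 : Vec) (vE i1) = 0 := hf_vE_vE bar _ _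
  have h_e2 : hf bar ((1 : K) • (vE i2 : Vec)) (vE i1) = 0 := by
    rw [hf_smul_left, hf_vE_vE, mul_zero]
  have h_b : hf bar ((dB K j) • (vB : Vec)) (vE i1) = 0 := by
    rw [hf_smul_left, hf_vB_vE, mul_zero]
  have h_be2 : hf bar ((dB K j) • (vB : Vec) - vE i2) (vE i1) = 0 := by
    rw [hf_sub_left, h_b, hf_vE_vE, sub_zero]
  have h_f2 : hf bar (-(vF i2 : Vec)) (vE i1) = 0 := by
    rw [hf_neg_left, hf_vF_vE, if_neg (fun h => i1_ne_i2 h.symm), neg_zero]
  -- (i)
  have hi : UW * E1 = G2 * UW := by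
    rw [hE1def, mul_eichM_of_isU bar hU hdet, hE1, Matrix.mulVec_smul, hB, smul_sub, smul_smul,
      dB_mul_dB, one_smul]
  -- (ii)
  have hii : X * G2 = E1 := by
    rw [hX, B12M, hG2, eichM_mul bar hb 0 cg huu h_e2 h_be2, hE1def]
    have e1 : (1 : K) • (vE i2 : Vec) + ((dB K j) • vB - vE i2) = (dB K j) • vB := by
      rw [one_smul]; abel
    have e2 : hf bar ((dB K j) • (vB : Vec) - vE i2) ((1 : K) • (vE i2 : Vec)) = 0 := by
      rw [hf_smul_right, hf_sub_left, hf_smul_left, hf_vB_vE, hf_vE_vE, mul_zero, sub_zero, mul_zero]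
    rw [e1, e2, zero_add, sub_zero]
  -- (iii)
  have hiii : E1 * A = A * E1 := by
    rw [hE1def, hA, A12M, eichM_mul bar hb cg 0 huu h_b h_f2, eichM_mul bar hb 0 cg huu h_f2 h_b]
    have e1 : hf bar (-(vF i2 : Vec)) ((dB K j) • (vB : Vec)) = 0 := by
      rw [hf_neg_left, hf_smul_right, hf_vF2_vB, mul_zero, neg_zero]
    have e2 : hf bar ((dB K j) • (vB : Vec)) (-(vF i2 : Vec)) = 0 := by
      rw [hf_neg_right, hf_smul_left, hf_vB_vF2, mul_zero, neg_zero]
    rw [e1, e2, add_comm ((dB K j) • (vB : Vec)), add_comm cg 0]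
  have hkey : E1 * (UW * A) = X * (UW * A) * E1 := by
    calc E1 * (UW * A) = X * G2 * UW * A := by rw [hii]; simp only [Matrix.mul_assoc]
      _ = X * (UW * E1) * A := by rw [hi]; simp only [Matrix.mul_assoc]
      _ = X * UW * (E1 * A) := by simp only [Matrix.mul_assoc]
      _ = X * (UW * A) * E1 := by rw [hiii]; simp only [Matrix.mul_assoc]
  have hgE : mt bar g = E1 := by rw [hg, gM]
  have huU : mt bar u = UW * A := by rw [hu, uM]
  rw [mt_mul, mt_mul, mt_mul, hgE, huU, hkey]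
  calc X * (UW * A) * E1 * mt bar g⁻¹ * mt bar u⁻¹
      = X * (UW * A) * (mt bar g * mt bar g⁻¹) * mt bar u⁻¹ := by
        rw [hgE]; simp only [Matrix.mul_assoc]
    _ = X * (mt bar u * mt bar u⁻¹) := by
        rw [mt_mul_inv, Matrix.mul_one, huU]; simp only [Matrix.mul_assoc]
    _ = X := by rw [mt_mul_inv, Matrix.mul_one]

include hb in
/-- (XU1) -/
theorem mt_comm_g_u {c : K} (hc : c + bar c + 1 = 0) (u g : SUk) (hu : mt bar u = uM bar c)
    (hg : mt bar g = gM bar c) : mt bar (g * u * g⁻¹ * u⁻¹) = B12M bar 1 :=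
  mt_comm_g_u_core bar hb hc (Cfsg.Agent.Helper75.RUn.isU_UWM bar hb hc)
    (Cfsg.Agent.Helper75.RUn.det_UWM bar c) (Cfsg.Agent.Helper33.RUn.UWM_vE1 bar c)
    (Cfsg.Agent.Helper33.RUn.UWM_vB bar c) u g hu hg

end Cfsg.Agent.Helper59.RUn
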