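-- helper59: S2282 piece (XU2) for helper84: `h u h⁻¹ = UW' C_12(1)` (core form: the facts of (UWA) and (NH) that
-- are used appear as explicit hypotheses)
import Mathlib
import Cfsg.Agent.Helper84.RUn.Defs
import Cfsg.Agent.Helper59.RUnCommon
import Cfsg.Agent.Helper75.RUnUWA
import Cfsg.Agent.Helper33.RUnUWA2
import Cfsg.Agent.Helper41.RUnNH

set_option autoImplicit false
set_option linter.unusedSectionVars false
set_option linter.unusedVariables false

namespace Cfsg.Agent.Helper59.RUn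

open Matrix Cfsg.Agent.Helper84.RUn Cfsg.Agent.Helper84.PSU

variable {K : Type*} [Field K] {j : ℕ}

local notation "Vec" => (I (j + 2) 1 → K)
local notation "Mat" => Matrix (I (j + 2) 1) (I (j + 2) 1) K

variable (bar : K →+* K) (hb : ∀ x, bar (bar x) = x)

set_option quotPrecheck false in
local notation "SUk" => ↥(SUm (j + 2) 1 bar)

/-- an isometry fixing `e_1` and `f_1` preserves `V'` -/
theorem inV'_mulVec_of_isU {G : Mat} (hG : IsU bar G) (hE1 : G *ᵥ (vE i1 : Vec) = vE i1)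
    (hF1 : G *ᵥ (vF i1 : Vec) = vF i1) (x : Vec) (hx : InV' x) : InV' (G *ᵥ x) := by
  constructor
  · have h1 : hf bar (G *ᵥ x) (vF i1 : Vec) = (G *ᵥ x) (eI i1) := by
      unfold vF; rw [hf_bv_right]; rfl
    have h2 : hf bar x (vF i1 : Vec) = x (eI i1) := by
      unfold vF; rw [hf_bv_right]; rfl
    rw [← h1, ← hF1, hG, h2, hx.1]
  · have h1 : hf bar (G *ᵥ x) (vE i1 : Vec) = (G *ᵥ x) (fI i1) := by
      unfold vE; rw [hf_bv_right]; rfl
    have h2 : hf bar x (vE i1 : Vec) = x (fI i1) := by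
      unfold vE; rw [hf_bv_right]; rfl
    rw [← h1, ← hE1, hG, h2, hx.2]

theorem inV'_bv (y : I (j + 2) 1) (h1 : y ≠ eI i1) (h2 : y ≠ fI i1) : InV' (bv y : Vec) := by
  constructor
  · rw [bv_apply, if_neg (fun h => h1 h.symm)]
  · rw [bv_apply, if_neg (fun h => h2 h.symm)]

theorem hM_mulVec_of_inV' (hhv : ∀ x : Vec, (hM : Mat) *ᵥ x = fun y =>
    if y = eI i1 then x (fI i1) else if y = fI i1 then x (eI i1) else -x y)
    (x : Vec) (hx : InV' x) : (hM : Mat) *ᵥ x = -x := by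
  rw [hhv]
  funext y
  by_cases h1 : y = eI i1
  · rw [if_pos h1, h1, Pi.neg_apply, hx.1, hx.2, neg_zero]
  · rw [if_neg h1]
    by_cases h2 : y = fI i1
    · rw [if_pos h2, h2, Pi.neg_apply, hx.1, hx.2, neg_zero]
    · rw [if_neg h2, Pi.neg_apply]

theorem hM_mulVec_vE1 (hhv : ∀ x : Vec, (hM : Mat) *ᵥ x = fun y =>
    if y = eI i1 then x (fI i1) else if y = fI i1 then x (eI i1) else -x y) :
    (hM : Mat) *ᵥ (vE i1 : Vec) = vF i1 := by
  rw [hhv]
  funext y
  unfold vE vF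
  simp only [bv_apply]
  by_cases h1 : y = eI i1
  · subst h1; simp
  · rw [if_neg h1]
    by_cases h2 : y = fI i1
    · subst h2; simp
    · rw [if_neg h2, if_neg h1, if_neg h2, neg_zero]

theorem hM_mulVec_vF1 (hhv : ∀ x : Vec, (hM : Mat) *ᵥ x = fun y =>
    if y = eI i1 then x (fI i1) else if y = fI i1 then x (eI i1) else -x y) :
    (hM : Mat) *ᵥ (vF i1 : Vec) = vE i1 := by
  rw [hhv]
  funext y
  unfold vE vF
  simp only [bv_apply]
  by_cases h1 : y = eI i1
  · subst h1; simp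
  · rw [if_neg h1]
    by_cases h2 : y = fI i1
    · subst h2; simp
    · rw [if_neg h2, if_neg h1, if_neg h2, neg_zero]

include hb in
/-- (XU2), core form -/
theorem mt_conj_h_u_core {c : K} (hc : c + bar c + 1 = 0)
    (hU : IsU bar (UWM bar c : Mat))
    (hE1 : UWM bar c *ᵥ (vE i1 : Vec) = vE i1) (hF1 : UWM bar c *ᵥ (vF i1 : Vec) = vF i1)
    (hhU : IsU bar (hM : Mat)) (hhh : (hM : Mat) * hM = 1)
    (hhv : ∀ x : Vec, (hM : Mat) *ᵥ x = fun y =>
      if y = eI i1 then x (fI i1) else if y = fI i1 then x (eI i1) else -x y)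
    (u h : SUk) (hu : mt bar u = uM bar c) (hh : mt bar h = hM) :
    mt bar (h * u * h⁻¹) = UWM bar c * C12M bar 1 := by
  set UW : Mat := UWM bar c with hUW
  have hinv : mt bar h⁻¹ = hM := by
    calc mt bar h⁻¹ = mt bar h⁻¹ * ((hM : Mat) * hM) := by rw [hhh, Matrix.mul_one]
      _ = (mt bar h⁻¹ * mt bar h) * hM := by rw [hh, Matrix.mul_assoc]
      _ = hM := by rw [mt_inv_mul, Matrix.one_mul]
  -- `h` commutes with `UW'`
  have hcomm : (hM : Mat) * UW = UW * hM := by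
    apply mat_ext_bv
    intro y
    rw [← Matrix.mulVec_mulVec, ← Matrix.mulVec_mulVec]
    by_cases h1 : y = eI i1
    · subst h1
      have e1 : (bv (eI i1) : Vec) = vE i1 := rfl
      rw [e1, hE1, hM_mulVec_vE1 hhv, hF1]
    · by_cases h2 : y = fI i1
      · subst h2
        have e1 : (bv (fI i1) : Vec) = vF i1 := rfl
        rw [e1, hF1, hM_mulVec_vF1 hhv, hE1]
      · have hy : InV' (bv y : Vec) := inV'_bv y h1 h2
        have hy' : InV' (UW *ᵥ (bv y : Vec)) := inV'_mulVec_of_isU bar hU hE1 hF1 _ hy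
        rw [hM_mulVec_of_inV' hhv _ hy', hM_mulVec_of_inV' hhv _ hy, Matrix.mulVec_neg]
  -- the conjugate of `A_12(1)`
  have hf2 : InV' (vF i2 : Vec) :=
    inV'_bv _ (by intro h; cases h) (by
      intro h
      have h' : (i2 : Fin (j + 2)) = i1 := by
        have := Sum.inr_injective h
        exact Sum.inr_injective this
      exact i1_ne_i2 h'.symm)
  have hconj : (hM : Mat) * A12M bar * hM = C12M bar 1 := by
    rw [A12M, conj_eichM bar hhU hhh, hM_mulVec_vE1 hhv, Matrix.mulVec_neg,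
      hM_mulVec_of_inV' hhv _ hf2, neg_neg, C12M, one_smul]
  rw [mt_mul, mt_mul, hinv, hh, hu, uM]
  calc (hM : Mat) * (UW * A12M bar) * hM = ((hM : Mat) * UW) * A12M bar * hM := by
        simp only [Matrix.mul_assoc]
    _ = UW * ((hM : Mat) * A12M bar * hM) := by rw [hcomm]; simp only [Matrix.mul_assoc]
    _ = UW * C12M bar 1 := by rw [hconj]

include hb in
/-- (XU2) -/
theorem mt_conj_h_u {c : K} (hc : c + bar c + 1 = 0) (u h : SUk) (hu : mt bar u = uM bar c)
    (hh : mt bar h = hM) : mt bar (h * u * h⁻¹) = UWM bar c * C12M bar 1 :=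
  mt_conj_h_u_core bar hb hc (Cfsg.Agent.Helper75.RUn.isU_UWM bar hb hc)
    (Cfsg.Agent.Helper33.RUn.UWM_vE1 bar c) (Cfsg.Agent.Helper33.RUn.UWM_vF1 bar c)
    (Cfsg.Agent.Helper41.RUn.isU_hM bar hb) Cfsg.Agent.Helper41.RUn.hM_mul_hM
    Cfsg.Agent.Helper41.RUn.hM_mulVec u h hu hh

end Cfsg.Agent.Helper59.RUn
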