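-- helper59: piece (RAD) `rad_of_extraspecial` of helper77's S5289 swarm #14084.
import Mathlib
import Cfsg.Agent.Helper77.Res.Defs
import Cfsg.Agent.Helper63.BG12Cube
import Cfsg.Agent.Helper79.BlkIDX

set_option autoImplicit false

universe u

namespace Cfsg.Agent.Helper59.Res

open Subgroup Cfsg.Agent.Helper77.Res Cfsg.Agent.Helper63.BG12

variable {Ω : Type u} [Group Ω] {p : ℕ} [hp : Fact p.Prime]

section localcfg
variable {T P : Subgroup Ω} {A : Subgroup (MulAut ↥P)} {B : Subgroup (MulAut ↥T)}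

/-! ### the restriction homomorphism `T → Aut(P)` -/

omit hp in
theorem RAD_conj_mem (hn : T ≤ normalizer (P : Set Ω)) (t : T) (x : P) :
    (t : Ω) * (x : Ω) * (t : Ω)⁻¹ ∈ P :=
  (Subgroup.mem_normalizer_iff.mp (hn t.2) x).mp x.2

omit hp in
theorem RAD_conj_mem' (hn : T ≤ normalizer (P : Set Ω)) (t : T) (x : P) :
    (t : Ω)⁻¹ * (x : Ω) * (t : Ω) ∈ P := by
  have h := (Subgroup.mem_normalizer_iff.mp (hn t.2) ((t : Ω)⁻¹ * (x : Ω) * (t : Ω))).mpr
  apply h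
  have : (t : Ω) * ((t : Ω)⁻¹ * (x : Ω) * (t : Ω)) * (t : Ω)⁻¹ = x := by group
  rw [this]
  exact x.2

/-- conjugation by `t ∈ T` restricted to `P` -/
def RAD_res (hn : T ≤ normalizer (P : Set Ω)) : T →* MulAut ↥P where
  toFun t :=
    { toFun := fun x => ⟨(t : Ω) * (x : Ω) * (t : Ω)⁻¹, RAD_conj_mem hn t x⟩
      invFun := fun x => ⟨(t : Ω)⁻¹ * (x : Ω) * (t : Ω), RAD_conj_mem' hn t x⟩
      left_inv := fun x => by
        apply Subtype.ext
        show (t : Ω)⁻¹ * ((t : Ω) * (x : Ω) * (t : Ω)⁻¹) * (t : Ω) = x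
        group
      right_inv := fun x => by
        apply Subtype.ext
        show (t : Ω) * ((t : Ω)⁻¹ * (x : Ω) * (t : Ω)) * (t : Ω)⁻¹ = x
        group
      map_mul' := fun x y => by
        apply Subtype.ext
        show (t : Ω) * ((x : Ω) * (y : Ω)) * (t : Ω)⁻¹ =
          ((t : Ω) * (x : Ω) * (t : Ω)⁻¹) * ((t : Ω) * (y : Ω) * (t : Ω)⁻¹)
        group }
  map_one' := by
    ext x
    show ((1 : T) : Ω) * (x : Ω) * ((1 : T) : Ω)⁻¹ = x
    simp
  map_mul' := fun s t => by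
    ext x
    show ((s * t : T) : Ω) * (x : Ω) * ((s * t : T) : Ω)⁻¹ =
      (s : Ω) * ((t : Ω) * (x : Ω) * (t : Ω)⁻¹) * (s : Ω)⁻¹
    rw [Subgroup.coe_mul]
    group

omit hp in
theorem RAD_res_apply (hn : T ≤ normalizer (P : Set Ω)) (t : T) (x : P) :
    ((RAD_res hn t x : P) : Ω) = (t : Ω) * (x : Ω) * (t : Ω)⁻¹ := rfl

omit hp in
theorem RAD_conjBy_T_iff (hn : T ≤ normalizer (P : Set Ω)) (β : MulAut ↥P) :
    ConjBy T P β ↔ β ∈ (RAD_res hn).range := by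
  constructor
  · rintro ⟨g, hg, h⟩
    refine ⟨⟨g, hg⟩, ?_⟩
    ext x
    rw [RAD_res_apply, h x]
  · rintro ⟨t, rfl⟩
    exact ⟨t, t.2, fun x => RAD_res_apply hn t x⟩

omit hp in
theorem RAD_conjBy_P_iff (hn : T ≤ normalizer (P : Set Ω)) (hle : P ≤ T) (β : MulAut ↥P) :
    ConjBy P P β ↔ β ∈ (P.subgroupOf T).map (RAD_res hn) := by
  constructor
  · rintro ⟨g, hg, h⟩
    refine ⟨⟨g, hle hg⟩, ?_, ?_⟩
    · exact Subgroup.mem_subgroupOf.mpr hg
    · ext x
      rw [RAD_res_apply, h x]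
  · rintro ⟨t, ht, rfl⟩
    exact ⟨t, Subgroup.mem_subgroupOf.mp ht, fun x => RAD_res_apply hn t x⟩

end localcfg

/-! ### abstract group theory: a normal nonabelian subgroup of order `p³` and exponent `p`, self-centralizing,
in a finite `p`-group has index `p` -/

section abs
variable {G : Type u} [Group G] [Finite G]

/-- class two: `a^k b a^-k = [a,b]^k b` -/
theorem RAD_conj_pow {P : Subgroup G} (hcube : IsCube p P) {a b : G} (ha : a ∈ P) (hb : b ∈ P) (k : ℕ) :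
    a ^ k * b * (a ^ k)⁻¹ = (a * b * a⁻¹ * b⁻¹) ^ k * b := by
  have hcz : a * b * a⁻¹ * b⁻¹ ∈ cz P := hcube.comm_mem_cz ha hb
  have hca : Commute a (a * b * a⁻¹ * b⁻¹) := cz_comm hcz ha
  induction k with
  | zero => simp
  | succ k ih =>
    have hck : a * (a * b * a⁻¹ * b⁻¹) ^ k = (a * b * a⁻¹ * b⁻¹) ^ k * a := (hca.pow_right k).eq
    calc a ^ (k + 1) * b * (a ^ (k + 1))⁻¹ = a * (a ^ k * b * (a ^ k)⁻¹) * a⁻¹ := by
          rw [pow_succ']; group
      _ = a * ((a * b * a⁻¹ * b⁻¹) ^ k * b) * a⁻¹ := by rw [ih]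
      _ = (a * (a * b * a⁻¹ * b⁻¹) ^ k) * b * a⁻¹ := by group
      _ = ((a * b * a⁻¹ * b⁻¹) ^ k * a) * b * a⁻¹ := by rw [hck]
      _ = (a * b * a⁻¹ * b⁻¹) ^ k * ((a * b * a⁻¹ * b⁻¹) * b) := by group
      _ = (a * b * a⁻¹ * b⁻¹) ^ (k + 1) * b := by rw [pow_succ]; group

/-- the centre of `P` is generated by any nontrivial element -/
theorem RAD_cz_powers {P : Subgroup G} (hcube : IsCube p P) {c : G} (hcz : c ∈ cz P) (hc1 : c ≠ 1)
    {z : G} (hz : z ∈ cz P) : ∃ k : ℕ, c ^ k = z := by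
  have hmem : (⟨z, hz⟩ : cz P) ∈ zpowers (⟨c, hcz⟩ : cz P) :=
    mem_zpowers_of_prime_card hcube.card_cz (fun h1 => hc1 (congrArg Subtype.val h1))
  rw [← mem_powers_iff_mem_zpowers] at hmem
  obtain ⟨k, hk⟩ := hmem
  exact ⟨k, congrArg Subtype.val hk⟩

/-- an element acting trivially on `P / Z(P)` lies in `P` when `C(P) ≤ P` -/
theorem RAD_heis {P : Subgroup G} (hcube : IsCube p P)
    (hcent : ∀ t : G, (∀ x ∈ P, t * x = x * t) → t ∈ P) (t : G)
    (h : ∀ x ∈ P, t * x * t⁻¹ * x⁻¹ ∈ cz P) : t ∈ P := by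
  have hpp := hp.out
  obtain ⟨a, ha, b, hb, hab⟩ : ∃ a ∈ P, ∃ b ∈ P, a * b ≠ b * a := by
    by_contra hcon
    push Not at hcon
    apply hcube.nonab
    exact ⟨⟨fun x y => Subtype.ext (hcon x x.2 y y.2)⟩⟩
  have haZ : a ∉ cz P := fun hz => hab ((cz_comm hz hb).symm)
  -- step 1: adjust by `s ∈ P` to centralize `a`
  have hz1 : t * a * t⁻¹ * a⁻¹ ∈ cz P := h a ha
  obtain ⟨s, hs, hsa⟩ := hcube.exists_conj ha haZ hz1
  have hsa' : s * a * s⁻¹ = t * a * t⁻¹ := by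
    rw [hsa, cz_comm hz1 ha]
    group
  have ht1a : (s⁻¹ * t) * a * (s⁻¹ * t)⁻¹ = a := by
    calc (s⁻¹ * t) * a * (s⁻¹ * t)⁻¹ = s⁻¹ * (t * a * t⁻¹) * s := by group
      _ = s⁻¹ * (s * a * s⁻¹) * s := by rw [hsa']
      _ = a := by group
  have hz2 : (s⁻¹ * t) * b * (s⁻¹ * t)⁻¹ * b⁻¹ ∈ cz P := by
    have hw : t * b * t⁻¹ * b⁻¹ ∈ cz P := h b hb
    have hsinv : s⁻¹ ∈ P := inv_mem hs
    have hcomm : s⁻¹ * b * s⁻¹⁻¹ * b⁻¹ ∈ cz P := hcube.comm_mem_cz hsinv hb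
    have hws : s⁻¹ * (t * b * t⁻¹ * b⁻¹) = (t * b * t⁻¹ * b⁻¹) * s⁻¹ := cz_comm hw hsinv
    have : (s⁻¹ * t) * b * (s⁻¹ * t)⁻¹ * b⁻¹ = (t * b * t⁻¹ * b⁻¹) * (s⁻¹ * b * s⁻¹⁻¹ * b⁻¹) := by
      calc (s⁻¹ * t) * b * (s⁻¹ * t)⁻¹ * b⁻¹ = (s⁻¹ * (t * b * t⁻¹ * b⁻¹)) * (b * s * b⁻¹) := by group
        _ = ((t * b * t⁻¹ * b⁻¹) * s⁻¹) * (b * s * b⁻¹) := by rw [hws]
        _ = _ := by group
    rw [this]
    exact mul_mem hw hcomm
  -- the commutator `c = [a,b]` generates the centre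
  have hcz : a * b * a⁻¹ * b⁻¹ ∈ cz P := hcube.comm_mem_cz ha hb
  have hc1 : a * b * a⁻¹ * b⁻¹ ≠ 1 := by
    intro h1
    apply hab
    calc a * b = (a * b * a⁻¹ * b⁻¹) * b * a := by group
      _ = b * a := by rw [h1, one_mul]
  obtain ⟨k, hk⟩ := RAD_cz_powers hcube hcz hc1 hz2
  -- step 2: adjust by `a ^ k` to centralize `b` too
  have hCa : Commute ((a ^ k)⁻¹ * (s⁻¹ * t)) a := by
    have h1 : Commute (s⁻¹ * t) a := by
      show (s⁻¹ * t) * a = a * (s⁻¹ * t)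
      calc (s⁻¹ * t) * a = ((s⁻¹ * t) * a * (s⁻¹ * t)⁻¹) * (s⁻¹ * t) := by group
        _ = a * (s⁻¹ * t) := by rw [ht1a]
    exact (Commute.pow_self a k).inv_left.mul_left h1
  have hCb : Commute ((a ^ k)⁻¹ * (s⁻¹ * t)) b := by
    have h1 : (s⁻¹ * t) * b * (s⁻¹ * t)⁻¹ = a ^ k * b * (a ^ k)⁻¹ := by
      rw [RAD_conj_pow hcube ha hb k, hk]
      group
    show (a ^ k)⁻¹ * (s⁻¹ * t) * b = b * ((a ^ k)⁻¹ * (s⁻¹ * t))
    calc (a ^ k)⁻¹ * (s⁻¹ * t) * b = (a ^ k)⁻¹ * ((s⁻¹ * t) * b * (s⁻¹ * t)⁻¹) * (s⁻¹ * t) := by group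
      _ = (a ^ k)⁻¹ * (a ^ k * b * (a ^ k)⁻¹) * (s⁻¹ * t) := by rw [h1]
      _ = b * ((a ^ k)⁻¹ * (s⁻¹ * t)) := by group
  -- `t2` centralizes `P`
  have hCc : Commute ((a ^ k)⁻¹ * (s⁻¹ * t)) (a * b * a⁻¹ * b⁻¹) :=
    ((hCa.mul_right hCb).mul_right hCa.inv_right).mul_right hCb.inv_right
  have hLK : tsub hcube ha ≤ P ⊓ centralizer {(a ^ k)⁻¹ * (s⁻¹ * t)} := by
    rintro _ ⟨i, z, hz, rfl⟩
    refine mem_inf.mpr ⟨mul_mem (pow_mem ha i) (cz_le P hz), ?_⟩
    rw [mem_centralizer_singleton_iff]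
    obtain ⟨j, rfl⟩ := RAD_cz_powers hcube hcz hc1 hz
    exact ((hCa.pow_right i).mul_right (hCc.pow_right j)).eq.symm
  have hbK : b ∈ P ⊓ centralizer {(a ^ k)⁻¹ * (s⁻¹ * t)} := by
    refine mem_inf.mpr ⟨hb, ?_⟩
    rw [mem_centralizer_singleton_iff]
    exact hCb.eq.symm
  have hbL : b ∉ tsub hcube ha := fun hbL => hab (tsub_comm hcube ha (self_mem_tsub hcube ha) hbL)
  have hKP : P ⊓ centralizer {(a ^ k)⁻¹ * (s⁻¹ * t)} = P := by
    apply Subgroup.eq_of_le_of_card_ge inf_le_left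
    obtain ⟨j, hj3, hj⟩ := (Nat.dvd_prime_pow hpp).1
      (hcube.card ▸ Subgroup.card_dvd_of_le (inf_le_left :
        P ⊓ centralizer {(a ^ k)⁻¹ * (s⁻¹ * t)} ≤ P))
    have hdvd : p ^ 2 ∣ p ^ j := by
      rw [← hj, ← card_tsub hcube ha haZ]
      exact Subgroup.card_dvd_of_le hLK
    have hj2 : 2 ≤ j := (Nat.pow_dvd_pow_iff_le_right hpp.one_lt).mp hdvd
    have hjne : j ≠ 2 := by
      intro h2
      apply hbL
      have : tsub hcube ha = P ⊓ centralizer {(a ^ k)⁻¹ * (s⁻¹ * t)} :=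
        Subgroup.eq_of_le_of_card_ge hLK (by rw [hj, h2, card_tsub hcube ha haZ])
      rw [this]
      exact hbK
    have hj3' : j = 3 := by omega
    rw [hcube.card, hj, hj3']
  have ht2P : (a ^ k)⁻¹ * (s⁻¹ * t) ∈ P := by
    apply hcent
    intro x hx
    have hxK : x ∈ P ⊓ centralizer {(a ^ k)⁻¹ * (s⁻¹ * t)} := by rw [hKP]; exact hx
    have := (mem_inf.mp hxK).2
    rw [mem_centralizer_singleton_iff] at this
    exact this.symm
  have : t = s * (a ^ k * ((a ^ k)⁻¹ * (s⁻¹ * t))) := by group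
  rw [this]
  exact mul_mem hs (mul_mem (pow_mem ha k) ht2P)

omit [Finite G] hp in
theorem RAD_cz_normal {P : Subgroup G} [hPn : P.Normal] : (cz P).Normal := by
  constructor
  intro z hz g
  rw [mem_cz_iff] at hz ⊢
  refine ⟨hPn.conj_mem z hz.1 g, fun y hy => ?_⟩
  have hy' : g⁻¹ * y * g ∈ P := by
    have := hPn.conj_mem y hy g⁻¹
    simpa using this
  have h := hz.2 _ hy'
  calc y * (g * z * g⁻¹) = g * (g⁻¹ * y * g * z) * g⁻¹ := by group
    _ = g * (z * (g⁻¹ * y * g)) * g⁻¹ := by rw [h]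
    _ = g * z * g⁻¹ * y := by group

/-- a normal self-centralizing cube in a `p`-group has index `p` (or `1`) -/
theorem RAD_index_dvd (hG : IsPGroup p G) {P : Subgroup G} [hPn : P.Normal] (hcube : IsCube p P)
    (hcent : ∀ t : G, (∀ x ∈ P, t * x = x * t) → t ∈ P) : P.index ∣ p := by
  have hZn : (cz P).Normal := RAD_cz_normal
  have hpp := hp.out
  have hsurj : Function.Surjective (QuotientGroup.mk' (cz P)) := QuotientGroup.mk'_surjective _
  have hEn : (P.map (QuotientGroup.mk' (cz P))).Normal := hPn.map (QuotientGroup.mk' (cz P)) hsurj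
  have hker : (QuotientGroup.mk' (cz P)).ker ≤ P := by
    rw [QuotientGroup.ker_mk']
    exact cz_le P
  have hEidx : (P.map (QuotientGroup.mk' (cz P))).index = P.index :=
    Subgroup.index_map_eq P hsurj hker
  have hEcard : Nat.card (P.map (QuotientGroup.mk' (cz P))) = p ^ 2 := by
    have h1 : Nat.card G = Nat.card (G ⧸ cz P) * Nat.card (cz P) :=
      Subgroup.card_eq_card_quotient_mul_card_subgroup _
    have h2 : Nat.card P * P.index = Nat.card G := P.card_mul_index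
    have h3 : Nat.card (P.map (QuotientGroup.mk' (cz P))) *
        (P.map (QuotientGroup.mk' (cz P))).index = Nat.card (G ⧸ cz P) :=
      (P.map (QuotientGroup.mk' (cz P))).card_mul_index
    rw [hcube.card_cz] at h1
    rw [hcube.card] at h2
    rw [hEidx] at h3
    have hidx : 0 < P.index := Nat.pos_of_ne_zero P.index_ne_zero_of_finite
    have h4 : (p ^ 2 * P.index) * p = (Nat.card (P.map (QuotientGroup.mk' (cz P))) * P.index) * p := by
      rw [h3, ← h1, ← h2]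
      ring
    have h5 := Nat.eq_of_mul_eq_mul_right hpp.pos h4
    exact (Nat.eq_of_mul_eq_mul_right hidx h5).symm
  have hidx := Cfsg.Agent.Helper79.Blk.index_centralizer_dvd (hG.to_quotient (cz P))
    (P.map (QuotientGroup.mk' (cz P))) hEcard
  have hCE : centralizer ((P.map (QuotientGroup.mk' (cz P)) : Subgroup (G ⧸ cz P)) : Set (G ⧸ cz P)) ≤
      P.map (QuotientGroup.mk' (cz P)) := by
    intro q hq
    obtain ⟨t, rfl⟩ := hsurj q
    refine ⟨t, ?_, rfl⟩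
    apply RAD_heis hcube hcent
    intro x hx
    rw [← QuotientGroup.eq_one_iff]
    have hxq : (QuotientGroup.mk' (cz P)) x ∈ P.map (QuotientGroup.mk' (cz P)) := ⟨x, hx, rfl⟩
    have hcomm := (mem_centralizer_iff.mp hq) _ hxq
    have : ((t * x * t⁻¹ * x⁻¹ : G) : G ⧸ cz P) =
        (QuotientGroup.mk' (cz P)) t * (QuotientGroup.mk' (cz P)) x *
          ((QuotientGroup.mk' (cz P)) t)⁻¹ * ((QuotientGroup.mk' (cz P)) x)⁻¹ := rfl
    rw [this, ← hcomm]
    group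
  rw [← hEidx]
  exact (Subgroup.index_dvd_of_le hCE).trans hidx

theorem RAD_sup_eq_top (hG : IsPGroup p G) {P : Subgroup G} [hPn : P.Normal] (hcube : IsCube p P)
    (hcent : ∀ t : G, (∀ x ∈ P, t * x = x * t) → t ∈ P) {t₀ : G} (ht₀ : t₀ ∉ P) :
    zpowers t₀ ⊔ P = ⊤ := by
  have hpp := hp.out
  have hdvd := RAD_index_dvd hG hcube hcent
  have hPK : P ≤ zpowers t₀ ⊔ P := le_sup_right
  have hK : (zpowers t₀ ⊔ P).index ∣ p := (Subgroup.index_dvd_of_le hPK).trans hdvd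
  rcases (Nat.dvd_prime hpp).mp hK with h1 | h1
  · exact Subgroup.index_eq_one.mp h1
  · exfalso
    have hPp : P.index = p := by
      rcases (Nat.dvd_prime hpp).mp hdvd with h2 | h2
      · exfalso
        rw [Subgroup.index_eq_one] at h2
        exact ht₀ (h2 ▸ Subgroup.mem_top t₀)
      · exact h2
    have hrel := Subgroup.relIndex_mul_index hPK
    rw [h1, hPp] at hrel
    have hrel1 : P.relIndex (zpowers t₀ ⊔ P) = 1 := by
      have : P.relIndex (zpowers t₀ ⊔ P) * p = 1 * p := by rw [hrel, one_mul]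
      exact Nat.eq_of_mul_eq_mul_right hpp.pos this
    rw [Subgroup.relIndex_eq_one] at hrel1
    exact ht₀ (hrel1 (le_sup_left (a := zpowers t₀) (b := P) (mem_zpowers t₀)))

end abs

section localcfg2
variable {T P : Subgroup Ω} {A : Subgroup (MulAut ↥P)} {B : Subgroup (MulAut ↥T)}

omit hp in
theorem RAD_res_inner (hn : T ≤ normalizer (P : Set Ω)) (hle : P ≤ T) (y : P) :
    RAD_res hn ⟨(y : Ω), hle y.2⟩ = MulAut.conj y := by
  ext z
  rfl

omit hp in
theorem RAD_conj_inner (α : MulAut ↥P) (y : P) :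
    α * MulAut.conj y * α⁻¹ = MulAut.conj (α y) := by
  ext z
  simp [MulAut.mul_apply, MulAut.conj_apply, map_mul, map_inv]

theorem rad_of_extraspecial (hp2 : p ≠ 2) (hc : Cfg p T P A B) (hPcard : Nat.card P = p ^ 3)
    (hPexp : ∀ x ∈ P, x ^ p = 1) (hPna : ∃ a ∈ P, ∃ b ∈ P, a * b ≠ b * a)
    (hnpc : ¬ PClosed T P A) : Rad p P A := by
  have hfin : Finite T := hc.fin
  have hcube : IsCube p (P.subgroupOf T) := by
    refine ⟨?_, ?_, ?_⟩
    · rw [← hPcard]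
      exact Nat.card_congr (Subgroup.subgroupOfEquivOfLe hc.le).toEquiv
    · intro hcomm
      obtain ⟨a, ha, b, hb, hab⟩ := hPna
      apply hab
      have h1 := hcomm.is_comm.comm (⟨⟨a, hc.le ha⟩, mem_subgroupOf.mpr ha⟩ : P.subgroupOf T)
        ⟨⟨b, hc.le hb⟩, mem_subgroupOf.mpr hb⟩
      have h2 := congrArg (fun x : P.subgroupOf T => ((x : T) : Ω)) h1
      exact h2
    · intro t ht
      apply Subtype.ext
      have := hPexp (t : Ω) (mem_subgroupOf.mp ht)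
      simpa using this
  have hPn : (P.subgroupOf T).Normal := by
    constructor
    intro n hn g
    rw [mem_subgroupOf] at hn ⊢
    exact (Subgroup.mem_normalizer_iff.mp (hc.norm g.2) n).mp hn
  have hcent : ∀ t : T, (∀ x ∈ P.subgroupOf T, t * x = x * t) → t ∈ P.subgroupOf T := by
    intro t ht
    rw [mem_subgroupOf]
    apply hc.cent t t.2
    intro x hx
    have := ht ⟨x, hc.le hx⟩ (mem_subgroupOf.mpr hx)
    exact congrArg Subtype.val this
  intro N hNA hNp hNnorm β hβ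
  by_contra hβ'
  apply hnpc
  have hSTp : IsPGroup p (RAD_res hc.norm).range :=
    IsPGroup.of_surjective hc.pgrp (RAD_res hc.norm).rangeRestrict
      (RAD_res hc.norm).rangeRestrict_surjective
  have hSTA : (RAD_res hc.norm).range ≤ A := fun γ hγ =>
    hc.conj_mem γ ((RAD_conjBy_T_iff hc.norm γ).mpr hγ)
  have hnormN : (RAD_res hc.norm).range ≤ normalizer (N : Set (MulAut ↥P)) := by
    intro γ hγ
    rw [Subgroup.mem_normalizer_iff]
    intro δ
    constructor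
    · intro hδ
      exact hNnorm γ (hSTA hγ) δ hδ
    · intro hδ
      have := hNnorm γ⁻¹ (inv_mem (hSTA hγ)) _ hδ
      have h2 : γ⁻¹ * (γ * δ * γ⁻¹) * γ⁻¹⁻¹ = δ := by group
      rwa [h2] at this
  have hQp : IsPGroup p ((RAD_res hc.norm).range ⊔ N : Subgroup (MulAut ↥P)) :=
    IsPGroup.to_sup_of_normal_right' hSTp hNp hnormN
  have hNle : N ≤ (RAD_res hc.norm).range := by
    intro γ hγ
    rw [← RAD_conjBy_T_iff hc.norm γ]
    exact hc.sylow _ (sup_le hSTA hNA) hQp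
      (fun α hα => le_sup_left (a := (RAD_res hc.norm).range) (b := N)
        ((RAD_conjBy_T_iff hc.norm α).mp hα)) γ
      (le_sup_right (a := (RAD_res hc.norm).range) (b := N) hγ)
  obtain ⟨t₀, rfl⟩ := hNle hβ
  have ht₀ : t₀ ∉ P.subgroupOf T := by
    intro hmem
    apply hβ'
    rw [RAD_conjBy_P_iff hc.norm hc.le]
    exact ⟨t₀, hmem, rfl⟩
  have htop := RAD_sup_eq_top hc.pgrp hcube hcent ht₀
  have hrange : (RAD_res hc.norm).range =
      zpowers (RAD_res hc.norm t₀) ⊔ (P.subgroupOf T).map (RAD_res hc.norm) := by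
    rw [MonoidHom.range_eq_map, ← htop, Subgroup.map_sup, MonoidHom.map_zpowers]
  intro α hα β' hβ'T
  rw [RAD_conjBy_T_iff hc.norm] at hβ'T ⊢
  have hle : zpowers (RAD_res hc.norm t₀) ⊔ (P.subgroupOf T).map (RAD_res hc.norm) ≤
      (RAD_res hc.norm).range.comap (MulAut.conj α).toMonoidHom := by
    apply sup_le
    · rw [Subgroup.zpowers_le]
      show (MulAut.conj α) (RAD_res hc.norm t₀) ∈ (RAD_res hc.norm).range
      rw [MulAut.conj_apply]
      exact hNle (hNnorm α hα _ hβ)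
    · rintro _ ⟨x, hx, rfl⟩
      show (MulAut.conj α) (RAD_res hc.norm x) ∈ (RAD_res hc.norm).range
      rw [MulAut.conj_apply]
      have hxP : (x : Ω) ∈ P := mem_subgroupOf.mp hx
      have hx' : x = ⟨((⟨(x : Ω), hxP⟩ : P) : Ω), hc.le hxP⟩ := rfl
      rw [hx', RAD_res_inner hc.norm hc.le, RAD_conj_inner, ← RAD_res_inner hc.norm hc.le]
      exact ⟨_, rfl⟩
  rw [hrange] at hβ'T
  have := hle hβ'T
  rw [Subgroup.mem_comap] at this
  simpa [MulAut.conj_apply] using this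

end localcfg2

end Cfsg.Agent.Helper59.Res
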