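-- helper59: bundle (BAS2) of helper62's S3331 block M wave 0 (#15690).
import Cfsg.Agent.Helper62.SC3.Defs3

set_option autoImplicit false
set_option linter.unusedSectionVars false

namespace Cfsg.Agent.Helper59.SC3

open Cfsg.Agent.Helper62.SC3

universe u

variable {G : Type u} [Group G] [Finite G]

omit [Finite G] in
theorem BAS2_x_pow_three (S : Setup G) : S.x ^ 3 = 1 := by
  rw [← S.hx]
  exact pow_orderOf_eq_one _

omit [Finite G] in
theorem BAS2_x_ne_one (S : Setup G) : S.x ≠ 1 := by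
  intro h
  have := S.hx
  rw [h, orderOf_one] at this
  omega

omit [Finite G] in
theorem BAS2_x_inv (S : Setup G) : S.x⁻¹ = S.x ^ 2 := by
  apply inv_eq_of_mul_eq_one_right
  rw [← pow_succ', BAS2_x_pow_three]

omit [Finite G] in
theorem BAS2_t_sq (S : Setup G) : S.t * S.t = 1 := by
  rw [← pow_two, ← S.ht]
  exact pow_orderOf_eq_one _

omit [Finite G] in
theorem BAS2_t_inv (S : Setup G) : S.t⁻¹ = S.t :=
  inv_eq_of_mul_eq_one_right (BAS2_t_sq S)

omit [Finite G] in
theorem BAS2_t_ne_one (S : Setup G) : S.t ≠ 1 := by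
  intro h
  have := S.ht
  rw [h, orderOf_one] at this
  omega

omit [Finite G] in
/-- the elements of `⟨x⟩` -/
theorem BAS2_mem_zpowers_cases (S : Setup G) {g : G} (hg : g ∈ Subgroup.zpowers S.x) :
    g = 1 ∨ g = S.x ∨ g = S.x⁻¹ := by
  obtain ⟨k, hk⟩ := hg
  have hk' : S.x ^ k = g := hk
  have h1 : S.x ^ (k % 3) = S.x ^ k := by
    have := zpow_mod_orderOf S.x k
    rw [S.hx] at this
    exact_mod_cast this
  rw [← hk', ← h1]
  have h3 : k % 3 = 0 ∨ k % 3 = 1 ∨ k % 3 = 2 := by omega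
  rcases h3 with h | h | h
  · left; rw [h, zpow_zero]
  · right; left; rw [h, zpow_one]
  · right; right
    rw [h, BAS2_x_inv]
    norm_cast

omit [Finite G] in
/-- `t ∉ ⟨x⟩` -/
theorem BAS2_t_not_mem_X (S : Setup G) : S.t ∉ Subgroup.zpowers S.x := by
  intro h
  have hcomm : S.t * S.x = S.x * S.t := by
    obtain ⟨k, hk⟩ := h
    rw [← hk]
    exact ((Commute.refl S.x).zpow_left k).eq
  have h1 : S.t * S.x * S.t⁻¹ = S.x := by rw [hcomm, mul_inv_cancel_right]
  rw [S.htx] at h1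
  -- `x⁻¹ = x` gives `x² = 1`, with `x³ = 1`: `x = 1`
  have h2 : S.x * S.x = 1 := by
    nth_rewrite 1 [← h1]
    exact inv_mul_cancel _
  have h3 := BAS2_x_pow_three S
  rw [pow_succ, pow_two, h2, one_mul] at h3
  exact BAS2_x_ne_one S h3

theorem BAS_mem_normalizer_X (S : Setup G) {g : G}
    (hg : g ∈ Subgroup.normalizer (Subgroup.zpowers S.x : Set G)) :
    g ∈ Subgroup.zpowers S.x ∨ g * S.t ∈ Subgroup.zpowers S.x := by
  have h1 : g * S.x * g⁻¹ ∈ Subgroup.zpowers S.x :=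
    (Subgroup.mem_normalizer_iff.mp hg S.x).mp (Subgroup.mem_zpowers _)
  rcases BAS2_mem_zpowers_cases S h1 with h | h | h
  · exfalso
    apply BAS2_x_ne_one S
    have : S.x = g⁻¹ * (g * S.x * g⁻¹) * g := by group
    rw [this, h]
    group
  · left
    rw [← S.hC, Subgroup.mem_centralizer_singleton_iff]
    calc g * S.x = (g * S.x * g⁻¹) * g := by group
      _ = S.x * g := by rw [h]
  · right
    rw [← S.hC, Subgroup.mem_centralizer_singleton_iff]
    have h2 : S.t * S.x = S.x⁻¹ * S.t := by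
      calc S.t * S.x = (S.t * S.x * S.t⁻¹) * S.t := by group
        _ = S.x⁻¹ * S.t := by rw [S.htx]
    have h3 : g * S.x⁻¹ = S.x * g := by
      calc g * S.x⁻¹ = (g * S.x * g⁻¹)⁻¹ * g := by group
        _ = S.x * g := by rw [h, inv_inv]
    calc g * S.t * S.x = g * (S.t * S.x) := by group
      _ = g * (S.x⁻¹ * S.t) := by rw [h2]
      _ = (g * S.x⁻¹) * S.t := by group
      _ = S.x * g * S.t := by rw [h3]
      _ = S.x * (g * S.t) := by group

theorem BAS_t_mem_normalizer_X (S : Setup G) :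
    S.t ∈ Subgroup.normalizer (Subgroup.zpowers S.x : Set G) := by
  rw [Subgroup.mem_normalizer_iff]
  intro h
  have hconj : ∀ k : ℤ, S.t * S.x ^ k * S.t⁻¹ = (S.x⁻¹) ^ k := by
    intro k
    have h := map_zpow (MulAut.conj S.t) S.x k
    rw [MulAut.conj_apply, MulAut.conj_apply, S.htx] at h
    exact h
  constructor
  · rintro ⟨k, rfl⟩
    show S.t * S.x ^ k * S.t⁻¹ ∈ Subgroup.zpowers S.x
    rw [hconj, inv_zpow]
    exact inv_mem (Subgroup.zpow_mem_zpowers _ _)
  · rintro ⟨k, hk⟩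
    have hk' : S.x ^ k = S.t * h * S.t⁻¹ := hk
    have : h = S.t * (S.t * h * S.t⁻¹) * S.t⁻¹ := by
      rw [BAS2_t_inv]
      have e : S.t * (S.t * h * S.t) * S.t = (S.t * S.t) * h * (S.t * S.t) := by group
      rw [e, BAS2_t_sq, one_mul, mul_one]
    rw [this, ← hk', hconj, inv_zpow]
    exact inv_mem (Subgroup.zpow_mem_zpowers _ _)

theorem BAS_card_normalizer_X (S : Setup G) :
    Nat.card (Subgroup.normalizer (Subgroup.zpowers S.x : Set G)) = 6 := by
  have hle : Subgroup.zpowers S.x ≤ Subgroup.normalizer (Subgroup.zpowers S.x : Set G) :=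
    Subgroup.le_normalizer
  have hcard : Nat.card ((Subgroup.zpowers S.x).subgroupOf
      (Subgroup.normalizer (Subgroup.zpowers S.x : Set G))) = 3 := by
    rw [Nat.card_congr (Subgroup.subgroupOfEquivOfLe hle).toEquiv, Nat.card_zpowers, S.hx]
  have hidx : ((Subgroup.zpowers S.x).subgroupOf
      (Subgroup.normalizer (Subgroup.zpowers S.x : Set G))).index = 2 := by
    rw [Subgroup.index_eq_two_iff]
    refine ⟨⟨S.t, BAS_t_mem_normalizer_X S⟩, fun b => ?_⟩
    rw [Subgroup.mem_subgroupOf, Subgroup.mem_subgroupOf]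
    show Xor ((b : G) * S.t ∈ Subgroup.zpowers S.x) ((b : G) ∈ Subgroup.zpowers S.x)
    rcases BAS_mem_normalizer_X S b.2 with h | h
    · right
      refine ⟨h, fun h2 => ?_⟩
      apply BAS2_t_not_mem_X S
      have : S.t = (b : G)⁻¹ * ((b : G) * S.t) := by group
      rw [this]
      exact mul_mem (inv_mem h) h2
    · left
      refine ⟨h, fun h2 => ?_⟩
      apply BAS2_t_not_mem_X S
      have : S.t = (b : G)⁻¹ * ((b : G) * S.t) := by group
      rw [this]
      exact mul_mem (inv_mem h2) h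
  have := Subgroup.card_mul_index ((Subgroup.zpowers S.x).subgroupOf
      (Subgroup.normalizer (Subgroup.zpowers S.x : Set G)))
  rw [hcard, hidx] at this
  omega

omit [Finite G] in
/-- an `x`-invariant `3'`-subgroup contains no element inverting `x` -/
theorem BAS2_no_inverting (S : Setup G) {B : Subgroup G} (hB : Inv3 S B) {g : G} (hg : g ∈ B)
    (hgx : g * S.x * g⁻¹ = S.x⁻¹) : False := by
  have h1 : S.x * g * S.x⁻¹ ∈ B := (Subgroup.mem_normalizer_iff.mp hB.1 g).mp hg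
  have h2 : S.x * g * S.x⁻¹ * g⁻¹ ∈ B := mul_mem h1 (inv_mem hg)
  have h3 : S.x * g * S.x⁻¹ * g⁻¹ = S.x * S.x := by
    calc S.x * g * S.x⁻¹ * g⁻¹ = S.x * (g * S.x * g⁻¹)⁻¹ := by group
      _ = S.x * S.x := by rw [hgx, inv_inv]
  rw [h3] at h2
  -- `x² ∈ B` has order 3
  have hx2 : S.x ∈ B := by
    have : S.x = (S.x * S.x) * (S.x * S.x) := by
      have h4 := BAS2_x_pow_three S
      calc S.x = S.x * S.x ^ 3 := by rw [h4, mul_one]
        _ = (S.x * S.x) * (S.x * S.x) := by rw [pow_succ, pow_two]; group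
    rw [this]
    exact mul_mem h2 h2
  have hdvd : 3 ∣ Nat.card B := by
    have := Subgroup.orderOf_dvd_natCard B hx2
    rwa [S.hx] at this
  have hcop := hB.2
  have : (3 : ℕ) ∣ Nat.gcd (Nat.card B) 3 := Nat.dvd_gcd hdvd (dvd_refl 3)
  rw [hcop] at this
  omega

theorem BAS_t_not_mem (S : Setup G) {B : Subgroup G} (hB : Inv3 S B) : S.t ∉ B :=
  fun h => BAS2_no_inverting S hB h S.htx

theorem BAS_inv3_fpf (S : Setup G) {B : Subgroup G} (hB : Inv3 S B) {b : G} (hb : b ∈ B)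
    (hc : b * S.x = S.x * b) : b = 1 := by
  have h1 : b ∈ Subgroup.zpowers S.x := by
    rw [← S.hC, Subgroup.mem_centralizer_singleton_iff]
    exact hc
  have h2 : orderOf b ∣ 3 := by
    have := Subgroup.orderOf_dvd_natCard _ h1
    rwa [Nat.card_zpowers, S.hx] at this
  have h3 : orderOf b ∣ Nat.card B := Subgroup.orderOf_dvd_natCard B hb
  have h4 : orderOf b ∣ Nat.gcd (Nat.card B) 3 := Nat.dvd_gcd h3 h2
  rw [hB.2, Nat.dvd_one] at h4
  exact orderOf_eq_one_iff.mp h4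

theorem BAS_inv3_inf_normalizer_X (S : Setup G) {B : Subgroup G} (hB : Inv3 S B) :
    B ⊓ Subgroup.normalizer (Subgroup.zpowers S.x : Set G) = ⊥ := by
  rw [eq_bot_iff]
  intro g hg
  rw [Subgroup.mem_bot]
  obtain ⟨hgB, hgN⟩ := Subgroup.mem_inf.mp hg
  rcases BAS_mem_normalizer_X S hgN with h | h
  · apply BAS_inv3_fpf S hB hgB
    obtain ⟨k, hk⟩ := h
    rw [← hk]
    exact ((Commute.refl S.x).zpow_left k).eq
  · exfalso
    apply BAS2_no_inverting S hB hgB
    -- `g = x^k t⁻¹` inverts `x`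
    obtain ⟨k, hk⟩ := h
    have hg' : g = S.x ^ k * S.t := by
      have : g = (g * S.t) * S.t⁻¹ := by group
      rw [this, ← hk, BAS2_t_inv]
    have hcomm : S.x ^ k * S.x⁻¹ = S.x⁻¹ * S.x ^ k :=
      (((Commute.refl S.x).zpow_left k).inv_right).eq
    calc g * S.x * g⁻¹ = S.x ^ k * (S.t * S.x * S.t⁻¹) * (S.x ^ k)⁻¹ := by rw [hg']; group
      _ = S.x ^ k * S.x⁻¹ * (S.x ^ k)⁻¹ := by rw [S.htx]
      _ = S.x⁻¹ := by rw [hcomm, mul_inv_cancel_right]

end Cfsg.Agent.Helper59.SC3
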