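-- helper59: bundle (BAS1) of helper62's S3331 block M wave 0 (#15690).
import Cfsg.Agent.Helper62.SC3.Defs3
import Cfsg.Agent.Helper59.SC3_BAS2

set_option autoImplicit false
set_option linter.unusedSectionVars false

namespace Cfsg.Agent.Helper59.SC3

open Cfsg.Agent.Helper62.SC3
open scoped Pointwise

universe u

variable {G : Type u} [Group G] [Finite G]

omit [Finite G] in
theorem BAS1_isPGroup_zpowers {y : G} (hy : orderOf y = 3) : IsPGroup 3 ↥(Subgroup.zpowers y) := by
  apply IsPGroup.of_card (n := 1)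
  rw [Nat.card_zpowers, hy, pow_one]

/-- a Sylow 3-subgroup containing `x` is `⟨x⟩` -/
theorem BAS1_sylow_eq (S : Setup G) (P : Sylow 3 G) (hle : Subgroup.zpowers S.x ≤ P) :
    (P : Subgroup G) = Subgroup.zpowers S.x := by
  have : Fact (Nat.Prime 3) := ⟨by norm_num⟩
  have hxP : S.x ∈ (P : Subgroup G) := hle (Subgroup.mem_zpowers _)
  have hnt : Nontrivial ↥(P : Subgroup G) := by
    refine ⟨⟨⟨S.x, hxP⟩, 1, fun h => ?_⟩⟩
    exact BAS2_x_ne_one S (congrArg Subtype.val h)
  have hcn : Nontrivial (Subgroup.center ↥(P : Subgroup G)) := P.isPGroup'.center_nontrivial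
  obtain ⟨z, hz⟩ := exists_ne (1 : Subgroup.center ↥(P : Subgroup G))
  have hz1 : ((z : ↥(P : Subgroup G)) : G) ≠ 1 := by
    intro h
    apply hz
    apply Subtype.ext
    apply Subtype.ext
    exact h
  have hzcomm : ∀ w ∈ (P : Subgroup G), w * ((z : ↥(P : Subgroup G)) : G) = ((z : ↥(P : Subgroup G)) : G) * w := by
    intro w hw
    have := Subgroup.mem_center_iff.mp z.2 ⟨w, hw⟩
    exact congrArg Subtype.val this
  have hzX : ((z : ↥(P : Subgroup G)) : G) ∈ Subgroup.zpowers S.x := by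
    rw [← S.hC, Subgroup.mem_centralizer_singleton_iff]
    exact (hzcomm S.x hxP).symm
  -- `x` commutes with all of `P`
  have hxcomm : ∀ w ∈ (P : Subgroup G), w * S.x = S.x * w := by
    intro w hw
    rcases BAS2_mem_zpowers_cases S hzX with h | h | h
    · exact absurd h hz1
    · rw [← h]
      exact hzcomm w hw
    · have h2 : S.x = (((z : ↥(P : Subgroup G)) : G))⁻¹ := by rw [h, inv_inv]
      rw [h2]
      have h3 := hzcomm w hw
      calc w * (((z : ↥(P : Subgroup G)) : G))⁻¹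
          = (((z : ↥(P : Subgroup G)) : G))⁻¹ * (((z : ↥(P : Subgroup G)) : G) * w) *
              (((z : ↥(P : Subgroup G)) : G))⁻¹ := by group
        _ = (((z : ↥(P : Subgroup G)) : G))⁻¹ * (w * ((z : ↥(P : Subgroup G)) : G)) *
              (((z : ↥(P : Subgroup G)) : G))⁻¹ := by rw [h3]
        _ = (((z : ↥(P : Subgroup G)) : G))⁻¹ * w := by group
  apply le_antisymm
  · intro w hw
    rw [← S.hC, Subgroup.mem_centralizer_singleton_iff]
    exact hxcomm w hw
  · exact hle

theorem BAS_sylow3 (S : Setup G) : (Nat.card G).factorization 3 = 1 := by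
  have : Fact (Nat.Prime 3) := ⟨by norm_num⟩
  obtain ⟨P, hP⟩ := (BAS1_isPGroup_zpowers S.hx).exists_le_sylow
  have h1 := BAS1_sylow_eq S P hP
  have h2 := P.card_eq_multiplicity
  have h3 : Nat.card ↥(P : Subgroup G) = 3 := by
    rw [h1, Nat.card_zpowers, S.hx]
  rw [h3] at h2
  have h4 : (3 : ℕ) ^ 1 = 3 ^ (Nat.card G).factorization 3 := by rw [pow_one]; exact h2
  exact (Nat.pow_right_injective (by norm_num : 2 ≤ 3) h4).symm

theorem BAS_order3_isConj (S : Setup G) {y : G} (hy : orderOf y = 3) : IsConj S.x y := by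
  have : Fact (Nat.Prime 3) := ⟨by norm_num⟩
  obtain ⟨P, hP⟩ := (BAS1_isPGroup_zpowers S.hx).exists_le_sylow
  have h1 := BAS1_sylow_eq S P hP
  obtain ⟨Q, hQ⟩ := (BAS1_isPGroup_zpowers hy).exists_le_sylow
  obtain ⟨g, hg⟩ := MulAction.exists_smul_eq G P Q
  have hyQ : y ∈ (Q : Subgroup G) := hQ (Subgroup.mem_zpowers _)
  rw [← hg, Sylow.coe_subgroup_smul, Subgroup.mem_pointwise_smul_iff_inv_smul_mem, h1] at hyQ
  have hyQ' : g⁻¹ * y * g ∈ Subgroup.zpowers S.x := by
    have : (MulAut.conj g)⁻¹ • y = g⁻¹ * y * g := by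
      rw [MulAut.smul_def, MulAut.conj_inv_apply]
    rwa [this] at hyQ
  have hy1 : y ≠ 1 := by
    intro h
    rw [h, orderOf_one] at hy
    omega
  rw [isConj_iff]
  rcases BAS2_mem_zpowers_cases S hyQ' with h | h | h
  · exfalso
    apply hy1
    have : y = g * (g⁻¹ * y * g) * g⁻¹ := by group
    rw [this, h]
    group
  · refine ⟨g, ?_⟩
    rw [← h]
    group
  · refine ⟨g * S.t, ?_⟩
    have : g * S.t * S.x * (g * S.t)⁻¹ = g * (S.t * S.x * S.t⁻¹) * g⁻¹ := by group
    rw [this, S.htx, ← h]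
    group

theorem BAS_centralizer_order3 (S : Setup G) {y : G} (hy : orderOf y = 3) :
    Subgroup.centralizer ({y} : Set G) = Subgroup.zpowers y := by
  obtain ⟨c, hc⟩ := isConj_iff.mp (BAS_order3_isConj S hy)
  ext h
  constructor
  · intro hh
    rw [Subgroup.mem_centralizer_singleton_iff] at hh
    have h1 : c⁻¹ * h * c ∈ Subgroup.zpowers S.x := by
      rw [← S.hC, Subgroup.mem_centralizer_singleton_iff]
      have hx : S.x = c⁻¹ * y * c := by rw [← hc]; group
      rw [hx]
      calc c⁻¹ * h * c * (c⁻¹ * y * c) = c⁻¹ * (h * y) * c := by group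
        _ = c⁻¹ * (y * h) * c := by rw [hh]
        _ = c⁻¹ * y * c * (c⁻¹ * h * c) := by group
    obtain ⟨k, hk⟩ := h1
    have hk' : S.x ^ k = c⁻¹ * h * c := hk
    refine ⟨k, ?_⟩
    show y ^ k = h
    have h2 := map_zpow (MulAut.conj c) S.x k
    rw [MulAut.conj_apply, MulAut.conj_apply, hc, hk'] at h2
    rw [← h2]
    group
  · rintro ⟨k, rfl⟩
    rw [Subgroup.mem_centralizer_singleton_iff]
    exact ((Commute.refl y).zpow_left k).eq

theorem BAS_orderOf_eq_three (S : Setup G) {y : G} (h : 3 ∣ orderOf y) : orderOf y = 3 := by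
  obtain ⟨m, hm⟩ := h
  have hpos : 0 < orderOf y := orderOf_pos y
  have hm0 : m ≠ 0 := by
    intro h0
    rw [h0, mul_zero] at hm
    omega
  have hz : orderOf (y ^ m) = 3 := by
    rw [orderOf_pow_of_dvd hm0 ⟨3, by rw [hm, mul_comm]⟩, hm]
    exact Nat.mul_div_cancel 3 (Nat.pos_of_ne_zero hm0)
  have hC := BAS_centralizer_order3 S hz
  have hy : y ∈ Subgroup.zpowers (y ^ m) := by
    rw [← hC, Subgroup.mem_centralizer_singleton_iff]
    exact ((Commute.refl y).pow_right m).eq
  have hdvd : orderOf y ∣ 3 := by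
    have := Subgroup.orderOf_dvd_natCard _ hy
    rwa [Nat.card_zpowers, hz] at this
  exact Nat.dvd_antisymm hdvd ⟨m, hm⟩

theorem BAS_not_three_dvd_centralizer_t (S : Setup G) :
    ¬ 3 ∣ Nat.card (Subgroup.centralizer ({S.t} : Set G)) := by
  intro h
  have : Fact (Nat.Prime 3) := ⟨by norm_num⟩
  obtain ⟨y', hy'⟩ := exists_prime_orderOf_dvd_card' 3 h
  have hy : orderOf (y' : G) = 3 := by rw [Subgroup.orderOf_coe]; exact hy'
  have hcomm : (y' : G) * S.t = S.t * (y' : G) := by
    have := y'.2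
    rw [Subgroup.mem_centralizer_singleton_iff] at this
    exact this
  have hC := BAS_centralizer_order3 S hy
  have ht : S.t ∈ Subgroup.zpowers (y' : G) := by
    rw [← hC, Subgroup.mem_centralizer_singleton_iff]
    exact hcomm.symm
  have hdvd : orderOf S.t ∣ 3 := by
    have := Subgroup.orderOf_dvd_natCard _ ht
    rwa [Nat.card_zpowers, hy] at this
  rw [S.ht] at hdvd
  omega

end Cfsg.Agent.Helper59.SC3
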