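import Mathlib
import Cfsg.Agent.Helper46.DkMat

set_option autoImplicit false

/-!
# `⟨u(k), l(kα)⟩` in `SL₂(R)`: basic structure

`R` a field, `k` a field with `Algebra k R`, `α : R`.  `XX k α` is the subgroup generated by
`u(c)`, `l(cα)` (`c ∈ k`).  We study `AA = {a : u(a) ∈ X}` and `BB' = {b : l(b) ∈ X}`.
-/

namespace Cfsg.Agent.Helper59.SLGen

open Matrix
open Cfsg.Agent.Helper46.Dk

variable {k R : Type*} [Field k] [Field R] [Algebra k R]

local notation "SL2" => Matrix.SpecialLinearGroup (Fin 2) R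

theorem uU_mul_uU (a b : R) : (uU a : SL2) * uU b = uU (a + b) := by
  apply ext' <;> simp [mul_00, mul_01, mul_10, mul_11, uU, add_comm]

theorem vV_mul_vV (a b : R) : (vV a : SL2) * vV b = vV (a + b) := by
  apply ext' <;> simp [mul_00, mul_01, mul_10, mul_11, vV]

theorem uU_zero_eq : (uU 0 : SL2) = 1 := by
  apply ext' <;> simp [uU]

theorem vV_zero_eq : (vV 0 : SL2) = 1 := by
  apply ext' <;> simp [vV]

theorem uU_inv_eq (a : R) : (uU a : SL2)⁻¹ = uU (-a) := by
  apply ext' <;> simp [inv_00, inv_01, inv_10, inv_11, uU]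

theorem vV_inv_eq (a : R) : (vV a : SL2)⁻¹ = vV (-a) := by
  apply ext' <;> simp [inv_00, inv_01, inv_10, inv_11, vV]

/-- the generating set -/
def genSet (k : Type*) [Field k] [Algebra k R] (α : R) : Set SL2 :=
  {g | ∃ c : k, g = uU (algebraMap k R c)} ∪ {g | ∃ c : k, g = vV (algebraMap k R c * α)}

/-- the subgroup `⟨u(k), l(kα)⟩` -/
def XX (k : Type*) [Field k] [Algebra k R] (α : R) : Subgroup SL2 :=
  Subgroup.closure (genSet k α)

theorem uU_mem_XX (α : R) (c : k) : (uU (algebraMap k R c) : SL2) ∈ XX k α :=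
  Subgroup.subset_closure (Or.inl ⟨c, rfl⟩)

theorem vV_mem_XX (α : R) (c : k) : (vV (algebraMap k R c * α) : SL2) ∈ XX k α :=
  Subgroup.subset_closure (Or.inr ⟨c, rfl⟩)

/-- a group endomorphism mapping generators into `X` maps `X` into `X` -/
theorem map_mem_XX (α : R) (φ : SL2 →* SL2)
    (h1 : ∀ c : k, φ (uU (algebraMap k R c)) ∈ XX k α)
    (h2 : ∀ c : k, φ (vV (algebraMap k R c * α)) ∈ XX k α)
    {g : SL2} (hg : g ∈ XX k α) : φ g ∈ XX k α := by
  have : XX k α ≤ (XX k α).comap φ := by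
    unfold XX
    rw [Subgroup.closure_le]
    rintro x (⟨c, rfl⟩ | ⟨c, rfl⟩)
    · exact h1 c
    · exact h2 c
  exact this hg

/-- conjugation by a fixed matrix pair `W`, `W'` with `W * W' = 1 = W' * W`, as an endomorphism
of `SL₂`. -/
def conjHom (W W' : Matrix (Fin 2) (Fin 2) R) (h1 : W * W' = 1) (h2 : W' * W = 1) : SL2 →* SL2 where
  toFun g := ⟨W * g.1 * W', by
    rw [Matrix.det_mul, Matrix.det_mul, g.2, mul_one, ← Matrix.det_mul, h1, Matrix.det_one]⟩
  map_one' := by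
    apply Subtype.ext
    simp [h1]
  map_mul' g h := by
    apply Subtype.ext
    show W * (g.1 * h.1) * W' = (W * g.1 * W') * (W * h.1 * W')
    calc W * (g.1 * h.1) * W' = W * g.1 * (1 : Matrix (Fin 2) (Fin 2) R) * h.1 * W' := by
          simp [Matrix.mul_assoc]
      _ = (W * g.1 * W') * (W * h.1 * W') := by
          rw [← h2]; simp only [Matrix.mul_assoc]

theorem conjHom_val (W W' : Matrix (Fin 2) (Fin 2) R) (h1 : W * W' = 1) (h2 : W' * W = 1)
    (g : SL2) : (conjHom W W' h1 h2 g).1 = W * g.1 * W' := rfl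

/-- `AA`: the set of `a` with `u(a) ∈ X`. -/
def AA (k : Type*) [Field k] [Algebra k R] (α : R) : Set R := {a | (uU a : SL2) ∈ XX k α}

/-- `BB'`: the set of `b` with `l(b) ∈ X`. -/
def BL (k : Type*) [Field k] [Algebra k R] (α : R) : Set R := {b | (vV b : SL2) ∈ XX k α}

theorem AA_add (α : R) {a b : R} (ha : a ∈ AA k α) (hb : b ∈ AA k α) : a + b ∈ AA k α := by
  show (uU (a + b) : SL2) ∈ XX k α
  rw [← uU_mul_uU]; exact mul_mem ha hb

theorem AA_neg (α : R) {a : R} (ha : a ∈ AA k α) : -a ∈ AA k α := by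
  show (uU (-a) : SL2) ∈ XX k α
  rw [← uU_inv_eq]; exact inv_mem ha

theorem AA_zero (α : R) : (0 : R) ∈ AA k α := by
  show (uU 0 : SL2) ∈ XX k α
  rw [uU_zero_eq]; exact one_mem _

theorem AA_sub (α : R) {a b : R} (ha : a ∈ AA k α) (hb : b ∈ AA k α) : a - b ∈ AA k α := by
  rw [sub_eq_add_neg]; exact AA_add α ha (AA_neg α hb)

theorem AA_algebraMap (α : R) (c : k) : algebraMap k R c ∈ AA k α := uU_mem_XX α c

theorem BL_add (α : R) {a b : R} (ha : a ∈ BL k α) (hb : b ∈ BL k α) : a + b ∈ BL k α := by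
  show (vV (a + b) : SL2) ∈ XX k α
  rw [← vV_mul_vV]; exact mul_mem ha hb

theorem BL_neg (α : R) {a : R} (ha : a ∈ BL k α) : -a ∈ BL k α := by
  show (vV (-a) : SL2) ∈ XX k α
  rw [← vV_inv_eq]; exact inv_mem ha

/-- the diagonal conjugation `h(c)`: `u(a) ↦ u(c² a)`, `l(b) ↦ l(c⁻² b)`. -/
def diagHom (c : R) (hc : c ≠ 0) : SL2 →* SL2 :=
  conjHom !![c, 0; 0, c⁻¹] !![c⁻¹, 0; 0, c]
    (by ext i j; fin_cases i <;> fin_cases j <;> simp [Matrix.mul_apply, Fin.sum_univ_two, hc])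
    (by ext i j; fin_cases i <;> fin_cases j <;> simp [Matrix.mul_apply, Fin.sum_univ_two, hc])

theorem diagHom_uU (c : R) (hc : c ≠ 0) (a : R) : diagHom c hc (uU a) = uU (c ^ 2 * a) := by
  apply Subtype.ext
  rw [diagHom, conjHom_val]
  ext i j; fin_cases i <;> fin_cases j <;>
    simp [Matrix.mul_apply, Fin.sum_univ_two, uU, mk4] <;> field_simp

theorem diagHom_vV (c : R) (hc : c ≠ 0) (b : R) : diagHom c hc (vV b) = vV ((c⁻¹) ^ 2 * b) := by
  apply Subtype.ext
  rw [diagHom, conjHom_val]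
  ext i j; fin_cases i <;> fin_cases j <;>
    simp [Matrix.mul_apply, Fin.sum_univ_two, vV, mk4] <;> field_simp

theorem AA_sq_mul (α : R) (c : k) (hc : c ≠ 0) {a : R} (ha : a ∈ AA k α) :
    (algebraMap k R c) ^ 2 * a ∈ AA k α := by
  have hc' : algebraMap k R c ≠ 0 := by
    rwa [Ne, map_eq_zero_iff _ (algebraMap k R).injective]
  have := map_mem_XX (k := k) α (diagHom (algebraMap k R c) hc') ?_ ?_ ha
  · rwa [diagHom_uU] at this
  · intro e
    rw [diagHom_uU, ← map_pow, ← map_mul]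
    exact uU_mem_XX α _
  · intro e
    rw [diagHom_vV, ← map_inv₀, ← map_pow, ← mul_assoc, ← map_mul]
    exact vV_mem_XX α _

theorem AA_smul (h2 : (2 : k) ≠ 0) (α : R) (c : k) {a : R} (ha : a ∈ AA k α) :
    algebraMap k R c * a ∈ AA k α := by
  have key : algebraMap k R c * a =
      (algebraMap k R ((c + 1) / 2)) ^ 2 * a - (algebraMap k R ((c - 1) / 2)) ^ 2 * a := by
    rw [← sub_mul, ← map_pow, ← map_pow, ← map_sub]
    congr 2
    field_simp
    ring
  rw [key]
  have hsq : ∀ e : k, (algebraMap k R e) ^ 2 * a ∈ AA k α := by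
    intro e
    by_cases he : e = 0
    · subst he; simp only [map_zero, ne_eq, OfNat.ofNat_ne_zero, not_false_eq_true, zero_pow,
        zero_mul]; exact AA_zero α
    · exact AA_sq_mul α e he ha
  exact AA_sub α (hsq _) (hsq _)

/-- the Weyl-type conjugation swapping the generators: `u(a) ↦ l(-αa)`, `l(b) ↦ u(-b/α)`. -/
def weylHom (α : R) (hα : α ≠ 0) : SL2 →* SL2 :=
  conjHom !![0, 1; -α, 0] !![0, -α⁻¹; 1, 0]
    (by ext i j; fin_cases i <;> fin_cases j <;> simp [Matrix.mul_apply, Fin.sum_univ_two, hα])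
    (by ext i j; fin_cases i <;> fin_cases j <;> simp [Matrix.mul_apply, Fin.sum_univ_two, hα])

theorem weylHom_uU (α : R) (hα : α ≠ 0) (a : R) : weylHom α hα (uU a) = vV (-(α * a)) := by
  apply Subtype.ext
  rw [weylHom, conjHom_val]
  ext i j; fin_cases i <;> fin_cases j <;>
    simp [Matrix.mul_apply, Fin.sum_univ_two, uU, vV, mk4, mul_inv_cancel₀ hα]

theorem weylHom_vV (α : R) (hα : α ≠ 0) (b : R) : weylHom α hα (vV b) = uU (-(b * α⁻¹)) := by
  apply Subtype.ext
  rw [weylHom, conjHom_val]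
  ext i j; fin_cases i <;> fin_cases j <;>
    simp [Matrix.mul_apply, Fin.sum_univ_two, uU, vV, mk4, hα]

theorem weylHom_mem (α : R) (hα : α ≠ 0) {g : SL2} (hg : g ∈ XX k α) :
    weylHom α hα g ∈ XX k α := by
  refine map_mem_XX (k := k) α (weylHom α hα) ?_ ?_ hg
  · intro c
    rw [weylHom_uU]
    have : -(α * algebraMap k R c) = algebraMap k R (-c) * α := by
      rw [map_neg]; ring
    rw [this]; exact vV_mem_XX α _
  · intro c
    rw [weylHom_vV]
    have : -(algebraMap k R c * α * α⁻¹) = algebraMap k R (-c) := by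
      rw [map_neg, mul_assoc, mul_inv_cancel₀ hα, mul_one]
    rw [this]; exact uU_mem_XX α _

theorem BL_of_AA (α : R) (hα : α ≠ 0) {a : R} (ha : a ∈ AA k α) : α * a ∈ BL k α := by
  have := weylHom_mem (k := k) α hα ha
  rw [weylHom_uU] at this
  have h2 := BL_neg α this
  rwa [neg_neg] at h2

theorem AA_of_BL (α : R) (hα : α ≠ 0) {b : R} (hb : b ∈ BL k α) : b * α⁻¹ ∈ AA k α := by
  have := weylHom_mem (k := k) α hα hb
  rw [weylHom_vV] at this
  have h2 := AA_neg α this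
  rwa [neg_neg] at h2

/-- if some `g ∈ X` has first column `(0, y)`, then `y² A ⊆ B`. -/
theorem BL_of_col (α : R) {g : SL2} (hg : g ∈ XX k α) (h0 : g.1 0 0 = 0) {a : R}
    (ha : a ∈ AA k α) : (g.1 1 0) ^ 2 * a ∈ BL k α := by
  have hmem : g * uU a * g⁻¹ ∈ XX k α := mul_mem (mul_mem hg ha) (inv_mem hg)
  have hd := det' g
  rw [h0] at hd
  have heq : g * uU a * g⁻¹ = vV (-((g.1 1 0) ^ 2 * a)) := by
    apply ext'
    · rw [conj_00]; simp only [uU, vV, mk4_00, mk4_01, mk4_10, mk4_11, h0]; linear_combination hd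
    · rw [conj_01]; simp only [uU, vV, mk4_00, mk4_01, mk4_10, mk4_11, h0]; ring
    · rw [conj_10]; simp only [uU, vV, mk4_00, mk4_01, mk4_10, mk4_11]; ring
    · rw [conj_11]; simp only [uU, vV, mk4_00, mk4_01, mk4_10, mk4_11, h0]; linear_combination hd
  rw [heq] at hmem
  have h2 := BL_neg α hmem
  rwa [neg_neg] at h2

theorem mem_of_lower_ne (α : R) (hA : ∀ a : R, a ∈ AA k α) (hB : ∀ b : R, b ∈ BL k α)
    (g : SL2) (hq : g.1 1 0 ≠ 0) : g ∈ XX k α := by
  have hd := det' g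
  have heq : g = uU ((g.1 0 0 - 1) / g.1 1 0) * vV (g.1 1 0) * uU ((g.1 1 1 - 1) / g.1 1 0) := by
    apply ext'
    · rw [mul_00, mul_00]; simp only [uU, vV, mk4_00, mk4_01, mk4_10, mk4_11]; field_simp; ring
    · rw [mul_01, mul_00, mul_01]; simp only [uU, vV, mk4_00, mk4_01, mk4_10, mk4_11]
      field_simp
      linear_combination (-1 : R) * hd
    · rw [mul_10, mul_10]; simp only [uU, vV, mk4_00, mk4_01, mk4_10, mk4_11]; ring
    · rw [mul_11, mul_10, mul_11]; simp only [uU, vV, mk4_00, mk4_01, mk4_10, mk4_11]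
      field_simp; ring
  rw [heq]
  exact mul_mem (mul_mem (hA _) (hB _)) (hA _)

/-- `SL₂(R)` is generated by `u(R)` and `l(R)`. -/
theorem eq_top_of_AA_BL (α : R) (hA : ∀ a : R, a ∈ AA k α) (hB : ∀ b : R, b ∈ BL k α) :
    XX k α = ⊤ := by
  rw [eq_top_iff]
  intro g _
  have hd := det' g
  by_cases hq : g.1 1 0 = 0
  · -- multiply by l(1) first
    have hp : g.1 0 0 ≠ 0 := by
      intro hp; rw [hp, hq] at hd; simp at hd
    have hg' : vV 1 * g ∈ XX k α := by
      apply mem_of_lower_ne α hA hB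
      rw [mul_10]; simpa [vV, hq] using hp
    have : g = vV (-1) * (vV 1 * g) := by
      rw [← mul_assoc, vV_mul_vV]; simp [vV_zero_eq]
    rw [this]
    exact mul_mem (hB _) hg'
  · exact mem_of_lower_ne α hA hB g hq

/-- If `A = R` then `X = ⊤`. -/
theorem eq_top_of_AA (α : R) (hα : α ≠ 0) (hA : ∀ a : R, a ∈ AA k α) : XX k α = ⊤ := by
  apply eq_top_of_AA_BL α hA
  intro b
  have := BL_of_AA (k := k) α hα (hA (α⁻¹ * b))
  rwa [← mul_assoc, mul_inv_cancel₀ hα, one_mul] at this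

end Cfsg.Agent.Helper59.SLGen
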