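import Mathlib
import Cfsg.Agent.Helper59.SLGenBasic

set_option autoImplicit false

/-!
# The Euclid chain: from transversality of `ρ` to an element of `X` with first column `(0, αρ)`.
-/

namespace Cfsg.Agent.Helper59.SLGen

open Matrix Polynomial
open Cfsg.Agent.Helper46.Dk

variable {k R : Type*} [Field k] [Field R] [Algebra k R]

local notation "SL2" => Matrix.SpecialLinearGroup (Fin 2) R

/-- `F` has degree `< n` (coefficient form). -/
def DL (F : k[X]) (n : ℕ) : Prop := ∀ m, n ≤ m → F.coeff m = 0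

theorem DL_zero (n : ℕ) : DL (0 : k[X]) n := fun _ _ => by simp

theorem DL_mono {F : k[X]} {a b : ℕ} (h : DL F a) (hab : a ≤ b) : DL F b :=
  fun m hm => h m (hab.trans hm)

theorem DL_sub {F G : k[X]} {n : ℕ} (hF : DL F n) (hG : DL G n) : DL (F - G) n :=
  fun m hm => by rw [coeff_sub, hF m hm, hG m hm, sub_zero]

theorem DL_add {F G : k[X]} {n : ℕ} (hF : DL F n) (hG : DL G n) : DL (F + G) n :=
  fun m hm => by rw [coeff_add, hF m hm, hG m hm, add_zero]

theorem DL_neg {F : k[X]} {n : ℕ} (hF : DL F n) : DL (-F) n :=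
  fun m hm => by rw [coeff_neg, hF m hm, neg_zero]

theorem DL_C_mul (c : k) {F : k[X]} {n : ℕ} (hF : DL F n) : DL (C c * F) n :=
  fun m hm => by rw [coeff_C_mul, hF m hm, mul_zero]

theorem DL_divX {F : k[X]} {n : ℕ} (hF : DL F (n + 1)) : DL F.divX n :=
  fun m hm => by rw [coeff_divX]; exact hF (m + 1) (by omega)

theorem eq_zero_of_DL_zero {F : k[X]} (hF : DL F 0) : F = 0 := by
  ext m; rw [hF m (Nat.zero_le m)]; simp

theorem split_poly (F : k[X]) : F = C (F.coeff 0) + X * F.divX := by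
  conv_lhs => rw [← divX_mul_X_add F]
  ring

theorem split_aeval (α : R) (F : k[X]) (j : ℕ) (hF : DL F (j + 1)) :
    ∃ c : k, ∃ F₁ : k[X], DL F₁ j ∧ aeval α F = algebraMap k R c + α * aeval α F₁ := by
  refine ⟨F.coeff 0, F.divX, DL_divX hF, ?_⟩
  conv_lhs => rw [split_poly F]
  simp

/-- surjectivity half of transversality of `ρ` at level `j` -/
def HS (k : Type*) [Field k] [Algebra k R] (α ρ : R) (d j : ℕ) : Prop :=
  ∀ z : R, ∃ F G : k[X], DL F j ∧ DL G (d - j) ∧ z = aeval α F + ρ * aeval α G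

/-- injectivity half of transversality of `ρ` at level `j` -/
def HI (k : Type*) [Field k] [Algebra k R] (α ρ : R) (d j : ℕ) : Prop :=
  ∀ F G : k[X], DL F j → DL G (d - j) → aeval α F = ρ * aeval α G → aeval α F = 0

/-- `ρ` is good: all transversality conditions used by the chain. -/
def Good (k : Type*) [Field k] [Algebra k R] (α ρ : R) (d : ℕ) : Prop :=
  ∀ j, j ≤ d → HS k α ρ d j ∧ HI k α ρ d j ∧
    (1 ≤ j → HS k α (α * ρ) d j ∧ HI k α (α * ρ) d j)

/-- the invariant of the chain at level `j` -/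
def ChainInv (k : Type*) [Field k] [Algebra k R] (α ρ : R) (d j : ℕ) (g : SL2) : Prop :=
  g ∈ XX k α ∧ ∃ f w f' w' : k[X], DL f j ∧ DL w (d - j) ∧ DL f' j ∧ DL w' (d - j) ∧
    g.1 0 0 = 1 + α * aeval α f ∧ g.1 0 0 = α * ρ * aeval α w ∧
    g.1 1 0 = α * aeval α f' ∧ g.1 1 0 = α * ρ * (1 + α * aeval α w')

theorem chain_base (α ρ : R) (hα : α ≠ 0) (d : ℕ) (hgood : Good k α ρ d) :
    ChainInv k α ρ d 0 (1 : SL2) := by
  refine ⟨one_mem _, ?_⟩
  obtain ⟨hS0, -, -⟩ := hgood 0 (Nat.zero_le d)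
  obtain ⟨hSd, -, -⟩ := hgood d le_rfl
  obtain ⟨F, G, hF, hG, hz⟩ := hS0 α⁻¹
  obtain ⟨F', G', hF', hG', hz'⟩ := hSd (-α⁻¹)
  have hF0 : F = 0 := eq_zero_of_DL_zero hF
  have hG'0 : G' = 0 := by
    rw [Nat.sub_self] at hG'; exact eq_zero_of_DL_zero hG'
  subst hF0; subst hG'0
  refine ⟨0, G, 0, F', DL_zero _, hG, DL_zero _, by simpa using hF', ?_, ?_, ?_, ?_⟩
  · simp
  · simp only [map_zero, zero_add] at hz
    rw [mul_assoc, ← hz, mul_inv_cancel₀ hα]; simp
  · simp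
  · simp only [map_zero, mul_zero, add_zero] at hz'
    rw [← hz', mul_neg, mul_inv_cancel₀ hα]; simp

theorem chain_step (α ρ : R) (hα : α ≠ 0) (d j : ℕ) (hj : j + 1 ≤ d) (hgood : Good k α ρ d)
    (g : SL2) (hg : ChainInv k α ρ d j g) : ∃ g' : SL2, ChainInv k α ρ d (j + 1) g' := by
  obtain ⟨hgX, f, w, f', w', hf, hw, hf', hw', hp1, hp2, hq1, hq2⟩ := hg
  obtain ⟨-, hIj, -⟩ := hgood j (by omega)
  obtain ⟨hSj1, -, hj1⟩ := hgood (j + 1) hj
  obtain ⟨hS'j1, hI'j1⟩ := hj1 (by omega)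
  have hdj : d - j = (d - (j + 1)) + 1 := by omega
  -- (1) new q
  obtain ⟨v, G, hv, hG, hρ⟩ := hS'j1 ρ
  -- (2) q₁ - q = c α p
  obtain ⟨F, hFdef⟩ : ∃ F : k[X], F = v - f' := ⟨_, rfl⟩
  have hF : DL F (j + 1) := by rw [hFdef]; exact DL_sub hv (DL_mono hf' (by omega))
  obtain ⟨c, F₁, hF₁, hFsplit⟩ := split_aeval α F j hF
  have hq1' : α * aeval α v = α * ρ * (1 + α * aeval α (-G)) := by
    have : α * aeval α v = α * (ρ - α * ρ * aeval α G) := by
      congr 1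
      linear_combination (-1 : R) * hρ
    rw [this]; simp only [map_neg]; ring
  have hq1'' := hq1'
  simp only [map_neg] at hq1''
  have hFα : aeval α F = α * ρ * aeval α (-G - w') := by
    have h1 : α * aeval α F = α * (α * ρ * aeval α (-G - w')) := by
      simp only [hFdef, map_sub, map_neg]
      linear_combination hq1'' + hq1 - hq2
    exact mul_left_cancel₀ hα h1
  have hkey : aeval α (F₁ - C c * f) = ρ * aeval α (-G - w' - C c * w) := by
    have h1 : α * aeval α (F₁ - C c * f) = α * (ρ * aeval α (-G - w' - C c * w)) := by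
      simp only [map_sub, map_neg, map_mul, aeval_C]
      simp only [map_sub, map_neg] at hFα
      linear_combination hFα - hFsplit + (algebraMap k R c) * (hp1 - hp2)
    exact mul_left_cancel₀ hα h1
  have hzero := hIj (F₁ - C c * f) (-G - w' - C c * w)
    (DL_sub hF₁ (DL_C_mul c hf))
    (DL_sub (DL_sub (DL_neg (DL_mono hG (by omega))) hw') (DL_C_mul c hw)) hkey
  -- so F(α) = c p
  have hFp : aeval α F = algebraMap k R c * g.1 0 0 := by
    simp only [map_sub, map_mul, aeval_C] at hzero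
    rw [hFsplit, hp1]
    linear_combination α * hzero
  obtain ⟨g₁, hg₁⟩ : ∃ g₁ : SL2, g₁ = vV (algebraMap k R c * α) * g := ⟨_, rfl⟩
  have hg₁X : g₁ ∈ XX k α := by rw [hg₁]; exact mul_mem (vV_mem_XX α c) hgX
  have hg₁00 : g₁.1 0 0 = g.1 0 0 := by
    rw [hg₁, mul_00]; simp [vV]
  have hg₁10 : g₁.1 1 0 = α * aeval α v := by
    rw [hg₁, mul_10]; simp only [vV, mk4_10, mk4_11, one_mul]
    have : α * aeval α v = g.1 1 0 + α * aeval α F := by
      rw [hq1, hFdef, map_sub]; ring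
    rw [this, hFp]; ring
  -- (3) new p
  obtain ⟨F₂, w₂, hF₂, hw₂, hinv⟩ := hSj1 α⁻¹
  have hp1' : 1 + α * aeval α (-F₂) = α * ρ * aeval α w₂ := by
    have : α * α⁻¹ = 1 := mul_inv_cancel₀ hα
    simp only [map_neg]
    linear_combination α * hinv - this
  -- (4) p₁ - p = c' q₁
  obtain ⟨G', hG'def⟩ : ∃ G' : k[X], G' = w₂ - w := ⟨_, rfl⟩
  have hG' : DL G' (d - (j + 1) + 1) := by
    rw [hG'def, ← hdj]; exact DL_sub (DL_mono hw₂ (by omega)) hw
  obtain ⟨c', G₁, hG₁, hG'split⟩ := split_aeval α G' _ hG'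
  have hkey2 : aeval α (-F₂ - f - C c' * v) = α * ρ * aeval α (G₁ + C c' * G) := by
    have h1 : α * aeval α (-F₂ - f - C c' * v) = α * (α * ρ * aeval α (G₁ + C c' * G)) := by
      simp only [map_sub, map_neg, map_mul, map_add, aeval_C]
      simp only [hG'def, map_sub] at hG'split
      simp only [map_neg] at hp1' hq1'
      linear_combination hp1' + hp1 - hp2 - (algebraMap k R c') * hq1' + α * ρ * hG'split
    exact mul_left_cancel₀ hα h1
  have hzero2 := hI'j1 (-F₂ - f - C c' * v) (G₁ + C c' * G)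
    (DL_sub (DL_sub (DL_neg hF₂) (DL_mono hf (by omega))) (DL_C_mul c' hv))
    (DL_add hG₁ (DL_C_mul c' hG)) hkey2
  obtain ⟨g₂, hg₂⟩ : ∃ g₂ : SL2, g₂ = uU (algebraMap k R c') * g₁ := ⟨_, rfl⟩
  have hg₂X : g₂ ∈ XX k α := by rw [hg₂]; exact mul_mem (uU_mem_XX α c') hg₁X
  have hg₂10 : g₂.1 1 0 = α * aeval α v := by
    rw [hg₂, mul_10]; simp [uU, hg₁10]
  have hg₂00 : g₂.1 0 0 = 1 + α * aeval α (-F₂) := by
    rw [hg₂, mul_00]; simp only [uU, mk4_00, mk4_01, one_mul, hg₁00, hg₁10]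
    simp only [map_sub, map_neg, map_mul, aeval_C] at hzero2
    simp only [map_neg]
    rw [hp1]
    linear_combination (-α) * hzero2
  refine ⟨g₂, hg₂X, -F₂, w₂, v, -G, DL_neg hF₂, hw₂, hv, DL_neg hG, hg₂00, ?_, hg₂10, ?_⟩
  · rw [hg₂00, hp1']
  · rw [hg₂10, hq1']

theorem chain_all (α ρ : R) (hα : α ≠ 0) (d : ℕ) (hgood : Good k α ρ d) :
    ∀ j, j ≤ d → ∃ g : SL2, ChainInv k α ρ d j g := by
  intro j
  induction j with
  | zero => intro _; exact ⟨1, chain_base α ρ hα d hgood⟩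
  | succ j ih =>
    intro hj
    obtain ⟨g, hg⟩ := ih (by omega)
    exact chain_step α ρ hα d j hj hgood g hg

/-- The chain lemma: a good `ρ` gives `g ∈ X` with first column `(0, αρ)`. -/
theorem chain_final (α ρ : R) (hα : α ≠ 0) (d : ℕ) (hgood : Good k α ρ d) :
    ∃ g : SL2, g ∈ XX k α ∧ g.1 0 0 = 0 ∧ g.1 1 0 = α * ρ := by
  obtain ⟨g, hgX, f, w, f', w', hf, hw, hf', hw', hp1, hp2, hq1, hq2⟩ :=
    chain_all α ρ hα d hgood d le_rfl
  rw [Nat.sub_self] at hw hw'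
  have hw0 := eq_zero_of_DL_zero hw
  have hw'0 := eq_zero_of_DL_zero hw'
  subst hw0; subst hw'0
  refine ⟨g, hgX, ?_, ?_⟩
  · rw [hp2]; simp
  · rw [hq2]; simp

/-- Consequence: `α ρ² A ⊆ A` for good `ρ`. -/
theorem mul_mem_AA_of_good (α ρ : R) (hα : α ≠ 0) (d : ℕ) (hgood : Good k α ρ d)
    {a : R} (ha : a ∈ AA k α) : α * ρ ^ 2 * a ∈ AA k α := by
  obtain ⟨g, hgX, h0, h1⟩ := chain_final α ρ hα d hgood
  have hB := BL_of_col (k := k) α hgX h0 ha
  have hA := AA_of_BL (k := k) α hα hB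
  have : g.1 1 0 ^ 2 * a * α⁻¹ = α * ρ ^ 2 * a := by
    rw [h1]; field_simp
  rwa [this] at hA

end Cfsg.Agent.Helper59.SLGen
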