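import Mathlib
import Cfsg.Agent.Helper59.SLGenChain

set_option autoImplicit false

/-!
# Genericity: transversality from determinants, and a polynomial curve of good `ρ`.
-/

namespace Cfsg.Agent.Helper59.SLGen

open Matrix Polynomial Module

variable {k R : Type*} [Field k] [Field R] [Algebra k R]

/-- the family of vectors `1, α, …, α^{j-1}, ρ, ρα, …, ρ α^{d-j-1}` indexed by `ℕ`. -/
def wvec (α ρ : R) (j : ℕ) (c : ℕ) : R := if c < j then α ^ c else ρ * α ^ (c - j)

theorem sum_wvec_split (α ρ : R) (d j : ℕ) (hj : j ≤ d) (μ : ℕ → k) :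
    ∑ c ∈ Finset.range d, μ c • wvec α ρ j c =
      (∑ c ∈ Finset.range j, μ c • α ^ c) + ρ * ∑ c ∈ Finset.range (d - j), μ (j + c) • α ^ c := by
  rw [← Finset.sum_range_add_sum_Ico _ hj, Finset.sum_Ico_eq_sum_range, Finset.mul_sum]
  congr 1
  · apply Finset.sum_congr rfl
    intro c hc
    rw [Finset.mem_range] at hc
    simp [wvec, hc]
  · apply Finset.sum_congr rfl
    intro c _
    have : ¬ (j + c < j) := by omega
    simp only [wvec, this, if_false, Nat.add_sub_cancel_left]
    rw [mul_smul_comm]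

theorem natDegree_lt_of_DL {F : k[X]} {n : ℕ} (hn : 0 < n) (hF : DL F n) : F.natDegree < n := by
  by_contra hcon
  push Not at hcon
  have h0 : F.coeff F.natDegree = 0 := hF _ hcon
  have hF0 : F = 0 := by
    rwa [Polynomial.coeff_natDegree, Polynomial.leadingCoeff_eq_zero] at h0
  rw [hF0] at hcon
  simp at hcon
  omega

theorem aeval_of_DL (α : R) {F : k[X]} {n : ℕ} (hF : DL F n) :
    aeval α F = ∑ c ∈ Finset.range n, F.coeff c • α ^ c := by
  rcases Nat.eq_zero_or_pos n with hn | hn
  · subst hn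
    rw [eq_zero_of_DL_zero hF]; simp
  · exact aeval_eq_sum_range' (natDegree_lt_of_DL hn hF) α

/-- the polynomial `∑_{c<n} μ_c X^c` -/
noncomputable def polyOf (μ : ℕ → k) (n : ℕ) : k[X] := ∑ c ∈ Finset.range n, C (μ c) * X ^ c

theorem DL_polyOf (μ : ℕ → k) (n : ℕ) : DL (polyOf μ n) n := by
  intro m hm
  rw [polyOf, Polynomial.finsetSum_coeff]
  apply Finset.sum_eq_zero
  intro c hc
  rw [Finset.mem_range] at hc
  rw [Polynomial.coeff_C_mul_X_pow]
  have : m ≠ c := by omega
  simp [this]

theorem aeval_polyOf (α : R) (μ : ℕ → k) (n : ℕ) :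
    aeval α (polyOf μ n) = ∑ c ∈ Finset.range n, μ c • α ^ c := by
  rw [polyOf, map_sum]
  apply Finset.sum_congr rfl
  intro c _
  simp [Algebra.smul_def]

/-- transversality from a nonzero determinant -/
theorem HS_HI_of_det {d : ℕ} (b : Basis (Fin d) k R) (α ρ : R) (j : ℕ) (hj : j ≤ d)
    (hdet : b.det (fun c : Fin d => wvec α ρ j c) ≠ 0) :
    HS k α ρ d j ∧ HI k α ρ d j := by
  have hbas := (Basis.is_basis_iff_det b).mpr (isUnit_iff_ne_zero.mpr hdet)
  obtain ⟨hli, hsp⟩ := hbas
  constructor
  · intro z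
    have hz : z ∈ Submodule.span k (Set.range (fun c : Fin d => wvec α ρ j c)) := by
      rw [hsp]; trivial
    rw [Submodule.mem_span_range_iff_exists_fun] at hz
    obtain ⟨cf, hcf⟩ := hz
    -- extend cf to ℕ
    let μ : ℕ → k := fun i => if h : i < d then cf ⟨i, h⟩ else 0
    have hμ : ∀ i : Fin d, μ i = cf i := fun i => by simp [μ]
    have hsum : ∑ c ∈ Finset.range d, μ c • wvec α ρ j c = z := by
      rw [← Fin.sum_univ_eq_sum_range (fun c => μ c • wvec α ρ j c) d, ← hcf]
      apply Finset.sum_congr rfl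
      intro i _
      rw [hμ]
    rw [sum_wvec_split α ρ d j hj μ] at hsum
    refine ⟨polyOf μ j, polyOf (fun c => μ (j + c)) (d - j), DL_polyOf _ _, DL_polyOf _ _, ?_⟩
    rw [aeval_polyOf, aeval_polyOf, hsum]
  · intro F G hF hG hFG
    let μ : ℕ → k := fun i => if i < j then F.coeff i else -G.coeff (i - j)
    have hsum : ∑ c ∈ Finset.range d, μ c • wvec α ρ j c = 0 := by
      rw [sum_wvec_split α ρ d j hj μ]
      have h1 : ∑ c ∈ Finset.range j, μ c • α ^ c = aeval α F := by
        rw [aeval_of_DL α hF]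
        apply Finset.sum_congr rfl
        intro c hc
        rw [Finset.mem_range] at hc
        simp [μ, hc]
      have h2 : ∑ c ∈ Finset.range (d - j), μ (j + c) • α ^ c = -aeval α G := by
        rw [aeval_of_DL α hG, ← Finset.sum_neg_distrib]
        apply Finset.sum_congr rfl
        intro c _
        have : ¬ (j + c < j) := by omega
        simp [μ, this]
      rw [h1, h2, hFG]; ring
    rw [Fintype.linearIndependent_iff] at hli
    have hzero := hli (fun i : Fin d => μ i) (by
      rw [Fin.sum_univ_eq_sum_range (fun c => μ c • wvec α ρ j c) d]; exact hsum)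
    have hF0 : F = 0 := by
      ext m
      rw [Polynomial.coeff_zero]
      by_cases hm : m < j
      · have := hzero ⟨m, by omega⟩
        simpa [μ, hm] using this
      · exact hF m (by omega)
    rw [hF0]; simp

end Cfsg.Agent.Helper59.SLGen
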