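import Mathlib
import Cfsg.Agent.Helper59.SLGenGeneric

set_option autoImplicit false

/-!
# A polynomial curve of good `ρ` (infinite base field)
-/

namespace Cfsg.Agent.Helper59.SLGen

open Matrix Polynomial Module

variable {k R : Type*} [Field k] [Field R] [Algebra k R]

/-- the curve `ρ(t) = Σ_l P_l(t) α^l` -/
noncomputable def rhoT {d : ℕ} (α : R) (P : Fin d → k[X]) (t : k) : R :=
  ∑ l : Fin d, (P l).eval t • α ^ (l : ℕ)

/-- polynomial matrix whose evaluation at `t` is the coordinate matrix of `wvec α (α^s ρ(t)) j`. -/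
noncomputable def Mpoly {d : ℕ} (b : Basis (Fin d) k R) (α : R) (P : Fin d → k[X]) (s j : ℕ) :
    Matrix (Fin d) (Fin d) k[X] :=
  fun r c => if (c : ℕ) < j then C (b.repr (α ^ (c : ℕ)) r)
    else ∑ l : Fin d, P l * C (b.repr (α ^ ((l : ℕ) + s + ((c : ℕ) - j))) r)

theorem Mpoly_eval {d : ℕ} (b : Basis (Fin d) k R) (α : R) (P : Fin d → k[X]) (s j : ℕ) (t : k) :
    (Mpoly b α P s j).map (eval t) =
      b.toMatrix (fun c : Fin d => wvec α (α ^ s * rhoT α P t) j c) := by
  ext r c
  simp only [Matrix.map_apply, Mpoly, Basis.toMatrix_apply, wvec]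
  split_ifs with h
  · simp
  · rw [eval_finsetSum]
    simp only [eval_mul, eval_C]
    have hsum : α ^ s * rhoT α P t * α ^ ((c : ℕ) - j) =
        ∑ l : Fin d, (P l).eval t • α ^ ((l : ℕ) + s + ((c : ℕ) - j)) := by
      rw [rhoT, Finset.mul_sum, Finset.sum_mul]
      apply Finset.sum_congr rfl
      intro l _
      rw [mul_smul_comm, smul_mul_assoc, ← pow_add, ← pow_add]
      congr 2
      ring
    rw [hsum, map_sum, Finsupp.coe_finsetSum, Finset.sum_apply]
    apply Finset.sum_congr rfl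
    intro l _
    simp

theorem det_Mpoly_eval {d : ℕ} (b : Basis (Fin d) k R) (α : R) (P : Fin d → k[X]) (s j : ℕ)
    (t : k) :
    eval t (Mpoly b α P s j).det =
      b.det (fun c : Fin d => wvec α (α ^ s * rhoT α P t) j c) := by
  rw [Basis.det_apply, ← Mpoly_eval, ← coe_evalRingHom, RingHom.map_det]
  rfl

theorem wvec_eq_basis {d : ℕ} (b : Basis (Fin d) k R) (α : R) (hb : ∀ i : Fin d, b i = α ^ (i : ℕ))
    (s m j : ℕ) (hsm : s + m = j) :
    (fun c : Fin d => wvec α (α ^ s * α ^ m) j c) = b := by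
  funext c
  simp only [wvec]
  split_ifs with h
  · exact (hb c).symm
  · rw [hb, ← pow_add, ← pow_add]
    congr 1
    omega

theorem wvec_eq_basis_top {d : ℕ} (b : Basis (Fin d) k R) (α : R)
    (hb : ∀ i : Fin d, b i = α ^ (i : ℕ)) (ρ : R) :
    (fun c : Fin d => wvec α ρ d c) = b := by
  funext c
  simp only [wvec, c.2, if_true]
  exact (hb c).symm

/-- the Lagrange curve through `α^0, …, α^{d-1}` -/
noncomputable def lagP {d : ℕ} (v : Fin d → k) : Fin d → k[X] :=
  fun l => Lagrange.basis Finset.univ v l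

theorem rhoT_node {d : ℕ} (α : R) (v : Fin d → k) (hv : Function.Injective v) (m : Fin d) :
    rhoT α (lagP v) (v m) = α ^ (m : ℕ) := by
  rw [rhoT, Finset.sum_eq_single m]
  · rw [lagP, Lagrange.eval_basis_self (hv.injOn) (Finset.mem_univ m), one_smul]
  · intro l _ hl
    rw [lagP, Lagrange.eval_basis_of_ne hl (Finset.mem_univ m), zero_smul]
  · intro h; exact absurd (Finset.mem_univ m) h

/-- the product of all the relevant determinant polynomials -/
noncomputable def bigPoly {d : ℕ} (b : Basis (Fin d) k R) (α : R) (P : Fin d → k[X]) : k[X] :=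
  (∏ j ∈ Finset.range (d + 1), (Mpoly b α P 0 j).det) *
    (∏ j ∈ Finset.Icc 1 d, (Mpoly b α P 1 j).det)

theorem good_of_bigPoly {d : ℕ} (b : Basis (Fin d) k R) (α : R) (P : Fin d → k[X]) (t : k)
    (ht : eval t (bigPoly b α P) ≠ 0) : Good k α (rhoT α P t) d := by
  rw [bigPoly, eval_mul, eval_prod, eval_prod] at ht
  have h1 := left_ne_zero_of_mul ht
  have h2 := right_ne_zero_of_mul ht
  rw [Finset.prod_ne_zero_iff] at h1 h2
  intro j hj
  have hj1 := h1 j (Finset.mem_range.mpr (by omega))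
  rw [det_Mpoly_eval, pow_zero, one_mul] at hj1
  obtain ⟨hS, hI⟩ := HS_HI_of_det b α _ j hj hj1
  refine ⟨hS, hI, ?_⟩
  intro hj0
  have hj2 := h2 j (Finset.mem_Icc.mpr ⟨hj0, hj⟩)
  rw [det_Mpoly_eval, pow_one] at hj2
  exact HS_HI_of_det b α _ j hj hj2

theorem bigPoly_ne_zero {d : ℕ} (hd : 0 < d) (b : Basis (Fin d) k R) (α : R)
    (hb : ∀ i : Fin d, b i = α ^ (i : ℕ)) (v : Fin d → k) (hv : Function.Injective v) :
    bigPoly b α (lagP v) ≠ 0 := by
  rw [bigPoly]
  apply mul_ne_zero
  · rw [Finset.prod_ne_zero_iff]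
    intro j hj
    rw [Finset.mem_range] at hj
    intro h0
    by_cases hjd : j < d
    · have := det_Mpoly_eval b α (lagP v) 0 j (v ⟨j, hjd⟩)
      rw [h0, eval_zero, rhoT_node α v hv, wvec_eq_basis b α hb 0 j j (by simp), Basis.det_self]
        at this
      exact zero_ne_one this
    · have hjd' : j = d := by omega
      subst hjd'
      have := det_Mpoly_eval b α (lagP v) 0 j (v ⟨0, hd⟩)
      rw [h0, eval_zero, wvec_eq_basis_top b α hb, Basis.det_self] at this
      exact zero_ne_one this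
  · rw [Finset.prod_ne_zero_iff]
    intro j hj
    rw [Finset.mem_Icc] at hj
    intro h0
    have := det_Mpoly_eval b α (lagP v) 1 j (v ⟨j - 1, by omega⟩)
    rw [h0, eval_zero, rhoT_node α v hv, wvec_eq_basis b α hb 1 (j - 1) j (by omega),
      Basis.det_self] at this
    exact zero_ne_one this

/-- the polynomial `t ↦ λ(α ρ(t)²)` -/
noncomputable def qPoly {d : ℕ} (α : R) (P : Fin d → k[X]) (lam : R →ₗ[k] k) : k[X] :=
  ∑ l : Fin d, ∑ l' : Fin d, P l * P l' * C (lam (α ^ (1 + (l : ℕ) + (l' : ℕ))))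

theorem qPoly_eval {d : ℕ} (α : R) (P : Fin d → k[X]) (lam : R →ₗ[k] k) (t : k) :
    eval t (qPoly α P lam) = lam (α * rhoT α P t ^ 2) := by
  have hsq : α * rhoT α P t ^ 2 =
      ∑ l : Fin d, ∑ l' : Fin d, ((P l).eval t * (P l').eval t) • α ^ (1 + (l : ℕ) + (l' : ℕ)) := by
    rw [pow_two, rhoT, Finset.sum_mul, Finset.mul_sum]
    apply Finset.sum_congr rfl
    intro l _
    rw [Finset.mul_sum, Finset.mul_sum]
    apply Finset.sum_congr rfl
    intro l' _
    rw [smul_mul_smul_comm, mul_smul_comm, ← pow_add, pow_add α (1 + (l : ℕ)) l', pow_add α 1 l,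
      pow_one, pow_add, mul_assoc]
  rw [hsq, map_sum, qPoly, eval_finsetSum]
  apply Finset.sum_congr rfl
  intro l _
  rw [map_sum, eval_finsetSum]
  apply Finset.sum_congr rfl
  intro l' _
  simp

/-- Main genericity theorem: a `k`-subspace containing `α ρ²` for all good `ρ` contains `α`. -/
theorem alpha_mem_of_good [Infinite k] {d : ℕ} (hd : 0 < d) (b : Basis (Fin d) k R) (α : R)
    (hb : ∀ i : Fin d, b i = α ^ (i : ℕ)) (S : Submodule k R)
    (hS : ∀ ρ : R, Good k α ρ d → α * ρ ^ 2 ∈ S) : α ∈ S := by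
  by_contra hα
  obtain ⟨lam, hlam, hker⟩ := Submodule.exists_le_ker_of_notMem hα
  let v : Fin d → k := fun i => Infinite.natEmbedding k i
  have hv : Function.Injective v := fun i j h => Fin.ext ((Infinite.natEmbedding k).injective h)
  have hbig := bigPoly_ne_zero hd b α hb v hv
  have hall : ∀ t : k, eval t (qPoly α (lagP v) lam * bigPoly b α (lagP v)) = 0 := by
    intro t
    rw [eval_mul]
    by_cases ht : eval t (bigPoly b α (lagP v)) = 0
    · rw [ht, mul_zero]
    · have hg := good_of_bigPoly b α (lagP v) t ht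
      have hm := hker (hS _ hg)
      rw [LinearMap.mem_ker] at hm
      rw [qPoly_eval, hm, zero_mul]
  have hz := zero_of_eval_zero _ hall
  have hq : qPoly α (lagP v) lam = 0 := by
    rcases mul_eq_zero.mp hz with h | h
    · exact h
    · exact absurd h hbig
  have := qPoly_eval α (lagP v) lam (v ⟨0, hd⟩)
  rw [hq, eval_zero, rhoT_node α v hv] at this
  simp only [pow_zero, one_pow, mul_one] at this
  exact hlam this.symm

end Cfsg.Agent.Helper59.SLGen
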