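import Mathlib
import Cfsg.Agent.Helper59.SLGenBasic
import Cfsg.Agent.Helper46.SL2SubfieldGen

set_option autoImplicit false

/-!
# S5060 for finite `k` (via helper46's `sl2_subfield_generation`)
-/

namespace Cfsg.Agent.Helper59.SLGen

open Matrix IntermediateField Polynomial
open Cfsg.Agent.Helper46.Dk

variable {k K : Type*} [Field k] [Field K] [Algebra k K]

theorem XX_adjoin_eq_top_finite [Finite k] (h2 : (2 : k) ≠ 0) (h3 : Nat.card k ≠ 3) (α : K)
    (hα : IsAlgebraic k α) (hα0 : α ≠ 0) :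
    XX k (⟨α, mem_adjoin_simple_self k α⟩ : k⟮α⟯) = ⊤ := by
  classical
  have hint : IsIntegral k α := hα.isIntegral
  haveI : FiniteDimensional k k⟮α⟯ := adjoin.finiteDimensional hint
  haveI : Finite k⟮α⟯ := Module.finite_of_finite k
  haveI : Fintype k⟮α⟯ := Fintype.ofFinite _
  set θ : k⟮α⟯ := ⟨α, mem_adjoin_simple_self k α⟩ with hθdef
  have hθ : θ ≠ 0 := by
    intro h
    apply hα0
    exact congrArg Subtype.val h
  let F0 : Subfield k⟮α⟯ := (algebraMap k k⟮α⟯).fieldRange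
  have hF0card : Nat.card F0 = Nat.card k := by
    have : Nat.card (Set.range (algebraMap k k⟮α⟯)) = Nat.card k :=
      Nat.card_range_of_injective (algebraMap k k⟮α⟯).injective
    exact this
  have h2E : ¬ ((2 : k⟮α⟯) = 0) := by
    intro h
    apply h2
    apply (algebraMap k k⟮α⟯).injective
    rw [map_zero, map_ofNat]; exact h
  have hexc : ¬ (Nat.card F0 = 3 ∧ θ ^ 2 = -1) := by
    rintro ⟨h, -⟩
    rw [hF0card] at h
    exact h3 h
  -- the generating sets agree
  have hgen : genSet k θ =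
      ({g : Matrix.SpecialLinearGroup (Fin 2) k⟮α⟯ | ∃ c ∈ F0, g = uU c} ∪
        {g : Matrix.SpecialLinearGroup (Fin 2) k⟮α⟯ | ∃ c ∈ F0, g = vV (θ * c)}) := by
    ext g
    constructor
    · rintro (⟨c, rfl⟩ | ⟨c, rfl⟩)
      · exact Or.inl ⟨algebraMap k k⟮α⟯ c, ⟨c, rfl⟩, rfl⟩
      · exact Or.inr ⟨algebraMap k k⟮α⟯ c, ⟨c, rfl⟩, by rw [mul_comm]⟩
    · rintro (⟨_, ⟨c, rfl⟩, rfl⟩ | ⟨_, ⟨c, rfl⟩, rfl⟩)
      · exact Or.inl ⟨c, rfl⟩
      · exact Or.inr ⟨c, by rw [mul_comm]⟩
  -- the subfield generated is everything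
  have htop : Subfield.closure ((F0 : Set k⟮α⟯) ∪ {θ}) = ⊤ := by
    rw [eq_top_iff]
    intro x _
    let pb := adjoin.powerBasis hint
    have hgenpb : pb.gen = θ := adjoin.powerBasis_gen hint
    obtain ⟨f, hf⟩ := pb.exists_eq_aeval' x
    rw [hf, hgenpb, aeval_eq_sum_range]
    apply sum_mem
    intro i _
    rw [Algebra.smul_def]
    apply mul_mem
    · apply Subfield.subset_closure
      left
      exact ⟨f.coeff i, rfl⟩
    · apply pow_mem
      apply Subfield.subset_closure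
      right
      rfl
  rw [eq_top_iff]
  intro g _
  show g ∈ Subgroup.closure (genSet k θ)
  rw [hgen]
  apply mem_closure_of_entries F0 θ hθ (fun h => absurd h h2E) hexc g
  intro i j
  rw [htop]; trivial

end Cfsg.Agent.Helper59.SLGen
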