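import Mathlib
import Cfsg.Agent.Helper59.SLGenCurve

set_option autoImplicit false

/-!
# `⟨u(k), l(kα)⟩ = SL₂(k(α))` for infinite `k` of characteristic `≠ 2`
-/

namespace Cfsg.Agent.Helper59.SLGen

open Matrix Polynomial Module
open Cfsg.Agent.Helper46.Dk

variable {k R : Type*} [Field k] [Field R] [Algebra k R]

local notation "SL2" => Matrix.SpecialLinearGroup (Fin 2) R

/-- the multiplier space of `A` -/
def multSub (h2 : (2 : k) ≠ 0) (α : R) : Submodule k R where
  carrier := {s | ∀ a ∈ AA k α, s * a ∈ AA k α}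
  add_mem' := by
    intro s s' hs hs' a ha
    rw [add_mul]; exact AA_add α (hs a ha) (hs' a ha)
  zero_mem' := by
    intro a _
    rw [zero_mul]; exact AA_zero α
  smul_mem' := by
    intro c s hs a ha
    rw [Algebra.smul_def, mul_assoc]
    exact AA_smul h2 α c (hs a ha)

theorem XX_eq_top_infinite [Infinite k] (h2 : (2 : k) ≠ 0) {d : ℕ} (hd : 0 < d)
    (b : Basis (Fin d) k R) (α : R) (hb : ∀ i : Fin d, b i = α ^ (i : ℕ)) (hα : α ≠ 0) :
    XX k α = ⊤ := by
  have hαS : α ∈ multSub h2 α := by
    apply alpha_mem_of_good hd b α hb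
    intro ρ hρ a ha
    exact mul_mem_AA_of_good α ρ hα d hρ ha
  have hpow : ∀ n : ℕ, α ^ n ∈ multSub h2 α := by
    intro n
    induction n with
    | zero => intro a ha; simpa using ha
    | succ n ih =>
      intro a ha
      rw [pow_succ, mul_assoc]
      exact ih _ (hαS a ha)
  have htop : multSub h2 α = ⊤ := by
    rw [eq_top_iff, ← b.span_eq, Submodule.span_le]
    rintro x ⟨i, rfl⟩
    rw [hb]; exact hpow _
  apply eq_top_of_AA α hα
  intro a
  have ha : a ∈ multSub h2 α := by rw [htop]; trivial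
  have h1 : (1 : R) ∈ AA k α := by
    have := AA_algebraMap (k := k) α 1
    rwa [map_one] at this
  have := ha 1 h1
  rwa [mul_one] at this

end Cfsg.Agent.Helper59.SLGen
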