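import Mathlib
import Cfsg.Agent.Helper59.SLGenBasic

set_option autoImplicit false

/-!
# Transfer from `SL₂(E)` (`E` an intermediate field) to `SL₂(K)`
-/

namespace Cfsg.Agent.Helper59.SLGen

open Matrix
open Cfsg.Agent.Helper46.Dk

variable {k K : Type*} [Field k] [Field K] [Algebra k K]

/-- the inclusion `SL₂(E) → SL₂(K)` -/
noncomputable def incl (E : IntermediateField k K) :
    Matrix.SpecialLinearGroup (Fin 2) E →* Matrix.SpecialLinearGroup (Fin 2) K :=
  Matrix.SpecialLinearGroup.map (algebraMap E K)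

theorem incl_apply (E : IntermediateField k K) (g : Matrix.SpecialLinearGroup (Fin 2) E)
    (i j : Fin 2) : (incl E g).1 i j = ((g.1 i j : E) : K) := rfl

theorem mem_range_incl (E : IntermediateField k K) (g : Matrix.SpecialLinearGroup (Fin 2) K) :
    g ∈ (incl E).range ↔ ∀ i j : Fin 2, g.1 i j ∈ E := by
  constructor
  · rintro ⟨g', rfl⟩ i j
    rw [incl_apply]; exact (g'.1 i j).2
  · intro h
    let M : Matrix (Fin 2) (Fin 2) E := fun i j => ⟨g.1 i j, h i j⟩
    have hM : M.map (algebraMap E K) = g.1 := by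
      ext i j; rfl
    have hdet : M.det = 1 := by
      apply (algebraMap E K).injective
      rw [RingHom.map_det, RingHom.mapMatrix_apply, hM, map_one]
      exact g.2
    refine ⟨(⟨M, hdet⟩ : Matrix.SpecialLinearGroup (Fin 2) E), ?_⟩
    apply Subtype.ext
    ext i j
    rfl

theorem transfer (α : K) (E : IntermediateField k K) (hαE : α ∈ E)
    (htop : XX k (⟨α, hαE⟩ : E) = ⊤) :
    (Subgroup.closure ({g : Matrix.SpecialLinearGroup (Fin 2) K |
          ∃ c : k, (g : Matrix (Fin 2) (Fin 2) K) = !![1, algebraMap k K c; 0, 1]} ∪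
        {g : Matrix.SpecialLinearGroup (Fin 2) K |
          ∃ c : k, (g : Matrix (Fin 2) (Fin 2) K) = !![1, 0; algebraMap k K c * α, 1]}) :
      Set (Matrix.SpecialLinearGroup (Fin 2) K)) =
    {g : Matrix.SpecialLinearGroup (Fin 2) K |
      ∀ i j : Fin 2, (g : Matrix (Fin 2) (Fin 2) K) i j ∈ E} := by
  have hgen : ({g : Matrix.SpecialLinearGroup (Fin 2) K |
          ∃ c : k, (g : Matrix (Fin 2) (Fin 2) K) = !![1, algebraMap k K c; 0, 1]} ∪
        {g : Matrix.SpecialLinearGroup (Fin 2) K |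
          ∃ c : k, (g : Matrix (Fin 2) (Fin 2) K) = !![1, 0; algebraMap k K c * α, 1]}) =
      (incl E) '' (genSet k (⟨α, hαE⟩ : E)) := by
    ext g
    constructor
    · rintro (⟨c, hc⟩ | ⟨c, hc⟩)
      · refine ⟨uU (algebraMap k E c), Or.inl ⟨c, rfl⟩, ?_⟩
        apply Subtype.ext
        rw [hc]
        ext i j
        rw [incl_apply]
        fin_cases i <;> fin_cases j <;> simp [uU, mk4]
      · refine ⟨vV (algebraMap k E c * ⟨α, hαE⟩), Or.inr ⟨c, rfl⟩, ?_⟩
        apply Subtype.ext
        rw [hc]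
        ext i j
        rw [incl_apply]
        fin_cases i <;> fin_cases j <;> simp [vV, mk4]
    · rintro ⟨g', (⟨c, rfl⟩ | ⟨c, rfl⟩), rfl⟩
      · left
        refine ⟨c, ?_⟩
        ext i j
        rw [incl_apply]
        fin_cases i <;> fin_cases j <;> simp [uU, mk4]
      · right
        refine ⟨c, ?_⟩
        ext i j
        rw [incl_apply]
        fin_cases i <;> fin_cases j <;> simp [vV, mk4]
  rw [hgen, ← MonoidHom.map_closure]
  have : Subgroup.closure (genSet k (⟨α, hαE⟩ : E)) = ⊤ := htop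
  rw [this, ← MonoidHom.range_eq_map]
  ext g
  exact mem_range_incl E g

end Cfsg.Agent.Helper59.SLGen
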