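import Mathlib
import Cfsg.Agent.Helper59.SLGenInf
import Cfsg.Agent.Helper59.SLGenTransfer

set_option autoImplicit false

/-!
# S5060 for infinite `k`
-/

namespace Cfsg.Agent.Helper59.SLGen

open Matrix IntermediateField

variable {k K : Type*} [Field k] [Field K] [Algebra k K]

theorem XX_adjoin_eq_top_infinite [Infinite k] (h2 : (2 : k) ≠ 0) (α : K) (hα : IsAlgebraic k α)
    (hα0 : α ≠ 0) :
    XX k (⟨α, mem_adjoin_simple_self k α⟩ : k⟮α⟯) = ⊤ := by
  have hint : IsIntegral k α := hα.isIntegral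
  let pb := adjoin.powerBasis hint
  have hgen : pb.gen = (⟨α, mem_adjoin_simple_self k α⟩ : k⟮α⟯) := adjoin.powerBasis_gen hint
  apply XX_eq_top_infinite h2 pb.dim_pos pb.basis
  · intro i
    rw [PowerBasis.coe_basis, hgen]
  · intro h
    apply hα0
    exact congrArg Subtype.val h

end Cfsg.Agent.Helper59.SLGen
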