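import Mathlib
import Cfsg.Agent.Helper84.SU3P.Defs

/-!
# S2289 piece (CEN) for helper84: centrality of `Z̃` in `Ũ`
-/

set_option autoImplicit false

namespace Cfsg.Agent.Helper59.SU3P

open Matrix Polynomial Cfsg.Agent.Helper84.RU3 Cfsg.Agent.Helper96.SLPres
  Cfsg.Agent.Helper96.StemSLTwo Cfsg.Agent.Helper96.StPres Cfsg.Agent.Helper84.SU3P

section A

variable {D : Type*} [Group D] {K₀ : Type*} [Field K₀]

theorem CEN_conj_pow (φ : SL2 K₀ →* D) (h : D) (ν₀ : K₀)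
    (hconj : ∀ s : K₀, h * φ (uMat K₀ s) * h⁻¹ = φ (uMat K₀ (ν₀ * s))) (k : ℕ) (s : K₀) :
    h ^ k * φ (uMat K₀ s) * (h ^ k)⁻¹ = φ (uMat K₀ (ν₀ ^ k * s)) := by
  induction k generalizing s with
  | zero => simp
  | succ k ih =>
    rw [pow_succ', _root_.mul_inv_rev]
    have : h * h ^ k * φ (uMat K₀ s) * ((h ^ k)⁻¹ * h⁻¹) =
        h * (h ^ k * φ (uMat K₀ s) * (h ^ k)⁻¹) * h⁻¹ := by group
    rw [this, ih, hconj, pow_succ', mul_assoc]

theorem CEN_comm_Z (φ : SL2 K₀ →* D) (s t : K₀) :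
    Commute (φ (uMat K₀ s)) (φ (uMat K₀ t)) := by
  show _ = _
  rw [← map_mul, ← map_mul, ← uMat_add, ← uMat_add, add_comm]

/-- conjugation by a power of `h` of a generator `uz (h ^ m) (uz h u i) j` -/
theorem CEN_conj_gen (h u : D) (m : ℕ) (i d : ℕ) (j : ℤ) :
    h ^ d * uz (h ^ m) (uz h u (i : ℤ)) j * (h ^ d)⁻¹ =
      uz (h ^ m) (uz h u ((d + i : ℕ) : ℤ)) j := by
  have h1 : Commute (h ^ d) ((h ^ m) ^ j) := ((Commute.refl h).pow_pow d m).zpow_right j
  have h2 : h ^ d * uz h u (i : ℤ) * (h ^ d)⁻¹ = uz h u ((d + i : ℕ) : ℤ) := by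
    have := uz_conj h u (i : ℤ) (d : ℤ)
    rw [zpow_natCast] at this
    rw [this, Nat.cast_add]
  have h3 : (h ^ d)⁻¹ * ((h ^ m) ^ j)⁻¹ = ((h ^ m) ^ j)⁻¹ * (h ^ d)⁻¹ := by
    rw [← _root_.mul_inv_rev, ← _root_.mul_inv_rev, h1.eq]
  rw [← h2]
  unfold uz
  calc h ^ d * ((h ^ m) ^ j * (h ^ (i : ℤ) * u * (h ^ (i : ℤ))⁻¹) * ((h ^ m) ^ j)⁻¹) * (h ^ d)⁻¹
      = (h ^ d * (h ^ m) ^ j) * (h ^ (i : ℤ) * u * (h ^ (i : ℤ))⁻¹) *
          (((h ^ m) ^ j)⁻¹ * (h ^ d)⁻¹) := by group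
    _ = ((h ^ m) ^ j * h ^ d) * (h ^ (i : ℤ) * u * (h ^ (i : ℤ))⁻¹) *
          ((h ^ d)⁻¹ * ((h ^ m) ^ j)⁻¹) := by rw [h1.eq, h3]
    _ = (h ^ m) ^ j * (h ^ d * (h ^ (i : ℤ) * u * (h ^ (i : ℤ))⁻¹) * (h ^ d)⁻¹) *
          ((h ^ m) ^ j)⁻¹ := by group

/-- (CEN) centrality of `Z̃` in `Ũ` -/
theorem central (φ : SL2 K₀ →* D) (h u : D) (ν₀ : K₀) (n : ℕ) (hn : 0 < n) (hh : h ^ n = 1) (m : ℕ)
    (hν : ∀ s : K₀, s ≠ 0 → ∃ i : ℕ, ν₀ ^ i = s) (hνm : ν₀ ^ m = 1)
    (hconj : ∀ s : K₀, h * φ (uMat K₀ s) * h⁻¹ = φ (uMat K₀ (ν₀ * s)))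
    (kc : ℕ) (hC1 : ∀ i : ℕ, i < kc → Commute (uz h u i) (φ (uMat K₀ 1)))
    (hC2 : uz h u kc ∈ Subgroup.closure
      ({g | ∃ i : ℕ, i < kc ∧ ∃ j : ℤ, g = uz (h ^ m) (uz h u i) j} ∪
        Set.range (fun s : K₀ => φ (uMat K₀ s)))) :
    ∀ (j : ℤ) (s : K₀), Commute (uz h u j) (φ (uMat K₀ s)) := by
  -- `h ^ m` commutes with every `φ (uMat s)`
  have hm : ∀ s : K₀, Commute (h ^ m) (φ (uMat K₀ s)) := by
    intro s
    have h1 := CEN_conj_pow φ h ν₀ hconj m s
    rw [hνm, one_mul] at h1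
    show h ^ m * φ (uMat K₀ s) = φ (uMat K₀ s) * h ^ m
    conv_rhs => rw [← h1]
    group
  have hmz : ∀ (s : K₀) (j : ℤ), Commute ((h ^ m) ^ j) (φ (uMat K₀ s)) :=
    fun s j => (hm s).zpow_left j
  -- natural indices
  have hnat : ∀ j : ℕ, Commute (uz h u (j : ℤ)) (φ (uMat K₀ 1)) := by
    intro j
    induction j using Nat.strong_induction_on with
    | _ j ih =>
      rcases Nat.lt_or_ge j kc with hlt | hge
      · exact hC1 j hlt
      · obtain ⟨d, rfl⟩ : ∃ d, j = d + kc := ⟨j - kc, by omega⟩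
        -- conjugate `hC2` by `h ^ d`
        have hmem : uz h u ((d + kc : ℕ) : ℤ) ∈ Subgroup.centralizer {φ (uMat K₀ 1)} := by
          have h2 : h ^ d * uz h u (kc : ℤ) * (h ^ d)⁻¹ = uz h u ((d + kc : ℕ) : ℤ) := by
            have := uz_conj h u (kc : ℤ) (d : ℤ)
            rw [zpow_natCast] at this
            rw [this, Nat.cast_add]
          rw [← h2]
          -- membership is transported along conjugation
          have hconjmem : ∀ g ∈ Subgroup.closure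
              ({g | ∃ i : ℕ, i < kc ∧ ∃ j : ℤ, g = uz (h ^ m) (uz h u i) j} ∪
                Set.range (fun s : K₀ => φ (uMat K₀ s))),
              h ^ d * g * (h ^ d)⁻¹ ∈ Subgroup.centralizer {φ (uMat K₀ 1)} := by
            intro g hg
            induction hg using Subgroup.closure_induction with
            | mem g hg =>
              rw [Subgroup.mem_centralizer_iff]
              intro w hw
              rw [Set.mem_singleton_iff] at hw
              subst hw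
              rcases hg with ⟨i, hi, j', rfl⟩ | ⟨s, rfl⟩
              · rw [CEN_conj_gen]
                have h3 : Commute (uz h u ((d + i : ℕ) : ℤ)) (φ (uMat K₀ 1)) :=
                  ih (d + i) (by omega)
                have h4 : Commute (uz (h ^ m) (uz h u ((d + i : ℕ) : ℤ)) j') (φ (uMat K₀ 1)) := by
                  unfold uz at h3 ⊢
                  exact ((hmz 1 j').mul_left h3).mul_left (hmz 1 j').inv_left
                exact h4.eq.symm
              · show φ (uMat K₀ 1) * (h ^ d * φ (uMat K₀ s) * (h ^ d)⁻¹) =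
                  h ^ d * φ (uMat K₀ s) * (h ^ d)⁻¹ * φ (uMat K₀ 1)
                rw [CEN_conj_pow φ h ν₀ hconj d s]
                exact (CEN_comm_Z φ 1 _).eq
            | one =>
              rw [mul_one, mul_inv_cancel]
              exact Subgroup.one_mem _
            | mul a b _ _ iha ihb =>
              have : h ^ d * (a * b) * (h ^ d)⁻¹ =
                  (h ^ d * a * (h ^ d)⁻¹) * (h ^ d * b * (h ^ d)⁻¹) := by group
              rw [this]
              exact Subgroup.mul_mem _ iha ihb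
            | inv a _ iha =>
              have : h ^ d * a⁻¹ * (h ^ d)⁻¹ = (h ^ d * a * (h ^ d)⁻¹)⁻¹ := by group
              rw [this]
              exact Subgroup.inv_mem _ iha
          exact hconjmem _ hC2
        rw [Subgroup.mem_centralizer_iff] at hmem
        exact (hmem _ rfl).symm
  -- integer indices
  have hint : ∀ j : ℤ, Commute (uz h u j) (φ (uMat K₀ 1)) := by
    intro j
    have hn' : (n : ℤ) ≠ 0 := by exact_mod_cast hn.ne'
    have hpos : 0 ≤ j % (n : ℤ) := Int.emod_nonneg j hn'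
    obtain ⟨k, hk⟩ := Int.eq_ofNat_of_zero_le hpos
    have h1 : h ^ j = h ^ (k : ℤ) := by
      rw [← hk]
      exact zpow_eq_zpow_emod' j hh
    have h2 : uz h u j = uz h u (k : ℤ) := by
      unfold uz
      rw [h1]
    rw [h2]
    exact hnat k
  intro j s
  by_cases hs : s = 0
  · rw [hs, uMat_zero, map_one]
    exact Commute.one_right _
  · obtain ⟨i, rfl⟩ := hν s hs
    have h1 := CEN_conj_pow φ h ν₀ hconj i 1
    rw [mul_one] at h1
    rw [← h1]
    have h2 := hint (-(i : ℤ) + j)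
    rw [← uz_conj h u j (-(i : ℤ))] at h2
    rw [_root_.zpow_neg, zpow_natCast, inv_inv] at h2
    -- `Commute ((h^i)⁻¹ * x * h^i) w` gives `Commute x (h^i * w * (h^i)⁻¹)`
    show _ = _
    have h3 := h2.eq
    calc uz h u j * (h ^ i * φ (uMat K₀ 1) * (h ^ i)⁻¹)
        = h ^ i * (((h ^ i)⁻¹ * uz h u j * h ^ i) * φ (uMat K₀ 1)) * (h ^ i)⁻¹ := by group
      _ = h ^ i * (φ (uMat K₀ 1) * ((h ^ i)⁻¹ * uz h u j * h ^ i)) * (h ^ i)⁻¹ := by rw [h3]
      _ = h ^ i * φ (uMat K₀ 1) * (h ^ i)⁻¹ * uz h u j := by group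

end A

end Cfsg.Agent.Helper59.SU3P
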