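-- helper59: piece (CENT) of helper84's S2289 farm #12729: the centre of the hyperbolic model of `SU_3(q)`.
import Mathlib
import Cfsg.Agent.Helper84.SU3P.Defs

set_option autoImplicit false

namespace Cfsg.Agent.Helper59.SU3P

open Matrix Polynomial Cfsg.Agent.Helper84.RU3 Cfsg.Agent.Helper84.SU3P Cfsg.Agent.Helper96.SLPres
  Cfsg.Agent.Helper96.StemSLTwo Cfsg.Agent.Helper96.StPres

variable {K : Type*} [Field K] [Fintype K] (bar : K →+* K) (hb : ∀ x, bar (bar x) = x)

/-- a generator of the multiplicative group of a field with at least three elements is not zero -/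
theorem cent_zeta_ne_zero {q : ℕ} (hK : Fintype.card K = q ^ 2) {ζ : K}
    (hζ : ∀ x : K, x ≠ 0 → ∃ n : ℕ, ζ ^ n = x) : ζ ≠ 0 := by
  classical
  intro h0
  have h1 : ∀ x : K, x ≠ 0 → x = 1 := by
    intro x hx
    obtain ⟨n, hn⟩ := hζ x hx
    rcases Nat.eq_zero_or_pos n with rfl | hn0
    · rw [pow_zero] at hn
      exact hn.symm
    · rw [h0, zero_pow hn0.ne'] at hn
      exact absurd hn.symm hx
  have h2 : Fintype.card K ≤ 2 := by
    calc Fintype.card K = (Finset.univ : Finset K).card := rfl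
      _ ≤ ({0, 1} : Finset K).card := by
          apply Finset.card_le_card
          intro x _
          by_cases hx : x = 0
          · simp [hx]
          · simp [h1 x hx]
      _ ≤ 2 := Finset.card_le_two
  have h3 : 1 < Fintype.card K := Fintype.one_lt_card
  rw [hK] at h2 h3
  have h4 : q ≤ 1 := by
    by_contra hq
    rw [not_le] at hq
    nlinarith
  interval_cases q <;> simp at h3

/-- the order of a generator -/
theorem cent_orderOf {q : ℕ} (hK : Fintype.card K = q ^ 2) {ζ : K}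
    (hζ : ∀ x : K, x ≠ 0 → ∃ n : ℕ, ζ ^ n = x) : orderOf ζ = q ^ 2 - 1 := by
  classical
  have hζ0 := cent_zeta_ne_zero hK hζ
  have h1 : ∀ x : Kˣ, x ∈ Subgroup.zpowers (Units.mk0 ζ hζ0) := by
    intro x
    obtain ⟨n, hn⟩ := hζ x.1 x.ne_zero
    refine ⟨(n : ℤ), ?_⟩
    apply Units.ext
    simp [hn]
  have h2 := orderOf_eq_card_of_forall_mem_zpowers h1
  rw [Nat.card_eq_fintype_card, Fintype.card_units, hK] at h2
  rw [← h2, ← orderOf_units, Units.val_mk0]

omit [Fintype K] in
/-- powers of a diagonal element -/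
theorem cent_hM_pow {l : K} (hl : l ≠ 0) (n : ℕ) : hM bar l ^ n = hM bar (l ^ n) := by
  have hbl : bar l ≠ 0 := (map_ne_zero bar).mpr hl
  induction n with
  | zero =>
    rw [pow_zero, pow_zero]
    unfold hM
    ext i j
    fin_cases i <;> fin_cases j <;> simp [map_one]
  | succ n ih =>
    rw [pow_succ, ih]
    unfold hM
    ext i j
    fin_cases i <;> fin_cases j <;>
      simp [Matrix.mul_apply, Fin.sum_univ_three, map_pow] <;> (try field_simp) <;> ring

omit [Fintype K] in
/-- a diagonal element which is a scalar matrix -/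
theorem cent_hM_scalar {ω : K} (h1 : bar ω * ω = 1) (h3 : ω ^ 3 = 1) :
    hM bar ω = ω • (1 : Matrix (Fin 3) (Fin 3) K) := by
  have hω : ω ≠ 0 := by
    intro h0
    rw [h0, mul_zero] at h1
    exact zero_ne_one h1
  have hbω : bar ω = ω⁻¹ := eq_inv_of_mul_eq_one_left h1
  unfold hM
  ext i j
  fin_cases i <;> fin_cases j <;> simp [hbω]
  field_simp
  linear_combination -h3

omit [Fintype K] in
/-- scalar elements are central -/
theorem cent_center_of_scalar (g : SUJ bar) (c : K) (hg : mt bar g = c • (1 : Matrix (Fin 3) (Fin 3) K)) :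
    g ∈ Subgroup.center (SUJ bar) := by
  rw [Subgroup.mem_center_iff]
  intro h
  apply ext_mt
  rw [mt_mul, mt_mul, hg, Matrix.mul_smul, Matrix.smul_mul, Matrix.mul_one, Matrix.one_mul]

include hb in
omit [Fintype K] in
/-- central elements are scalar: the matrix computation -/
theorem cent_scalar_aux (g : SUJ bar) (hg : g ∈ Subgroup.center (SUJ bar))
    {b₁ : K} (hb₁ : b₁ ≠ 0) (hb₁' : b₁ + bar b₁ + 0 * bar 0 = 0)
    {a b : K} (ha : a ≠ 0) (hab : b + bar b + a * bar a = 0) :
    mt bar g = (mt bar g 0 0) • (1 : Matrix (Fin 3) (Fin 3) K) := by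
  rw [Subgroup.mem_center_iff] at hg
  have e1 := congrArg (mt bar) (hg (uE bar hb 0 b₁ hb₁'))
  have e2 := congrArg (mt bar) (hg (lE bar hb 0 b₁ hb₁'))
  have e3 := congrArg (mt bar) (hg (uE bar hb a b hab))
  rw [mt_mul, mt_mul, mt_uE] at e1 e3
  rw [mt_mul, mt_mul, mt_lE] at e2
  set M := mt bar g with hM
  have hba : bar a ≠ 0 := (map_ne_zero bar).mpr ha
  have h20 : M 2 0 = 0 := by
    have := congrFun (congrFun e1 0) 0
    simp [uM, Matrix.mul_apply, Fin.sum_univ_three] at this
    tauto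
  have h21 : M 2 1 = 0 := by
    have := congrFun (congrFun e1 0) 1
    simp [uM, Matrix.mul_apply, Fin.sum_univ_three] at this
    tauto
  have h10 : M 1 0 = 0 := by
    have := congrFun (congrFun e1 1) 2
    simp [uM, Matrix.mul_apply, Fin.sum_univ_three] at this
    tauto
  have h22 : M 2 2 = M 0 0 := by
    have := congrFun (congrFun e1 0) 2
    simp [uM, Matrix.mul_apply, Fin.sum_univ_three] at this
    have h' : b₁ * (M 2 2 - M 0 0) = 0 := by linear_combination this
    rcases mul_eq_zero.mp h' with h'' | h''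
    · exact absurd h'' hb₁
    · exact sub_eq_zero.mp h''
  have h01 : M 0 1 = 0 := by
    have := congrFun (congrFun e2 2) 1
    simp [lM, Matrix.mul_apply, Fin.sum_univ_three] at this
    tauto
  have h02 : M 0 2 = 0 := by
    have := congrFun (congrFun e2 2) 2
    simp [lM, Matrix.mul_apply, Fin.sum_univ_three] at this
    tauto
  have h12 : M 1 2 = 0 := by
    have := congrFun (congrFun e2 1) 0
    simp [lM, Matrix.mul_apply, Fin.sum_univ_three] at this
    tauto
  have h11 : M 1 1 = M 0 0 := by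
    have := congrFun (congrFun e3 0) 1
    simp [uM, Matrix.mul_apply, Fin.sum_univ_three, h01, h21] at this
    have h' : bar a * (M 1 1 - M 0 0) = 0 := by linear_combination this
    rcases mul_eq_zero.mp h' with h'' | h''
    · exact absurd h'' hba
    · exact sub_eq_zero.mp h''
  ext i j
  fin_cases i <;> fin_cases j <;> simp [h20, h21, h10, h22, h01, h02, h12, h11]

omit [Fintype K] in
/-- a scalar element has `c ^ 3 = 1` and `c * bar c = 1` -/
theorem cent_scalar_props (g : SUJ bar) (c : K) (hg : mt bar g = c • (1 : Matrix (Fin 3) (Fin 3) K)) :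
    c ^ 3 = 1 ∧ c * bar c = 1 := by
  constructor
  · have := det_mt bar g
    rw [hg, Matrix.det_smul, Matrix.det_one, mul_one, Fintype.card_fin] at this
    exact this
  · have h := isUn_mt bar g
    unfold IsUn at h
    have := congrFun (congrFun h 0) 2
    rw [hg] at this
    simp [Jm, Matrix.mul_apply, Fin.sum_univ_three] at this
    exact this

include hb in
/-- (CENT) the centre of the model group -/
theorem center_SUJ {q : ℕ} (hK : Fintype.card K = q ^ 2) (hq : ∀ x, bar x = x ^ q)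
    {ζ : K} (hζ : ∀ x : K, x ≠ 0 → ∃ n : ℕ, ζ ^ n = x) (H₀ : SUJ bar) (hH₀ : mt bar H₀ = hM bar ζ) :
    H₀ ^ ((q ^ 2 - 1) / Nat.gcd 3 (q + 1)) ∈ Subgroup.center (SUJ bar) ∧
    ∀ g ∈ Subgroup.center (SUJ bar), ∃ i : ℕ, g = (H₀ ^ ((q ^ 2 - 1) / Nat.gcd 3 (q + 1))) ^ i := by
  have hζ0 := cent_zeta_ne_zero hK hζ
  have hord := cent_orderOf hK hζ
  have hq2 : 2 ≤ q := by
    have h3 : 1 < Fintype.card K := Fintype.one_lt_card
    rw [hK] at h3
    by_contra hq'
    rw [not_le] at hq'
    interval_cases q <;> simp at h3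
  set d := Nat.gcd 3 (q + 1) with hd
  have hd3 : d ∣ 3 := Nat.gcd_dvd_left _ _
  have hdq : d ∣ q + 1 := Nat.gcd_dvd_right _ _
  have hdpos : 0 < d := Nat.gcd_pos_of_pos_left _ (by norm_num)
  have hfac : q ^ 2 - 1 = (q + 1) * (q - 1) := by
    obtain ⟨k, rfl⟩ : ∃ k, q = k + 1 := ⟨q - 1, by omega⟩
    have : (k + 1) ^ 2 = (k + 1 + 1) * k + 1 := by ring
    rw [this]
    simp
  have hdN : d ∣ q ^ 2 - 1 := hfac ▸ Dvd.dvd.mul_right hdq _
  set N := (q ^ 2 - 1) / d with hN
  have hNd : N * d = q ^ 2 - 1 := Nat.div_mul_cancel hdN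
  set ω := ζ ^ N with hω
  have hω3 : ω ^ 3 = 1 := by
    obtain ⟨e, he⟩ := hd3
    rw [hω, ← pow_mul, he, ← mul_assoc, hNd, pow_mul, ← hord, pow_orderOf_eq_one, one_pow]
  have hωq : bar ω * ω = 1 := by
    obtain ⟨e, he⟩ := hdq
    rw [hq, ← pow_succ, hω, ← pow_mul, he, ← mul_assoc, hNd, pow_mul, ← hord, pow_orderOf_eq_one, one_pow]
  have hmtN : mt bar (H₀ ^ N) = ω • (1 : Matrix (Fin 3) (Fin 3) K) := by
    rw [mt_pow, hH₀, cent_hM_pow bar hζ0, cent_hM_scalar bar hωq hω3]
  refine ⟨cent_center_of_scalar bar _ ω hmtN, ?_⟩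
  intro g hg
  -- an element which is not fixed by `bar`
  have hbarζ : bar ζ ≠ ζ := by
    intro h
    rw [hq] at h
    have h1 : ζ ^ (q - 1) = 1 := by
      have : ζ ^ (q - 1) * ζ = 1 * ζ := by
        rw [← pow_succ, Nat.sub_add_cancel (by omega), h, one_mul]
      exact mul_right_cancel₀ hζ0 this
    have h2 := orderOf_dvd_of_pow_eq_one h1
    rw [hord, hfac] at h2
    have h3 := Nat.le_of_dvd (by omega) h2
    have h4 : 1 ≤ q - 1 := by omega
    nlinarith
  set b₁ := ζ - bar ζ with hb₁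
  have hb₁0 : b₁ ≠ 0 := sub_ne_zero.mpr (Ne.symm hbarζ)
  have hb₁' : b₁ + bar b₁ + 0 * bar 0 = 0 := by
    rw [hb₁, map_sub, hb]
    ring
  -- an element of non-zero trace
  obtain ⟨t, ht⟩ : ∃ t : K, t + bar t ≠ 0 := by
    by_cases h2 : (2 : K) = 0
    · refine ⟨ζ, ?_⟩
      intro h
      apply hb₁0
      rw [hb₁]
      linear_combination h - bar ζ * h2
    · refine ⟨1, ?_⟩
      rw [map_one]
      intro h
      apply h2
      linear_combination h
  set a := t + bar t with ha
  have hbara : bar a = a := by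
    rw [ha, map_add, hb]
    ring
  have hab : (-a * t) + bar (-a * t) + a * bar a = 0 := by
    rw [map_mul, map_neg, hbara]
    rw [ha]
    ring
  have hsc := cent_scalar_aux bar hb g hg hb₁0 hb₁' ht hab
  set c := mt bar g 0 0 with hc
  obtain ⟨hc3, hcb⟩ := cent_scalar_props bar g c hsc
  have hc0 : c ≠ 0 := by
    intro h0
    rw [h0] at hc3
    simp at hc3
  have hcq : c ^ (q + 1) = 1 := by
    rw [pow_succ', ← hq]
    exact hcb
  have hcd : c ^ d = 1 := pow_gcd_eq_one.mpr ⟨hc3, hcq⟩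
  obtain ⟨n, hn⟩ := hζ c hc0
  have h1 : ζ ^ (n * d) = 1 := by rw [pow_mul, hn, hcd]
  have h2 := orderOf_dvd_of_pow_eq_one h1
  rw [hord, ← hNd] at h2
  obtain ⟨i, hi⟩ := Nat.dvd_of_mul_dvd_mul_right hdpos h2
  refine ⟨i, ?_⟩
  apply ext_mt
  rw [mt_pow, hmtN, hsc, _root_.smul_pow, one_pow, hω, ← pow_mul, ← hi, hn]

end Cfsg.Agent.Helper59.SU3P
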