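import Mathlib
import Cfsg.Agent.Helper84.SU3P.Defs

/-!
# S2289 piece (PW) for helper84: the image of a `PW`-word of upper unitriangular elements
-/

set_option autoImplicit false

namespace Cfsg.Agent.Helper59.SU3P

open Matrix Polynomial Cfsg.Agent.Helper84.RU3 Cfsg.Agent.Helper96.SLPres
  Cfsg.Agent.Helper96.StemSLTwo Cfsg.Agent.Helper96.StPres Cfsg.Agent.Helper84.SU3P

section B

variable {K : Type*} [Field K] (bar : K →+* K) (hb : ∀ x, bar (bar x) = x)

theorem PW_uM_mul (a b a' b' : K) :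
    uM bar a b * uM bar a' b' = uM bar (a + a') (b + b' - bar a * a') := by
  ext i j
  fin_cases i <;> fin_cases j <;>
    simp [uM, Matrix.mul_apply, Fin.sum_univ_three] <;> ring

include hb in
theorem PW_hM_uM (a b l : K) (hl : l ≠ 0) :
    hM bar l * uM bar a b = uM bar (a * (bar l ^ 2 / l)) (l * bar l * b) * hM bar l := by
  have hbl : bar l ≠ 0 := (map_ne_zero bar).2 hl
  ext i j
  fin_cases i <;> fin_cases j <;>
    simp [uM, hM, Matrix.mul_apply, Fin.sum_univ_three, map_mul, map_div₀, map_pow, hb] <;>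
    field_simp

theorem PW_uM_one : uM bar (0 : K) 0 = 1 := by
  ext i j
  fin_cases i <;> fin_cases j <;> simp [uM]

theorem PW_uM_pow (a b : K) (n : ℕ) : ∃ b' : K, uM bar a b ^ n = uM bar ((n : K) * a) b' := by
  induction n with
  | zero => exact ⟨0, by rw [pow_zero, Nat.cast_zero, zero_mul, PW_uM_one]⟩
  | succ n ih =>
    obtain ⟨b', hb'⟩ := ih
    refine ⟨b' + b - bar ((n : K) * a) * a, ?_⟩
    rw [pow_succ, hb', PW_uM_mul]
    congr 1
    push_cast
    ring

include hb in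
theorem PW_mt_uz (X H : SUJ bar) (a b l : K) (hl : l ≠ 0)
    (hX : mt bar X = uM bar a b) (hH : mt bar H = hM bar l) (i : ℕ) :
    ∃ b' : K, mt bar (uz H X (i : ℤ)) = uM bar ((bar l ^ 2 / l) ^ i * a) b' := by
  induction i with
  | zero =>
    refine ⟨b, ?_⟩
    rw [Nat.cast_zero, uz_zero, hX, pow_zero, one_mul]
  | succ i ih =>
    obtain ⟨b', hb'⟩ := ih
    refine ⟨l * bar l * b', ?_⟩
    rw [Nat.cast_succ, ← uz_succ, mt_mul, mt_mul, hb', hH, PW_hM_uM bar hb _ _ _ hl, Matrix.mul_assoc,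
      ← hH, mt_mul_inv, Matrix.mul_one]
    congr 1
    rw [pow_succ]
    ring

include hb in
/-- (PW) the image of a `PW`-word of upper unitriangular elements -/
theorem mt_PW {p : ℕ} [Fact p.Prime] [Algebra (ZMod p) K] (X H : SUJ bar) (a b l : K) (hl : l ≠ 0)
    (hX : mt bar X = uM bar a b) (hH : mt bar H = hM bar l) (f : (ZMod p)[X]) :
    ∃ b' : K, mt bar (PW p H X f) = uM bar (aeval (bar l ^ 2 / l) f * a) b' := by
  have key : ∀ n : ℕ, ∃ b' : K,
      mt bar ((List.range n).map fun i : ℕ => uz H X (i : ℤ) ^ (f.coeff i).val).prod =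
        uM bar (∑ i ∈ Finset.range n, ((f.coeff i).val : K) * ((bar l ^ 2 / l) ^ i * a)) b' := by
    intro n
    induction n with
    | zero =>
      refine ⟨0, ?_⟩
      rw [List.range_zero, List.map_nil, List.prod_nil, Finset.range_zero, Finset.sum_empty, mt_one,
        PW_uM_one]
    | succ n ih =>
      obtain ⟨b₁, hb₁⟩ := ih
      obtain ⟨b₂, hb₂⟩ := PW_mt_uz bar hb X H a b l hl hX hH n
      obtain ⟨b₃, hb₃⟩ := PW_uM_pow bar ((bar l ^ 2 / l) ^ n * a) b₂ (f.coeff n).val
      refine ⟨b₁ + b₃ - bar (∑ i ∈ Finset.range n, ((f.coeff i).val : K) *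
        ((bar l ^ 2 / l) ^ i * a)) * (((f.coeff n).val : K) * ((bar l ^ 2 / l) ^ n * a)), ?_⟩
      rw [List.range_succ, List.map_append, List.prod_append, mt_mul, hb₁, List.map_singleton,
        List.prod_singleton, mt_pow, hb₂, hb₃, PW_uM_mul, Finset.sum_range_succ]
  obtain ⟨b', hb'⟩ := key (f.natDegree + 1)
  refine ⟨b', ?_⟩
  unfold PW
  rw [hb']
  congr 1
  rw [aeval_eq_sum_range, Finset.sum_mul]
  apply Finset.sum_congr rfl
  intro i _
  rw [Algebra.smul_def, mul_assoc]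
  congr 1
  rw [← ZMod.natCast_zmod_val (f.coeff i), map_natCast, ZMod.val_natCast, Nat.mod_eq_of_lt
    (ZMod.val_lt _)]

end B

end Cfsg.Agent.Helper59.SU3P
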