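/-
helper59: Schur's theorem on primitive groups with a regular cyclic subgroup of non-prime-power
order (S3559).  Schur-ring method without Schur rings: `G₁`-invariant elements of the group algebra
`(ZMod p)[H]` are closed under products (`inv_coeff_mul`); the Frobenius congruence gives that
every `G₁`-orbit `T ≠ {1}` is, outside `{x | x ^ p = 1}`, a union of cosets of that subgroup
(`coset_mem`); two primes then force a single orbit (`main`).
-/
import Mathlib

set_option autoImplicit false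

namespace Cfsg.Agent.Helper59.Schur

open MulAction
open scoped Pointwise

section Abstract

variable {H : Type*} [CommGroup H]
variable {G : Type*} [Group G] [MulAction G H]
variable (ι : H →* G) (hι : ∀ h x : H, ι h • x = h * x)

/-- the element `ι (g • b)⁻¹ * g * ι b` of the stabilizer of `1`. -/
def adj (g : G) (b : H) : G := (ι (g • b))⁻¹ * g * ι b

include hι

theorem adj_smul (g : G) (b y : H) : adj ι g b • y = (g • b)⁻¹ * g • (b * y) := by
  unfold adj
  rw [mul_smul, mul_smul, hι, ← map_inv, hι]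

theorem adj_mem (g : G) (b : H) : adj ι g b ∈ stabilizer G (1 : H) := by
  rw [mem_stabilizer_iff, adj_smul ι hι, mul_one, inv_mul_cancel]

theorem smul_mul' (g : G) (b y : H) : g • (b * y) = (g • b) * adj ι g b • y := by
  rw [adj_smul ι hι, mul_inv_cancel_left]

theorem subgroup_eq_bot_or_top (hprim : IsPreprimitive G H) (K : Subgroup H)
    (hK : ∀ g ∈ stabilizer G (1 : H), ∀ x ∈ K, g • x ∈ K) : K = ⊥ ∨ K = ⊤ := by
  have hsub : ∀ g : G, ∀ x ∈ K, g • x ∈ K → ∀ k ∈ K, g • k ∈ K := by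
    intro g x hx hgx k hk
    have : k = x * (x⁻¹ * k) := by rw [mul_inv_cancel_left]
    rw [this, smul_mul' ι hι]
    exact K.mul_mem hgx (hK _ (adj_mem ι hι g x) _ (K.mul_mem (K.inv_mem hx) hk))
  have hblock : IsBlock G (K : Set H) := by
    rw [isBlock_iff_smul_eq_of_mem]
    intro g a ha hga
    apply Set.Subset.antisymm
    · rintro _ ⟨k, hk, rfl⟩
      exact hsub g a ha hga k hk
    · intro k hk
      refine ⟨g⁻¹ • k, ?_, by simp⟩
      exact hsub g⁻¹ (g • a) hga (by simpa using ha) k hk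
  rcases hprim.isTrivialBlock_of_isBlock hblock with h | h
  · left
    rw [Subgroup.eq_bot_iff_forall]
    intro x hx
    exact h hx K.one_mem
  · right
    rw [eq_top_iff]
    intro x _
    have : x ∈ (K : Set H) := by rw [h]; trivial
    exact this

theorem smul_set_eq (h : H) (T : Set H) : ι h • T = h • T := by
  ext y
  simp only [Set.mem_smul_set]
  constructor
  · rintro ⟨t, ht, rfl⟩
    exact ⟨t, ht, by rw [hι, smul_eq_mul]⟩
  · rintro ⟨t, ht, rfl⟩
    exact ⟨t, ht, by rw [hι, smul_eq_mul]⟩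

theorem stabilizer_set_invariant (T : Set H) (hT : ∀ g ∈ stabilizer G (1 : H), g • T = T) :
    ∀ g ∈ stabilizer G (1 : H), ∀ x ∈ stabilizer H T, g • x ∈ stabilizer H T := by
  intro g hg x hx
  rw [mem_stabilizer_iff] at hx ⊢
  have e : ι (g • x) = g * ι x * (adj ι g x)⁻¹ := by unfold adj; group
  rw [← smul_set_eq ι hι, e, mul_smul, mul_smul, hT _ (inv_mem (adj_mem ι hι g x)),
    smul_set_eq ι hι, hx, hT g hg]

theorem closure_invariant (Y : Set H) (hY : ∀ g ∈ stabilizer G (1 : H), ∀ y ∈ Y, g • y ∈ Y) :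
    ∀ g ∈ stabilizer G (1 : H), ∀ x ∈ Subgroup.closure Y, g • x ∈ Subgroup.closure Y := by
  intro g hg x hx
  induction hx using Subgroup.closure_induction generalizing g with
  | mem y hy => exact Subgroup.subset_closure (hY g hg y hy)
  | one => rw [mem_stabilizer_iff.mp hg]; exact Subgroup.one_mem _
  | mul a b _ _ iha ihb =>
    rw [smul_mul' ι hι]
    exact Subgroup.mul_mem _ (iha g hg) (ihb _ (adj_mem ι hι g a))
  | inv a _ iha =>
    have h1 := smul_mul' ι hι g a⁻¹ a
    rw [inv_mul_cancel, mem_stabilizer_iff.mp hg] at h1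
    have : g • a⁻¹ = (adj ι g a⁻¹ • a)⁻¹ := eq_inv_of_mul_eq_one_left h1.symm
    rw [this]
    exact Subgroup.inv_mem _ (iha _ (adj_mem ι hι g a⁻¹))

variable [Fintype H] [DecidableEq H]

theorem inv_coeff_mul {R : Type*} [CommSemiring R] {f f' : MonoidAlgebra R H}
    (hf : ∀ g ∈ stabilizer G (1 : H), ∀ x : H, f.coeff (g • x) = f.coeff x)
    (hf' : ∀ g ∈ stabilizer G (1 : H), ∀ x : H, f'.coeff (g • x) = f'.coeff x) :
    ∀ g ∈ stabilizer G (1 : H), ∀ x : H, (f * f').coeff (g • x) = (f * f').coeff x := by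
  intro g hg x
  rw [MonoidAlgebra.coeff_mul_apply_left, MonoidAlgebra.coeff_mul_apply_left,
    Finsupp.sum_fintype _ _ (by simp), Finsupp.sum_fintype _ _ (by simp)]
  rw [← Equiv.sum_comp (MulAction.toPerm g)]
  refine Finset.sum_congr rfl fun b _ => ?_
  simp only [toPerm_apply]
  rw [hf g hg b]
  congr 1
  have := adj_smul ι hι g b (b⁻¹ * x)
  rw [mul_inv_cancel_left] at this
  rw [← this, hf' _ (adj_mem ι hι g b)]

theorem inv_coeff_pow {R : Type*} [CommSemiring R] {f : MonoidAlgebra R H}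
    (hf : ∀ g ∈ stabilizer G (1 : H), ∀ x : H, f.coeff (g • x) = f.coeff x) (k : ℕ) :
    ∀ g ∈ stabilizer G (1 : H), ∀ x : H, (f ^ k).coeff (g • x) = (f ^ k).coeff x := by
  induction k with
  | zero =>
    intro g hg x
    rw [pow_zero, MonoidAlgebra.one_def]
    simp only [MonoidAlgebra.coeff_single, Finsupp.single_apply]
    have : (1 = g • x) ↔ (1 = x) := by
      constructor
      · intro h
        have h2 : g • x = g • (1 : H) := by rw [← h, mem_stabilizer_iff.mp hg]
        exact (MulAction.injective g h2).symm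
      · intro h; rw [← h, mem_stabilizer_iff.mp hg]
    simp only [this]
  | succ k ih =>
    rw [pow_succ]
    exact inv_coeff_mul ι hι ih hf


theorem count_invariant (p : ℕ) [Fact p.Prime] (T : Finset H)
    (hT : ∀ g ∈ stabilizer G (1 : H), ∀ x : H, x ∈ T ↔ g • x ∈ T) :
    ∀ g ∈ stabilizer G (1 : H), ∀ y : H,
      (((T.filter fun h => h ^ p = g • y).card : ℕ) : ZMod p) =
        ((T.filter fun h => h ^ p = y).card : ZMod p) := by
  have hA : CharP (MonoidAlgebra (ZMod p) H) p :=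
    charP_of_injective_algebraMap (algebraMap (ZMod p) (MonoidAlgebra (ZMod p) H)).injective p
  have key : ∀ y : H, ((∑ h ∈ T, MonoidAlgebra.single h (1 : ZMod p)) ^ p).coeff y =
      ((T.filter fun h => h ^ p = y).card : ZMod p) := by
    intro y
    rw [sum_pow_char]
    simp only [MonoidAlgebra.single_pow, one_pow, MonoidAlgebra.coeff_sum, Finsupp.coe_finsetSum,
      Finset.sum_apply, MonoidAlgebra.coeff_single, Finsupp.single_apply]
    rw [Finset.sum_boole]
  have hinv : ∀ g ∈ stabilizer G (1 : H), ∀ x : H,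
      (∑ h ∈ T, MonoidAlgebra.single h (1 : ZMod p)).coeff (g • x) =
        (∑ h ∈ T, MonoidAlgebra.single h (1 : ZMod p)).coeff x := by
    intro g hg x
    simp only [MonoidAlgebra.coeff_sum, Finsupp.coe_finsetSum, Finset.sum_apply,
      MonoidAlgebra.coeff_single, Finsupp.single_apply]
    rw [Finset.sum_ite_eq', Finset.sum_ite_eq']
    simp only [← hT g hg x]
  intro g hg y
  rw [← key, ← key]
  exact inv_coeff_pow ι hι hinv p g hg y

theorem coset_mem (hprim : IsPreprimitive G H) (p : ℕ) [Fact p.Prime]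
    (hK : ∃ k : H, k ≠ 1 ∧ k ^ p = 1)
    (hcard : (Finset.univ.filter fun k : H => k ^ p = 1).card ≤ p)
    (T : Finset H) (hT : ∀ g ∈ stabilizer G (1 : H), ∀ x : H, x ∈ T ↔ g • x ∈ T) :
    ∀ t ∈ T, t ^ p ≠ 1 → ∀ k : H, k ^ p = 1 → t * k ∈ T := by
  classical
  have hcinv := count_invariant ι hι p T hT
  set Y : Set H := {y | ((T.filter fun h => h ^ p = y).card : ZMod p) ≠ 0} with hY
  have hYinv : ∀ g ∈ stabilizer G (1 : H), ∀ y ∈ Y, g • y ∈ Y := by
    intro g hg y hy
    simp only [hY, Set.mem_ofPred_eq] at hy ⊢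
    rw [hcinv g hg y]; exact hy
  have hYrange : Y ⊆ ((powMonoidHom p : H →* H).range : Set H) := by
    intro y hy
    simp only [hY, Set.mem_ofPred_eq] at hy
    have : (T.filter fun h => h ^ p = y).card ≠ 0 := fun h => hy (by rw [h]; simp)
    obtain ⟨h, hh⟩ := Finset.card_pos.mp (Nat.pos_of_ne_zero this)
    exact ⟨h, (Finset.mem_filter.mp hh).2⟩
  have hcl : Subgroup.closure Y ≤ (powMonoidHom p : H →* H).range :=
    (Subgroup.closure_le _).mpr hYrange
  have hne_top : (powMonoidHom p : H →* H).range ≠ ⊤ := by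
    intro h
    have hsurj : Function.Surjective (powMonoidHom p : H →* H) := MonoidHom.range_eq_top.mp h
    have hinj := Finite.injective_iff_surjective.mpr hsurj
    obtain ⟨k, hk1, hkp⟩ := hK
    exact hk1 (hinj (by simp [hkp]))
  have hbot : Subgroup.closure Y = ⊥ := by
    rcases subgroup_eq_bot_or_top ι hι hprim _ (closure_invariant ι hι Y hYinv) with h | h
    · exact h
    · exact absurd (top_le_iff.mp (h ▸ hcl)) hne_top
  intro t ht htp k hk
  have hy : t ^ p ∉ Y := by
    intro h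
    have : t ^ p ∈ Subgroup.closure Y := Subgroup.subset_closure h
    rw [hbot, Subgroup.mem_bot] at this
    exact htp this
  simp only [hY, Set.mem_ofPred_eq, not_not] at hy
  have hdvd : p ∣ (T.filter fun h => h ^ p = t ^ p).card := (ZMod.natCast_eq_zero_iff _ _).mp hy
  set F : Finset H := Finset.univ.filter fun h : H => h ^ p = t ^ p with hF
  have hsub : T.filter (fun h => h ^ p = t ^ p) ⊆ F := by
    intro h hh
    exact Finset.mem_filter.mpr ⟨Finset.mem_univ _, (Finset.mem_filter.mp hh).2⟩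
  have hFcard : F.card ≤ p := by
    refine le_trans ?_ hcard
    apply Finset.card_le_card_of_injOn (fun h => t⁻¹ * h)
    · intro h hh
      simp only [hF, Finset.coe_filter, Finset.mem_univ, true_and, Set.mem_ofPred_eq] at hh ⊢
      rw [mul_pow, hh, inv_pow, inv_mul_cancel]
    · intro a _ b _ hab
      exact mul_left_cancel hab
  have hpos : 0 < (T.filter fun h => h ^ p = t ^ p).card :=
    Finset.card_pos.mpr ⟨t, Finset.mem_filter.mpr ⟨ht, rfl⟩⟩
  have hcp : p ≤ (T.filter fun h => h ^ p = t ^ p).card := Nat.le_of_dvd hpos hdvd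
  have heq : T.filter (fun h => h ^ p = t ^ p) = F :=
    Finset.eq_of_subset_of_card_le hsub (le_trans hFcard hcp)
  have : t * k ∈ F := by
    simp only [hF, Finset.mem_filter, Finset.mem_univ, true_and]
    rw [mul_pow, hk, mul_one]
  rw [← heq] at this
  exact (Finset.mem_filter.mp this).1

theorem claimA (hprim : IsPreprimitive G H) (p q : ℕ) [Fact p.Prime] [Fact q.Prime]
    (hcop : ∀ z : H, z ^ p = 1 → z ^ q = 1 → z = 1)
    (hKp : ∃ k : H, k ≠ 1 ∧ k ^ p = 1) (hKq : ∃ k : H, k ≠ 1 ∧ k ^ q = 1)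
    (hcp : (Finset.univ.filter fun k : H => k ^ p = 1).card ≤ p)
    (hcq : (Finset.univ.filter fun k : H => k ^ q = 1).card ≤ q)
    (T : Finset H) (hT : ∀ g ∈ stabilizer G (1 : H), ∀ x : H, x ∈ T ↔ g • x ∈ T)
    (t : H) (ht : t ∈ T) (ht1 : t ≠ 1) (htp : t ^ p = 1) :
    ∀ z : H, z ≠ 1 → z ^ q = 1 → z ∈ T := by
  intro z hz1 hzq
  have h1 : t ^ q ≠ 1 := fun h => ht1 (hcop t htp h)
  have h2 : t * z ∈ T := coset_mem ι hι hprim q hKq hcq T hT t ht h1 z hzq
  have h3 : (t * z) ^ p ≠ 1 := by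
    rw [mul_pow, htp, one_mul]
    exact fun h => hz1 (hcop z h hzq)
  have h4 := coset_mem ι hι hprim p hKp hcp T hT (t * z) h2 h3 t⁻¹ (by rw [inv_pow, htp, inv_one])
  have e : t * z * t⁻¹ = z := by rw [mul_comm t z, mul_inv_cancel_right]
  rwa [e] at h4

theorem main [IsCyclic H] (hprim : IsPreprimitive G H) (p q : ℕ) (hp : p.Prime) (hq : q.Prime)
    (hpq : p ≠ q) (hpn : p ∣ Fintype.card H) (hqn : q ∣ Fintype.card H) :
    ∀ x y : H, x ≠ 1 → y ≠ 1 → ∃ g ∈ stabilizer G (1 : H), g • x = y := by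
  classical
  have := Fact.mk hp
  have := Fact.mk hq
  obtain ⟨t₀, ht₀⟩ := exists_prime_orderOf_dvd_card p hpn
  obtain ⟨z₀, hz₀⟩ := exists_prime_orderOf_dvd_card q hqn
  have ht₀1 : t₀ ≠ 1 := fun h => by rw [h, orderOf_one] at ht₀; exact hp.ne_one ht₀.symm
  have hz₀1 : z₀ ≠ 1 := fun h => by rw [h, orderOf_one] at hz₀; exact hq.ne_one hz₀.symm
  have ht₀p : t₀ ^ p = 1 := by rw [← ht₀]; exact pow_orderOf_eq_one t₀
  have hz₀q : z₀ ^ q = 1 := by rw [← hz₀]; exact pow_orderOf_eq_one z₀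
  have hcp : (Finset.univ.filter fun k : H => k ^ p = 1).card ≤ p :=
    IsCyclic.card_pow_eq_one_le hp.pos
  have hcq : (Finset.univ.filter fun k : H => k ^ q = 1).card ≤ q :=
    IsCyclic.card_pow_eq_one_le hq.pos
  have hcop : ∀ z : H, z ^ p = 1 → z ^ q = 1 → z = 1 := by
    intro z h1 h2
    have := Nat.dvd_gcd (orderOf_dvd_of_pow_eq_one h1) (orderOf_dvd_of_pow_eq_one h2)
    rw [(Nat.coprime_primes hp hq).mpr hpq] at this
    exact orderOf_eq_one_iff.mp (Nat.dvd_one.mp this)
  have hcop' : ∀ z : H, z ^ q = 1 → z ^ p = 1 → z = 1 := fun z h1 h2 => hcop z h2 h1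
  -- orbits
  let orb : H → Finset H := fun x =>
    Finset.univ.filter fun y => ∃ g ∈ stabilizer G (1 : H), g • x = y
  have horb_mem : ∀ x y, y ∈ orb x ↔ ∃ g ∈ stabilizer G (1 : H), g • x = y := by
    intro x y; simp [orb]
  have horb_inv : ∀ x, ∀ g ∈ stabilizer G (1 : H), ∀ y : H, y ∈ orb x ↔ g • y ∈ orb x := by
    intro x g hg y
    rw [horb_mem, horb_mem]
    constructor
    · rintro ⟨g', hg', rfl⟩
      exact ⟨g * g', mul_mem hg hg', mul_smul _ _ _⟩
    · rintro ⟨g', hg', h⟩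
      exact ⟨g⁻¹ * g', mul_mem (inv_mem hg) hg', by rw [mul_smul, h, inv_smul_smul]⟩
  have horb_self : ∀ x, x ∈ orb x := fun x => (horb_mem x x).mpr ⟨1, one_mem _, one_smul _ _⟩
  have hKp : ∃ k : H, k ≠ 1 ∧ k ^ p = 1 := ⟨t₀, ht₀1, ht₀p⟩
  have hKq : ∃ k : H, k ≠ 1 ∧ k ^ q = 1 := ⟨z₀, hz₀1, hz₀q⟩
  have hq_in : ∀ z : H, z ≠ 1 → z ^ q = 1 → z ∈ orb t₀ :=
    claimA ι hι hprim p q hcop hKp hKq hcp hcq (orb t₀) (horb_inv t₀) t₀ (horb_self t₀) ht₀1 ht₀p
  have hp_in : ∀ z : H, z ≠ 1 → z ^ p = 1 → z ∈ orb t₀ :=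
    claimA ι hι hprim q p hcop' hKq hKp hcq hcp (orb t₀) (horb_inv t₀) z₀ (hq_in z₀ hz₀1 hz₀q)
      hz₀1 hz₀q
  have hall : ∀ x : H, x ≠ 1 → x ∈ orb t₀ := by
    intro x hx1
    by_contra hx
    have h5 : ∀ t ∈ orb x, t ^ p ≠ 1 := by
      intro t ht htp
      obtain ⟨g, hg, rfl⟩ := (horb_mem x t).mp ht
      have hne : g • x ≠ 1 := by
        intro h
        apply hx1
        have h2 : g • x = g • (1 : H) := by rw [h, mem_stabilizer_iff.mp hg]
        exact MulAction.injective g h2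
      obtain ⟨g', hg', h'⟩ := (horb_mem t₀ _).mp (hp_in _ hne htp)
      apply hx
      rw [horb_mem]
      exact ⟨g⁻¹ * g', mul_mem (inv_mem hg) hg', by rw [mul_smul, h', inv_smul_smul]⟩
    have h6 := coset_mem ι hι hprim p hKp hcp (orb x) (horb_inv x)
    have h7 : t₀ ∈ stabilizer H ((orb x : Finset H) : Set H) := by
      rw [mem_stabilizer_iff]
      apply Set.Subset.antisymm
      · rintro _ ⟨t, ht, rfl⟩
        show t₀ * t ∈ ((orb x : Finset H) : Set H)
        rw [mul_comm]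
        exact h6 t ht (h5 t ht) t₀ ht₀p
      · intro t ht
        refine ⟨t₀⁻¹ * t, ?_, by show t₀ * (t₀⁻¹ * t) = t; rw [mul_inv_cancel_left]⟩
        show t₀⁻¹ * t ∈ ((orb x : Finset H) : Set H)
        rw [mul_comm]
        exact h6 t ht (h5 t ht) t₀⁻¹ (by rw [inv_pow, ht₀p, inv_one])
    have hset : ∀ g ∈ stabilizer G (1 : H), g • ((orb x : Finset H) : Set H) = orb x := by
      intro g hg
      apply Set.Subset.antisymm
      · rintro _ ⟨t, ht, rfl⟩
        exact (horb_inv x g hg t).mp ht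
      · intro t ht
        refine ⟨g⁻¹ • t, (horb_inv x g⁻¹ (inv_mem hg) t).mp ht, by simp⟩
    rcases subgroup_eq_bot_or_top ι hι hprim _ (stabilizer_set_invariant ι hι _ hset) with h | h
    · rw [h, Subgroup.mem_bot] at h7
      exact ht₀1 h7
    · have h8 : x⁻¹ ∈ stabilizer H ((orb x : Finset H) : Set H) := by rw [h]; trivial
      rw [mem_stabilizer_iff] at h8
      have h9 : (1 : H) ∈ ((orb x : Finset H) : Set H) := by
        rw [← h8]
        exact ⟨x, horb_self x, by simp⟩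
      obtain ⟨g, hg, hgx⟩ := (horb_mem x 1).mp h9
      apply hx1
      have h2 : g • x = g • (1 : H) := by rw [hgx, mem_stabilizer_iff.mp hg]
      exact MulAction.injective g h2
  intro x y hx hy
  obtain ⟨g, hg, rfl⟩ := (horb_mem t₀ x).mp (hall x hx)
  obtain ⟨g', hg', rfl⟩ := (horb_mem t₀ y).mp (hall y hy)
  exact ⟨g' * g⁻¹, mul_mem hg' (inv_mem hg), by rw [mul_smul, inv_smul_smul]⟩

end Abstract


theorem exists_two_primes {n : ℕ} (hn : 2 ≤ n) (hnp : ¬ IsPrimePow n) :
    ∃ p q : ℕ, p.Prime ∧ q.Prime ∧ p ≠ q ∧ p ∣ n ∧ q ∣ n := by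
  obtain ⟨p, hp, hpn⟩ := Nat.exists_prime_and_dvd (show n ≠ 1 by omega)
  by_contra hcon
  apply hnp
  rw [isPrimePow_iff_unique_prime_dvd]
  refine ⟨p, ⟨hp, hpn⟩, ?_⟩
  rintro q ⟨hq, hqn⟩
  by_contra hne
  exact hcon ⟨p, q, hp, hq, fun h => hne h.symm, hpn, hqn⟩

/-- Schur: a primitive group containing a regular cyclic subgroup of non-prime-power order is
doubly transitive. -/
theorem schur_concrete {G Ω : Type*} [Group G] [MulAction G Ω] [Finite Ω]
    (hprim : IsPreprimitive G Ω) (hn : 2 ≤ Nat.card Ω) (hnp : ¬ IsPrimePow (Nat.card Ω))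
    (C : Subgroup G) (hcyc : IsCyclic ↥C)
    (hC : IsPretransitive ↥C Ω ∧ ∀ a : Ω, stabilizer ↥C a = ⊥) :
    IsMultiplyPretransitive G Ω 2 := by
  classical
  have hne : Nonempty Ω := by
    rw [← Finite.card_pos_iff]; omega
  obtain ⟨ω₀⟩ := hne
  have hCt := hC.1
  have hinj : Function.Injective (fun c : C => c • ω₀) := by
    intro c c' h
    have h' : c • ω₀ = c' • ω₀ := h
    have : c'⁻¹ * c ∈ stabilizer ↥C ω₀ := by
      rw [mem_stabilizer_iff, mul_smul, h', inv_smul_smul]
    rw [hC.2 ω₀, Subgroup.mem_bot] at this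
    exact (inv_mul_eq_one.mp this).symm
  have hsurj : Function.Surjective (fun c : C => c • ω₀) := fun ω => exists_smul_eq ↥C ω₀ ω
  let e : C ≃ Ω := Equiv.ofBijective _ ⟨hinj, hsurj⟩
  have he : ∀ c : C, e c = c • ω₀ := fun c => rfl
  have hfin : Finite C := Finite.of_equiv Ω e.symm
  letI : Fintype C := Fintype.ofFinite C
  letI : CommGroup C := IsCyclic.commGroup
  letI act : MulAction G C := e.mulAction G
  have hact : ∀ (g : G) (c : C), e (g • c) = g • e c := by
    intro g c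
    simp [Equiv.smul_def]
  have hι : ∀ h x : C, (C.subtype h) • x = h * x := by
    intro h x
    apply e.injective
    rw [hact, he, he, mul_smul]
    rfl
  let f : Ω →ₑ[@id G] C :=
    { toFun := e.symm
      map_smul' := by
        intro g ω
        apply e.injective
        rw [hact]
        simp }
  have hprim' : IsPreprimitive G C := IsPreprimitive.of_surjective (f := f) e.symm.surjective
  have hcard : Fintype.card C = Nat.card Ω := by
    rw [← Nat.card_eq_fintype_card]; exact Nat.card_congr e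
  obtain ⟨p, q, hp, hq, hpq, hpn, hqn⟩ := exists_two_primes hn hnp
  rw [← hcard] at hpn hqn
  have key := main (G := G) (H := C) C.subtype hι hprim' p q hp hq hpq hpn hqn
  have htr : IsPretransitive G Ω := hprim.toIsPretransitive
  rw [is_two_pretransitive_iff]
  intro a b c d hab hcd
  obtain ⟨g₁, hg₁⟩ := exists_smul_eq G a ω₀
  obtain ⟨g₂, hg₂⟩ := exists_smul_eq G c ω₀
  have he1 : e 1 = ω₀ := by rw [he, one_smul]
  have hx : e.symm (g₁ • b) ≠ 1 := by
    intro h
    have : g₁ • b = ω₀ := by rw [← he1, ← h, Equiv.apply_symm_apply]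
    rw [← hg₁] at this
    exact hab (MulAction.injective g₁ this).symm
  have hy : e.symm (g₂ • d) ≠ 1 := by
    intro h
    have : g₂ • d = ω₀ := by rw [← he1, ← h, Equiv.apply_symm_apply]
    rw [← hg₂] at this
    exact hcd (MulAction.injective g₂ this).symm
  obtain ⟨g, hg, hgxy⟩ := key _ _ hx hy
  have hg0 : g • ω₀ = ω₀ := by
    have := congrArg e (mem_stabilizer_iff.mp hg)
    rwa [hact, he1] at this
  have hgb : g • (g₁ • b) = g₂ • d := by
    have := congrArg e hgxy
    rwa [hact, Equiv.apply_symm_apply, Equiv.apply_symm_apply] at this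
  refine ⟨g₂⁻¹ * g * g₁, ?_, ?_⟩
  · rw [mul_smul, mul_smul, hg₁, hg0, ← hg₂, inv_smul_smul]
  · rw [mul_smul, mul_smul, hgb, inv_smul_smul]

end Cfsg.Agent.Helper59.Schur
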