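/-
helper59: Wielandt's counting proof that an abelian group of composite order with at most `p`
elements of order dividing `p` is a B-group (`main'`), its concrete form `schur_concrete'`, and the
Burnside–Schur theorem for `p ^ m`-cycles (`burnside_schur`, S3972).
-/
import Cfsg.Agent.Helper59.Schur

set_option autoImplicit false
set_option linter.unusedSectionVars false

namespace Cfsg.Agent.Helper59.Schur

open MulAction
open scoped Pointwise

section Abstract2

variable {H : Type*} [CommGroup H] [Fintype H] [DecidableEq H]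
variable {G : Type*} [Group G] [MulAction G H]
variable (ι : H →* G) (hι : ∀ h x : H, ι h • x = h * x)

variable (G) in
/-- orbit of `x` under the stabilizer of `1`, as a finset -/
noncomputable def orb (x : H) : Finset H := by
  classical exact Finset.univ.filter fun y => ∃ g ∈ stabilizer G (1 : H), g • x = y

theorem mem_orb (x y : H) : y ∈ orb G x ↔ ∃ g ∈ stabilizer G (1 : H), g • x = y := by
  classical
  simp [orb]

theorem orb_inv (x : H) : ∀ g ∈ stabilizer G (1 : H), ∀ y : H, y ∈ orb G x ↔ g • y ∈ orb G x := by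
  intro g hg y
  rw [mem_orb, mem_orb]
  constructor
  · rintro ⟨g', hg', rfl⟩
    exact ⟨g * g', mul_mem hg hg', mul_smul _ _ _⟩
  · rintro ⟨g', hg', h⟩
    exact ⟨g⁻¹ * g', mul_mem (inv_mem hg) hg', by rw [mul_smul, h, inv_smul_smul]⟩

theorem self_mem_orb (x : H) : x ∈ orb G x := (mem_orb x x).mpr ⟨1, one_mem _, one_smul _ _⟩

theorem one_notMem_orb {x : H} (hx : x ≠ 1) : (1 : H) ∉ orb G x := by
  intro h
  obtain ⟨g, hg, hgx⟩ := (mem_orb x 1).mp h
  apply hx
  have h2 : g • x = g • (1 : H) := by rw [hgx, mem_stabilizer_iff.mp hg]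
  exact MulAction.injective g h2

include hι

/-- every nonempty invariant set avoiding `1` contains an element of order `p`. -/
theorem exists_mem_pow_eq_one (hprim : IsPreprimitive G H) (p : ℕ) [Fact p.Prime]
    (hK : ∃ k : H, k ≠ 1 ∧ k ^ p = 1)
    (hcard : (Finset.univ.filter fun k : H => k ^ p = 1).card ≤ p)
    (T : Finset H) (hT : ∀ g ∈ stabilizer G (1 : H), ∀ x : H, x ∈ T ↔ g • x ∈ T)
    (hne : T.Nonempty) (h1 : (1 : H) ∉ T) : ∃ t ∈ T, t ^ p = 1 := by
  by_contra hcon
  have h5 : ∀ t ∈ T, t ^ p ≠ 1 := fun t ht htp => hcon ⟨t, ht, htp⟩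
  obtain ⟨k₀, hk₀1, hk₀p⟩ := hK
  have h6 := coset_mem ι hι hprim p ⟨k₀, hk₀1, hk₀p⟩ hcard T hT
  have h7 : k₀ ∈ stabilizer H ((T : Finset H) : Set H) := by
    rw [mem_stabilizer_iff]
    apply Set.Subset.antisymm
    · rintro _ ⟨t, ht, rfl⟩
      show k₀ * t ∈ ((T : Finset H) : Set H)
      rw [mul_comm]
      exact h6 t ht (h5 t ht) k₀ hk₀p
    · intro t ht
      refine ⟨k₀⁻¹ * t, ?_, by show k₀ * (k₀⁻¹ * t) = t; rw [mul_inv_cancel_left]⟩
      show k₀⁻¹ * t ∈ ((T : Finset H) : Set H)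
      rw [mul_comm]
      exact h6 t ht (h5 t ht) k₀⁻¹ (by rw [inv_pow, hk₀p, inv_one])
  have hset : ∀ g ∈ stabilizer G (1 : H), g • ((T : Finset H) : Set H) = T := by
    intro g hg
    apply Set.Subset.antisymm
    · rintro _ ⟨t, ht, rfl⟩
      exact (hT g hg t).mp ht
    · intro t ht
      refine ⟨g⁻¹ • t, (hT g⁻¹ (inv_mem hg) t).mp ht, by simp⟩
  rcases subgroup_eq_bot_or_top ι hι hprim _ (stabilizer_set_invariant ι hι _ hset) with h | h
  · rw [h, Subgroup.mem_bot] at h7
    exact hk₀1 h7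
  · obtain ⟨x, hx⟩ := hne
    have h8 : x⁻¹ ∈ stabilizer H ((T : Finset H) : Set H) := by rw [h]; trivial
    rw [mem_stabilizer_iff] at h8
    have h9 : (1 : H) ∈ ((T : Finset H) : Set H) := by
      rw [← h8]
      exact ⟨x, hx, by simp⟩
    exact h1 h9

theorem lam_le (T : Finset H) (hT : ∀ g ∈ stabilizer G (1 : H), ∀ x : H, x ∈ T ↔ g • x ∈ T) :
    ∀ g ∈ stabilizer G (1 : H), ∀ x : H,
      (T.filter fun t => x⁻¹ * t ∈ T).card ≤ (T.filter fun t => (g • x)⁻¹ * t ∈ T).card := by
  intro g hg x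
  apply Finset.card_le_card_of_injOn (fun t => g • t)
  · intro t ht
    simp only [Finset.coe_filter, Set.mem_ofPred_eq] at ht ⊢
    refine ⟨(hT g hg t).mp ht.1, ?_⟩
    have := adj_smul ι hι g x (x⁻¹ * t)
    rw [mul_inv_cancel_left] at this
    rw [← this]
    exact (hT _ (adj_mem ι hι g x) _).mp ht.2
  · intro a _ b _ hab
    exact MulAction.injective g hab

theorem lam_eq (T : Finset H) (hT : ∀ g ∈ stabilizer G (1 : H), ∀ x : H, x ∈ T ↔ g • x ∈ T) :
    ∀ g ∈ stabilizer G (1 : H), ∀ x : H,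
      (T.filter fun t => (g • x)⁻¹ * t ∈ T).card = (T.filter fun t => x⁻¹ * t ∈ T).card := by
  intro g hg x
  apply le_antisymm
  · have := lam_le ι hι T hT g⁻¹ (inv_mem hg) (g • x)
    rwa [inv_smul_smul] at this
  · exact lam_le ι hι T hT g hg x

omit hι in
theorem lam_sum (T : Finset H) :
    ∑ x : H, (T.filter fun t => x⁻¹ * t ∈ T).card = T.card ^ 2 := by
  simp only [Finset.card_filter]
  rw [Finset.sum_comm]
  have : ∀ t ∈ T, ∑ x : H, (if x⁻¹ * t ∈ T then 1 else 0) = T.card := by
    intro t _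
    have e := Equiv.sum_comp ((Equiv.inv H).trans (Equiv.mulRight t))
      (fun y => if y ∈ T then 1 else 0)
    simp only [Equiv.trans_apply, Equiv.inv_apply, Equiv.coe_mulRight] at e
    rw [e]
    simp
  rw [Finset.sum_congr rfl this, Finset.sum_const, smul_eq_mul, sq]

/-- the key counting inequality -/
theorem count_ineq (hprim : IsPreprimitive G H) (p : ℕ) [Fact p.Prime]
    (hK : ∃ k : H, k ≠ 1 ∧ k ^ p = 1)
    (hcard : (Finset.univ.filter fun k : H => k ^ p = 1).card ≤ p)
    (T : Finset H) (hT : ∀ g ∈ stabilizer G (1 : H), ∀ x : H, x ∈ T ↔ g • x ∈ T) :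
    (Fintype.card H - 1) * (T.filter fun t => t ^ p ≠ 1).card + T.card ≤ T.card ^ 2 := by
  classical
  rw [← lam_sum T, ← Finset.add_sum_erase Finset.univ _ (Finset.mem_univ (1 : H))]
  have h0 : (T.filter fun t => (1 : H)⁻¹ * t ∈ T).card = T.card := by
    congr 1
    apply Finset.filter_true_of_mem
    intro t ht
    simpa using ht
  rw [h0, add_comm]
  apply Nat.add_le_add_left
  have hc : (Finset.univ.erase (1 : H)).card = Fintype.card H - 1 := by
    rw [Finset.card_erase_of_mem (Finset.mem_univ _), Finset.card_univ]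
  rw [← hc, ← smul_eq_mul]
  apply Finset.card_nsmul_le_sum
  intro x hx
  have hx1 : x ≠ 1 := Finset.ne_of_mem_erase hx
  obtain ⟨k, hk, hkp⟩ := exists_mem_pow_eq_one ι hι hprim p hK hcard (orb G x) (orb_inv x)
    ⟨x, self_mem_orb x⟩ (one_notMem_orb hx1)
  obtain ⟨g, hg, rfl⟩ := (mem_orb x k).mp hk
  rw [← lam_eq ι hι T hT g hg x]
  apply Finset.card_le_card
  intro t ht
  simp only [Finset.mem_filter] at ht ⊢
  refine ⟨ht.1, ?_⟩
  rw [mul_comm]
  exact coset_mem ι hι hprim p hK hcard T hT t ht.1 ht.2 _ (by rw [inv_pow, hkp, inv_one])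

/-- an invariant set avoiding `1` has fewer elements of order dividing `p` than others. -/
theorem card_lt_card (hprim : IsPreprimitive G H) (p : ℕ) [Fact p.Prime]
    (hK : ∃ k : H, k ≠ 1 ∧ k ^ p = 1)
    (hcard : (Finset.univ.filter fun k : H => k ^ p = 1).card ≤ p)
    (hbig : ∃ x : H, x ^ p ≠ 1)
    (T : Finset H) (hT : ∀ g ∈ stabilizer G (1 : H), ∀ x : H, x ∈ T ↔ g • x ∈ T)
    (hne : T.Nonempty) (h1 : (1 : H) ∉ T) :
    (T.filter fun t => t ^ p = 1).card < (T.filter fun t => t ^ p ≠ 1).card := by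
  classical
  -- T is not contained in the kernel
  have hout : ∃ b ∈ T, b ^ p ≠ 1 := by
    by_contra hcon
    have hall : ∀ t ∈ T, t ^ p = 1 := by
      intro t ht
      by_contra h
      exact hcon ⟨t, ht, h⟩
    have hsub : ((T : Finset H) : Set H) ⊆ ((powMonoidHom p : H →* H).ker : Set H) := by
      intro t ht
      exact hall t ht
    have hcl : Subgroup.closure ((T : Finset H) : Set H) ≤ (powMonoidHom p : H →* H).ker :=
      (Subgroup.closure_le _).mpr hsub
    have hinvc := closure_invariant ι hι ((T : Finset H) : Set H)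
      (fun g hg y hy => (hT g hg y).mp hy)
    rcases subgroup_eq_bot_or_top ι hι hprim _ hinvc with h | h
    · obtain ⟨t, ht⟩ := hne
      have : t ∈ Subgroup.closure ((T : Finset H) : Set H) := Subgroup.subset_closure ht
      rw [h, Subgroup.mem_bot] at this
      exact h1 (this ▸ ht)
    · obtain ⟨x, hx⟩ := hbig
      have : x ∈ (powMonoidHom p : H →* H).ker := hcl (h ▸ Subgroup.mem_top x)
      exact hx this
  obtain ⟨b, hbT, hbp⟩ := hout
  have hcos := coset_mem ι hι hprim p hK hcard T hT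
  -- |T ∩ K| < |K| ≤ |T - K|
  have h2 : (T.filter fun t => t ^ p = 1).card <
      (Finset.univ.filter fun k : H => k ^ p = 1).card := by
    apply Finset.card_lt_card
    refine ⟨fun t ht => ?_, fun hsub => ?_⟩
    · simp only [Finset.mem_filter, Finset.mem_univ, true_and] at ht ⊢
      exact ht.2
    · have : (1 : H) ∈ T.filter fun t => t ^ p = 1 := hsub (by simp)
      exact h1 (Finset.mem_filter.mp this).1
  have h3 : (Finset.univ.filter fun k : H => k ^ p = 1).card ≤
      (T.filter fun t => t ^ p ≠ 1).card := by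
    apply Finset.card_le_card_of_injOn (fun k => b * k)
    · intro k hk
      simp only [Finset.coe_filter, Finset.mem_univ, true_and, Set.mem_ofPred_eq] at hk ⊢
      refine ⟨hcos b hbT hbp k hk, ?_⟩
      rw [mul_pow, hk, mul_one]
      exact hbp
    · intro a _ c _ hac
      exact mul_left_cancel hac
  exact lt_of_lt_of_le h2 h3

/-- Wielandt: in a primitive group containing a regular abelian subgroup `H` of composite order
whose elements of order dividing `p` number at most `p` (e.g. cyclic Sylow `p`-subgroup),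
the point stabilizer is transitive on the other points. -/
theorem main' (hprim : IsPreprimitive G H) (p : ℕ) (hp : p.Prime)
    (hK : ∃ k : H, k ≠ 1 ∧ k ^ p = 1)
    (hcard : (Finset.univ.filter fun k : H => k ^ p = 1).card ≤ p)
    (hbig : ∃ x : H, x ^ p ≠ 1) :
    ∀ x y : H, x ≠ 1 → y ≠ 1 → ∃ g ∈ stabilizer G (1 : H), g • x = y := by
  classical
  have := Fact.mk hp
  intro x₀ y₀ hx₀ hy₀
  by_contra hcon
  have hy₀' : y₀ ∉ orb G x₀ := fun h => hcon ((mem_orb x₀ y₀).mp h)
  set T₁ := orb G x₀ with hT₁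
  set T₂ : Finset H := Finset.univ.filter fun y => y ≠ 1 ∧ y ∉ T₁ with hT₂
  have hinv₁ := orb_inv (G := G) x₀
  have hinv₂ : ∀ g ∈ stabilizer G (1 : H), ∀ x : H, x ∈ T₂ ↔ g • x ∈ T₂ := by
    intro g hg x
    simp only [hT₂, Finset.mem_filter, Finset.mem_univ, true_and]
    have e1 : g • x ≠ 1 ↔ x ≠ 1 := by
      rw [not_iff_not]
      constructor
      · intro h
        have h2 : g • x = g • (1 : H) := by rw [h, mem_stabilizer_iff.mp hg]
        exact MulAction.injective g h2
      · intro h; rw [h, mem_stabilizer_iff.mp hg]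
    rw [e1, ← hinv₁ g hg x]
  have h1₁ : (1 : H) ∉ T₁ := one_notMem_orb hx₀
  have h1₂ : (1 : H) ∉ T₂ := by simp [hT₂]
  have hne₁ : T₁.Nonempty := ⟨x₀, self_mem_orb x₀⟩
  have hne₂ : T₂.Nonempty := ⟨y₀, by simp [hT₂, hy₀, hy₀']⟩
  -- cardinalities
  have hsum : T₁.card + T₂.card = Fintype.card H - 1 := by
    have hdisj : Disjoint T₁ T₂ := by
      rw [Finset.disjoint_left]
      intro a ha ha'
      simp only [hT₂, Finset.mem_filter, Finset.mem_univ, true_and] at ha'
      exact ha'.2 ha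
    have hunion : T₁ ∪ T₂ = Finset.univ.erase (1 : H) := by
      ext a
      simp only [hT₂, Finset.mem_union, Finset.mem_filter, Finset.mem_univ, true_and,
        Finset.mem_erase, and_true]
      constructor
      · rintro (h | h)
        · exact fun h' => h1₁ (h' ▸ h)
        · exact h.1
      · intro h
        by_cases ha : a ∈ T₁
        · exact Or.inl ha
        · exact Or.inr ⟨h, ha⟩
    rw [← Finset.card_union_of_disjoint hdisj, hunion,
      Finset.card_erase_of_mem (Finset.mem_univ _), Finset.card_univ]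
  have hI₁ := count_ineq ι hι hprim p hK hcard T₁ hinv₁
  have hI₂ := count_ineq ι hι hprim p hK hcard T₂ hinv₂
  have hL₁ := card_lt_card ι hι hprim p hK hcard hbig T₁ hinv₁ hne₁ h1₁
  have hL₂ := card_lt_card ι hι hprim p hK hcard hbig T₂ hinv₂ hne₂ h1₂
  have hs₁ := Finset.card_filter_add_card_filter_not (s := T₁) (fun t => t ^ p = 1)
  have hs₂ := Finset.card_filter_add_card_filter_not (s := T₂) (fun t => t ^ p = 1)
  rw [← hsum] at hI₁ hI₂
  -- arithmetic
  generalize T₁.card = t₁ at *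
  generalize T₂.card = t₂ at *
  generalize (T₁.filter fun t => t ^ p = 1).card = a₁ at *
  generalize (T₂.filter fun t => t ^ p = 1).card = a₂ at *
  generalize (T₁.filter fun t => ¬ t ^ p = 1).card = b₁ at *
  generalize (T₂.filter fun t => ¬ t ^ p = 1).card = b₂ at *
  subst hs₁ hs₂
  have key : ∀ a b t' : ℕ, a < b → (a + b + t') * b + (a + b) ≤ (a + b) ^ 2 → t' < a + b := by
    intro a b t' hab hI
    have e₁ : (a + b) ^ 2 = (a + b) * a + (a + b) * b := by ring
    have e₂ : (a + b + t') * b = (a + b) * b + t' * b := by ring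
    have k₁ : t' * b + (a + b) ≤ (a + b) * a := by omega
    have k₂ : (a + b) * a + (a + b) ≤ (a + b) * b := by
      have h := Nat.mul_le_mul_left (a + b) hab
      have e₃ : (a + b) * (a + 1) = (a + b) * a + (a + b) := by ring
      rw [Nat.succ_eq_add_one, e₃] at h
      exact h
    have k₃ : t' * b < (a + b) * b := by omega
    exact lt_of_mul_lt_mul_right k₃ (Nat.zero_le _)
  have lt₁ := key a₁ b₁ (a₂ + b₂) hL₁ hI₁
  have lt₂ := key a₂ b₂ (a₁ + b₁) hL₂ (by rw [add_comm (a₂ + b₂) (a₁ + b₁)]; exact hI₂)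
  omega

end Abstract2


/-- Concrete version: a primitive group containing a regular cyclic subgroup `C` having elements
of order `p` and elements `x` with `x ^ p ≠ 1` (i.e. `|C|` is a proper multiple of `p`) is doubly
transitive. -/
theorem schur_concrete' {G Ω : Type*} [Group G] [MulAction G Ω] [Finite Ω]
    (hprim : IsPreprimitive G Ω) (p : ℕ) (hp : p.Prime)
    (C : Subgroup G) (hcyc : IsCyclic ↥C)
    (hC : IsPretransitive ↥C Ω ∧ ∀ a : Ω, stabilizer ↥C a = ⊥)
    (hK : ∃ k : C, k ≠ 1 ∧ k ^ p = 1) (hbig : ∃ x : C, x ^ p ≠ 1) :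
    IsMultiplyPretransitive G Ω 2 := by
  classical
  have htr : IsPretransitive G Ω := hprim.toIsPretransitive
  rcases isEmpty_or_nonempty Ω with hemp | hne
  · exact ⟨fun x => (hemp.false (x 0)).elim⟩
  obtain ⟨ω₀⟩ := hne
  have hCt := hC.1
  have hinj : Function.Injective (fun c : C => c • ω₀) := by
    intro c c' h
    have h' : c • ω₀ = c' • ω₀ := h
    have : c'⁻¹ * c ∈ stabilizer ↥C ω₀ := by
      rw [mem_stabilizer_iff, mul_smul, h', inv_smul_smul]
    rw [hC.2 ω₀, Subgroup.mem_bot] at this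
    exact (inv_mul_eq_one.mp this).symm
  have hsurj : Function.Surjective (fun c : C => c • ω₀) := fun ω => exists_smul_eq ↥C ω₀ ω
  let e : C ≃ Ω := Equiv.ofBijective _ ⟨hinj, hsurj⟩
  have he : ∀ c : C, e c = c • ω₀ := fun c => rfl
  have hfin : Finite C := Finite.of_equiv Ω e.symm
  let _ : Fintype C := Fintype.ofFinite C
  let _ : CommGroup C := IsCyclic.commGroup
  let act : MulAction G C := e.mulAction G
  have hact : ∀ (g : G) (c : C), e (g • c) = g • e c := by
    intro g c
    simp [Equiv.smul_def]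
  have hι : ∀ h x : C, (C.subtype h) • x = h * x := by
    intro h x
    apply e.injective
    rw [hact, he, he, mul_smul]
    rfl
  let f : Ω →ₑ[@id G] C :=
    { toFun := e.symm
      map_smul' := by
        intro g ω
        apply e.injective
        rw [hact]
        simp }
  have hprim' : IsPreprimitive G C := IsPreprimitive.of_surjective (f := f) e.symm.surjective
  have hcard : (Finset.univ.filter fun k : C => k ^ p = 1).card ≤ p :=
    IsCyclic.card_pow_eq_one_le hp.pos
  have key := main' (G := G) (H := C) C.subtype hι hprim' p hp hK hcard hbig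
  rw [is_two_pretransitive_iff]
  intro a b c d hab hcd
  obtain ⟨g₁, hg₁⟩ := exists_smul_eq G a ω₀
  obtain ⟨g₂, hg₂⟩ := exists_smul_eq G c ω₀
  have he1 : e 1 = ω₀ := by rw [he, one_smul]
  have hx : e.symm (g₁ • b) ≠ 1 := by
    intro h
    have : g₁ • b = ω₀ := by rw [← he1, ← h, Equiv.apply_symm_apply]
    rw [← hg₁] at this
    exact hab (MulAction.injective g₁ this).symm
  have hy : e.symm (g₂ • d) ≠ 1 := by
    intro h
    have : g₂ • d = ω₀ := by rw [← he1, ← h, Equiv.apply_symm_apply]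
    rw [← hg₂] at this
    exact hcd (MulAction.injective g₂ this).symm
  obtain ⟨g, hg, hgxy⟩ := key _ _ hx hy
  have hg0 : g • ω₀ = ω₀ := by
    have := congrArg e (mem_stabilizer_iff.mp hg)
    rwa [hact, he1] at this
  have hgb : g • (g₁ • b) = g₂ • d := by
    have := congrArg e hgxy
    rwa [hact, Equiv.apply_symm_apply, Equiv.apply_symm_apply] at this
  refine ⟨g₂⁻¹ * g * g₁, ?_, ?_⟩
  · rw [mul_smul, mul_smul, hg₁, hg0, ← hg₂, inv_smul_smul]
  · rw [mul_smul, mul_smul, hgb, inv_smul_smul]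


theorem pow_mem_zpowers_of_ne_one {Γ : Type*} [Group Γ] {p m : ℕ} (hp : p.Prime) (hm : 1 ≤ m)
    (g : Γ) (hg : orderOf g = p ^ m) (c : Γ) (hc : c ∈ Subgroup.zpowers g) (hc1 : c ≠ 1) :
    g ^ (p ^ (m - 1)) ∈ Subgroup.zpowers c := by
  have := Fact.mk hp
  have hfin : IsOfFinOrder g := by
    rw [← orderOf_pos_iff, hg]; exact pow_pos hp.pos m
  rw [← hfin.mem_powers_iff_mem_zpowers, Submonoid.mem_powers_iff] at hc
  obtain ⟨i, rfl⟩ := hc
  have hi0 : i ≠ 0 := by
    intro h; apply hc1; rw [h, pow_zero]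
  obtain ⟨a, u, hu, hi⟩ := Nat.exists_eq_pow_mul_and_not_dvd hi0 p hp.ne_one
  have ham : a < m := by
    by_contra h
    push Not at h
    apply hc1
    rw [hi, ← orderOf_dvd_iff_pow_eq_one, hg]
    exact dvd_mul_of_dvd_left (pow_dvd_pow p h) u
  have hgm : g ^ p ^ m = 1 := by rw [← hg]; exact pow_orderOf_eq_one g
  have hz1 : g ^ (p ^ (m - 1)) ≠ 1 := by
    intro h
    have := orderOf_dvd_of_pow_eq_one h
    rw [hg, Nat.pow_dvd_pow_iff_le_right hp.one_lt] at this
    omega
  have hzp : (g ^ (p ^ (m - 1))) ^ p = 1 := by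
    rw [← pow_mul, ← pow_succ, Nat.sub_add_cancel hm, hgm]
  have hord : orderOf (g ^ (p ^ (m - 1))) = p := orderOf_eq_prime hzp hz1
  have hcop : Nat.Coprime u (orderOf (g ^ (p ^ (m - 1)))) := by
    rw [hord]; exact ((Nat.Prime.coprime_iff_not_dvd hp).mpr hu).symm
  obtain ⟨w, hw⟩ := exists_pow_eq_self_of_coprime hcop
  have e : (g ^ i) ^ (p ^ (m - 1 - a) * w) = g ^ (p ^ (m - 1)) := by
    rw [← hw, ← pow_mul, ← pow_mul, ← pow_mul]
    congr 1
    rw [hi]
    have : p ^ (m - 1) = p ^ a * p ^ (m - 1 - a) := by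
      rw [← pow_add]; congr 1; omega
    rw [this]; ring
  rw [← e]
  exact Subgroup.pow_mem _ (Subgroup.mem_zpowers _) _

theorem zpowers_regular {Ω : Type*} [Fintype Ω] [DecidableEq Ω] (p m : ℕ) (hp : p.Prime)
    (hm : 1 ≤ m) (hΩ : Fintype.card Ω = p ^ m) (G : Subgroup (Equiv.Perm Ω)) (g : G)
    (hg : orderOf g = p ^ m) :
    IsPretransitive ↥(Subgroup.zpowers g) Ω ∧
      ∀ a : Ω, stabilizer ↥(Subgroup.zpowers g) a = ⊥ := by
  set σ : Equiv.Perm Ω := (g : Equiv.Perm Ω) with hσ
  have hσo : orderOf σ = p ^ m := by rw [hσ, Subgroup.orderOf_coe, hg]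
  -- a point of full period
  have hA : ∃ x₀ : Ω, (σ ^ (p ^ (m - 1))) x₀ ≠ x₀ := by
    by_contra hcon
    push Not at hcon
    have h1 : σ ^ (p ^ (m - 1)) = 1 := Equiv.ext hcon
    have := orderOf_dvd_of_pow_eq_one h1
    rw [hσo, Nat.pow_dvd_pow_iff_le_right hp.one_lt] at this
    omega
  obtain ⟨x₀, hx₀⟩ := hA
  have hper : MulAction.period σ x₀ = p ^ m := by
    have h1 : MulAction.period σ x₀ ∣ p ^ m := hσo ▸ MulAction.period_dvd_orderOf σ x₀
    obtain ⟨j, hj, hjp⟩ := (Nat.dvd_prime_pow hp).mp h1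
    have h2 : ¬ MulAction.period σ x₀ ∣ p ^ (m - 1) := by
      intro h
      exact hx₀ (MulAction.pow_smul_eq_iff_period_dvd.mpr h)
    rw [hjp, Nat.pow_dvd_pow_iff_le_right hp.one_lt] at h2
    have : j = m := by omega
    rw [hjp, this]
  have aux : ∀ i j : ℕ, i < j → j < p ^ m → (σ ^ i) x₀ ≠ (σ ^ j) x₀ := by
    intro i j hij hj h
    have h1 : (σ ^ j) x₀ = (σ ^ i) ((σ ^ (j - i)) x₀) := by
      rw [← Equiv.Perm.mul_apply, ← pow_add, Nat.add_sub_cancel' hij.le]
    rw [← h] at h1
    have h2 : (σ ^ (j - i)) x₀ = x₀ := ((σ ^ i).injective h1).symm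
    have h3 : MulAction.period σ x₀ ∣ j - i := MulAction.pow_smul_eq_iff_period_dvd.mp h2
    rw [hper] at h3
    have := Nat.le_of_dvd (by omega) h3
    omega
  have hinj : Function.Injective (fun i : Fin (p ^ m) => (σ ^ (i : ℕ)) x₀) := by
    intro i j hij
    by_contra hne
    rcases lt_or_gt_of_ne (fun h => hne (Fin.ext h) : (i : ℕ) ≠ j) with h | h
    · exact aux i j h j.2 hij
    · exact aux j i h i.2 hij.symm
  have hbij : Function.Bijective (fun i : Fin (p ^ m) => (σ ^ (i : ℕ)) x₀) := by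
    rw [Fintype.bijective_iff_injective_and_card]
    exact ⟨hinj, by rw [Fintype.card_fin, hΩ]⟩
  have hall : ∀ y : Ω, ∃ i : ℕ, (σ ^ i) x₀ = y := by
    intro y
    obtain ⟨i, hi⟩ := hbij.2 y
    exact ⟨i, hi⟩
  have hsmul : ∀ (c : Subgroup.zpowers g) (x : Ω), c • x = ((c : G) : Equiv.Perm Ω) x := by
    intro c x; rfl
  have htrans : IsPretransitive ↥(Subgroup.zpowers g) Ω := by
    refine ⟨fun x y => ?_⟩
    obtain ⟨a, rfl⟩ := hall x
    obtain ⟨b, rfl⟩ := hall y
    refine ⟨⟨g ^ b * (g ^ a)⁻¹, Subgroup.mul_mem _ (Subgroup.pow_mem _ (Subgroup.mem_zpowers g) b)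
      (Subgroup.inv_mem _ (Subgroup.pow_mem _ (Subgroup.mem_zpowers g) a))⟩, ?_⟩
    rw [hsmul]
    simp [hσ]
  refine ⟨htrans, fun a => ?_⟩
  rw [Subgroup.eq_bot_iff_forall]
  intro c hc
  rw [mem_stabilizer_iff] at hc
  have hfix : ∀ y : Ω, ((c : G) : Equiv.Perm Ω) y = y := by
    intro y
    obtain ⟨d, rfl⟩ := exists_smul_eq ↥(Subgroup.zpowers g) a y
    have hcomm : c * d = d * c := by
      have : IsCyclic ↥(Subgroup.zpowers g) := inferInstance
      let _ : CommGroup ↥(Subgroup.zpowers g) := IsCyclic.commGroup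
      exact mul_comm c d
    rw [← hsmul, ← mul_smul, hcomm, mul_smul, hc]
  have : ((c : G) : Equiv.Perm Ω) = 1 := Equiv.ext hfix
  have h2 : (c : G) = 1 := Subtype.ext this
  exact Subtype.ext h2


/-- Burnside–Schur: a transitive, not doubly transitive group of degree `p ^ m` (`m ≥ 2`)
containing an element `g` of order `p ^ m` is imprimitive, and the normal closure of
`g ^ (p ^ (m - 1))` is intransitive. -/
theorem burnside_schur {Ω : Type*} [Fintype Ω] [DecidableEq Ω] (p m : ℕ) (hp : p.Prime)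
    (hm : 2 ≤ m) (hΩ : Fintype.card Ω = p ^ m) (G : Subgroup (Equiv.Perm Ω))
    (htr : IsPretransitive G Ω) (h2 : ¬ IsMultiplyPretransitive G Ω 2) (g : G)
    (hg : orderOf g = p ^ m) :
    ¬ IsPreprimitive G Ω ∧
      ¬ IsPretransitive (Subgroup.normalClosure ({g ^ (p ^ (m - 1))} : Set G)) Ω := by
  have hreg := zpowers_regular p m hp (by omega) hΩ G g hg
  have hgm : g ^ p ^ m = 1 := by rw [← hg]; exact pow_orderOf_eq_one g
  have hz1 : g ^ (p ^ (m - 1)) ≠ 1 := by
    intro h
    have := orderOf_dvd_of_pow_eq_one h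
    rw [hg, Nat.pow_dvd_pow_iff_le_right hp.one_lt] at this
    omega
  have hzp : (g ^ (p ^ (m - 1))) ^ p = 1 := by
    rw [← pow_mul, ← pow_succ, Nat.sub_add_cancel (by omega), hgm]
  have hnp : ¬ IsPreprimitive G Ω := by
    intro hprim
    apply h2
    refine schur_concrete' hprim p hp (Subgroup.zpowers g) inferInstance hreg ?_ ?_
    · refine ⟨⟨g ^ (p ^ (m - 1)), Subgroup.pow_mem _ (Subgroup.mem_zpowers g) _⟩, ?_, ?_⟩
      · intro h
        exact hz1 (congrArg Subtype.val h)
      · exact Subtype.ext hzp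
    · refine ⟨⟨g, Subgroup.mem_zpowers g⟩, ?_⟩
      intro h
      have h' : g ^ p = 1 := congrArg Subtype.val h
      have := orderOf_dvd_of_pow_eq_one h'
      rw [hg] at this
      have h3 : p ^ m ∣ p ^ 1 := by simpa using this
      rw [Nat.pow_dvd_pow_iff_le_right hp.one_lt] at h3
      omega
  refine ⟨hnp, ?_⟩
  -- a nontrivial block
  have hblock : ∃ B : Set Ω, IsBlock G B ∧ ¬ IsTrivialBlock B := by
    by_contra hcon
    push Not at hcon
    exact hnp { toIsPretransitive := htr, isTrivialBlock_of_isBlock := fun {B} hB => hcon B hB }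
  obtain ⟨B, hB, hBnt⟩ := hblock
  rw [IsTrivialBlock, not_or] at hBnt
  obtain ⟨hBns, hBnu⟩ := hBnt
  rw [Set.not_subsingleton_iff] at hBns
  obtain ⟨a, ha, b, hb, hab⟩ := hBns
  -- `z` fixes every translate of `B`
  have hz : ∀ g' : G, (g ^ (p ^ (m - 1))) • (g' • B) = g' • B := by
    intro g'
    have hB' : IsBlock G (g' • B) := hB.translate g'
    have hreg1 := hreg.1
    obtain ⟨c, hc⟩ := exists_smul_eq ↥(Subgroup.zpowers g) (g' • a) (g' • b)
    have hc1 : (c : G) ≠ 1 := by
      intro h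
      have h3 : (c : G) • (g' • a) = g' • b := hc
      rw [h, one_smul] at h3
      exact hab (MulAction.injective g' h3)
    have hcB : (c : G) • (g' • B) = g' • B :=
      hB'.smul_eq_of_mem (Set.smul_mem_smul_set ha) (by
        have h3 : (c : G) • (g' • a) = g' • b := hc
        rw [h3]; exact Set.smul_mem_smul_set hb)
    have hmem := pow_mem_zpowers_of_ne_one hp (by omega) g hg (c : G) c.2 hc1
    have hle : Subgroup.zpowers (c : G) ≤ stabilizer G (g' • B) := by
      rw [Subgroup.zpowers_le]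
      exact hcB
    exact hle hmem
  -- the subgroup fixing all translates
  let Kn : Subgroup G :=
    { carrier := {x | ∀ g' : G, x • (g' • B) = g' • B}
      mul_mem' := by
        intro x y hx hy g'
        rw [mul_smul, hy g', hx g']
      one_mem' := by
        intro g'; rw [one_smul]
      inv_mem' := by
        intro x hx g'
        rw [inv_smul_eq_iff, hx g'] }
  have hKn : Kn.Normal := by
    constructor
    intro x hx h g'
    show (h * x * h⁻¹) • (g' • B) = g' • B
    have := hx (h⁻¹ * g')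
    rw [mul_smul, mul_smul, ← mul_smul h⁻¹ g', this, mul_smul, smul_inv_smul]
  have hle : Subgroup.normalClosure ({g ^ (p ^ (m - 1))} : Set G) ≤ Kn :=
    Subgroup.normalClosure_le_normal (by
      intro x hx
      rw [Set.mem_singleton_iff] at hx
      rw [hx]
      exact hz)
  intro htrN
  have hBne : ∃ c : Ω, c ∉ B := by
    by_contra hcon
    push Not at hcon
    exact hBnu (Set.eq_univ_of_forall hcon)
  obtain ⟨c, hc⟩ := hBne
  obtain ⟨n, hn⟩ := htrN.exists_smul_eq a c
  have hnK : (n : G) ∈ Kn := hle n.2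
  have h1 := hnK 1
  rw [one_smul] at h1
  apply hc
  have : (n : G) • a ∈ (n : G) • B := Set.smul_mem_smul_set ha
  rw [h1] at this
  have hn' : (n : G) • a = c := hn
  rwa [hn'] at this

end Cfsg.Agent.Helper59.Schur
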