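/-
helper59: sharply `k`-transitive groups for `k ≥ 6` (Jordan).
Order formula, faithfulness, exclusion of a sharply 6-transitive group of degree 13 by Sylow-13
counting, and the induction over the point stabilizer.
-/
import Cfsg.Agent.Helper59.SharpFour
import Mathlib.GroupTheory.Perm.Centralizer
import Mathlib.GroupTheory.SpecificGroups.Cyclic
import Mathlib.Data.Fintype.CardEmbedding
import Mathlib.GroupTheory.Sylow
import Mathlib.Tactic.NormNum.Prime

set_option autoImplicit false

namespace Cfsg.Agent.Helper59

open MulAction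

section SharpK

variable {G : Type*} [Group G] {Ω : Type*} [MulAction G Ω]

theorem card_of_sharp [Finite Ω] {k : ℕ} (hk : IsMultiplyPretransitive G Ω k)
    (hsharp : ∀ x : Fin k ↪ Ω, stabilizer G x = ⊥) (hn : k ≤ Nat.card Ω) :
    Nat.card G = (Nat.card Ω).descFactorial k := by
  classical
  have : Fintype Ω := Fintype.ofFinite Ω
  have hne : Nonempty (Fin k ↪ Ω) :=
    Function.Embedding.nonempty_of_card_le (by simpa [Nat.card_eq_fintype_card] using hn)
  obtain ⟨x₀⟩ := hne
  have h1 := index_stabilizer_of_transitive G x₀
  rw [hsharp x₀, Subgroup.index_bot] at h1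
  rw [h1, Nat.card_eq_fintype_card, Fintype.card_embedding_eq, Fintype.card_fin,
    Nat.card_eq_fintype_card]

theorem faithful_of_sharp {k : ℕ} (hsharp : ∀ x : Fin k ↪ Ω, stabilizer G x = ⊥)
    (hne : Nonempty (Fin k ↪ Ω)) : FaithfulSMul G Ω := by
  constructor
  intro g h hgh
  obtain ⟨x₀⟩ := hne
  have : h⁻¹ * g ∈ stabilizer G x₀ := by
    rw [mem_stabilizer_iff]
    ext i
    rw [Function.Embedding.smul_apply, mul_smul, hgh, inv_smul_smul]
  rw [hsharp, Subgroup.mem_bot] at this
  have h2 := congrArg (fun z => h * z) this
  simpa using h2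

/-- arithmetic core of the exclusion of degree 13 -/
theorem arith13 {n N c r : ℕ} (h1 : n * N = 1235520) (h2 : N = c * r) (hc : c ∣ 13) (hr : r ∣ 12)
    (h13 : 13 ∣ N) (hn : n % 13 = 1) : False := by
  have hc' : c = 1 ∨ c = 13 := (Nat.dvd_prime (by norm_num)).mp hc
  have hr' : r ∈ Nat.divisors 12 := Nat.mem_divisors.mpr ⟨hr, by norm_num⟩
  have hdiv : Nat.divisors 12 = {1, 2, 3, 4, 6, 12} := by decide
  rw [hdiv] at hr'
  simp only [Finset.mem_insert, Finset.mem_singleton] at hr'
  rcases hc' with rfl | rfl
  · rw [one_mul] at h2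
    subst h2
    have := Nat.le_of_dvd (by rcases hr' with h | h | h | h | h | h <;> omega) (h13)
    rcases hr' with h | h | h | h | h | h <;> omega
  · subst h2
    rcases hr' with h | h | h | h | h | h <;> subst h <;> omega

/-- there is no sharply 6-transitive group of degree 13 -/
theorem no_sharp6_deg13 [Finite Ω] (h6 : IsMultiplyPretransitive G Ω 6)
    (hsharp : ∀ x : Fin 6 ↪ Ω, stabilizer G x = ⊥) (hn : Nat.card Ω = 13) : False := by
  classical
  have : Fintype Ω := Fintype.ofFinite Ω
  have hcardΩ : Fintype.card Ω = 13 := by rw [← Nat.card_eq_fintype_card]; exact hn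
  have hcardG : Nat.card G = 1235520 := by
    rw [card_of_sharp h6 hsharp (by omega), hn]
    decide
  have hfinG : Finite G := Nat.finite_of_card_ne_zero (by rw [hcardG]; norm_num)
  have hne : Nonempty (Fin 6 ↪ Ω) :=
    Function.Embedding.nonempty_of_card_le (by simp [hcardΩ])
  have hfaith : FaithfulSMul G Ω := faithful_of_sharp hsharp hne
  have hfact : Fact (Nat.Prime 13) := ⟨by norm_num⟩
  obtain ⟨P⟩ : Nonempty (Sylow 13 G) := inferInstance
  have hPcard : Nat.card (P : Subgroup G) = 13 := by
    rw [P.card_eq_multiplicity, hcardG]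
    have : (1235520 : ℕ) = 13 * 95040 := by norm_num
    rw [this, Nat.factorization_mul (by norm_num) (by norm_num)]
    simp only [Finsupp.coe_add, Pi.add_apply]
    rw [Nat.Prime.factorization_self (by norm_num),
      Nat.factorization_eq_zero_of_not_dvd (by norm_num)]
    norm_num
  -- an element of order 13
  have hPne : (P : Subgroup G) ≠ ⊥ := by
    intro h
    rw [h, Subgroup.card_bot] at hPcard
    norm_num at hPcard
  obtain ⟨σ, hσ1⟩ := Subgroup.ne_bot_iff_exists_ne_one.mp hPne
  have hσord : orderOf (σ : G) = 13 := by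
    have h1 : orderOf σ ∣ 13 := by
      have := orderOf_dvd_natCard σ
      rwa [hPcard] at this
    have h2 : orderOf σ = 13 := by
      rcases (Nat.dvd_prime (by norm_num)).mp h1 with h | h
      · exact absurd (orderOf_eq_one_iff.mp h) hσ1
      · exact h
    rw [Subgroup.orderOf_coe]; exact h2
  -- as a permutation
  have hτord : orderOf (MulAction.toPermHom G Ω (σ : G)) = 13 := by
    rw [orderOf_injective (MulAction.toPermHom G Ω) MulAction.toPerm_injective]; exact hσord
  have hτct : (MulAction.toPermHom G Ω (σ : G)).cycleType = {13} := by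
    obtain ⟨n, hn'⟩ := Equiv.Perm.cycleType_prime_order (σ := MulAction.toPermHom G Ω (σ : G))
      (by rw [hτord]; norm_num)
    rw [hτord] at hn'
    have hsum := Equiv.Perm.sum_cycleType (MulAction.toPermHom G Ω (σ : G))
    rw [hn', Multiset.sum_replicate, smul_eq_mul] at hsum
    have hle : (MulAction.toPermHom G Ω (σ : G)).support.card ≤ 13 :=
      le_trans (Finset.card_le_univ _) (le_of_eq hcardΩ)
    have : n = 0 := by omega
    subst this
    simpa using hn'
  have hcentτ : Nat.card (Subgroup.centralizer {MulAction.toPermHom G Ω (σ : G)}) = 13 := by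
    rw [Equiv.Perm.nat_card_centralizer, hτct, hcardΩ]
    simp
  -- the centralizer of P in G embeds into the centralizer of τ
  have hcentdvd : Nat.card (Subgroup.centralizer ((P : Subgroup G) : Set G)) ∣ 13 := by
    refine dvd_trans ?_ (dvd_of_eq hcentτ)
    apply Subgroup.card_dvd_of_injective
      (((MulAction.toPermHom G Ω).comp (Subgroup.subtype _)).codRestrict
        (Subgroup.centralizer {MulAction.toPermHom G Ω (σ : G)}) (by
          intro g
          rw [Subgroup.mem_centralizer_iff]
          intro h hh
          rw [Set.mem_singleton_iff] at hh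
          subst hh
          have hg := (Subgroup.mem_centralizer_iff.mp g.2) (σ : G) σ.2
          change MulAction.toPermHom G Ω (σ : G) * MulAction.toPermHom G Ω (g : G) =
            MulAction.toPermHom G Ω (g : G) * MulAction.toPermHom G Ω (σ : G)
          rw [← map_mul, ← map_mul, hg]))
    intro g₁ g₂ h
    have := congrArg Subtype.val h
    apply Subtype.ext
    exact MulAction.toPerm_injective this
  -- the normalizer
  have hcyc : IsCyclic (P : Subgroup G) := isCyclic_of_prime_card hPcard
  have haut : Nat.card (MulAut (P : Subgroup G)) = 12 := by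
    rw [IsCyclic.card_mulAut, hPcard]
    decide
  have hker := Subgroup.normalizerMonoidHom_ker (P : Subgroup G)
  have hkercard : Nat.card (Subgroup.normalizerMonoidHom (P : Subgroup G)).ker =
      Nat.card (Subgroup.centralizer ((P : Subgroup G) : Set G)) := by
    rw [hker]
    exact Nat.card_congr
      (Subgroup.subgroupOfEquivOfLe (Subgroup.centralizer_le_normalizer _)).toEquiv
  have hrange : Nat.card (Subgroup.normalizerMonoidHom (P : Subgroup G)).range ∣ 12 := by
    refine dvd_trans ?_ (dvd_of_eq haut)
    exact Subgroup.card_subgroup_dvd_card _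
  have hN : Nat.card (Subgroup.normalizer ((P : Subgroup G) : Set G)) =
      Nat.card (Subgroup.centralizer ((P : Subgroup G) : Set G)) *
        Nat.card (Subgroup.normalizerMonoidHom (P : Subgroup G)).range := by
    rw [← hkercard, ← Subgroup.index_ker, Subgroup.card_mul_index]
  have h13N : 13 ∣ Nat.card (Subgroup.normalizer ((P : Subgroup G) : Set G)) := by
    refine dvd_trans (dvd_of_eq hPcard.symm) ?_
    exact Subgroup.card_dvd_of_le Subgroup.le_normalizer
  have hidx : (Subgroup.normalizer ((P : Subgroup G) : Set G)).index *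
      Nat.card (Subgroup.normalizer ((P : Subgroup G) : Set G)) = 1235520 := by
    rw [mul_comm, Subgroup.card_mul_index, hcardG]
  have hmod : (Subgroup.normalizer ((P : Subgroup G) : Set G)).index % 13 = 1 := by
    have h := P.card_eq_index_normalizer
    have hmod' : Nat.card (Sylow 13 G) % 13 = 1 % 13 := card_sylow_modEq_one 13 G
    rw [h] at hmod'
    exact hmod' 
  exact arith13 hidx hN hcentdvd hrange h13N hmod

end SharpK

universe u v

/-- Jordan: for `k ≥ 6` a sharply `k`-transitive group has degree `k`, `k+1` or `k+2`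
(abstract version). -/
theorem sharpk_card (k : ℕ) (hk : 6 ≤ k) :
    ∀ {G : Type u} {Ω : Type v} [Group G] [MulAction G Ω] [Finite Ω],
      IsMultiplyPretransitive G Ω k → (∀ x : Fin k ↪ Ω, stabilizer G x = ⊥) → k ≤ Nat.card Ω →
      Nat.card Ω = k ∨ Nat.card Ω = k + 1 ∨ Nat.card Ω = k + 2 := by
  induction k, hk using Nat.le_induction with
  | base =>
    intro G Ω _ _ _ h6 hsharp hn
    have hne : Nonempty Ω := by
      rw [← Finite.card_pos_iff]; omega
    obtain ⟨a⟩ := hne
    have h1 : IsMultiplyPretransitive G Ω 1 :=
      isMultiplyPretransitive_of_le (n := 6) (by omega) hn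
    have hGt : IsPretransitive G Ω := is_one_pretransitive_iff.mp h1
    have h5 : IsMultiplyPretransitive (stabilizer G a) (SubMulAction.ofStabilizer G a) 5 :=
      SubMulAction.ofStabilizer.isMultiplyPretransitive.mp h6
    have hsharp5 := stabilizer_sharp hsharp a
    have hcard : Nat.card (SubMulAction.ofStabilizer G a) = Nat.card Ω - 1 :=
      SubMulAction.nat_card_ofStabilizer_eq G a
    have := sharp5_card h5 hsharp5 (by rw [hcard]; omega)
    rw [hcard] at this
    have h13 : Nat.card Ω ≠ 13 := fun h => no_sharp6_deg13 h6 hsharp h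
    omega
  | succ k hk ih =>
    intro G Ω _ _ _ hk1 hsharp hn
    have hne : Nonempty Ω := by
      rw [← Finite.card_pos_iff]; omega
    obtain ⟨a⟩ := hne
    have h1 : IsMultiplyPretransitive G Ω 1 :=
      isMultiplyPretransitive_of_le (n := k + 1) (by omega) hn
    have hGt : IsPretransitive G Ω := is_one_pretransitive_iff.mp h1
    have hk' : IsMultiplyPretransitive (stabilizer G a) (SubMulAction.ofStabilizer G a) k :=
      SubMulAction.ofStabilizer.isMultiplyPretransitive.mp hk1
    have hsharp' := stabilizer_sharp hsharp a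
    have hcard : Nat.card (SubMulAction.ofStabilizer G a) = Nat.card Ω - 1 :=
      SubMulAction.nat_card_ofStabilizer_eq G a
    have := ih hk' hsharp' (by rw [hcard]; omega)
    rw [hcard] at this
    omega

end Cfsg.Agent.Helper59
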