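-- helper59: leaf (Q2) `false_of_two` of helper88's S2772 farm #13205.
import Mathlib
import Cfsg.Agent.Helper88.SimsD.Defs

set_option autoImplicit false

namespace Cfsg.Agent.Helper59.SimsD

open Cfsg.Agent.Helper88.SimsD

/-- (Q2) `q = 2` is impossible: `Γ` would be a 2-group, so `O_2(Γ) = Γ`. -/
theorem false_of_two {Γ : Type*} [Group Γ] [Finite Γ]
    (e : Γ ⧸ Cfsg.pCore 2 Γ ≃* DihedralGroup 2) : False := by
  have hfact : Fact (Nat.Prime 2) := ⟨Nat.prime_two⟩
  have hidx : (Cfsg.pCore 2 Γ).index = 4 := by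
    rw [Subgroup.index_eq_card, Nat.card_congr e.toEquiv, DihedralGroup.nat_card]
  obtain ⟨k, hk⟩ := (Cfsg.Agent.Lib.isPGroup_pCore (G := Γ) 2).exists_card_eq
  have hcard : Nat.card Γ = 2 ^ (k + 2) := by
    rw [← Subgroup.card_mul_index (Cfsg.pCore 2 Γ), hidx, hk, pow_add]
    norm_num
  have hp : IsPGroup 2 Γ := IsPGroup.of_card hcard
  have htop := Cfsg.Agent.Lib.pCore_eq_top_of_isPGroup hp
  rw [htop, Subgroup.index_top] at hidx
  omega

end Cfsg.Agent.Helper59.SimsD
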