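-- helper59: leaf (SIMP) `false_of_invariant` of helper88's S2772 farm #13205.
import Mathlib
import Cfsg.Agent.Helper88.SimsD.Defs

set_option autoImplicit false

namespace Cfsg.Agent.Helper59.SimsD

open Cfsg.Agent.Helper88.SimsD

/-- (SIMP) in a simple group no nontrivial subgroup of a maximal subgroup `G` is normalized by
`G` and by an element outside `G`. -/
theorem false_of_invariant {H : Type*} [Group H] [IsSimpleGroup H] (G : Subgroup H)
    (hG : IsCoatom G) (X : Subgroup H) (hXG : X ≤ G) (hX1 : X ≠ ⊥)
    (hGX : G ≤ Subgroup.normalizer (X : Set H)) (g : H) (hg : g ∉ G)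
    (hgX : g ∈ Subgroup.normalizer (X : Set H)) : False := by
  have hN : Subgroup.normalizer (X : Set H) = ⊤ := by
    have hlt : G < Subgroup.normalizer (X : Set H) :=
      lt_of_le_of_ne hGX (fun h => hg (h ▸ hgX))
    exact hG.2 _ hlt
  have hXn : X.Normal := Subgroup.normalizer_eq_top_iff.mp hN
  rcases hXn.eq_bot_or_eq_top with h | h
  · exact hX1 h
  · exact hG.1 (top_le_iff.mp (h ▸ hXG))

end Cfsg.Agent.Helper59.SimsD
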