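import Cfsg.Agent.Helper61.Sr.Basic

/-!
# S3572 piece (O2) for helper61: Schur's theorem, the transitivity module is closed under
multiplication (non-commutative version of `Cfsg.Agent.Helper59.Schur.inv_coeff_mul`).
-/

set_option autoImplicit false
set_option linter.unusedSectionVars false
set_option linter.unusedVariables false

namespace Cfsg.Agent.Helper59.Sr

open Finset DihedralGroup Cfsg.Agent.Helper61.Dih Cfsg.Agent.Helper61.Sr

section Concrete

open MulAction

variable {H : Type*} [Group H] [Fintype H] [DecidableEq H] {G : Type*} [Group G] [MulAction G H]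
variable (ι : H →* G) (hι : ∀ h x : H, ι h • x = h * x)

/-- the element `ι (g • b)⁻¹ * g * ι b` of the stabilizer of `1`. -/
def adj (g : G) (b : H) : G := (ι (g • b))⁻¹ * g * ι b

include hι in
theorem adj_smul (g : G) (b y : H) : adj ι g b • y = (g • b)⁻¹ * g • (b * y) := by
  unfold adj
  rw [mul_smul, mul_smul, hι, ← map_inv, hι]

include hι in
theorem adj_mem (g : G) (b : H) : adj ι g b ∈ stabilizer G (1 : H) := by
  rw [mem_stabilizer_iff, adj_smul ι hι, mul_one, inv_mul_cancel]

include hι in
theorem smul_mul' (g : G) (b y : H) : g • (b * y) = (g • b) * adj ι g b • y := by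
  rw [adj_smul ι hι, mul_inv_cancel_left]

include hι in
theorem inv_coeff_mul {f f' : MonoidAlgebra ℤ H}
    (hf : ∀ g ∈ stabilizer G (1 : H), ∀ x : H, f.coeff (g • x) = f.coeff x)
    (hf' : ∀ g ∈ stabilizer G (1 : H), ∀ x : H, f'.coeff (g • x) = f'.coeff x) :
    ∀ g ∈ stabilizer G (1 : H), ∀ x : H, (f * f').coeff (g • x) = (f * f').coeff x := by
  intro g hg x
  rw [MonoidAlgebra.coeff_mul_apply_left, MonoidAlgebra.coeff_mul_apply_left,
    Finsupp.sum_fintype _ _ (by simp), Finsupp.sum_fintype _ _ (by simp)]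
  rw [← Equiv.sum_comp (MulAction.toPerm g)]
  refine Finset.sum_congr rfl fun b _ => ?_
  simp only [toPerm_apply]
  rw [hf g hg b]
  congr 1
  have := adj_smul ι hι g b (b⁻¹ * x)
  rw [mul_inv_cancel_left] at this
  rw [← this, hf' _ (adj_mem ι hι g b)]

include hι in
/-- (O2) Schur's theorem: the transitivity module is closed under multiplication -/
theorem orb_mul_inv (f g : MonoidAlgebra ℤ H)
    (hf : ∀ x y, orbRel G x y → f.coeff x = f.coeff y)
    (hg : ∀ x y, orbRel G x y → g.coeff x = g.coeff y) :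
    ∀ x y, orbRel G x y → (f * g).coeff x = (f * g).coeff y := by
  rintro x y ⟨k, hk, rfl⟩
  exact (inv_coeff_mul ι hι
    (fun k hk x => (hf x (k • x) ⟨k, hk, rfl⟩).symm)
    (fun k hk x => (hg x (k • x) ⟨k, hk, rfl⟩).symm) k hk x).symm

end Concrete

end Cfsg.Agent.Helper59.Sr
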