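import Cfsg.Agent.Helper61.Sr.Basic

/-!
# S3572 piece (O5) for helper61: transport of a primitive action with a regular dihedral subgroup
to an action on `DihedralGroup m` itself (model: `Cfsg.Agent.Helper59.Schur.schur_concrete`).
-/

set_option autoImplicit false
set_option linter.unusedSectionVars false
set_option linter.unusedVariables false

namespace Cfsg.Agent.Helper59.Sr

open Finset DihedralGroup Cfsg.Agent.Helper61.Dih Cfsg.Agent.Helper61.Sr

open MulAction

/-- (O5) the transport -/
theorem concrete_of {G Ω : Type*} [Group G] [MulAction G Ω] [Finite Ω]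
    (key : ∀ (m : ℕ) [NeZero m] [MulAction G (DihedralGroup m)] (ι : DihedralGroup m →* G),
      (∀ h x : DihedralGroup m, ι h • x = h * x) →
      MulAction.IsPreprimitive G (DihedralGroup m) →
      ∀ x y : DihedralGroup m, x ≠ 1 → y ≠ 1 →
        ∃ g ∈ MulAction.stabilizer G (1 : DihedralGroup m), g • x = y)
    (hprim : MulAction.IsPreprimitive G Ω) (D : Subgroup G) (m : ℕ)
    (hD : Nonempty (↥D ≃* DihedralGroup m))
    (hDreg : MulAction.IsPretransitive ↥D Ω ∧ ∀ a : Ω, MulAction.stabilizer ↥D a = ⊥) :
    MulAction.IsMultiplyPretransitive G Ω 2 := by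
  classical
  rcases isEmpty_or_nonempty Ω with hemp | hne
  · rw [is_two_pretransitive_iff]
    intro a
    exact isEmptyElim a
  obtain ⟨ω₀⟩ := hne
  obtain ⟨φ⟩ := hD
  have hCt := hDreg.1
  have hinj : Function.Injective (fun c : D => c • ω₀) := by
    intro c c' h
    have h' : c • ω₀ = c' • ω₀ := h
    have : c'⁻¹ * c ∈ stabilizer ↥D ω₀ := by
      rw [mem_stabilizer_iff, mul_smul, h', inv_smul_smul]
    rw [hDreg.2 ω₀, Subgroup.mem_bot] at this
    exact (inv_mul_eq_one.mp this).symm
  have hsurj : Function.Surjective (fun c : D => c • ω₀) := fun ω => exists_smul_eq ↥D ω₀ ω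
  let e0 : D ≃ Ω := Equiv.ofBijective _ ⟨hinj, hsurj⟩
  let e : DihedralGroup m ≃ Ω := φ.symm.toEquiv.trans e0
  have he : ∀ x : DihedralGroup m, e x = (φ.symm x : D) • ω₀ := fun x => rfl
  have hfin : Finite (DihedralGroup m) := Finite.of_equiv Ω e.symm
  have hm : NeZero m := by
    constructor
    rintro rfl
    have : Infinite (DihedralGroup 0) := by
      apply Infinite.of_injective (fun i : ℤ => (DihedralGroup.r (i : ZMod 0) : DihedralGroup 0))
      intro i j hij
      have := DihedralGroup.r.inj hij
      exact this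
    exact not_finite (DihedralGroup 0)
  let act : MulAction G (DihedralGroup m) := e.mulAction G
  have hact : ∀ (g : G) (c : DihedralGroup m), e (g • c) = g • e c := by
    intro g c
    simp [Equiv.smul_def]
  let ι : DihedralGroup m →* G := D.subtype.comp φ.symm.toMonoidHom
  have hι : ∀ h x : DihedralGroup m, ι h • x = h * x := by
    intro h x
    apply e.injective
    rw [hact, he, he, map_mul, mul_smul]
    rfl
  let f : Ω →ₑ[@id G] DihedralGroup m :=
    { toFun := e.symm
      map_smul' := by
        intro g ω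
        apply e.injective
        rw [hact]
        simp }
  have hprim' : IsPreprimitive G (DihedralGroup m) :=
    IsPreprimitive.of_surjective (f := f) e.symm.surjective
  have key' := @key m hm act ι hι hprim'
  have htr : IsPretransitive G Ω := hprim.toIsPretransitive
  rw [is_two_pretransitive_iff]
  intro a b c d hab hcd
  obtain ⟨g₁, hg₁⟩ := exists_smul_eq G a ω₀
  obtain ⟨g₂, hg₂⟩ := exists_smul_eq G c ω₀
  have he1 : e 1 = ω₀ := by rw [he, map_one, one_smul]
  have hx : e.symm (g₁ • b) ≠ 1 := by
    intro h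
    have : g₁ • b = ω₀ := by rw [← he1, ← h, Equiv.apply_symm_apply]
    rw [← hg₁] at this
    exact hab (MulAction.injective g₁ this).symm
  have hy : e.symm (g₂ • d) ≠ 1 := by
    intro h
    have : g₂ • d = ω₀ := by rw [← he1, ← h, Equiv.apply_symm_apply]
    rw [← hg₂] at this
    exact hcd (MulAction.injective g₂ this).symm
  obtain ⟨g, hg, hgxy⟩ := key' _ _ hx hy
  have hg0 : g • ω₀ = ω₀ := by
    have := congrArg e (mem_stabilizer_iff.mp hg)
    rwa [hact, he1] at this
  have hgb : g • (g₁ • b) = g₂ • d := by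
    have := congrArg e hgxy
    rwa [hact, Equiv.apply_symm_apply, Equiv.apply_symm_apply] at this
  refine ⟨g₂⁻¹ * g * g₁, ?_, ?_⟩
  · rw [mul_smul, mul_smul, hg₁, hg0, ← hg₂, inv_smul_smul]
  · rw [mul_smul, mul_smul, hgb, inv_smul_smul]

end Cfsg.Agent.Helper59.Sr
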