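import Mathlib

set_option autoImplicit false

/-!
# A Sylow 3-subgroup of `S_n` contains `⌊n/3⌋` pairwise disjoint 3-cycles
-/

namespace Cfsg.Agent.Helper59.ThreeCyc

open Equiv Equiv.Perm

/-- the standard 3-cycle `(3j, 3j+1, 3j+2)` -/
def stdCyc (n : ℕ) (j : Fin (n / 3)) : Perm (Fin n) :=
  swap (⟨3 * j.val, by have := j.2; omega⟩ : Fin n) ⟨3 * j.val + 1, by have := j.2; omega⟩ *
    swap (⟨3 * j.val, by have := j.2; omega⟩ : Fin n) ⟨3 * j.val + 2, by have := j.2; omega⟩

theorem stdCyc_isThreeCycle (n : ℕ) (j : Fin (n / 3)) : (stdCyc n j).IsThreeCycle := by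
  apply isThreeCycle_swap_mul_swap_same
  · intro h; have := congrArg Fin.val h; simp at this
  · intro h; have := congrArg Fin.val h; simp at this
  · intro h; have := congrArg Fin.val h; simp at this

theorem stdCyc_apply_of_ne (n : ℕ) (j : Fin (n / 3)) (x : Fin n) (hx : x.val / 3 ≠ j.val) :
    stdCyc n j x = x := by
  unfold stdCyc
  have h0 : x ≠ (⟨3 * j.val, by have := j.2; omega⟩ : Fin n) := by
    intro h; have := congrArg Fin.val h; simp at this; omega
  have h1 : x ≠ (⟨3 * j.val + 1, by have := j.2; omega⟩ : Fin n) := by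
    intro h; have := congrArg Fin.val h; simp at this; omega
  have h2 : x ≠ (⟨3 * j.val + 2, by have := j.2; omega⟩ : Fin n) := by
    intro h; have := congrArg Fin.val h; simp at this; omega
  rw [Perm.mul_apply, swap_apply_of_ne_of_ne h0 h2, swap_apply_of_ne_of_ne h0 h1]

theorem stdCyc_disjoint (n : ℕ) (i j : Fin (n / 3)) (hij : i ≠ j) :
    Perm.Disjoint (stdCyc n i) (stdCyc n j) := by
  intro x
  by_cases h : x.val / 3 = i.val
  · right
    apply stdCyc_apply_of_ne
    rw [h]
    exact fun h' => hij (Fin.ext h')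
  · left
    exact stdCyc_apply_of_ne n i x h

theorem isPGroup_closure_stdCyc (n : ℕ) :
    IsPGroup 3 ↥(Subgroup.closure (Set.range (stdCyc n))) := by
  have hcomm : ∀ x ∈ Set.range (stdCyc n), ∀ y ∈ Set.range (stdCyc n), x * y = y * x := by
    rintro _ ⟨i, rfl⟩ _ ⟨j, rfl⟩
    by_cases hij : i = j
    · rw [hij]
    · exact (stdCyc_disjoint n i j hij).commute.eq
  have hcomm' := Subgroup.isMulCommutative_closure hcomm
  have hall : ∀ g ∈ Subgroup.closure (Set.range (stdCyc n)), g ^ 3 = 1 := by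
    intro g hg
    induction hg using Subgroup.closure_induction with
    | mem x hx =>
      obtain ⟨j, rfl⟩ := hx
      rw [← (stdCyc_isThreeCycle n j).orderOf]
      exact pow_orderOf_eq_one _
    | one => exact one_pow 3
    | mul x y hx hy hx3 hy3 =>
      have hc : Commute x y := by
        have := hcomm'.is_comm.comm
          (⟨x, hx⟩ : ↥(Subgroup.closure (Set.range (stdCyc n)))) ⟨y, hy⟩
        exact congrArg Subtype.val this
      rw [hc.mul_pow, hx3, hy3, one_mul]
    | inv x _ hx3 => rw [inv_pow, hx3, inv_one]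
  intro g
  refine ⟨1, ?_⟩
  apply Subtype.ext
  rw [pow_one, Subgroup.coe_pow, Subgroup.coe_one]
  exact hall g.1 g.2

/-- every Sylow 3-subgroup of `S_n` contains `n / 3` pairwise disjoint 3-cycles -/
theorem exists_disjoint_threeCycles (n : ℕ) (P : Sylow 3 (Perm (Fin n))) :
    ∃ c : Fin (n / 3) → Perm (Fin n), (∀ j, (c j).IsThreeCycle ∧ c j ∈ P) ∧
      ∀ i j, i ≠ j → Perm.Disjoint (c i) (c j) := by
  obtain ⟨Q, hQ⟩ := (isPGroup_closure_stdCyc n).exists_le_sylow
  obtain ⟨g, hg⟩ := MulAction.exists_smul_eq (Perm (Fin n)) Q P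
  refine ⟨fun j => g * stdCyc n j * g⁻¹, ?_, ?_⟩
  · intro j
    refine ⟨?_, ?_⟩
    · have := stdCyc_isThreeCycle n j
      unfold IsThreeCycle at this ⊢
      rwa [cycleType_conj]
    · rw [← hg]
      show g * stdCyc n j * g⁻¹ ∈ ((g • Q : Sylow 3 (Perm (Fin n))) : Subgroup (Perm (Fin n)))
      rw [Sylow.coe_subgroup_smul, Subgroup.mem_pointwise_smul_iff_inv_smul_mem]
      have h1 : stdCyc n j ∈ (Q : Subgroup (Perm (Fin n))) :=
        hQ (Subgroup.subset_closure ⟨j, rfl⟩)
      have h2 : (MulAut.conj g)⁻¹ • (g * stdCyc n j * g⁻¹) = stdCyc n j := by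
        rw [MulAut.smul_def, MulAut.conj_inv_apply]
        group
      rw [h2]; exact h1
  · intro i j hij x
    rcases stdCyc_disjoint n i j hij (g⁻¹ x) with h | h
    · left
      rw [Perm.mul_apply, Perm.mul_apply, h]
      simp
    · right
      rw [Perm.mul_apply, Perm.mul_apply, h]
      simp

end Cfsg.Agent.Helper59.ThreeCyc
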