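import Cfsg.Agent.Helper6.Sz45
import Cfsg.Agent.Helper6.Sz26
import Cfsg.Agent.Helper6.Sz7
import Cfsg.Agent.Helper86.PG63.F8

/-!
# Helper59: piece (T2) of helper96's S2112 plan

The Suzuki group over the concrete field `F8` is isomorphic to `Lie.Sz F 4` for every field `F`
with 8 elements.
-/

set_option autoImplicit false

namespace Cfsg.Agent.Helper59.Sz8

open Cfsg.Agent.Helper6

open Cfsg.Agent.Helper86.PG63 in
theorem nonempty_mulEquiv_lieSz {F : Type*} [Field F] [Fintype F] (hF : Fintype.card F = 8) :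
    Nonempty (Cfsg.Sz F8 1 ≃* ↥(Cfsg.Lie.Sz F 4)) := by
  have hF' : Fintype.card F = 2 ^ (2 * 1 + 1) := by rw [hF]; norm_num
  have hcard : Fintype.card F8 = Fintype.card F := by rw [F8.card_eq', hF']
  let ι : F8 →+* F := (FiniteField.ringEquivOfCardEq hcard).toRingHom
  let φ : Cfsg.Sz F8 1 →* Cfsg.Sz F 1 :=
    szEmb (m := 1) (k := 1) le_rfl hF' le_rfl F8.card_eq' (dvd_refl _) ι
  have hinj : Function.Injective φ :=
    szEmb_injective (m := 1) (k := 1) le_rfl hF' le_rfl F8.card_eq' (dvd_refl _) ι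
  have hc : Nat.card (Cfsg.Sz F 1) ≤ Nat.card (Cfsg.Sz F8 1) := by
    rw [card_Sz le_rfl hF', card_Sz le_rfl F8.card_eq', hcard]
  have hbij : Function.Bijective φ := hinj.bijective_of_nat_card_le hc
  exact ⟨(MulEquiv.ofBijective φ hbij).trans (lieSzEquiv le_rfl hF')⟩

end Cfsg.Agent.Helper59.Sz8
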