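import Cfsg.Agent.Helper6.SzChar0
import Cfsg.Agent.Helper74.CharBasic
import Cfsg.Agent.Helper74.CharComplete

/-!
# [GA], [GB] of helper6's S4775 farm (#11435): Parseval for class functions, conjugation
-/

set_option autoImplicit false

namespace Cfsg.Agent.Helper59.Szc

open Cfsg
open scoped ComplexConjugate

universe u

variable {X : Type u} [Group X] [Fintype X]

/-- GA: Parseval -/
theorem szc_parseval [Fintype (IrrCharacter X)] (f f' : X → ℂ) (hf : IsClassFunction X f)
    (hf' : IsClassFunction X f') :
    classInner f f' = ∑ χ : IrrCharacter X, classInner f (χ : X → ℂ) *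
      conj (classInner f' (χ : X → ℂ)) := by
  conv_lhs => rw [Cfsg.Agent.Helper74.classFunction_eq_sum_irr hf']
  rw [Cfsg.Agent.Helper74.classInner_sum_right]
  refine Finset.sum_congr rfl (fun χ _ => ?_)
  rw [Cfsg.Agent.Helper74.classInner_smul_right, mul_comm]

/-- GB: conjugation -/
theorem szc_inner_conj (f β : X → ℂ) :
    classInner (fun x => conj (f x)) (fun x => conj (β x)) = conj (classInner f β) := by
  unfold classInner
  rw [map_mul, map_inv₀, Complex.conj_natCast, map_sum]
  congr 1
  refine Finset.sum_congr rfl (fun x _ => ?_)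
  rw [map_mul]

end Cfsg.Agent.Helper59.Szc
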