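-- helper59: piece (FIXF) `frobK_fix` of helper36's TORD farm #13634 (helper80's S2372/S2375).
import Cfsg.Agent.Helper36.TorD.Defs

set_option autoImplicit false

namespace Cfsg.Agent.Helper59.TorD

open Cfsg Cfsg.Lie Cfsg.Agent.Helper18 Cfsg.Agent.Helper19.Cox Cfsg.Agent.Helper19.Poinc
  Cfsg.Agent.Helper80.Tor Cfsg.Agent.Helper36.TorD

section Fields

variable {F K : Type*} [Field F] [Fintype F] [Field K] [Fintype K] [Algebra F K]

open Polynomial in
/-- (FIXF) the fixed field of the Frobenius `x ↦ x ^ #F` of `K` is the image of `F` -/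
theorem frobK_fix (x : K) : frobK F K x = x ↔ x ∈ Set.range (algebraMap F K) := by
  classical
  rw [frobK_apply]
  constructor
  · intro hx
    have hq1 : 1 < Fintype.card F := Fintype.one_lt_card
    have hP0 : (X ^ Fintype.card F - X : K[X]) ≠ 0 := FiniteField.X_pow_card_sub_X_ne_zero K hq1
    have hdeg : (X ^ Fintype.card F - X : K[X]).natDegree = Fintype.card F :=
      FiniteField.X_pow_card_sub_X_natDegree_eq K hq1
    have hRcard : (Finset.univ.image (algebraMap F K)).card = Fintype.card F := by
      rw [Finset.card_image_of_injective _ (algebraMap F K).injective, Finset.card_univ]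
    have hRsub : Finset.univ.image (algebraMap F K) ⊆
        (X ^ Fintype.card F - X : K[X]).roots.toFinset := by
      intro y hy
      rw [Finset.mem_image] at hy
      obtain ⟨a, -, rfl⟩ := hy
      rw [Multiset.mem_toFinset, Polynomial.mem_roots hP0, Polynomial.IsRoot.def]
      simp only [eval_sub, eval_pow, eval_X]
      rw [← map_pow, FiniteField.pow_card, sub_self]
    have hcard : (X ^ Fintype.card F - X : K[X]).roots.toFinset.card ≤
        (Finset.univ.image (algebraMap F K)).card := by
      rw [hRcard]
      calc (X ^ Fintype.card F - X : K[X]).roots.toFinset.card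
          ≤ Multiset.card (X ^ Fintype.card F - X : K[X]).roots := Multiset.toFinset_card_le _
        _ ≤ (X ^ Fintype.card F - X : K[X]).natDegree := Polynomial.card_roots' _
        _ = Fintype.card F := hdeg
    have heq := Finset.eq_of_subset_of_card_le hRsub hcard
    have hxmem : x ∈ (X ^ Fintype.card F - X : K[X]).roots.toFinset := by
      rw [Multiset.mem_toFinset, Polynomial.mem_roots hP0, Polynomial.IsRoot.def]
      simp only [eval_sub, eval_pow, eval_X]
      rw [hx, sub_self]
    rw [← heq, Finset.mem_image] at hxmem
    obtain ⟨a, -, ha⟩ := hxmem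
    exact ⟨a, ha⟩
  · rintro ⟨a, rfl⟩
    rw [← map_pow, FiniteField.pow_card]

end Fields

end Cfsg.Agent.Helper59.TorD
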