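-- helper59: piece (WORD) `word_conj` of helper36's TORD farm #13634 (helper80's S2372/S2375).
import Cfsg.Agent.Helper36.TorD.Defs
import Cfsg.Agent.Helper10.TorD_STEP

set_option autoImplicit false

namespace Cfsg.Agent.Helper59.TorD

open Cfsg Cfsg.Lie Cfsg.Agent.Helper18 Cfsg.Agent.Helper19.Cox Cfsg.Agent.Helper19.Poinc
  Cfsg.Agent.Helper80.Tor Cfsg.Agent.Helper36.TorD

section Fields

variable {F K : Type*} [Field F] [Fintype F] [Field K] [Fintype K] [Algebra F K]

variable (D : ChevalleyDatum)
  (hD : D ∈ [chevG2, chevB2, chevD4, chevF4, chevE6, chevE7, chevE8])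
include hD

omit [Fintype K] hD in
theorem WORD_nWordsGL_cons (i : ℕ) (w : List ℕ) :
    nWordsGL D K (i :: w) = nWordsGL D K [i] * nWordsGL D K w := by
  unfold nWordsGL
  rw [List.map_cons, List.prod_cons, List.map_cons, List.map_nil, List.prod_singleton]

omit hD in
theorem WORD_wordM_snoc (i : ℕ) (w : List ℕ) :
    wordM D (w ++ [i]) = wordM D w * refM D i := by
  unfold wordM
  rw [List.map_append, List.prod_append, List.map_cons, List.map_nil, List.prod_singleton]

/-- (WORD) words act through the product of the `refM` in reverse order -/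
theorem word_conj (hcr : cartanReflOK D = true) (w : List ℕ) (hw : ∀ i ∈ w, i < D.rank)
    (c : Fin D.rank → Kˣ) :
    nWordsGL D K w * torusHom D K c * (nWordsGL D K w)⁻¹ = torusHom D K (zact (wordM D w.reverse) c) := by
  induction w with
  | nil =>
    have h1 : nWordsGL D K [] = 1 := by
      unfold nWordsGL
      rw [List.map_nil, List.prod_nil]
    have h2 : wordM D ([] : List ℕ).reverse = 1 := by
      unfold wordM
      rw [List.reverse_nil, List.map_nil, List.prod_nil]
    rw [h1, h2, zact_one, one_mul, inv_one, mul_one]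
  | cons i w ih =>
    have hi : i < D.rank := hw i (List.mem_cons_self)
    have hw' : ∀ j ∈ w, j < D.rank := fun j hj => hw j (List.mem_cons_of_mem _ hj)
    have ih' := ih hw'
    have hstep := Cfsg.Agent.Helper10.TorD.step_conj (K := K) D hD hcr i hi
      (zact (wordM D w.reverse) c)
    rw [WORD_nWordsGL_cons, List.reverse_cons, WORD_wordM_snoc, zact_mul, ← hstep, ← ih']
    group

end Fields

end Cfsg.Agent.Helper59.TorD
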