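import Cfsg.Agent.Helper39.U34.Data

/-!
# Helper59 / U3(4): `w0 ∈ W` (piece (W) of helper39's S3663 plan)

All `65 * 64 / 2` block sums of `w0` vanish mod 5.  The check is done by a fast `Nat`-coded
checker (multiplication table as one 1024-bit literal) run by `decide +kernel`; the bridge to
`bsum`/`det3` is proved generically.
-/

set_option autoImplicit false

namespace Cfsg.Agent.Helper59.U34W

open Cfsg.Agent.Helper39.U34

/-- the multiplication table of `GF16`: nibble `16 a + b` is `a * b` -/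
def MT : ℕ :=
  116196760129267793630862849262464326346044543732748708940920453221664288556434379745879494961270582141731748813355742142288220638766218855867759359510984593843506004200114943278699875244065120512813025380665946106619127097398772031257643617143689515450995722003729973585221105779229319991106539050771048038400

/-- table multiplication -/
def mulT (a b : ℕ) : ℕ := (MT >>> (4 * (16 * a + b))) &&& 15

/-- addition on raw numbers -/
def addT (a b : ℕ) : ℕ := (a ^^^ b) % 16

theorem mulT_eq : ∀ a < 16, ∀ b < 16, mulT a b = GF16.mulN a b := by decide +kernel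

theorem n_mul (x y : GF16) : (x * y).n = mulT x.n y.n := (mulT_eq x.n x.h y.n y.h).symm

theorem n_add (x y : GF16) : (x + y).n = addT x.n y.n := rfl

theorem addT_lt (a b : ℕ) : addT a b < 16 := Nat.mod_lt _ (by decide)

/-- coordinates of a code -/
def k0 (c : ℕ) : ℕ := c % 16
/-- coordinates of a code -/
def k1 (c : ℕ) : ℕ := c / 16 % 16
/-- coordinates of a code -/
def k2 (c : ℕ) : ℕ := c / 256 % 16

theorem mkVec_n0 (c : ℕ) : (mkVec c 0).n = k0 c := rfl
theorem mkVec_n1 (c : ℕ) : (mkVec c 1).n = k1 c := rfl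
theorem mkVec_n2 (c : ℕ) : (mkVec c 2).n = k2 c := rfl

/-- the code of the "cross product" (no signs) of two coded vectors -/
def crossN (a b : ℕ) : ℕ :=
  addT (mulT (k1 a) (k2 b)) (mulT (k2 a) (k1 b)) +
    16 * addT (mulT (k0 a) (k2 b)) (mulT (k2 a) (k0 b)) +
    256 * addT (mulT (k0 a) (k1 b)) (mulT (k1 a) (k0 b))

/-- the dot product of two coded vectors -/
def dotN (x c : ℕ) : ℕ :=
  addT (addT (mulT (k0 x) (k0 c)) (mulT (k1 x) (k1 c))) (mulT (k2 x) (k2 c))

theorem k0_crossN (a b : ℕ) :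
    k0 (crossN a b) = addT (mulT (k1 a) (k2 b)) (mulT (k2 a) (k1 b)) := by
  have h0 := addT_lt (mulT (k1 a) (k2 b)) (mulT (k2 a) (k1 b))
  have h1 := addT_lt (mulT (k0 a) (k2 b)) (mulT (k2 a) (k0 b))
  have h2 := addT_lt (mulT (k0 a) (k1 b)) (mulT (k1 a) (k0 b))
  unfold k0 crossN; omega

theorem k1_crossN (a b : ℕ) :
    k1 (crossN a b) = addT (mulT (k0 a) (k2 b)) (mulT (k2 a) (k0 b)) := by
  have h0 := addT_lt (mulT (k1 a) (k2 b)) (mulT (k2 a) (k1 b))
  have h1 := addT_lt (mulT (k0 a) (k2 b)) (mulT (k2 a) (k0 b))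
  have h2 := addT_lt (mulT (k0 a) (k1 b)) (mulT (k1 a) (k0 b))
  unfold k1 crossN; omega

theorem k2_crossN (a b : ℕ) :
    k2 (crossN a b) = addT (mulT (k0 a) (k1 b)) (mulT (k1 a) (k0 b)) := by
  have h0 := addT_lt (mulT (k1 a) (k2 b)) (mulT (k2 a) (k1 b))
  have h1 := addT_lt (mulT (k0 a) (k2 b)) (mulT (k2 a) (k0 b))
  have h2 := addT_lt (mulT (k0 a) (k1 b)) (mulT (k1 a) (k0 b))
  unfold k2 crossN; omega

theorem det3_eq (u v w : Vec) :
    det3 u v w = (u 1 * v 2 + u 2 * v 1) * w 0 + (u 0 * v 2 + u 2 * v 0) * w 1 +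
      (u 0 * v 1 + u 1 * v 0) * w 2 := by
  unfold det3; ring

theorem det3_symm (u v w : Vec) : det3 u v w = det3 v u w := by
  unfold det3; ring

theorem det3_n (a b c : ℕ) : (det3 (mkVec a) (mkVec b) (mkVec c)).n = dotN (crossN a b) c := by
  rw [det3_eq]
  simp only [n_mul, n_add, mkVec_n0, mkVec_n1, mkVec_n2]
  unfold dotN
  rw [k0_crossN, k1_crossN, k2_crossN]

theorem det3_eq_zero_iff (a b c : ℕ) :
    det3 (mkVec a) (mkVec b) (mkVec c) = 0 ↔ dotN (crossN a b) c = 0 := by
  rw [← det3_n]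
  constructor
  · intro h; rw [h]; rfl
  · intro h
    cases hx : det3 (mkVec a) (mkVec b) (mkVec c) with
    | mk n hn =>
      rw [hx] at h
      change n = 0 at h
      subst h
      rfl

/-- generic: a sum over `Fin n` of a function of two `getD`-tables is a `zipWith` sum -/
theorem sum_getD_eq (F : ℕ → ℕ → ℕ) :
    ∀ (n : ℕ) (l1 l2 : List ℕ), l1.length = n → l2.length = n →
      ∑ z : Fin n, F (l1.getD z.1 0) (l2.getD z.1 0) = (List.zipWith F l1 l2).sum := by
  intro n
  induction n with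
  | zero =>
    intro l1 l2 h1 h2
    rw [List.length_eq_zero_iff] at h1 h2
    subst h1 h2
    simp
  | succ n ih =>
    intro l1 l2 h1 h2
    match l1, l2, h1, h2 with
    | a :: l1, b :: l2, h1, h2 =>
      rw [Fin.sum_univ_succ]
      simp only [List.zipWith_cons_cons, List.sum_cons, Fin.val_zero, Fin.val_succ,
        List.getD_cons_zero, List.getD_cons_succ]
      rw [ih l1 l2 (by simpa using h1) (by simpa using h2)]

/-- the block sum, on codes -/
def sumN (x : ℕ) : ℕ :=
  (List.zipWith (fun c w => if w = 0 then 0 else if dotN x c = 0 then w else 0) ptCodes w0Tab).sum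

theorem bsum_eq (a b : Fin 65) :
    bsum w0 a b = ((sumN (crossN (ptCodes.getD a.1 0) (ptCodes.getD b.1 0)) : ℕ) : ZMod 5) := by
  unfold sumN
  rw [← sum_getD_eq _ 65 ptCodes w0Tab rfl rfl]
  unfold bsum
  rw [Nat.cast_sum]
  refine Finset.sum_congr rfl fun z _ => ?_
  have hz : Blk a b z ↔
      dotN (crossN (ptCodes.getD a.1 0) (ptCodes.getD b.1 0)) (ptCodes.getD z.1 0) = 0 :=
    det3_eq_zero_iff _ _ _
  by_cases hw : w0Tab.getD z.1 0 = 0
  · rw [if_pos hw]
    have : w0 z = 0 := by unfold w0; rw [hw, Nat.cast_zero]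
    rw [this, ite_self, Nat.cast_zero]
  rw [if_neg hw]
  by_cases h : dotN (crossN (ptCodes.getD a.1 0) (ptCodes.getD b.1 0)) (ptCodes.getD z.1 0) = 0
  · rw [if_pos (hz.2 h), if_pos h]; rfl
  · rw [if_neg (mt hz.1 h), if_neg h, Nat.cast_zero]

/-- the check for one pair of indices -/
def checkPair (a b : ℕ) : Bool :=
  sumN (crossN (ptCodes.getD a 0) (ptCodes.getD b 0)) % 5 == 0

/-- the check for all pairs `a < b` -/
def checkAll : Bool :=
  (List.range 65).all fun a => (List.range 65).all fun b => decide (b ≤ a) || checkPair a b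

theorem checkAll_eq : checkAll = true := by decide +kernel

theorem bsum_of_lt (a b : Fin 65) (h : a < b) : bsum w0 a b = 0 := by
  have h1 := checkAll_eq
  unfold checkAll at h1
  rw [List.all_eq_true] at h1
  have h2 := h1 a.1 (List.mem_range.2 a.2)
  rw [List.all_eq_true] at h2
  have h3 := h2 b.1 (List.mem_range.2 b.2)
  rw [Bool.or_eq_true, decide_eq_true_eq] at h3
  rcases h3 with h3 | h3
  · exact absurd h3 (not_le.2 h)
  · unfold checkPair at h3
    rw [bsum_eq, ZMod.natCast_eq_zero_iff]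
    exact Nat.dvd_of_mod_eq_zero (by simpa using h3)

theorem bsum_symm (w : Fin 65 → ZMod 5) (a b : Fin 65) : bsum w a b = bsum w b a := by
  unfold bsum
  refine Finset.sum_congr rfl fun z _ => ?_
  have hz : Blk a b z ↔ Blk b a z := by unfold Blk; rw [det3_symm]
  by_cases h : Blk b a z
  · rw [if_pos h, if_pos (hz.2 h)]
  · rw [if_neg h, if_neg (mt hz.1 h)]

/-- piece (W): `w0` lies in `W` -/
theorem w0_mem : w0 ∈ W := by
  intro a b hab
  rcases lt_or_gt_of_ne hab with h | h
  · exact bsum_of_lt a b h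
  · rw [bsum_symm]; exact bsum_of_lt b a h

end Cfsg.Agent.Helper59.U34W
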