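import Mathlib

/-!
# Uniform partitions fixed by permutations of prime order (helper59)

Criterion: a permutation `σ` of prime order `r` on `a * b` points with `|supp σ| = r * h` fixes a
partition into `b` blocks of size `a` iff there is `j` with `r * j ≤ b` and
`j * a ≤ h ≤ j * a + (b - r * j) * (a / r)`.
-/

set_option autoImplicit false

open Equiv Equiv.Perm

namespace Cfsg.Agent.Helper59.UniformPart

/-- for `σ ^ r = 1`, `r` prime, the moved points in a `σ`-invariant predicate number a multiple of `r` -/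
theorem dvd_card_filter_moved {α : Type*} [Fintype α] [DecidableEq α] (σ : Perm α) (r : ℕ)
    [Fact r.Prime] (hσ : σ ^ r = 1) (p : α → Prop) [DecidablePred p] (hp : ∀ x, p x ↔ p (σ x)) :
    r ∣ (Finset.univ.filter (fun x => p x ∧ σ x ≠ x)).card := by
  classical
  set τ : Perm {x // p x} := σ.subtypePerm (fun x => (hp x).symm) with hτ
  have hτr : τ ^ r ^ 1 = 1 := by
    rw [pow_one, hτ, subtypePerm_pow]
    ext x
    simp [hσ]
  have h1 := card_compl_support_modEq hτr
  have h2 : τ.support.card + τ.supportᶜ.card = Fintype.card {x // p x} := by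
    rw [Finset.card_add_card_compl]
  have h3 : τ.support.card = (Finset.univ.filter (fun x => p x ∧ σ x ≠ x)).card := by
    apply Finset.card_bij (fun (x : {x // p x}) _ => (x : α))
    · intro x hx
      simp only [Finset.mem_filter, Finset.mem_univ, true_and]
      refine ⟨x.2, ?_⟩
      rw [mem_support] at hx
      intro h
      apply hx
      apply Subtype.ext
      simpa [hτ] using h
    · intro x _ y _ h
      exact Subtype.ext h
    · intro x hx
      simp only [Finset.mem_filter, Finset.mem_univ, true_and] at hx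
      refine ⟨⟨x, hx.1⟩, ?_, rfl⟩
      rw [mem_support]
      intro h
      apply hx.2
      have := congrArg Subtype.val h
      simpa [hτ] using this
  rw [← h3]
  have h4 : τ.supportᶜ.card % r = Fintype.card {x // p x} % r := h1
  have h5 : (τ.support.card + τ.supportᶜ.card) % r = τ.supportᶜ.card % r := by rw [h2, h4]
  have : (τ.support.card + τ.supportᶜ.card) ≡ (0 + τ.supportᶜ.card) [MOD r] := by
    unfold Nat.ModEq; rw [zero_add]; exact h5
  have h6 := Nat.ModEq.add_right_cancel' _ this
  exact (Nat.modEq_zero_iff_dvd).1 h6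

/-- `r ∣ |supp σ|` when `σ ^ r = 1` -/
theorem dvd_card_support {α : Type*} [Fintype α] [DecidableEq α] (σ : Perm α) (r : ℕ)
    [Fact r.Prime] (hσ : σ ^ r = 1) : r ∣ σ.support.card := by
  have h := dvd_card_filter_moved σ r hσ (fun _ => True) (fun _ => Iff.rfl)
  have : (Finset.univ.filter (fun x => True ∧ σ x ≠ x)) = σ.support := by
    ext x; simp
  rwa [this] at h

/-- fibre decomposition of the support -/
theorem card_support_eq_sum {α β : Type*} [Fintype α] [DecidableEq α] [Fintype β] [DecidableEq β]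
    (σ : Perm α) (f : α → β) :
    σ.support.card = ∑ y, (Finset.univ.filter (fun x => f x = y ∧ σ x ≠ x)).card := by
  rw [Finset.card_eq_sum_card_fiberwise (f := f) (t := Finset.univ) (fun x _ => Finset.mem_univ _)]
  apply Finset.sum_congr rfl
  intro y _
  congr 1
  ext x
  simp [and_comm]

theorem moved_of_mem_support {α β : Type*} [DecidableEq β]
    (σ : Perm α) (f : α → β) (π : Perm β)
    (hπ : ∀ x, f (σ x) = π (f x)) (x : α) (hx : π (f x) ≠ f x) : σ x ≠ x := by
  intro h
  apply hx
  rw [← hπ, h]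

theorem necessity {α β : Type*} [Fintype α] [DecidableEq α] [Fintype β] [DecidableEq β]
    (a r : ℕ) [Fact r.Prime] (ha : 1 ≤ a) (σ : Perm α) (hσ : σ ^ r = 1) (f : α → β)
    (hf : ∀ y, (Finset.univ.filter (fun x => f x = y)).card = a) (π : Perm β)
    (hπ : ∀ x, f (σ x) = π (f x)) :
    ∃ j, r * j ≤ Fintype.card β ∧ r * (j * a) ≤ σ.support.card ∧
      σ.support.card ≤ r * (j * a + (Fintype.card β - r * j) * (a / r)) := by
  have hr : 0 < r := (Fact.out : r.Prime).pos
  have hsurj : Function.Surjective f := by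
    intro y
    have : 0 < (Finset.univ.filter (fun x => f x = y)).card := by rw [hf]; omega
    obtain ⟨x, hx⟩ := Finset.card_pos.1 this
    exact ⟨x, (Finset.mem_filter.1 hx).2⟩
  have hpow : ∀ n x, f ((σ ^ n) x) = (π ^ n) (f x) := by
    intro n
    induction n with
    | zero => intro x; simp
    | succ n ih => intro x; rw [pow_succ', pow_succ', Perm.mul_apply, Perm.mul_apply, hπ, ih]
  have hπr : π ^ r = 1 := by
    ext y
    obtain ⟨x, rfl⟩ := hsurj y
    rw [← hpow, hσ]
    simp
  obtain ⟨j, hj⟩ := dvd_card_support π r hπr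
  have hjb : r * j ≤ Fintype.card β := by
    rw [← hj]; exact Finset.card_le_univ _
  have hsum := card_support_eq_sum σ f
  rw [← Finset.sum_add_sum_compl π.support] at hsum
  have hS1 : ∑ y ∈ π.support, (Finset.univ.filter (fun x => f x = y ∧ σ x ≠ x)).card
      = r * (j * a) := by
    have : ∀ y ∈ π.support, (Finset.univ.filter (fun x => f x = y ∧ σ x ≠ x)).card = a := by
      intro y hy
      rw [← hf y]
      congr 1
      ext x
      simp only [Finset.mem_filter, Finset.mem_univ, true_and, and_iff_left_iff_imp]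
      intro hx
      subst hx
      exact moved_of_mem_support σ f π hπ x (mem_support.1 hy)
    rw [Finset.sum_congr rfl this, Finset.sum_const, hj, smul_eq_mul, mul_assoc]
  have hS2 : ∑ y ∈ π.supportᶜ, (Finset.univ.filter (fun x => f x = y ∧ σ x ≠ x)).card
      ≤ (Fintype.card β - r * j) * (r * (a / r)) := by
    have : ∀ y ∈ π.supportᶜ, (Finset.univ.filter (fun x => f x = y ∧ σ x ≠ x)).card
        ≤ r * (a / r) := by
      intro y hy
      have hy' : π y = y := by simpa using hy
      have hdvd := dvd_card_filter_moved σ r hσ (fun x => f x = y) (by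
        intro x
        constructor
        · intro h; rw [hπ, h, hy']
        · intro h
          rw [hπ] at h
          have : π (f x) = π y := by rw [h, hy']
          exact π.injective this)
      obtain ⟨c, hc⟩ := hdvd
      have hle : (Finset.univ.filter (fun x => f x = y ∧ σ x ≠ x)).card ≤ a := by
        rw [← hf y]
        apply Finset.card_le_card
        intro x
        simp only [Finset.mem_filter, Finset.mem_univ, true_and]
        exact fun h => h.1
      rw [hc] at hle ⊢
      have : c ≤ a / r := by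
        rw [Nat.le_div_iff_mul_le hr, mul_comm]; exact hle
      exact Nat.mul_le_mul_left r this
    calc _ ≤ ∑ y ∈ π.supportᶜ, r * (a / r) := Finset.sum_le_sum this
      _ = _ := by
        rw [Finset.sum_const, Finset.card_compl, hj, smul_eq_mul]
  refine ⟨j, hjb, ?_, ?_⟩
  · rw [hsum, hS1]; omega
  · rw [hsum, hS1]
    have : (Fintype.card β - r * j) * (r * (a / r)) = r * ((Fintype.card β - r * j) * (a / r)) := by
      ring
    rw [this] at hS2
    rw [mul_add]
    omega

theorem exists_perm_card_support {γ : Type*} [Fintype γ] [DecidableEq γ] (r : ℕ) [Fact r.Prime]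
    (c : ℕ) (hc : c * r ≤ Fintype.card γ) :
    ∃ g : Perm γ, g ^ r = 1 ∧ g.support.card = c * r := by
  have hr : r.Prime := Fact.out
  obtain ⟨g, hg⟩ := (Equiv.Perm.exists_with_cycleType_iff γ (m := Multiset.replicate c r)).2
    ⟨by simpa using hc, fun a ha => by rw [Multiset.eq_of_mem_replicate ha]; exact hr.two_le⟩
  refine ⟨g, ?_, ?_⟩
  · have : orderOf g ∣ r := by
      rw [← lcm_cycleType, hg]
      apply Multiset.lcm_dvd.2
      intro a ha
      rw [Multiset.eq_of_mem_replicate ha]
    exact orderOf_dvd_iff_pow_eq_one.1 this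
  · rw [← sum_cycleType, hg]
    simp

/-- distribute `w ≤ |S| * q` into parts of size at most `q` -/
theorem exists_distribution {ι : Type*} [DecidableEq ι] (q : ℕ) (S : Finset ι) :
    ∀ w, w ≤ S.card * q → ∃ c : ι → ℕ, (∀ t, c t ≤ q) ∧ ∑ t ∈ S, c t = w := by
  induction S using Finset.induction_on with
  | empty =>
    intro w hw
    refine ⟨fun _ => 0, fun _ => Nat.zero_le _, ?_⟩
    simp at hw
    simp [hw]
  | insert x S hx ih =>
    intro w hw
    rw [Finset.card_insert_of_notMem hx] at hw
    by_cases hw' : w ≤ S.card * q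
    · obtain ⟨c, hc1, hc2⟩ := ih w hw'
      refine ⟨Function.update c x 0, ?_, ?_⟩
      · intro t
        by_cases ht : t = x
        · subst ht; simp
        · rw [Function.update_of_ne ht]; exact hc1 t
      · rw [Finset.sum_insert hx, Function.update_self, zero_add, ← hc2]
        apply Finset.sum_congr rfl
        intro t ht
        rw [Function.update_of_ne]
        rintro rfl
        exact hx ht
    · push Not at hw'
      obtain ⟨c, hc1, hc2⟩ := ih (S.card * q) le_rfl
      refine ⟨Function.update c x (w - S.card * q), ?_, ?_⟩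
      · intro t
        by_cases ht : t = x
        · subst ht
          rw [Function.update_self]
          have : (S.card + 1) * q = S.card * q + q := by ring
          omega
        · rw [Function.update_of_ne ht]; exact hc1 t
      · rw [Finset.sum_insert hx, Function.update_self]
        have : ∑ t ∈ S, Function.update c x (w - S.card * q) t = S.card * q := by
          rw [← hc2]
          apply Finset.sum_congr rfl
          intro t ht
          rw [Function.update_of_ne]
          rintro rfl
          exact hx ht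
        rw [this]
        omega

/-- two permutations with `r`-th power one and the same number of moved points on equinumerous
types are intertwined by a bijection -/
theorem exists_intertwine {α₀ α : Type*} [Fintype α₀] [DecidableEq α₀] [Fintype α] [DecidableEq α]
    (r : ℕ) [Fact r.Prime] (hcard : Fintype.card α₀ = Fintype.card α)
    (σ₀ : Perm α₀) (hσ₀ : σ₀ ^ r = 1) (σ : Perm α) (hσ : orderOf σ = r)
    (hs : σ₀.support.card = σ.support.card) :
    ∃ E : α₀ ≃ α, ∀ x, E (σ₀ x) = σ (E x) := by
  have hr : r.Prime := Fact.out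
  let e : α₀ ≃ α := Fintype.equivOfCardEq hcard
  set σ' : Perm α := e.permCongr σ₀ with hσ'
  have hpow : ∀ n : ℕ, σ' ^ n = e.permCongr (σ₀ ^ n) := by
    intro n
    have := map_pow e.permCongrHom σ₀ n
    simpa [Equiv.permCongrHom_coe] using this.symm
  have hσ'r : σ' ^ r = 1 := by
    rw [hpow, hσ₀]
    ext x
    simp
  have hsupp : σ'.support.card = σ₀.support.card := by
    apply Finset.card_bij (fun x _ => e.symm x)
    · intro x hx
      rw [mem_support] at hx ⊢
      intro h
      apply hx
      rw [hσ', Equiv.permCongr_apply, h]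
      simp
    · intro x _ y _ h
      exact e.symm.injective h
    · intro y hy
      refine ⟨e y, ?_, by simp⟩
      rw [mem_support] at hy ⊢
      intro h
      apply hy
      rw [hσ', Equiv.permCongr_apply] at h
      simpa using h
  have hσne : σ ≠ 1 := by
    intro h
    rw [h, orderOf_one] at hσ
    exact hr.one_lt.ne hσ
  have hσ'ne : σ' ≠ 1 := by
    intro h
    have h0 : σ.support.card = 0 := by rw [← hs, ← hsupp, h]; simp
    exact hσne (card_support_eq_zero.1 h0)
  have hσ'o : orderOf σ' = r := orderOf_eq_prime hσ'r hσ'ne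
  have hct : σ'.cycleType = σ.cycleType := by
    obtain ⟨n, hn⟩ := cycleType_prime_order (σ := σ) (by rw [hσ]; exact hr)
    obtain ⟨n', hn'⟩ := cycleType_prime_order (σ := σ') (by rw [hσ'o]; exact hr)
    rw [hσ] at hn
    rw [hσ'o] at hn'
    have h1 : σ.cycleType.sum = (n + 1) * r := by rw [hn, Multiset.sum_replicate, smul_eq_mul]
    have h2 : σ'.cycleType.sum = (n' + 1) * r := by rw [hn', Multiset.sum_replicate, smul_eq_mul]
    rw [sum_cycleType] at h1 h2
    have : (n' + 1) * r = (n + 1) * r := by rw [← h1, ← h2, hsupp, hs]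
    have : n' + 1 = n + 1 := Nat.eq_of_mul_eq_mul_right hr.pos this
    rw [hn, hn', this]
  obtain ⟨g, hg⟩ := isConj_iff.1 ((isConj_iff_cycleType_eq).2 hct)
  refine ⟨e.trans g, ?_⟩
  intro x
  have : σ = g * σ' * g⁻¹ := hg.symm
  rw [this]
  simp [hσ', Perm.mul_apply]

theorem prodShear_pow_apply {β γ : Type*} (π₀ : Perm β) (ρ' : β → Perm γ)
    (hρ : ∀ t, ρ' (π₀ t) = ρ' t) (n : ℕ) (t : β) (s : γ) :
    (((prodShear π₀ ρ' : Perm (β × γ)) ^ n) (t, s)) = ((π₀ ^ n) t, ((ρ' t) ^ n) s) := by
  have hρn : ∀ n : ℕ, ρ' ((π₀ ^ n) t) = ρ' t := by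
    intro n
    induction n with
    | zero => simp
    | succ n ih => rw [pow_succ', Perm.mul_apply, hρ, ih]
  induction n with
  | zero => simp
  | succ n ih =>
    rw [pow_succ', Perm.mul_apply, ih, prodShear_apply]
    simp only [hρn]
    rw [pow_succ', pow_succ', Perm.mul_apply, Perm.mul_apply]

theorem card_fibre_fst {β : Type*} [Fintype β] [DecidableEq β] (a : ℕ) (y : β) :
    (Finset.univ.filter (fun z : β × Fin a => z.1 = y)).card = a := by
  have : (Finset.univ.filter (fun z : β × Fin a => z.1 = y))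
      = (Finset.univ : Finset (Fin a)).map ⟨Prod.mk y, Prod.mk_right_injective y⟩ := by
    ext ⟨t, s⟩
    simp only [Finset.mem_filter, Finset.mem_univ, true_and, Finset.mem_map,
      Function.Embedding.coeFn_mk, Prod.mk.injEq]
    constructor
    · intro h; exact ⟨s, h.symm, rfl⟩
    · rintro ⟨s', h1, _⟩; exact h1.symm
  rw [this, Finset.card_map, Finset.card_univ, Fintype.card_fin]

theorem sufficiency {α β : Type*} [Fintype α] [DecidableEq α] [Fintype β] [DecidableEq β]
    (a r : ℕ) [Fact r.Prime] (hcard : Fintype.card α = a * Fintype.card β)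
    (σ : Perm α) (hσ : orderOf σ = r)
    (hc : ∃ j, r * j ≤ Fintype.card β ∧ r * (j * a) ≤ σ.support.card ∧
      σ.support.card ≤ r * (j * a + (Fintype.card β - r * j) * (a / r))) :
    ∃ f : α → β, (∀ y, (Finset.univ.filter (fun x => f x = y)).card = a) ∧
      ∃ π : Perm β, ∀ x, f (σ x) = π (f x) := by
  have hr : r.Prime := Fact.out
  obtain ⟨j, hj1, hj2, hj3⟩ := hc
  have hσr : σ ^ r = 1 := by rw [← hσ]; exact pow_orderOf_eq_one σ
  obtain ⟨h, hh⟩ := dvd_card_support σ r hσr
  rw [hh] at hj2 hj3
  have hj2' : j * a ≤ h := Nat.le_of_mul_le_mul_left hj2 hr.pos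
  have hj3' : h ≤ j * a + (Fintype.card β - r * j) * (a / r) :=
    Nat.le_of_mul_le_mul_left hj3 hr.pos
  obtain ⟨π₀, hπ₀r, hπ₀s⟩ := exists_perm_card_support (γ := β) r j (by rw [mul_comm]; exact hj1)
  obtain ⟨c, hc1, hc2⟩ := exists_distribution (a / r) (π₀.supportᶜ) (h - j * a) (by
    rw [Finset.card_compl, hπ₀s, mul_comm j r]; omega)
  have hρ : ∀ t, ∃ g : Perm (Fin a), g ^ r = 1 ∧ g.support.card = c t * r := fun t =>
    exists_perm_card_support r (c t) (by
      rw [Fintype.card_fin]
      calc c t * r ≤ (a / r) * r := Nat.mul_le_mul_right r (hc1 t)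
        _ ≤ a := Nat.div_mul_le_self a r)
  choose ρ hρ1 hρ2 using hρ
  let ρ' : β → Perm (Fin a) := fun t => if π₀ t = t then ρ t else 1
  have hρ' : ∀ t, ρ' (π₀ t) = ρ' t := by
    intro t
    by_cases ht : π₀ t = t
    · rw [ht]
    · have ht' : ¬ π₀ (π₀ t) = π₀ t := fun h => ht (π₀.injective h)
      simp only [ρ', if_neg ht, if_neg ht']
  let σ₀ : Perm (β × Fin a) := prodShear π₀ ρ'
  have hσ₀r : σ₀ ^ r = 1 := by
    ext ⟨t, s⟩ : 1
    rw [prodShear_pow_apply π₀ ρ' hρ', hπ₀r]
    have : ρ' t ^ r = 1 := by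
      by_cases ht : π₀ t = t
      · simp only [ρ', if_pos ht]; exact hρ1 t
      · simp only [ρ', if_neg ht]; exact one_pow r
    rw [this]
    rfl
  have hσ₀s : σ₀.support.card = σ.support.card := by
    rw [hh, card_support_eq_sum σ₀ Prod.fst, ← Finset.sum_add_sum_compl π₀.support]
    have h1 : ∀ y ∈ π₀.support,
        (Finset.univ.filter (fun z : β × Fin a => z.1 = y ∧ σ₀ z ≠ z)).card = a := by
      intro y hy
      refine Eq.trans ?_ (card_fibre_fst a y)
      congr 1
      ext z
      simp only [Finset.mem_filter, Finset.mem_univ, true_and, and_iff_left_iff_imp]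
      intro hz
      subst hz
      exact moved_of_mem_support σ₀ Prod.fst π₀ (fun _ => rfl) z (mem_support.1 hy)
    have h2 : ∀ y ∈ π₀.supportᶜ,
        (Finset.univ.filter (fun z : β × Fin a => z.1 = y ∧ σ₀ z ≠ z)).card = c y * r := by
      intro y hy
      have hy' : π₀ y = y := by simpa using hy
      rw [← hρ2 y]
      have : (Finset.univ.filter (fun z : β × Fin a => z.1 = y ∧ σ₀ z ≠ z))
          = (ρ y).support.map ⟨Prod.mk y, Prod.mk_right_injective y⟩ := by
        ext ⟨t, s⟩
        simp only [Finset.mem_filter, Finset.mem_univ, true_and, Finset.mem_map,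
          Function.Embedding.coeFn_mk, Prod.mk.injEq, mem_support]
        constructor
        · rintro ⟨h1, h2⟩
          subst h1
          refine ⟨s, ?_, rfl, rfl⟩
          intro h3
          apply h2
          show (π₀ t, ρ' t s) = (t, s)
          simp only [ρ', if_pos hy', hy', h3]
        · rintro ⟨s', h1, h2, h3⟩
          subst h2; subst h3
          refine ⟨rfl, ?_⟩
          intro h3
          apply h1
          have h4 : (π₀ y, ρ' y s') = (y, s') := h3
          simp only [ρ', if_pos hy', Prod.mk.injEq] at h4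
          exact h4.2
      rw [this, Finset.card_map]
    rw [Finset.sum_congr rfl h1, Finset.sum_congr rfl h2, Finset.sum_const, hπ₀s, smul_eq_mul,
      ← Finset.sum_mul, hc2]
    have : (h - j * a) * r = h * r - j * a * r := Nat.sub_mul _ _ _
    have : j * a * r ≤ h * r := Nat.mul_le_mul_right r hj2'
    rw [mul_comm r h]
    have e : j * r * a = j * a * r := by ring
    omega
  have hcard' : Fintype.card (β × Fin a) = Fintype.card α := by
    rw [Fintype.card_prod, Fintype.card_fin, hcard, mul_comm]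
  obtain ⟨E, hE⟩ := exists_intertwine r hcard' σ₀ hσ₀r σ hσ hσ₀s
  refine ⟨fun x => (E.symm x).1, ?_, π₀, ?_⟩
  · intro y
    refine Eq.trans ?_ (card_fibre_fst a y)
    apply Finset.card_bij (fun x _ => E.symm x)
    · intro x hx
      simpa using hx
    · intro x _ x' _ h
      exact E.symm.injective h
    · intro z hz
      exact ⟨E z, by simpa using hz, by simp⟩
  · intro x
    have : E.symm (σ x) = σ₀ (E.symm x) := by
      rw [E.symm_apply_eq, hE, E.apply_symm_apply]
    show (E.symm (σ x)).1 = π₀ (E.symm x).1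
    rw [this]
    rfl

theorem arith_suff (r q ℓ J k : ℕ) (hr : 2 ≤ r) (hℓ : ℓ < r) (hk : k < r)
    (hq : 1 ≤ q)
    (hc : ℓ = 0 ∨ (k * ℓ < r ∧ (J = 0 ∨ ℓ ≤ k * q + 1)))
    (h : ℕ) (hh : r * h ≤ (r * q + ℓ) * (r * J + k)) :
    ∃ j, r * j ≤ r * J + k ∧ j * (r * q + ℓ) ≤ h ∧
      h ≤ j * (r * q + ℓ) + (r * J + k - r * j) * q := by
  rcases hc with h0 | ⟨h1, h2⟩
  · subst h0
    refine ⟨0, by omega, by omega, ?_⟩
    simp only [Nat.mul_zero, Nat.zero_mul, Nat.zero_add, Nat.sub_zero, Nat.add_zero] at hh ⊢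
    have : r * h ≤ r * ((r * J + k) * q) := by
      calc r * h ≤ r * q * (r * J + k) := hh
        _ = r * ((r * J + k) * q) := by ring
    exact Nat.le_of_mul_le_mul_left this (by omega)
  · -- bound on h
    have hH : h ≤ q * (r * J + k) + ℓ * J := by
      have e : (r * q + ℓ) * (r * J + k) = r * (q * (r * J + k) + ℓ * J) + k * ℓ := by ring
      rw [e] at hh
      have : r * h < r * (q * (r * J + k) + ℓ * J + 1) := by
        calc r * h ≤ r * (q * (r * J + k) + ℓ * J) + k * ℓ := hh
          _ < r * (q * (r * J + k) + ℓ * J) + r := by omega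
          _ = r * (q * (r * J + k) + ℓ * J + 1) := by ring
      have := Nat.lt_of_mul_lt_mul_left this
      omega
    by_cases hJ : J * (r * q + ℓ) ≤ h
    · refine ⟨J, by omega, hJ, ?_⟩
      have : r * J + k - r * J = k := by omega
      rw [this]
      calc h ≤ q * (r * J + k) + ℓ * J := hH
        _ = J * (r * q + ℓ) + k * q := by ring
    · push Not at hJ
      have hapos : 0 < r * q + ℓ := by
        have : r * 1 ≤ r * q := Nat.mul_le_mul_left r hq
        omega
      set a := r * q + ℓ with ha
      have hj1 : (h / a) * a ≤ h := Nat.div_mul_le_self h a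
      have hj2 : h < (h / a + 1) * a := by
        have := Nat.lt_div_mul_add (a := h) hapos
        calc h < h / a * a + a := this
          _ = (h / a + 1) * a := by ring
      generalize h / a = j at hj1 hj2
      have hjJ : j < J := by
        by_contra hcon
        push Not at hcon
        have : J * a ≤ j * a := Nat.mul_le_mul_right a hcon
        omega
      have hJ0 : J ≠ 0 := by omega
      have h2' : ℓ ≤ k * q + 1 := by
        rcases h2 with h2 | h2
        · exact absurd h2 hJ0
        · exact h2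
      obtain ⟨d, hd⟩ := Nat.exists_eq_add_of_lt hjJ
      -- J = j + d + 1
      refine ⟨j, ?_, hj1, ?_⟩
      · have : r * j ≤ r * J := Nat.mul_le_mul_left r hjJ.le
        omega
      · have e1 : r * J + k - r * j = r * (d + 1) + k := by
          rw [hd]
          have : r * (j + d + 1) = r * j + r * (d + 1) := by ring
          omega
        rw [e1]
        have e2 : (j + 1) * a = j * a + r * q + ℓ := by rw [ha]; ring
        have e3 : (r * (d + 1) + k) * q = r * q + (r * d * q + k * q) := by ring
        rw [e3]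
        omega

theorem arith_nec (r q ℓ J k : ℕ) (hr : 2 ≤ r) (hℓ : ℓ < r) (hk : k < r)
    (ha : 2 ≤ r * q + ℓ) (hb : 2 ≤ r * J + k) (hrab : r ≤ (r * q + ℓ) * (r * J + k))
    (H : ∀ h, 1 ≤ h → r * h ≤ (r * q + ℓ) * (r * J + k) →
      ∃ j, r * j ≤ r * J + k ∧ j * (r * q + ℓ) ≤ h ∧
        h ≤ j * (r * q + ℓ) + (r * J + k - r * j) * q) :
    1 ≤ q ∧ (ℓ = 0 ∨ (k * ℓ < r ∧ (J = 0 ∨ ℓ ≤ k * q + 1))) := by
  have key : ∀ j, r * j ≤ r * J + k →
      j * (r * q + ℓ) + (r * J + k - r * j) * q = q * (r * J + k) + j * ℓ := by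
    intro j hj
    obtain ⟨N, hN⟩ := Nat.exists_eq_add_of_le hj
    rw [hN]
    have : r * j + N - r * j = N := by omega
    rw [this]
    ring
  have hjJ : ∀ j, r * j ≤ r * J + k → j ≤ J := by
    intro j hj
    by_contra hcon
    push Not at hcon
    have : r * (J + 1) ≤ r * j := Nat.mul_le_mul_left r hcon
    have e : r * (J + 1) = r * J + r := by ring
    omega
  have hq : 1 ≤ q := by
    obtain ⟨j, hj1, hj2, hj3⟩ := H 1 le_rfl (by omega)
    rw [key j hj1] at hj3
    have hj0 : j = 0 := by
      by_contra hne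
      have : 1 * (r * q + ℓ) ≤ j * (r * q + ℓ) := Nat.mul_le_mul_right _ (by omega)
      omega
    subst hj0
    by_contra hq0
    have : q = 0 := by omega
    subst this
    simp at hj3
  refine ⟨hq, ?_⟩
  by_contra hcon
  push Not at hcon
  obtain ⟨hℓ0, hcon⟩ := hcon
  by_cases hkl : k * ℓ < r
  · obtain ⟨hJ0, hlt⟩ := hcon hkl
    -- h = J * a - 1
    have hJa : 2 ≤ J * (r * q + ℓ) := by
      have : 1 * (r * q + ℓ) ≤ J * (r * q + ℓ) := Nat.mul_le_mul_right _ (by omega)
      omega
    obtain ⟨j, hj1, hj2, hj3⟩ := H (J * (r * q + ℓ) - 1) (by omega) (by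
      have : r * (J * (r * q + ℓ) - 1) ≤ r * (J * (r * q + ℓ)) := Nat.mul_le_mul_left r (by omega)
      have e : r * (J * (r * q + ℓ)) = (r * q + ℓ) * (r * J) := by ring
      have : (r * q + ℓ) * (r * J) ≤ (r * q + ℓ) * (r * J + k) := Nat.mul_le_mul_left _ (by omega)
      omega)
    rw [key j hj1] at hj3
    have hjlt : j < J := by
      by_contra hc2
      push Not at hc2
      have : J * (r * q + ℓ) ≤ j * (r * q + ℓ) := Nat.mul_le_mul_right _ hc2
      omega
    obtain ⟨d, hd⟩ := Nat.exists_eq_add_of_lt hjlt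
    subst hd
    have e1 : (j + d + 1) * (r * q + ℓ) = q * (r * (j + d + 1)) + j * ℓ + d * ℓ + ℓ := by ring
    have e2 : q * (r * (j + d + 1) + k) = q * (r * (j + d + 1)) + k * q := by ring
    rw [e1] at hj3
    rw [e2] at hj3
    omega
  · push Not at hkl
    -- h = q b + ℓ J + 1
    obtain ⟨j, hj1, hj2, hj3⟩ := H (q * (r * J + k) + ℓ * J + 1) (by omega) (by
      have e : (r * q + ℓ) * (r * J + k) = r * (q * (r * J + k) + ℓ * J) + k * ℓ := by ring
      rw [e]
      have e2 : r * (q * (r * J + k) + ℓ * J + 1) = r * (q * (r * J + k) + ℓ * J) + r := by ring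
      rw [e2]
      omega)
    rw [key j hj1] at hj3
    have := hjJ j hj1
    have : j * ℓ ≤ J * ℓ := Nat.mul_le_mul_right _ this
    have e3 : ℓ * J = J * ℓ := mul_comm _ _
    omega

theorem cond_iff (r q ℓ J k : ℕ) (hr : 2 ≤ r) (hk : k < r) (hb : 2 ≤ r * J + k) :
    (ℓ = 0 ∨ (k = 0 ∧ ℓ = 1) ∨ (ℓ ≠ 0 ∧ k ≠ 0 ∧ k * ℓ < r ∧
        (r * J + k < r ∨ (k + r) * ℓ ≤ k * (r * q + ℓ) + r)))
    ↔ (ℓ = 0 ∨ (k * ℓ < r ∧ (J = 0 ∨ ℓ ≤ k * q + 1))) := by
  have key : (k + r) * ℓ ≤ k * (r * q + ℓ) + r ↔ ℓ ≤ k * q + 1 := by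
    have e1 : (k + r) * ℓ = k * ℓ + r * ℓ := by ring
    have e2 : k * (r * q + ℓ) + r = k * ℓ + r * (k * q + 1) := by ring
    rw [e1, e2]
    constructor
    · intro h
      have : r * ℓ ≤ r * (k * q + 1) := by omega
      exact Nat.le_of_mul_le_mul_left this (by omega)
    · intro h
      have : r * ℓ ≤ r * (k * q + 1) := Nat.mul_le_mul_left r h
      omega
  have hJ : r * J + k < r ↔ J = 0 := by
    constructor
    · intro h
      by_contra hne
      have : r * 1 ≤ r * J := Nat.mul_le_mul_left r (by omega)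
      omega
    · intro h; subst h; omega
  rw [key, hJ]
  constructor
  · rintro (h | ⟨h1, h2⟩ | ⟨h1, h2, h3, h4⟩)
    · exact Or.inl h
    · subst h1; subst h2
      exact Or.inr ⟨by omega, Or.inr (by omega)⟩
    · exact Or.inr ⟨h3, h4⟩
  · rintro (h | ⟨h1, h2⟩)
    · exact Or.inl h
    · by_cases hℓ0 : ℓ = 0
      · exact Or.inl hℓ0
      · by_cases hk0 : k = 0
        · subst hk0
          have hJ0 : J ≠ 0 := by
            intro h; subst h; omega
          rcases h2 with h2 | h2
          · exact absurd h2 hJ0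
          · exact Or.inr (Or.inl ⟨rfl, by omega⟩)
        · exact Or.inr (Or.inr ⟨hℓ0, hk0, h1, h2⟩)

/-- the arithmetic equivalence, in terms of `a`, `b`, `r` -/
theorem good_iff (a b r : ℕ) (ha : 2 ≤ a) (hb : 2 ≤ b) (hr : 2 ≤ r) (hrab : r ≤ a * b) :
    (∀ h, 1 ≤ h → r * h ≤ a * b →
      ∃ j, r * j ≤ b ∧ j * a ≤ h ∧ h ≤ j * a + (b - r * j) * (a / r)) ↔
    (r ≤ a ∧ (a % r = 0 ∨ (b % r = 0 ∧ a % r = 1) ∨
        (a % r ≠ 0 ∧ b % r ≠ 0 ∧ (b % r) * (a % r) < r ∧
          (b < r ∨ (b % r + r) * (a % r) ≤ (b % r) * a + r)))) := by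
  have ea : a = r * (a / r) + a % r := (Nat.div_add_mod a r).symm
  have eb : b = r * (b / r) + b % r := (Nat.div_add_mod b r).symm
  have hℓ : a % r < r := Nat.mod_lt a (by omega)
  have hk : b % r < r := Nat.mod_lt b (by omega)
  generalize a / r = q at *
  generalize a % r = ℓ at *
  generalize b / r = J at *
  generalize b % r = k at *
  subst ea
  subst eb
  have hq : r ≤ r * q + ℓ ↔ 1 ≤ q := by
    constructor
    · intro h
      by_contra hq0
      have : q = 0 := by omega
      subst this
      omega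
    · intro h
      have : r * 1 ≤ r * q := Nat.mul_le_mul_left r h
      omega
  rw [hq, cond_iff r q ℓ J k hr hk hb]
  constructor
  · intro H
    exact arith_nec r q ℓ J k hr hℓ hk ha hb hrab H
  · rintro ⟨h1, h2⟩ h _ hh
    exact arith_suff r q ℓ J k hr hℓ hk h1 h2 h hh

/-- the main equivalence with fibres counted by `Finset.card` -/
theorem main_iff (a b r : ℕ) (ha : 2 ≤ a) (hb : 2 ≤ b) (hr : r.Prime) (hrab : r ≤ a * b) :
    (∀ σ : Perm (Fin (a * b)), orderOf σ = r →
        ∃ f : Fin (a * b) → Fin b,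
          (∀ y : Fin b, (Finset.univ.filter (fun x => f x = y)).card = a) ∧
          ∃ π : Perm (Fin b), ∀ x, f (σ x) = π (f x)) ↔
    (r ≤ a ∧ (a % r = 0 ∨ (b % r = 0 ∧ a % r = 1) ∨
        (a % r ≠ 0 ∧ b % r ≠ 0 ∧ (b % r) * (a % r) < r ∧
          (b < r ∨ (b % r + r) * (a % r) ≤ (b % r) * a + r)))) := by
  have : Fact r.Prime := ⟨hr⟩
  rw [← good_iff a b r ha hb hr.two_le hrab]
  constructor
  · intro H h hh1 hh2
    obtain ⟨σ, hσ1, hσ2⟩ := exists_perm_card_support (γ := Fin (a * b)) r h (by
      rw [Fintype.card_fin, mul_comm]; exact hh2)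
    have hσne : σ ≠ 1 := by
      intro h1
      rw [h1, support_one, Finset.card_empty] at hσ2
      have : 0 < h * r := Nat.mul_pos (by omega) hr.pos
      omega
    have hσo : orderOf σ = r := orderOf_eq_prime hσ1 hσne
    obtain ⟨f, hf, π, hπ⟩ := H σ hσo
    obtain ⟨j, hj1, hj2, hj3⟩ := necessity a r (by omega) σ hσ1 f hf π hπ
    rw [Fintype.card_fin] at hj1 hj3
    rw [hσ2, mul_comm h r] at hj2 hj3
    exact ⟨j, hj1, Nat.le_of_mul_le_mul_left hj2 hr.pos, Nat.le_of_mul_le_mul_left hj3 hr.pos⟩
  · intro H σ hσ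
    have hσr : σ ^ r = 1 := by rw [← hσ]; exact pow_orderOf_eq_one σ
    obtain ⟨h, hh⟩ := dvd_card_support σ r hσr
    have hσne : σ ≠ 1 := by
      intro h1
      rw [h1, orderOf_one] at hσ
      exact hr.one_lt.ne hσ
    have hh1 : 1 ≤ h := by
      by_contra hc
      have : h = 0 := by omega
      rw [this, mul_zero] at hh
      exact hσne (card_support_eq_zero.1 hh)
    have hh2 : r * h ≤ a * b := by
      rw [← hh]
      calc σ.support.card ≤ Fintype.card (Fin (a * b)) := Finset.card_le_univ _
        _ = a * b := Fintype.card_fin _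
    obtain ⟨j, hj1, hj2, hj3⟩ := H h hh1 hh2
    apply sufficiency a r (by rw [Fintype.card_fin, Fintype.card_fin]) σ hσ
    refine ⟨j, by rw [Fintype.card_fin]; exact hj1, ?_, ?_⟩
    · rw [hh]; exact Nat.mul_le_mul_left r hj2
    · rw [hh, Fintype.card_fin]; exact Nat.mul_le_mul_left r hj3

end Cfsg.Agent.Helper59.UniformPart
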