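import Mathlib
import Cfsg.Agent.S2587
import Cfsg.Agent.Helper13.UGen1
import Cfsg.Agent.Helper59.ExtraK

/-! # PSU_3(p): making the conjugator unitary -/

set_option autoImplicit false

namespace Cfsg.Agent.Helper59.PSU3

open Matrix
open Cfsg.Agent.Helper59.Extra
open Cfsg.Agent.S2587 (st st_apply st_mul st_one st_st st_smul det_st)

variable {F : Type*} [Field F] [Fintype F] {q : ℕ}

omit [Fintype F] in
/-- membership in `GU` via the conjugate transpose. -/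
theorem mem_GU_iff_st (bar : F →+* F) (hbar : ∀ x, bar x = x ^ q) (X : GL (Fin 3) F) :
    X ∈ Cfsg.GU 3 F q ↔ st bar X.1 * X.1 = 1 := by
  rw [Cfsg.Agent.S2677.mem_GU_iff_matrix 3 bar hbar X]
  constructor
  · intro h1
    have := congrArg Matrix.transpose h1
    rw [Matrix.transpose_mul, Matrix.transpose_transpose, Matrix.transpose_one] at this
    exact this
  · intro h1
    have := congrArg Matrix.transpose h1
    unfold st at this
    rw [Matrix.transpose_mul, Matrix.transpose_transpose, Matrix.transpose_one] at this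
    exact this

omit [Fintype F] in
theorem st_Xm (bar : F →+* F) : st bar (Xm F) = Xm F * Xm F := by
  ext i j
  fin_cases i <;> fin_cases j <;> simp [st_apply, Xm, Matrix.mul_apply, Fin.sum_univ_three]

omit [Fintype F] in
theorem st_Zm (bar : F →+* F) {l : F} (hbl : bar l = l ^ 2) : st bar (Zm l) = Zm l * Zm l := by
  unfold Zm
  rw [dg_mul]
  ext i j
  fin_cases i <;> fin_cases j <;> simp [st_apply, dg, hbl] <;> ring

omit [Fintype F] in
/-- the key identity for conjugates lying in `GU`. -/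
theorem st_mul_J (bar : F →+* F) (hbar : ∀ x, bar x = x ^ q) (P A : GL (Fin 3) F)
    (h : P * A * P⁻¹ ∈ Cfsg.GU 3 F q) :
    st bar A.1 * (st bar P.1 * P.1) * A.1 = st bar P.1 * P.1 := by
  rw [mem_GU_iff_st bar hbar] at h
  rw [Units.val_mul, Units.val_mul, st_mul, st_mul] at h
  have hPi : (P⁻¹ : GL (Fin 3) F).1 * P.1 = 1 := by
    rw [← Units.val_mul, inv_mul_cancel]; rfl
  have hst : st bar P.1 * st bar (P⁻¹ : GL (Fin 3) F).1 = 1 := by rw [← st_mul, hPi, st_one]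
  calc st bar A.1 * (st bar P.1 * P.1) * A.1
      = (st bar P.1 * st bar (P⁻¹ : GL (Fin 3) F).1) * (st bar A.1 * (st bar P.1 * P.1) * A.1) *
          ((P⁻¹ : GL (Fin 3) F).1 * P.1) := by rw [hst, hPi, one_mul, mul_one]
    _ = st bar P.1 * (st bar (P⁻¹ : GL (Fin 3) F).1 * (st bar A.1 * st bar P.1) *
          (P.1 * A.1 * (P⁻¹ : GL (Fin 3) F).1)) * P.1 := by simp only [mul_assoc]
    _ = st bar P.1 * P.1 := by rw [h, mul_one]

/-- the conjugator can be chosen unitary. -/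
theorem exists_unitary_conj {p : ℕ} (hF : Fintype.card F = p ^ 2) (hp3 : p % 3 = 2)
    {l : F} (hl : l ^ 2 + l + 1 = 0) (h3 : (3 : F) ≠ 0) (hl3 : l ^ 3 = 1) (Pg : GL (Fin 3) F)
    (R : Subgroup (GL (Fin 3) F)) (hRP : R = (R0 hl3).map (MulAut.conj Pg).toMonoidHom)
    (hRU : R ≤ Cfsg.GU 3 F p) :
    ∃ Pu : GL (Fin 3) F, Pu ∈ Cfsg.GU 3 F p ∧
      R = (R0 hl3).map (MulAut.conj Pu).toMonoidHom := by
  obtain ⟨bar, hbar⟩ := Cfsg.Agent.Helper45.GU.exists_bar hF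
  have hbar2 : ∀ x, bar (bar x) = x := by
    intro x
    rw [hbar, hbar, ← pow_mul, ← sq, ← hF, FiniteField.pow_card]
  have hbl : bar l = l ^ 2 := by
    rw [hbar]
    obtain ⟨k, hk⟩ : ∃ k, p = 3 * k + 2 := ⟨p / 3, by omega⟩
    rw [hk, pow_add, pow_mul, hl3, one_pow, one_mul]
  have hXU : Pg * Xg F * Pg⁻¹ ∈ Cfsg.GU 3 F p :=
    hRU (by rw [hRP]; exact Subgroup.mem_map.mpr ⟨Xg F, Xg_mem hl3, rfl⟩)
  have hZU : Pg * Zg hl3 * Pg⁻¹ ∈ Cfsg.GU 3 F p :=
    hRU (by rw [hRP]; exact Subgroup.mem_map.mpr ⟨Zg hl3, Zg_mem hl3, rfl⟩)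
  have hX := st_mul_J bar hbar Pg (Xg F) hXU
  have hZ := st_mul_J bar hbar Pg (Zg hl3) hZU
  set J := st bar Pg.1 * Pg.1 with hJ
  change st bar (Xm F) * J * Xm F = J at hX
  change st bar (Zm l) * J * Zm l = J at hZ
  rw [st_Xm] at hX
  rw [st_Zm bar hbl] at hZ
  have hJX : J * Xm F = Xm F * J := by
    calc J * Xm F = (Xm F * (Xm F * Xm F)) * J * Xm F := by rw [Xm_mul_Xm_mul_Xm, one_mul]
      _ = Xm F * (Xm F * Xm F * J * Xm F) := by simp only [mul_assoc]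
      _ = Xm F * J := by rw [hX]
  have hJZ : J * Zm l = Zm l * J := by
    calc J * Zm l = (Zm l * (Zm l * Zm l)) * J * Zm l := by rw [Zm_mul_Zm_mul_Zm hl3, one_mul]
      _ = Zm l * (Zm l * Zm l * J * Zm l) := by simp only [mul_assoc]
      _ = Zm l * J := by rw [hZ]
  obtain ⟨κ, hκ⟩ := scalar_of_commute_ZX hl h3 J hJZ hJX
  have hPdet := det_ne_zero_of_GL Pg
  have hJdet : J.det ≠ 0 := by
    rw [hJ, Matrix.det_mul, det_st]
    exact mul_ne_zero ((map_ne_zero bar).2 hPdet) hPdet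
  have hκ0 : κ ≠ 0 := by
    rintro rfl
    apply hJdet
    rw [hκ, zero_smul, Matrix.det_zero]
  have hJst : st bar J = J := by rw [hJ, st_mul, st_st bar hbar2]
  have hκbar : κ ^ p = κ := by
    rw [← hbar]
    have h := hJst
    rw [hκ, st_smul, st_one] at h
    have h00 := congrFun (congrFun h 0) 0
    simpa using h00
  obtain ⟨μ, hμ⟩ := Cfsg.Agent.Helper13.exists_norm_eq_of_fixed hF hκbar
  have hμ0 : μ ≠ 0 := by
    rintro rfl
    apply hκ0
    rw [← hμ, zero_mul]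
  refine ⟨scalarG μ⁻¹ (inv_ne_zero hμ0) * Pg, ?_, ?_⟩
  · rw [mem_GU_iff_st bar hbar, Units.val_mul]
    show st bar (μ⁻¹ • (1 : Matrix (Fin 3) (Fin 3) F) * Pg.1) *
      (μ⁻¹ • (1 : Matrix (Fin 3) (Fin 3) F) * Pg.1) = 1
    rw [Matrix.smul_mul, one_mul, st_smul, Matrix.smul_mul, Matrix.mul_smul, ← hJ, hκ, smul_smul,
      smul_smul, hbar, ← hμ]
    have : μ⁻¹ ^ p * μ⁻¹ * (μ * μ ^ p) = 1 := by
      have hμp : μ ^ p ≠ 0 := pow_ne_zero _ hμ0
      rw [inv_pow]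
      field_simp
    rw [this, one_smul]
  · rw [hRP]
    congr 1
    ext g : 1
    show Pg * g * Pg⁻¹ = scalarG μ⁻¹ (inv_ne_zero hμ0) * Pg * g * (scalarG μ⁻¹ (inv_ne_zero hμ0) * Pg)⁻¹
    symm
    apply conj_eq_of_mul_eq
    rw [Units.val_mul, Units.val_mul, Units.val_mul]
    show μ⁻¹ • (1 : Matrix (Fin 3) (Fin 3) F) * Pg.1 * g.1 =
      Pg.1 * g.1 * (Pg⁻¹ : GL (Fin 3) F).1 * (μ⁻¹ • (1 : Matrix (Fin 3) (Fin 3) F) * Pg.1)
    have hPi : (Pg⁻¹ : GL (Fin 3) F).1 * Pg.1 = 1 := by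
      rw [← Units.val_mul, inv_mul_cancel]; rfl
    rw [Matrix.smul_mul, one_mul, Matrix.smul_mul, Matrix.mul_smul, Matrix.mul_assoc (Pg.1 * g.1),
      hPi, mul_one]

end Cfsg.Agent.Helper59.PSU3
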