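import Mathlib
import Cfsg.Agent.Helper59.UnitA
import Cfsg.Agent.Helper5.UnitaryDet

/-! # PSU_3(p): transport of conjugacy to `GU ⊓ SL` -/

set_option autoImplicit false

namespace Cfsg.Agent.Helper59.PSU3

open Matrix
open Cfsg.Geo
open Cfsg.Agent.Helper59.Extra
open Cfsg.Agent.S2587 (st st_apply st_mul st_one st_st st_smul det_st)

variable {F : Type*} [Field F] [Fintype F]

/-- general transport: a `GL`-conjugacy to a unitary element of the normaliser of the standard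
group yields a conjugacy by an element of `GU ⊓ SL`. -/
theorem exists_su_conj {p : ℕ} (hF : Fintype.card F = p ^ 2) {l : F} (hl3 : l ^ 3 = 1)
    (Pu : GL (Fin 3) F) (hPu : Pu ∈ Cfsg.GU 3 F p)
    (R : Subgroup (GL (Fin 3) F)) (hRP : R = (R0 hl3).map (MulAut.conj Pu).toMonoidHom)
    (x : GL (Fin 3) F) (hxU : x ∈ Cfsg.GU 3 F p) (M : Matrix (Fin 3) (Fin 3) F) (hM : M.det ≠ 0)
    (t : GL (Fin 3) F) (hxM : x.1 * M = M * t.1) (htU : t ∈ Cfsg.GU 3 F p)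
    (htN : t ∈ Subgroup.normalizer (R0 hl3 : Set (GL (Fin 3) F)))
    (hu : ∀ d : F, d ^ (p + 1) = 1 →
      ∃ u : GL (Fin 3) F, u ∈ Cfsg.GU 3 F p ∧ u.1.det = d ∧ u * t = t * u) :
    ∃ g ∈ Cfsg.GU 3 F p ⊓ specialLinear (Fin 3) F, g⁻¹ * x * g ∈ subgroupNormalizer R := by
  let Mg : GL (Fin 3) F := glOfDet M hM
  have hMM : M⁻¹ * M = 1 := Matrix.nonsing_inv_mul M (isUnit_iff_ne_zero.mpr hM)
  have htM : Mg⁻¹ * x * Mg = t := by
    apply Units.ext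
    rw [Units.val_mul, Units.val_mul]
    show M⁻¹ * x.1 * M = t.1
    rw [Matrix.mul_assoc, hxM, ← Matrix.mul_assoc, hMM, one_mul]
  set T : GL (Fin 3) F := Pu * t * Pu⁻¹ with hT
  have hTU : T ∈ Cfsg.GU 3 F p := mul_mem (mul_mem hPu htU) (inv_mem hPu)
  have hTN : T ∈ subgroupNormalizer R := by
    have hN := Subgroup.map_equiv_normalizer_eq (R0 hl3) (MulAut.conj Pu)
    unfold subgroupNormalizer
    rw [hRP, ← hN]
    exact Subgroup.mem_map.mpr ⟨t, htN, rfl⟩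
  have hconjGL : IsConj x T := by
    rw [isConj_iff]
    refine ⟨Pu * Mg⁻¹, ?_⟩
    rw [hT, ← htM]
    group
  have hconjGU : IsConj (⟨x, hxU⟩ : ↥(Cfsg.GU 3 F p)) ⟨T, hTU⟩ :=
    (Cfsg.Agent.S2587.result hF ⟨x, hxU⟩ ⟨T, hTU⟩).mpr hconjGL
  obtain ⟨c, hc⟩ := isConj_iff.mp hconjGU
  have hc' : c.1 * x * c.1⁻¹ = T := by
    have := congrArg Subtype.val hc
    simpa using this
  have hdc : c.1.1.det ^ (p + 1) = 1 := Cfsg.Agent.Helper5.det_pow_eq_one hF c.1 c.2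
  obtain ⟨u, huU, hud, hut⟩ := hu _ hdc
  set U : GL (Fin 3) F := Pu * u * Pu⁻¹ with hU
  have hUU : U ∈ Cfsg.GU 3 F p := mul_mem (mul_mem hPu huU) (inv_mem hPu)
  have hUT : U * T = T * U := by
    rw [hU, hT]
    calc Pu * u * Pu⁻¹ * (Pu * t * Pu⁻¹) = Pu * (u * t) * Pu⁻¹ := by group
      _ = Pu * (t * u) * Pu⁻¹ := by rw [hut]
      _ = Pu * t * Pu⁻¹ * (Pu * u * Pu⁻¹) := by group
  have hUdet : U.1.det = c.1.1.det := by
    rw [hU, Units.val_mul, Units.val_mul, Matrix.det_mul, Matrix.det_mul, hud]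
    have : Pu.1.det * (Pu⁻¹ : GL (Fin 3) F).1.det = 1 := by
      rw [← Matrix.det_mul, ← Units.val_mul, mul_inv_cancel, Units.val_one, Matrix.det_one]
    linear_combination c.1.1.det * this
  refine ⟨c.1⁻¹ * U, Subgroup.mem_inf.mpr ⟨mul_mem (inv_mem c.2) hUU, ?_⟩, ?_⟩
  · rw [mem_specialLinear_iff, Units.val_mul, Matrix.det_mul, hUdet]
    rw [← Matrix.det_mul, ← Units.val_mul, inv_mul_cancel, Units.val_one, Matrix.det_one]
  · have : (c.1⁻¹ * U)⁻¹ * x * (c.1⁻¹ * U) = T := by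
      calc (c.1⁻¹ * U)⁻¹ * x * (c.1⁻¹ * U) = U⁻¹ * (c.1 * x * c.1⁻¹) * U := by group
        _ = U⁻¹ * (T * U) := by rw [hc']; group
        _ = U⁻¹ * (U * T) := by rw [hUT]
        _ = T := by group
    rw [this]
    exact hTN

end Cfsg.Agent.Helper59.PSU3
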