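import Mathlib
import Cfsg.Agent.Helper59.UnitB

/-! # PSU_3(p): the explicit normal forms, and their unitarity -/

set_option autoImplicit false

namespace Cfsg.Agent.Helper59.PSU3

open Matrix
open Cfsg.Geo
open Cfsg.Agent.Helper59.Extra
open Cfsg.Agent.S2587 (st st_apply st_mul st_one st_st st_smul det_st)

variable {F : Type*} [Field F]

/-- explicit normal form of an involution modulo scalars. -/
theorem invol_case' (h2 : (2 : F) ≠ 0) (x : Matrix (Fin 3) (Fin 3) F)
    (hdet : x.det = 1) (z : F) (hz : x * x = z • (1 : Matrix (Fin 3) (Fin 3) F))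
    (hns : ∀ c : F, x ≠ c • (1 : Matrix (Fin 3) (Fin 3) F)) :
    ∃ (M : Matrix (Fin 3) (Fin 3) F) (k : Fin 3) (a : F), M.det ≠ 0 ∧ a ^ 6 = 1 ∧
      x * M = M * (a • Sk F k) := by
  have hz3 : z ^ 3 = 1 := by
    have h := congrArg Matrix.det hz
    rw [Matrix.det_mul, hdet, Matrix.det_smul, Matrix.det_one, Fintype.card_fin] at h
    linear_combination -h
  have hz0 : z ≠ 0 := by
    rintro rfl
    simp at hz3
  obtain ⟨c, hc, hc3⟩ : ∃ c : F, c ^ 2 = z ∧ c ^ 3 = 1 :=
    ⟨z ^ 2, by linear_combination z * hz3, by linear_combination (z ^ 3 + 1) * hz3⟩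
  have hc0 : c ≠ 0 := by
    rintro rfl
    apply hz0
    rw [← hc]; ring
  set y : Matrix (Fin 3) (Fin 3) F := c⁻¹ • x with hy
  have hy2 : y ^ 2 = 1 := by
    rw [pow_two, hy, Matrix.smul_mul, Matrix.mul_smul, hz, smul_smul, smul_smul, ← hc]
    have : c⁻¹ * c⁻¹ * c ^ 2 = 1 := by field_simp
    rw [this, one_smul]
  have hxy : x = c • y := by rw [hy, smul_smul, mul_inv_cancel₀ hc0, one_smul]
  obtain ⟨U, hU, ev, hev, hyU⟩ := exists_diag_sq h2 y hy2
  have hUU' : U * U⁻¹ = 1 := Matrix.mul_nonsing_inv U (isUnit_iff_ne_zero.mpr hU)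
  have hxU : x * U = U * Matrix.diagonal (fun i => c * ev i) := by
    rw [hxy, Matrix.smul_mul, hyU, ← Matrix.mul_smul]
    congr 1
    ext i j
    by_cases hij : i = j
    · subst hij; simp
    · simp [hij]
  rcases pattern_cases ev hev with hconst | ⟨k, ε, hε, hpat⟩
  · exfalso
    apply hns (c * ev 0)
    have hd : Matrix.diagonal ev = ev 0 • (1 : Matrix (Fin 3) (Fin 3) F) := by
      ext i j
      by_cases hij : i = j
      · subst hij; simp [hconst i]
      · simp [hij]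
    have hy1 : y = ev 0 • (1 : Matrix (Fin 3) (Fin 3) F) := by
      have : y = y * U * U⁻¹ := by rw [Matrix.mul_assoc, hUU', mul_one]
      rw [this, hyU, hd, Matrix.mul_smul, mul_one, Matrix.smul_mul, hUU']
    rw [hxy, hy1, smul_smul]
  · have hε2 : ε ^ 2 = 1 := by
      rcases hε with h | h <;> rw [h] <;> ring
    obtain ⟨M, hM, hxM⟩ := exists_conj_det x ((c * ε) • Sk F k) U (Wk F k) (fun i => c * ev i)
      hU (det_Wk h2 k) hxU (by
        rw [Matrix.smul_mul, Sk_mul_Wk, ← Matrix.mul_smul]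
        congr 1
        ext i j
        by_cases hij : i = j
        · subst hij
          simp [hpat i]
          ring
        · simp [hij]) 1
    refine ⟨M, k, c * ε, by rw [hM]; exact one_ne_zero, ?_, hxM⟩
    calc (c * ε) ^ 6 = (c ^ 3) ^ 2 * (ε ^ 2) ^ 3 := by ring
      _ = 1 := by rw [hc3, hε2]; ring

/-- explicit normal form of an element of order three modulo scalars. -/
theorem cube_case' {l : F} (hl : l ^ 2 + l + 1 = 0) (h3 : (3 : F) ≠ 0)
    (x : Matrix (Fin 3) (Fin 3) F) (z : F)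
    (hz : x ^ 3 = z • (1 : Matrix (Fin 3) (Fin 3) F)) (c : F) (hc : c ^ 3 = z) (hc0 : c ≠ 0) :
    ∃ (M : Matrix (Fin 3) (Fin 3) F) (ev : Fin 3 → F), M.det ≠ 0 ∧
      (∀ i, ev i = 1 ∨ ev i = l ∨ ev i = l ^ 2) ∧
      x * M = M * Matrix.diagonal (fun i => c * ev i) := by
  set y : Matrix (Fin 3) (Fin 3) F := c⁻¹ • x with hy
  have hy3 : y ^ 3 = 1 := by
    rw [hy, _root_.smul_pow, hz, smul_smul, ← hc]
    have : c⁻¹ ^ 3 * c ^ 3 = 1 := by field_simp
    rw [this, one_smul]
  have hxy : x = c • y := by rw [hy, smul_smul, mul_inv_cancel₀ hc0, one_smul]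
  obtain ⟨U, hU, ev, hev, hyU⟩ := exists_diag_cube hl h3 y hy3
  have hdiag : Matrix.diagonal (fun i => c * ev i) = c • Matrix.diagonal ev := by
    ext i j
    by_cases hij : i = j
    · subst hij; simp
    · simp [hij]
  refine ⟨U, ev, hU, hev, ?_⟩
  rw [hxy, Matrix.smul_mul, hyU, ← Matrix.mul_smul, hdiag]

theorem st_Sk (bar : F →+* F) (k : Fin 3) : st bar (Sk F k) = Sk F k := by
  fin_cases k <;> ext i j <;> fin_cases i <;> fin_cases j <;> simp [st_apply, Sk]

theorem st_diagonal (bar : F →+* F) (v : Fin 3 → F) :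
    st bar (Matrix.diagonal v) = Matrix.diagonal (fun i => bar (v i)) := by
  ext i j
  by_cases hij : i = j
  · subst hij; simp [st_apply]
  · have hji : j ≠ i := fun h => hij h.symm
    simp [st_apply, hij, hji]

variable [Fintype F]

/-- scalar multiples of the transposition matrices are unitary. -/
theorem smul_Sk_mem_GU {p : ℕ} (hF : Fintype.card F = p ^ 2) (a : F) (ha : a ^ (p + 1) = 1)
    (k : Fin 3) (t : GL (Fin 3) F) (ht : t.1 = a • Sk F k) : t ∈ Cfsg.GU 3 F p := by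
  obtain ⟨bar, hbar⟩ := Cfsg.Agent.Helper45.GU.exists_bar hF
  rw [mem_GU_iff_st bar hbar, ht, st_smul, st_Sk, Matrix.smul_mul, Matrix.mul_smul, Sk_mul_Sk,
    smul_smul, hbar, ← pow_succ, ha, one_smul]

/-- diagonal matrices with norm-one entries are unitary. -/
theorem diagonal_mem_GU {p : ℕ} (hF : Fintype.card F = p ^ 2) (v : Fin 3 → F)
    (hv : ∀ i, v i ^ (p + 1) = 1) (t : GL (Fin 3) F) (ht : t.1 = Matrix.diagonal v) :
    t ∈ Cfsg.GU 3 F p := by
  obtain ⟨bar, hbar⟩ := Cfsg.Agent.Helper45.GU.exists_bar hF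
  rw [mem_GU_iff_st bar hbar, ht, st_diagonal, Matrix.diagonal_mul_diagonal, ← Matrix.diagonal_one]
  congr 1
  ext i
  rw [hbar, ← pow_succ, hv]

end Cfsg.Agent.Helper59.PSU3
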