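import Mathlib
import Cfsg.Agent.Helper59.UnitC

/-! # PSU_3(p): the two positive cases -/

set_option autoImplicit false

namespace Cfsg.Agent.Helper59.PSU3

open Matrix
open Cfsg.Geo
open Cfsg.Agent.Helper59.Extra

variable {F : Type*} [Field F] [Fintype F]

/-- **Involutions** of `PSU_3(p)` fix a point. -/
theorem invol_su {p : ℕ} (hF : Fintype.card F = p ^ 2) (hp2 : p % 2 = 1) (hp3 : p % 3 = 2)
    (h2 : (2 : F) ≠ 0) {l : F} (hl3 : l ^ 3 = 1)
    (Pu : GL (Fin 3) F) (hPu : Pu ∈ Cfsg.GU 3 F p)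
    (R : Subgroup (GL (Fin 3) F)) (hRP : R = (R0 hl3).map (MulAut.conj Pu).toMonoidHom)
    (x : GL (Fin 3) F) (hx : x ∈ Cfsg.GU 3 F p ⊓ specialLinear (Fin 3) F) (z : F)
    (hz : x.1 * x.1 = z • (1 : Matrix (Fin 3) (Fin 3) F))
    (hns : ∀ c : F, x.1 ≠ c • (1 : Matrix (Fin 3) (Fin 3) F)) :
    ∃ g ∈ Cfsg.GU 3 F p ⊓ specialLinear (Fin 3) F, g⁻¹ * x * g ∈ subgroupNormalizer R := by
  obtain ⟨hxU, hxS⟩ := Subgroup.mem_inf.mp hx
  have hdx := (mem_specialLinear_iff x).mp hxS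
  obtain ⟨M, k, a, hM, ha6, hxM⟩ := invol_case' h2 x.1 hdx z hz hns
  have ha0 : a ≠ 0 := by
    rintro rfl
    simp at ha6
  have hap : a ^ (p + 1) = 1 := by
    obtain ⟨m, hm⟩ : ∃ m, p + 1 = 6 * m := ⟨(p + 1) / 6, by omega⟩
    rw [hm, pow_mul, ha6, one_pow]
  let t : GL (Fin 3) F := mkGL (a • Sk F k) (a⁻¹ • Sk F k) (by
    rw [Matrix.smul_mul, Matrix.mul_smul, Sk_mul_Sk, smul_smul, mul_inv_cancel₀ ha0, one_smul])
  have ht : t.1 = a • Sk F k := rfl
  refine exists_su_conj hF hl3 Pu hPu R hRP x hxU M hM t (by rw [ht]; exact hxM)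
    (smul_Sk_mem_GU hF a hap k t ht)
    (mem_normalizer_of_smul hl3 t a ha0 (Sk F k) ht (transp_mem_normalizer hl3 k)) ?_
  intro d hd
  have hd0 : d ≠ 0 := by
    rintro rfl
    rw [zero_pow (Nat.succ_ne_zero p)] at hd
    exact zero_ne_one hd
  set v : Fin 3 → F := fun i => if i = k then d else 1 with hv
  have hvdet : (Matrix.diagonal v).det = d := by
    rw [Matrix.det_diagonal, Fin.prod_univ_three]
    fin_cases k <;> simp [hv]
  let u : GL (Fin 3) F := glOfDet (Matrix.diagonal v) (by rw [hvdet]; exact hd0)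
  refine ⟨u, diagonal_mem_GU hF v (fun i => ?_) u rfl, hvdet, ?_⟩
  · simp only [hv]
    split_ifs
    · exact hd
    · exact one_pow _
  · apply Units.ext
    rw [Units.val_mul, Units.val_mul]
    show Matrix.diagonal v * (a • Sk F k) = (a • Sk F k) * Matrix.diagonal v
    rw [Matrix.mul_smul, Matrix.smul_mul]
    congr 1
    fin_cases k <;> ext i j <;> fin_cases i <;> fin_cases j <;>
      simp [hv, Sk, Matrix.mul_apply, Fin.sum_univ_three, Matrix.diagonal_apply]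

/-- **Elements of order three** of `PSU_3(p)`, `p ≡ 8 (mod 9)`, fix a point. -/
theorem cube_su {p : ℕ} (hF : Fintype.card F = p ^ 2) (hp9 : p % 9 = 8)
    {l : F} (hl : l ^ 2 + l + 1 = 0) (h3 : (3 : F) ≠ 0) (hl3 : l ^ 3 = 1)
    (Pu : GL (Fin 3) F) (hPu : Pu ∈ Cfsg.GU 3 F p)
    (R : Subgroup (GL (Fin 3) F)) (hRP : R = (R0 hl3).map (MulAut.conj Pu).toMonoidHom)
    (x : GL (Fin 3) F) (hx : x ∈ Cfsg.GU 3 F p ⊓ specialLinear (Fin 3) F) (z : F)
    (hz : x.1 ^ 3 = z • (1 : Matrix (Fin 3) (Fin 3) F)) :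
    ∃ g ∈ Cfsg.GU 3 F p ⊓ specialLinear (Fin 3) F, g⁻¹ * x * g ∈ subgroupNormalizer R := by
  obtain ⟨hxU, hxS⟩ := Subgroup.mem_inf.mp hx
  have hdx := (mem_specialLinear_iff x).mp hxS
  have hz3 : z ^ 3 = 1 := by
    have h := congrArg Matrix.det hz
    rw [Matrix.det_pow, hdx, Matrix.det_smul, Matrix.det_one, Fintype.card_fin] at h
    linear_combination -h
  obtain ⟨m, hm⟩ : ∃ m, p = 9 * m + 8 := ⟨p / 9, by omega⟩
  obtain ⟨c, hc⟩ := exists_cube_root (F := F) (by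
    rw [hF, hm]
    refine ⟨9 * m ^ 2 + 16 * m + 7, ?_⟩
    apply Nat.sub_eq_of_eq_add
    ring) z hz3
  have hc9 : c ^ 9 = 1 := by
    calc c ^ 9 = (c ^ 3) ^ 3 := by ring
      _ = 1 := by rw [hc, hz3]
  have hc0 : c ≠ 0 := by
    rintro rfl
    simp at hc9
  obtain ⟨M, ev, hM, hev, hxM⟩ := cube_case' hl h3 x.1 z hz c hc hc0
  set v : Fin 3 → F := fun i => c * ev i with hv
  have hev3 : ∀ i, ev i ^ 3 = 1 := by
    intro i
    rcases hev i with h | h | h <;> rw [h]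
    · ring
    · exact hl3
    · calc (l ^ 2) ^ 3 = (l ^ 3) ^ 2 := by ring
        _ = 1 := by rw [hl3]; ring
  have hv9 : ∀ i, v i ^ 9 = 1 := by
    intro i
    calc v i ^ 9 = c ^ 9 * (ev i ^ 3) ^ 3 := by simp only [hv]; ring
      _ = 1 := by rw [hc9, hev3]; ring
  have hvp : ∀ i, v i ^ (p + 1) = 1 := by
    intro i
    have : p + 1 = 9 * (m + 1) := by omega
    rw [this, pow_mul, hv9, one_pow]
  have hv0 : ∀ i, v i ≠ 0 := by
    intro i h
    have := hv9 i
    rw [h] at this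
    simp at this
  have hvdet : (Matrix.diagonal v).det ≠ 0 := by
    rw [Matrix.det_diagonal]
    exact Finset.prod_ne_zero_iff.mpr (fun i _ => hv0 i)
  let t : GL (Fin 3) F := glOfDet (Matrix.diagonal v) hvdet
  have ht : t.1 = Matrix.diagonal v := rfl
  have hdiag : Matrix.diagonal v = c • Matrix.diagonal ev := by
    ext i j
    by_cases hij : i = j
    · subst hij; simp [hv]
    · simp [hij]
  refine exists_su_conj hF hl3 Pu hPu R hRP x hxU M hM t (by rw [ht]; exact hxM)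
    (diagonal_mem_GU hF v hvp t ht)
    (mem_normalizer_of_smul hl3 t c hc0 (Matrix.diagonal ev) (by rw [ht, hdiag])
      (fun t' ht' => diag_mem_normalizer hl3 t' ev hev ht')) ?_
  intro d hd
  have hd0 : d ≠ 0 := by
    rintro rfl
    rw [zero_pow (Nat.succ_ne_zero p)] at hd
    exact zero_ne_one hd
  set w : Fin 3 → F := ![d, 1, 1] with hw
  have hwdet : (Matrix.diagonal w).det = d := by
    rw [Matrix.det_diagonal, Fin.prod_univ_three]
    simp [hw]
  let u : GL (Fin 3) F := glOfDet (Matrix.diagonal w) (by rw [hwdet]; exact hd0)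
  refine ⟨u, diagonal_mem_GU hF w (fun i => ?_) u rfl, hwdet, ?_⟩
  · fin_cases i <;> simp [hw, hd]
  · apply Units.ext
    rw [Units.val_mul, Units.val_mul]
    show Matrix.diagonal w * Matrix.diagonal v = Matrix.diagonal v * Matrix.diagonal w
    rw [Matrix.diagonal_mul_diagonal, Matrix.diagonal_mul_diagonal]
    congr 1
    ext i
    exact mul_comm _ _

end Cfsg.Agent.Helper59.PSU3
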