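import Mathlib
import Cfsg.Agent.Helper59.UnitD
import Cfsg.Agent.Helper45.GUCard

/-! # PSU_3(p): the index of the normaliser when `p ≢ 8 (mod 9)` -/

set_option autoImplicit false

namespace Cfsg.Agent.Helper59.PSU3

open Matrix
open Cfsg.Geo
open Cfsg.Agent.Helper59.Extra

/-- arithmetic of the order of `SU_3(p)`. -/
theorem not_81_dvd_su (u s : ℕ) (hu : ¬ 3 ∣ u + 1)
    (h : s * (3 * u + 3) = (3 * u + 2) ^ 3 *
      ((3 * u + 3) * ((3 * u + 2) ^ 2 - 1) * ((3 * u + 2) ^ 3 + 1))) : ¬ 81 ∣ s := by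
  have e1 : (3 * u + 2) ^ 2 - 1 = 3 * ((3 * u + 1) * (u + 1)) := by
    apply Nat.sub_eq_of_eq_add; ring
  have e2 : (3 * u + 2) ^ 3 + 1 = 9 * ((u + 1) * (3 * (u * u + u) + 1)) := by ring
  rw [e1, e2] at h
  have hs : s = 27 * ((3 * u + 2) ^ 3 * (3 * u + 1) * (u + 1) ^ 2 * (3 * (u * u + u) + 1)) := by
    have h3u : 0 < 3 * u + 3 := by omega
    apply Nat.eq_of_mul_eq_mul_right h3u
    rw [h]
    ring
  intro h81
  rw [hs] at h81
  have h3 : 3 ∣ (3 * u + 2) ^ 3 * (3 * u + 1) * (u + 1) ^ 2 * (3 * (u * u + u) + 1) := by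
    have : 27 * 3 ∣ 27 * ((3 * u + 2) ^ 3 * (3 * u + 1) * (u + 1) ^ 2 * (3 * (u * u + u) + 1)) := by
      norm_num; exact h81
    exact Nat.dvd_of_mul_dvd_mul_left (by norm_num) this
  have p3 := Nat.prime_three
  rcases (Nat.Prime.dvd_mul p3).mp h3 with h4 | h4
  · rcases (Nat.Prime.dvd_mul p3).mp h4 with h5 | h5
    · rcases (Nat.Prime.dvd_mul p3).mp h5 with h6 | h6
      · have := p3.dvd_of_dvd_pow h6
        omega
      · omega
    · exact hu (p3.dvd_of_dvd_pow h5)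
  · omega

variable {F : Type*} [Field F] [Fintype F]

/-- the order of `GU_3(p) ⊓ SL_3`. -/
theorem card_su_mul {p : ℕ} (hF : Fintype.card F = p ^ 2) :
    Nat.card ↥(Cfsg.GU 3 F p ⊓ specialLinear (Fin 3) F) * (p + 1) =
      p ^ 3 * ((p + 1) * (p ^ 2 - 1) * (p ^ 3 + 1)) := by
  have e1 := Cfsg.Agent.Helper5.card_GUι_eq_ker_mul (ι := Fin 3) (F := F) (q := p) hF
  have e2 : (Cfsg.Agent.Helper5.detGU (Fin 3) F p).ker =
      (specialLinear (Fin 3) F).subgroupOf (Cfsg.Agent.Helper5.GUι (Fin 3) F p) := by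
    ext g
    rw [MonoidHom.mem_ker, Subgroup.mem_subgroupOf]
    unfold specialLinear
    rw [MonoidHom.mem_ker]
    rfl
  have e3 : Nat.card ↥((specialLinear (Fin 3) F).subgroupOf (Cfsg.Agent.Helper5.GUι (Fin 3) F p)) =
      Nat.card ↥(Cfsg.GU 3 F p ⊓ specialLinear (Fin 3) F) := by
    rw [← Cfsg.Agent.Helper5.GU_eq_GUι, ← Subgroup.inf_subgroupOf_left]
    exact Nat.card_congr (Subgroup.subgroupOfEquivOfLe inf_le_left).toEquiv
  have e4 := Cfsg.Agent.Helper45.GU.card_GU hF 3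
  rw [e2, e3, ← Cfsg.Agent.Helper5.GU_eq_GUι, e4] at e1
  rw [← e1]
  have hE0 : Even 0 := ⟨0, rfl⟩
  have hE1 : ¬ Even 1 := by decide
  have hE2 : Even 2 := ⟨1, rfl⟩
  simp [Finset.prod_range_succ, hE1, hE2]

/-- the index of the normaliser is prime to three when `p ≢ 8 (mod 9)`. -/
theorem not_three_dvd_relIndex_su {p : ℕ} (hF : Fintype.card F = p ^ 2) (hp3 : p % 3 = 2)
    (hp9 : p % 9 ≠ 8) (R : Subgroup (GL (Fin 3) F)) (hR : Nat.card R = 27)
    (hRle : R ≤ Cfsg.GU 3 F p ⊓ specialLinear (Fin 3) F) :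
    ¬ 3 ∣ (subgroupNormalizer R).relIndex (Cfsg.GU 3 F p ⊓ specialLinear (Fin 3) F) := by
  intro h
  have h1 : (subgroupNormalizer R).relIndex (Cfsg.GU 3 F p ⊓ specialLinear (Fin 3) F) ∣
      R.relIndex (Cfsg.GU 3 F p ⊓ specialLinear (Fin 3) F) :=
    Subgroup.relIndex_dvd_of_le_left _ Subgroup.le_normalizer
  have h2 : Nat.card R * R.relIndex (Cfsg.GU 3 F p ⊓ specialLinear (Fin 3) F) =
      Nat.card ↥(Cfsg.GU 3 F p ⊓ specialLinear (Fin 3) F) := by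
    have := Subgroup.relIndex_mul_relIndex (⊥ : Subgroup (GL (Fin 3) F)) R
      (Cfsg.GU 3 F p ⊓ specialLinear (Fin 3) F) bot_le hRle
    rw [Subgroup.relIndex_bot_left, Subgroup.relIndex_bot_left] at this
    exact this
  have h81 : 81 ∣ Nat.card ↥(Cfsg.GU 3 F p ⊓ specialLinear (Fin 3) F) := by
    rw [← h2, hR]
    have : (81 : ℕ) = 27 * 3 := by norm_num
    rw [this]
    exact Nat.mul_dvd_mul_left 27 (dvd_trans h h1)
  have hSU := card_su_mul (F := F) hF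
  obtain ⟨u, hu⟩ : ∃ u, p = 3 * u + 2 := ⟨p / 3, by omega⟩
  have hu3 : ¬ 3 ∣ u + 1 := by
    intro hd
    obtain ⟨v, hv⟩ := hd
    omega
  subst hu
  have hp1 : 3 * u + 2 + 1 = 3 * u + 3 := by omega
  rw [hp1] at hSU
  exact not_81_dvd_su u _ hu3 hSU h81

end Cfsg.Agent.Helper59.PSU3
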