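import Mathlib
import Cfsg.Agent.Helper61.W2pDefs

/-!
# Pieces (C-CNT1), (C-CNT2), (C-RANK4) of helper61's S0720 (Wielandt, degree `2p`).
-/

set_option autoImplicit false
set_option linter.unusedSectionVars false

namespace Cfsg.Agent.Helper59.W2p

open Cfsg Cfsg.Agent.Helper61.W2p
open scoped ComplexConjugate

variable {G : Type*} [Group G] [Fintype G] {Ω : Type*} [Fintype Ω] [DecidableEq Ω]
  [MulAction G Ω] {p : ℕ} {x : G} {θ χ₁ χ₂ : G → ℂ} {κ : ℕ}

/-- (C-CNT1) the orbital counts at `p`-singular elements are multiples of `p` -/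
theorem dvd_cnt (S : Setup G Ω p) (y : G) (hy : orderOf y = p) (a b : Ω) : p ∣ cnt G a b y := by
  classical
  haveI : Fact p.Prime := ⟨S.hp⟩
  set f : Equiv.Perm Ω := MulAction.toPerm y with hf
  set P : Ω → Prop := fun z => Helper12.Orbital.orbRel G a b z (y • z) with hP
  have hPf : ∀ z, P (f z) ↔ P z := by
    intro z
    show Helper12.Orbital.orbRel G a b (y • z) (y • (y • z)) ↔
      Helper12.Orbital.orbRel G a b z (y • z)
    exact Helper12.Orbital.orbRel_smul a b y z (y • z)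
  set g : Equiv.Perm {z // P z} := f.subtypePerm hPf with hg
  have hfp : f ^ p = 1 := by
    have h1 : (MulAction.toPermHom G Ω y) ^ p = 1 := by
      rw [← map_pow, ← hy, pow_orderOf_eq_one, map_one]
    exact h1
  have hgp : g ^ p = 1 := by
    rw [hg, Equiv.Perm.subtypePerm_pow]
    ext z
    simp [hfp]
  let F : Function.End {z // P z} := ⇑g
  have hFp : F ^ p ^ 1 = 1 := by
    rw [pow_one]
    have h1 : ((F ^ p : Function.End {z // P z}) : {z // P z} → {z // P z}) = (⇑g)^[p] :=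
      hom_coe_pow (fun g : Function.End {z // P z} ↦ g) rfl (fun g h ↦ rfl) F p
    have h2 : (⇑g)^[p] = ⇑(g ^ p) := (Equiv.Perm.coe_pow g p).symm
    rw [hgp] at h2
    exact h1.trans h2
  have hmod := Equiv.Perm.card_fixedPoints_modEq (f := F) (p := p) (n := 1) hFp
  have hfix : Fintype.card (Function.fixedPoints F) = 0 := by
    rw [Fintype.card_eq_zero_iff]
    refine ⟨fun z => ?_⟩
    have hz : g z.1 = z.1 := z.2
    have hz' : y • (z.1 : Ω) = z.1 := by
      have := congrArg Subtype.val hz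
      simpa [hg, hf] using this
    exact S.hfix y (by rw [hy]) _ hz'
  rw [hfix] at hmod
  have hcard : cnt G a b y = Fintype.card {z // P z} := by
    unfold cnt
    rw [Fintype.card_subtype]
  rw [hcard]
  exact (Nat.modEq_zero_iff_dvd).1 hmod

/-- (C-CNT2) distinct orbitals give disjoint count sets -/
theorem cnt_add_le (a b₁ b₂ b₃ : Ω)
    (h12 : b₁ ∉ MulAction.orbit (MulAction.stabilizer G a) b₂)
    (h13 : b₁ ∉ MulAction.orbit (MulAction.stabilizer G a) b₃)
    (h23 : b₂ ∉ MulAction.orbit (MulAction.stabilizer G a) b₃) (y : G) :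
    cnt G a b₁ y + cnt G a b₂ y + cnt G a b₃ y ≤ Fintype.card Ω := by
  classical
  have key : ∀ b b' : Ω, b ∉ MulAction.orbit (MulAction.stabilizer G a) b' →
      Disjoint (Finset.univ.filter fun z => Helper12.Orbital.orbRel G a b z (y • z))
        (Finset.univ.filter fun z => Helper12.Orbital.orbRel G a b' z (y • z)) := by
    intro b b' hbb'
    rw [Finset.disjoint_left]
    intro z hz hz'
    simp only [Finset.mem_filter, Finset.mem_univ, true_and] at hz hz'
    obtain ⟨g, hg1, hg2⟩ := hz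
    obtain ⟨g', hg1', hg2'⟩ := hz'
    apply hbb'
    refine ⟨⟨g⁻¹ * g', ?_⟩, ?_⟩
    · rw [MulAction.mem_stabilizer_iff, mul_smul, hg1', ← hg1, inv_smul_smul]
    · show (g⁻¹ * g') • b' = b
      rw [mul_smul, hg2', ← hg2, inv_smul_smul]
  unfold cnt
  have d12 := key b₁ b₂ h12
  have d13 := key b₁ b₃ h13
  have d23 := key b₂ b₃ h23
  rw [← Finset.card_union_of_disjoint d12, ← Finset.card_union_of_disjoint
    (Finset.disjoint_union_left.2 ⟨d13, d23⟩)]
  exact Finset.card_le_univ _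

/-- (C-RANK4) three non-diagonal orbitals -/
theorem exists_three (h : Gam G Ω p x θ χ₁ χ₂ κ) (a : Ω) :
    ∃ b₁ b₂ b₃ : Ω, b₁ ≠ a ∧ b₂ ≠ a ∧ b₃ ≠ a ∧
      b₁ ∉ MulAction.orbit (MulAction.stabilizer G a) b₂ ∧
      b₁ ∉ MulAction.orbit (MulAction.stabilizer G a) b₃ ∧
      b₂ ∉ MulAction.orbit (MulAction.stabilizer G a) b₃ := by
  classical
  haveI : MulAction.IsPretransitive G Ω := h.S.hprim.toIsPretransitive
  -- the rank is four
  have hrank := Helper12.PermCharBasics.classInner_permChar_self (G := G) (Ω := Ω) a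
  let t : IrrCharacter G := Helper74.irrTriv G
  let e0 : IrrCharacter G := ⟨θ, h.hθ⟩
  let e1 : IrrCharacter G := ⟨χ₁, h.h₁⟩
  let e2 : IrrCharacter G := ⟨χ₂, h.h₂⟩
  have hne : ∀ {u v : IrrCharacter G}, (u : G → ℂ) ≠ (v : G → ℂ) → u ≠ v :=
    fun hh hh' => hh (congrArg Subtype.val hh')
  have ht0 : t ≠ e0 := hne (fun hh => h.hθ1 hh.symm)
  have ht1 : t ≠ e1 := hne (fun hh => h.h11 hh.symm)
  have ht2 : t ≠ e2 := hne (fun hh => h.h21 hh.symm)
  have h01 : e0 ≠ e1 := hne h.hθ₁
  have h02 : e0 ≠ e2 := hne h.hθ₂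
  have h12 : e1 ≠ e2 := hne h.h₁₂
  have hpc : Helper12.PermCharBasics.permChar G Ω =
      (t : G → ℂ) + (e0 : G → ℂ) + (e1 : G → ℂ) + (e2 : G → ℂ) := by
    have := h.hπ
    funext g
    have h2 := congrFun this g
    simp only [Pi.add_apply]
    exact h2
  have hfour : classInner (Helper12.PermCharBasics.permChar G Ω)
      (Helper12.PermCharBasics.permChar G Ω) = 4 := by
    rw [hpc]
    simp only [Helper74.classInner_add_left, Helper74.classInner_add_right,
      Helper74.irr_inner_self, Helper74.irr_inner_ne ht0, Helper74.irr_inner_ne ht1,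
      Helper74.irr_inner_ne ht2, Helper74.irr_inner_ne h01, Helper74.irr_inner_ne h02,
      Helper74.irr_inner_ne h12, Helper74.irr_inner_ne ht0.symm, Helper74.irr_inner_ne ht1.symm,
      Helper74.irr_inner_ne ht2.symm, Helper74.irr_inner_ne h01.symm,
      Helper74.irr_inner_ne h02.symm, Helper74.irr_inner_ne h12.symm]
    norm_num
  rw [hfour] at hrank
  have hcard : Nat.card (MulAction.orbitRel.Quotient (MulAction.stabilizer G a) Ω) = 4 := by
    exact_mod_cast hrank.symm
  haveI : Fintype (MulAction.orbitRel.Quotient (MulAction.stabilizer G a) Ω) :=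
    Fintype.ofFinite _
  rw [Nat.card_eq_fintype_card] at hcard
  set qa : MulAction.orbitRel.Quotient (MulAction.stabilizer G a) Ω := Quotient.mk'' a with hqa
  have h3 : (Finset.univ.erase qa).card = 3 := by
    rw [Finset.card_erase_of_mem (Finset.mem_univ _), Finset.card_univ, hcard]
  obtain ⟨q₁, q₂, q₃, hq12, hq13, hq23, hq⟩ := Finset.card_eq_three.1 h3
  have hmem : ∀ q, q ∈ ({q₁, q₂, q₃} : Finset _) → q ≠ qa := by
    intro q hq'
    rw [← hq] at hq'
    exact (Finset.mem_erase.1 hq').1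
  have hq1 : q₁ ≠ qa := hmem q₁ (by simp)
  have hq2 : q₂ ≠ qa := hmem q₂ (by simp)
  have hq3 : q₃ ≠ qa := hmem q₃ (by simp)
  -- representatives
  have hrep : ∀ q : MulAction.orbitRel.Quotient (MulAction.stabilizer G a) Ω, q ≠ qa →
      ∃ b : Ω, b ≠ a ∧ q = Quotient.mk'' b := by
    intro q
    induction q using Quotient.inductionOn' with
    | h b =>
      intro hb
      refine ⟨b, ?_, rfl⟩
      rintro rfl
      exact hb rfl
  obtain ⟨b₁, hb1, rfl⟩ := hrep q₁ hq1
  obtain ⟨b₂, hb2, rfl⟩ := hrep q₂ hq2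
  obtain ⟨b₃, hb3, rfl⟩ := hrep q₃ hq3
  have hsound : ∀ b b' : Ω, b ∈ MulAction.orbit (MulAction.stabilizer G a) b' →
      (Quotient.mk'' b : MulAction.orbitRel.Quotient (MulAction.stabilizer G a) Ω) =
        Quotient.mk'' b' := fun b b' hbb' => Quotient.sound' hbb'
  exact ⟨b₁, b₂, b₃, hb1, hb2, hb3, fun hh => hq12 (hsound _ _ hh),
    fun hh => hq13 (hsound _ _ hh), fun hh => hq23 (hsound _ _ hh)⟩

end Cfsg.Agent.Helper59.W2p
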