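import Cfsg.Agent.Helper59.MultTrans
import Mathlib.GroupTheory.Sylow
import Mathlib.GroupTheory.Perm.Cycle.Type

/-! Wagner's theorem on normal subgroups of 3-transitive groups of odd degree (helper59). -/

set_option autoImplicit false

namespace Cfsg.Agent.Helper59

open MulAction SubMulAction
open scoped Pointwise

section

variable {X : Type*} {S : Type*} [Group X] [MulAction X S]

/-- Frattini-type transitivity criterion: if `X` is transitive on `S`, `K ⊴ X`, and a Sylow
`p`-subgroup of `K` has exactly one fixed point on `S` (guaranteed to exist if `p ∤ |S|`), then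
`K` is transitive on `S`. -/
theorem exists_smul_eq_of_sylow_unique_fixed [Finite S] [IsPretransitive X S]
    (K : Subgroup X) [K.Normal] [Finite K] (p : ℕ) [Fact p.Prime] (T : Sylow p K)
    (hp : ¬ p ∣ Nat.card S)
    (huniq : ∀ c d : S, (∀ t ∈ T, ((t : K) : X) • c = c) → (∀ t ∈ T, ((t : K) : X) • d = d) → c = d) :
    ∃ c : S, (∀ t ∈ T, ((t : K) : X) • c = c) ∧ ∀ x : S, ∃ k ∈ K, k • c = x := by
  have hfix : (fixedPoints (T : Subgroup K) S).Nonempty :=
    T.isPGroup'.nonempty_fixed_point_of_prime_not_dvd_card S hp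
  obtain ⟨c, hc⟩ := hfix
  have hc' : ∀ t ∈ T, ((t : K) : X) • c = c := by
    intro t ht
    exact hc ⟨t, ht⟩
  refine ⟨c, hc', ?_⟩
  intro x
  obtain ⟨g, hg⟩ := exists_smul_eq X c x
  have hfr := Sylow.normalizer_sup_eq_top T
  have hgmem : g ∈ ((K ⊔ Subgroup.normalizer (((T : Subgroup K).map K.subtype : Subgroup X) : Set X) : Subgroup X) : Set X) := by
    rw [sup_comm, hfr]; trivial
  rw [Subgroup.normal_mul] at hgmem
  obtain ⟨k, hk, ν, hν, hkν⟩ := hgmem
  refine ⟨k, hk, ?_⟩
  have hνc : ν • c = c := by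
    apply huniq _ _ ?_ hc'
    intro t ht
    -- ν⁻¹ t ν ∈ T
    have hmem : ((t : K) : X) ∈ (T : Subgroup K).map K.subtype := ⟨t, ht, rfl⟩
    have hν' : ν⁻¹ ∈ Subgroup.normalizer (((T : Subgroup K).map K.subtype : Subgroup X) : Set X) :=
      Subgroup.inv_mem _ hν
    have hconj : ν⁻¹ * ((t : K) : X) * ν⁻¹⁻¹ ∈ (T : Subgroup K).map K.subtype :=
      (Subgroup.mem_normalizer_iff.mp hν' _).mp hmem
    rw [inv_inv] at hconj
    obtain ⟨t', ht', ht'eq⟩ := hconj
    have h1 := hc' t' ht'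
    have h2 : ((t' : K) : X) = ν⁻¹ * ((t : K) : X) * ν := ht'eq
    rw [h2, mul_smul, mul_smul, inv_smul_eq_iff] at h1
    exact h1
  rw [← hg, ← hkν, mul_smul, hνc]

end

theorem false_of_sylow_embeds_index_p {K : Type*} [Group K] [Finite K] (p : ℕ) [hp : Fact p.Prime]
    (T : Sylow p K) (A : Subgroup K) (hA : A.index = p) (ψ : ↥(T : Subgroup K) →* ↥A)
    (hψ : Function.Injective ψ) : False := by
  have h1 : Nat.card (T : Subgroup K) ∣ Nat.card A := Subgroup.card_dvd_of_injective ψ hψ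
  have h2 : Nat.card (T : Subgroup K) = p ^ (Nat.card K).factorization p := T.card_eq_multiplicity
  have h3 : Nat.card A * p = Nat.card K := by
    rw [← hA]; exact A.card_mul_index
  have hApos : Nat.card A ≠ 0 := Nat.card_pos.ne'
  have h4 : (Nat.card K).factorization p = (Nat.card A).factorization p + 1 := by
    rw [← h3, Nat.factorization_mul hApos hp.out.ne_zero]
    simp [hp.out.factorization_self]
  rw [h2, h4] at h1
  exact Nat.pow_succ_factorization_not_dvd hApos hp.out h1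

section Wagner

variable {G : Type*} {Ω : Type*} [Group G] [MulAction G Ω]

theorem mem_stabilizer_pair_compl_iff {a b : Ω} (g : G) :
    g ∈ stabilizer G (({a, b} : Set Ω)ᶜ) ↔
      (g • a = a ∧ g • b = b) ∨ (g • a = b ∧ g • b = a) := by
  rw [stabilizer_compl, mem_stabilizer_iff, ← Set.image_smul, Set.image_pair,
    Set.pair_eq_pair_iff]

theorem index_stabilizer_eq_two_of_swap {K : Type*} [Group K] [MulAction K Ω] {a b : Ω}
    (hab : a ≠ b) (hK : ∀ k : K, (k • a = a ∧ k • b = b) ∨ (k • a = b ∧ k • b = a))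
    (t : K) (hta : t • a = b) : (stabilizer K a).index = 2 := by
  rw [Subgroup.index_eq_two_iff]
  refine ⟨t, fun k => ?_⟩
  rw [mem_stabilizer_iff, mem_stabilizer_iff, mul_smul, hta]
  rcases hK k with ⟨h1, h2⟩ | ⟨h1, h2⟩
  · right
    refine ⟨h1, ?_⟩
    rw [h2]; exact Ne.symm hab
  · left
    refine ⟨h2, ?_⟩
    rw [h1]; exact Ne.symm hab

/-- the setwise stabilizer of `{a, b}` (as the stabilizer of the complement). -/
abbrev pairStab (G : Type*) {Ω : Type*} [Group G] [MulAction G Ω] (a b : Ω) : Subgroup G :=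
  stabilizer G (({a, b} : Set Ω)ᶜ)

/-- the intersection of `N` with the setwise stabilizer of `{a, b}`. -/
abbrev pairStabIn {G : Type*} {Ω : Type*} [Group G] [MulAction G Ω] (N : Subgroup G) (a b : Ω) :
    Subgroup (pairStab G a b) :=
  N.subgroupOf (pairStab G a b)

theorem wagner_star [Finite G] [Finite Ω] (hodd : Odd (Nat.card Ω))
    (hG : IsMultiplyPretransitive G Ω 3) (N : Subgroup G) [N.Normal]
    (hN2 : IsMultiplyPretransitive N Ω 2) {a b : Ω} (hab : a ≠ b) :
    ∀ x y : Ω, x ≠ a → x ≠ b → y ≠ a → y ≠ b →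
      ∃ n ∈ N, n • a = a ∧ n • b = b ∧ n • x = y := by
  classical
  have hmem_s : ∀ z : Ω, z ∈ ({a, b} : Set Ω)ᶜ ↔ z ≠ a ∧ z ≠ b := by
    intro z; simp
  -- transitivity of X on s
  have hXt : IsPretransitive (pairStab G a b) (({a, b} : Set Ω)ᶜ : Set Ω) := by
    constructor
    intro x y
    have hx := (hmem_s x).mp x.2
    have hy := (hmem_s y).mp y.2
    obtain ⟨g, hga, hgb, hgx⟩ := exists_smul_three (G := G) (a := a) (b := b) (c := (x : Ω))
      (a' := a) (b' := b) (c' := (y : Ω)) hab (Ne.symm hx.1) (Ne.symm hx.2) hab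
      (Ne.symm hy.1) (Ne.symm hy.2)
    have hgX : g ∈ pairStab G a b :=
      (mem_stabilizer_pair_compl_iff g).mpr (Or.inl ⟨hga, hgb⟩)
    refine ⟨⟨g, hgX⟩, ?_⟩
    apply Subtype.ext
    exact hgx
  have hKX : ∀ k : pairStabIn N a b,
      (k • a = a ∧ k • b = b) ∨ (k • a = b ∧ k • b = a) :=
    fun k => (mem_stabilizer_pair_compl_iff ((k : pairStab G a b) : G)).mp
      (k : pairStab G a b).2
  -- swap element
  obtain ⟨t₀, ht₀a, ht₀b⟩ := (is_two_pretransitive_iff (G := N) (α := Ω)).mp hN2 hab (Ne.symm hab)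
  have ht₀X : (t₀ : G) ∈ pairStab G a b :=
    (mem_stabilizer_pair_compl_iff (t₀ : G)).mpr (Or.inr ⟨ht₀a, ht₀b⟩)
  have hindex : (stabilizer (pairStabIn N a b) a).index = 2 :=
    index_stabilizer_eq_two_of_swap hab hKX ⟨⟨(t₀ : G), ht₀X⟩, t₀.2⟩ ht₀a
  have hfact : Fact (Nat.Prime 2) := ⟨Nat.prime_two⟩
  obtain ⟨T⟩ : Nonempty (Sylow 2 (pairStabIn N a b)) := inferInstance
  -- card of s is odd
  have hcard_s : ¬ 2 ∣ Nat.card (({a, b} : Set Ω)ᶜ : Set Ω) := by
    rw [Nat.card_coe_set_eq, Set.ncard_compl, Set.ncard_pair hab]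
    obtain ⟨m, hm⟩ := hodd
    have h2le : 2 ≤ Nat.card Ω := by
      have := Set.ncard_le_card ({a, b} : Set Ω)
      rw [Set.ncard_pair hab] at this
      exact this
    omega
  -- uniqueness of fixed points of T
  have huniq : ∀ c d : (({a, b} : Set Ω)ᶜ : Set Ω),
      (∀ t ∈ T, ((t : pairStabIn N a b) :
        pairStab G a b) • c = c) →
      (∀ t ∈ T, ((t : pairStabIn N a b) :
        pairStab G a b) • d = d) → c = d := by
    intro c d hc hd
    by_contra hcd
    have hcd' : (c : Ω) ≠ (d : Ω) := fun h => hcd (Subtype.ext h)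
    obtain ⟨n, hna, hnb⟩ := (is_two_pretransitive_iff (G := N) (α := Ω)).mp hN2 hab hcd'
    have hna' : (n : G) • a = (c : Ω) := hna
    have hnb' : (n : G) • b = (d : Ω) := hnb
    have hfixa : ∀ t : pairStabIn N a b, t ∈ T →
        ((n : G)⁻¹ * ((t : pairStab G a b) : G) * (n : G)) • a = a := by
      intro t ht
      have h1 : ((t : pairStab G a b) : G) • (c : Ω) = (c : Ω) :=
        congrArg Subtype.val (hc t ht)
      rw [mul_smul, mul_smul, hna', h1, inv_smul_eq_iff, hna']
    have hfixb : ∀ t : pairStabIn N a b, t ∈ T →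
        ((n : G)⁻¹ * ((t : pairStab G a b) : G) * (n : G)) • b = b := by
      intro t ht
      have h1 : ((t : pairStab G a b) : G) • (d : Ω) = (d : Ω) :=
        congrArg Subtype.val (hd t ht)
      rw [mul_smul, mul_smul, hnb', h1, inv_smul_eq_iff, hnb']
    have hmemN : ∀ t : pairStabIn N a b,
        ((n : G)⁻¹ * ((t : pairStab G a b) : G) * (n : G)) ∈ N := by
      intro t
      have ht : ((t : pairStab G a b) : G) ∈ N := Subgroup.mem_subgroupOf.mp t.2
      exact N.mul_mem (N.mul_mem (N.inv_mem n.2) ht) n.2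
    let f : ↥(T : Subgroup (pairStabIn N a b)) → ↥(stabilizer (pairStabIn N a b) a) :=
      fun t => ⟨⟨⟨(n : G)⁻¹ * (((t : pairStabIn N a b) : pairStab G a b) : G) * (n : G),
          (mem_stabilizer_pair_compl_iff _).mpr (Or.inl ⟨hfixa t.1 t.2, hfixb t.1 t.2⟩)⟩,
          Subgroup.mem_subgroupOf.mpr (hmemN t.1)⟩, hfixa t.1 t.2⟩
    have hfval : ∀ t, ((((f t : stabilizer (pairStabIn N a b) a) : pairStabIn N a b) :
        pairStab G a b) : G) = (n : G)⁻¹ * (((t : pairStabIn N a b) : pairStab G a b) : G) * (n : G) :=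
      fun t => rfl
    have hfmul : ∀ t₁ t₂, f (t₁ * t₂) = f t₁ * f t₂ := by
      intro t₁ t₂
      apply Subtype.ext
      apply Subtype.ext
      apply Subtype.ext
      rw [hfval]
      simp only [Subgroup.coe_mul]
      rw [hfval, hfval]
      group
    let ψ : ↥(T : Subgroup (pairStabIn N a b)) →* ↥(stabilizer (pairStabIn N a b) a) :=
      MonoidHom.mk' f hfmul
    have hψ : Function.Injective ψ := by
      intro t₁ t₂ h
      have h0 : f t₁ = f t₂ := h
      have h1 : (n : G)⁻¹ * (((t₁ : pairStabIn N a b) : pairStab G a b) : G) * (n : G) =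
          (n : G)⁻¹ * (((t₂ : pairStabIn N a b) : pairStab G a b) : G) * (n : G) := by
        rw [← hfval, ← hfval, h0]
      apply Subtype.ext
      apply Subtype.ext
      apply Subtype.ext
      rw [mul_left_inj, mul_right_inj] at h1
      exact h1
    exact false_of_sylow_embeds_index_p 2 T _ hindex ψ hψ
  obtain ⟨c, hcT, hctrans⟩ := exists_smul_eq_of_sylow_unique_fixed (pairStabIn N a b) 2 T
    hcard_s huniq
  -- an element of T swapping a and b
  have hswap : ∃ t ∈ T, (t : pairStabIn N a b) • a = b := by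
    by_contra hcon
    push Not at hcon
    have hle : (T : Subgroup (pairStabIn N a b)) ≤ stabilizer (pairStabIn N a b) a := by
      intro t ht
      rw [mem_stabilizer_iff]
      rcases hKX t with ⟨h1, _⟩ | ⟨h1, _⟩
      · exact h1
      · exact absurd h1 (hcon t ht)
    exact false_of_sylow_embeds_index_p 2 T _ hindex (Subgroup.inclusion hle)
      (Subgroup.inclusion_injective hle)
  obtain ⟨t, htT, hta⟩ := hswap
  have hta' : (((t : pairStabIn N a b) : pairStab G a b) : G) • a = b := hta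
  have htb' : (((t : pairStabIn N a b) : pairStab G a b) : G) • b = a := by
    rcases hKX t with ⟨h1, _⟩ | ⟨_, h2⟩
    · exact absurd (h1.symm.trans hta) hab
    · exact h2
  have htc' : (((t : pairStabIn N a b) : pairStab G a b) : G) • (c : Ω) = (c : Ω) :=
    congrArg Subtype.val (hcT t htT)
  have htN : (((t : pairStabIn N a b) : pairStab G a b) : G) ∈ N := Subgroup.mem_subgroupOf.mp t.2
  have hclaim : ∀ x : (({a, b} : Set Ω)ᶜ : Set Ω),
      ∃ n ∈ N, n • a = a ∧ n • b = b ∧ n • (c : Ω) = (x : Ω) := by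
    intro x
    obtain ⟨k, hk, hkc⟩ := hctrans x
    have hkc' : (k : G) • (c : Ω) = (x : Ω) := congrArg Subtype.val hkc
    have hkN : (k : G) ∈ N := Subgroup.mem_subgroupOf.mp hk
    rcases (mem_stabilizer_pair_compl_iff (k : G)).mp k.2 with ⟨h1, h2⟩ | ⟨h1, h2⟩
    · exact ⟨k, hkN, h1, h2, hkc'⟩
    · refine ⟨(k : G) * (((t : pairStabIn N a b) : pairStab G a b) : G), N.mul_mem hkN htN,
        ?_, ?_, ?_⟩
      · rw [mul_smul, hta', h2]
      · rw [mul_smul, htb', h1]
      · rw [mul_smul, htc', hkc']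
  intro x y hxa hxb hya hyb
  obtain ⟨n₁, hn₁, h1a, h1b, h1c⟩ := hclaim ⟨x, (hmem_s x).mpr ⟨hxa, hxb⟩⟩
  obtain ⟨n₂, hn₂, h2a, h2b, h2c⟩ := hclaim ⟨y, (hmem_s y).mpr ⟨hya, hyb⟩⟩
  refine ⟨n₂ * n₁⁻¹, N.mul_mem hn₂ (N.inv_mem hn₁), ?_, ?_, ?_⟩
  · rw [mul_smul, inv_smul_eq_iff.mpr h1a.symm, h2a]
  · rw [mul_smul, inv_smul_eq_iff.mpr h1b.symm, h2b]
  · have : n₁⁻¹ • x = (c : Ω) := by
      rw [inv_smul_eq_iff]; exact h1c.symm
    rw [mul_smul, this]; exact h2c

/-- Wagner's theorem, second half: a 2-transitive normal subgroup of a 3-transitive group of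
odd degree is 3-transitive. -/
theorem wagner_aux [Finite G] [Finite Ω] (hodd : Odd (Nat.card Ω))
    (hG : IsMultiplyPretransitive G Ω 3) (N : Subgroup G) [N.Normal]
    (hN2 : IsMultiplyPretransitive N Ω 2) : IsMultiplyPretransitive N Ω 3 := by
  constructor
  intro x y
  have hx01 : x 0 ≠ x 1 := x.injective.ne (by decide)
  have hx02 : x 0 ≠ x 2 := x.injective.ne (by decide)
  have hx12 : x 1 ≠ x 2 := x.injective.ne (by decide)
  have hy01 : y 0 ≠ y 1 := y.injective.ne (by decide)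
  have hy02 : y 0 ≠ y 2 := y.injective.ne (by decide)
  have hy12 : y 1 ≠ y 2 := y.injective.ne (by decide)
  obtain ⟨n₁, h1, h2⟩ := (is_two_pretransitive_iff (G := N) (α := Ω)).mp hN2 hx01 hy01
  have hz0 : n₁ • x 2 ≠ y 0 := by
    rw [← h1]
    intro h
    exact hx02 (smul_left_cancel _ h).symm
  have hz1 : n₁ • x 2 ≠ y 1 := by
    rw [← h2]
    intro h
    exact hx12 (smul_left_cancel _ h).symm
  obtain ⟨n₂, hn₂, ha, hb, hc⟩ := wagner_star hodd hG N hN2 hy01 (n₁ • x 2) (y 2) hz0 hz1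
    (Ne.symm hy02) (Ne.symm hy12)
  refine ⟨⟨n₂, hn₂⟩ * n₁, ?_⟩
  ext i
  have hsm : ∀ z : Ω, ((⟨n₂, hn₂⟩ : N) * n₁) • z = n₂ • (n₁ • z) := by
    intro z
    rw [mul_smul]
    rfl
  rw [Function.Embedding.smul_apply, hsm]
  fin_cases i
  · change n₂ • n₁ • x 0 = y 0
    rw [h1, ha]
  · change n₂ • n₁ • x 1 = y 1
    rw [h2, hb]
  · change n₂ • n₁ • x 2 = y 2
    exact hc

/-- Wagner's theorem (abstract version for faithful actions): a non-trivial normal subgroup of a
3-transitive group of odd degree at least 5 is 3-transitive. -/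
theorem wagner_full [FaithfulSMul G Ω] [Finite Ω] (hodd : Odd (Nat.card Ω))
    (h5 : 5 ≤ Nat.card Ω) (hG : IsMultiplyPretransitive G Ω 3) (N : Subgroup G) [N.Normal]
    (hN : N ≠ ⊥) : IsMultiplyPretransitive N Ω 3 := by
  classical
  have hfinG : Finite G :=
    Finite.of_injective (MulAction.toPermHom G Ω) MulAction.toPerm_injective
  rcases jordan_normal_aux 3 (by norm_num) (by omega) hG N hN with h | ⟨_, hcomm, hexp⟩
  · exact wagner_aux hodd hG N h
  · exfalso
    have h2t : IsMultiplyPretransitive G Ω 2 :=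
      isMultiplyPretransitive_of_le (n := 3) (by omega) (by omega)
    have hprim : IsPreprimitive G Ω := isPreprimitive_of_is_two_pretransitive h2t
    have hNt : IsPretransitive N Ω := normal_pretransitive_of_preprimitive (Ω := Ω) N hN
    obtain ⟨x, hx1⟩ := (Subgroup.ne_bot_iff_exists_ne_one).mp hN
    have hx1' : (x : G) ≠ 1 := fun h => hx1 (Subtype.ext h)
    have hfpf : ∀ a : Ω, (x : G) • a ≠ a := by
      intro a ha
      apply hx1'
      apply FaithfulSMul.eq_of_smul_eq_smul (α := Ω)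
      intro b
      obtain ⟨n, hn⟩ := exists_smul_eq N a b
      have hn' : (n : G) • a = b := hn
      rw [one_smul, ← hn', ← mul_smul, hcomm _ x.2 _ n.2, mul_smul, ha]
    have : Fintype Ω := Fintype.ofFinite Ω
    have hfact : Fact (Nat.Prime 2) := ⟨Nat.prime_two⟩
    have hσ : (MulAction.toPerm (x : G) : Equiv.Perm Ω) ^ 2 ^ 1 = 1 := by
      rw [pow_one]
      have h1 : (MulAction.toPermHom G Ω (x : G)) ^ 2 = 1 := by
        rw [← map_pow, hexp _ x.2, map_one]
      exact h1
    have hndvd : ¬ 2 ∣ Fintype.card Ω := by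
      rw [← Nat.card_eq_fintype_card]
      obtain ⟨m, hm⟩ := hodd
      omega
    obtain ⟨a, ha⟩ := Equiv.Perm.exists_fixed_point_of_prime hndvd hσ
    exact hfpf a ha

end Wagner

end Cfsg.Agent.Helper59
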