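/-
helper59: Witt's transitive-extension lemma (S0709).
Chain `K 1 = G_{q 2} ≤ K 2 = G ≤ K 3 = ⟨G, s 2⟩ ≤ …`; transitivity by induction in base-point form,
stabilizer computation via the double-coset decomposition `K (n+1) = K n ∪ K n (s n) K n`.
-/
import Mathlib.GroupTheory.GroupAction.MultipleTransitivity
import Mathlib.GroupTheory.GroupAction.FixingSubgroup
import Mathlib.GroupTheory.Perm.Basic
import Mathlib.Tactic.Group

set_option autoImplicit false

namespace Cfsg.Agent.Helper59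

open MulAction

/-- The data and hypotheses of Witt's transitive-extension lemma. -/
structure WittSetup (α : Type*) where
  t : ℕ
  ht : 2 ≤ t
  q : ℕ → α
  hq : ∀ i j : ℕ, 1 ≤ i → i ≤ t → 1 ≤ j → j ≤ t → q i = q j → i = j
  G : Subgroup (Equiv.Perm α)
  hfix : ∀ g ∈ G, ∀ i : ℕ, 3 ≤ i → i ≤ t → g (q i) = q i
  h2 : ∀ a b c d : α, (∀ i, 3 ≤ i → i ≤ t → a ≠ q i ∧ b ≠ q i ∧ c ≠ q i ∧ d ≠ q i) →
    a ≠ b → c ≠ d → ∃ g ∈ G, g a = c ∧ g b = d
  s : ℕ → Equiv.Perm α
  hs1 : s 1 ∈ G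
  hs1q : s 1 (q 1) = q 2 ∧ s 1 (q 2) = q 1
  hsq : ∀ i : ℕ, 2 ≤ i → i + 1 ≤ t → s i (q i) = q (i + 1) ∧ s i (q (i + 1)) = q i ∧
    ∀ j : ℕ, 1 ≤ j → j ≤ t → j ≠ i → j ≠ i + 1 → s i (q j) = q j
  H : Subgroup (Equiv.Perm α)
  hH : H = G ⊓ MulAction.stabilizer (Equiv.Perm α) (q 1) ⊓ MulAction.stabilizer (Equiv.Perm α) (q 2)
  hsq2 : ∀ i : ℕ, 1 ≤ i → i + 1 ≤ t → s i ^ 2 ∈ H
  hbraid : ∀ i : ℕ, 1 ≤ i → i + 2 ≤ t → (s i * s (i + 1)) ^ 3 ∈ H
  hcomm : ∀ i j : ℕ, 1 ≤ i → i + 2 ≤ j → j + 1 ≤ t → (s i * s j) ^ 2 ∈ H ∧ (s j * s i) ^ 2 ∈ H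
  hnorm : ∀ i : ℕ, 2 ≤ i → i + 1 ≤ t →
    ∀ g ∈ G ⊓ MulAction.stabilizer (Equiv.Perm α) (q 2),
      s i * g * (s i)⁻¹ ∈ G ⊓ MulAction.stabilizer (Equiv.Perm α) (q 2)

namespace WittSetup

variable {α : Type*} (W : WittSetup α)

/-- generators of the `m`-th group of the chain -/
def gens (m : ℕ) : Set (Equiv.Perm α) :=
  (W.G : Set (Equiv.Perm α)) ∪ {x | ∃ i : ℕ, 2 ≤ i ∧ i + 1 ≤ m ∧ x = W.s i}

/-- the chain `K 1 = G_{q 2} ≤ K 2 = G ≤ K 3 = ⟨G, s 2⟩ ≤ …` -/
def K (m : ℕ) : Subgroup (Equiv.Perm α) :=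
  if m ≤ 1 then W.G ⊓ stabilizer (Equiv.Perm α) (W.q 2) else Subgroup.closure (W.gens m)

theorem K_one : W.K 1 = W.G ⊓ stabilizer (Equiv.Perm α) (W.q 2) := if_pos le_rfl

theorem K_of_two_le {m : ℕ} (hm : 2 ≤ m) : W.K m = Subgroup.closure (W.gens m) :=
  if_neg (by omega)

theorem K_two : W.K 2 = W.G := by
  rw [W.K_of_two_le le_rfl]
  apply le_antisymm
  · rw [Subgroup.closure_le]
    rintro x (hx | ⟨i, h1, h2, _⟩)
    · exact hx
    · omega
  · exact fun x hx => Subgroup.subset_closure (Or.inl hx)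

theorem G_le_K {m : ℕ} (hm : 2 ≤ m) : W.G ≤ W.K m := by
  rw [W.K_of_two_le hm]
  exact fun x hx => Subgroup.subset_closure (Or.inl hx)

theorem K_one_le_G : W.K 1 ≤ W.G := by
  rw [W.K_one]; exact inf_le_left

theorem K_mono {m n : ℕ} (hm : 1 ≤ m) (hmn : m ≤ n) : W.K m ≤ W.K n := by
  rcases Nat.lt_or_ge n 2 with hn | hn
  · have : m = n := by omega
    rw [this]
  · rcases Nat.lt_or_ge m 2 with hm2 | hm2
    · have : m = 1 := by omega
      rw [this]
      exact W.K_one_le_G.trans (W.G_le_K hn)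
    · rw [W.K_of_two_le hm2, W.K_of_two_le hn]
      apply Subgroup.closure_mono
      rintro x (hx | ⟨i, h1, h2, rfl⟩)
      · exact Or.inl hx
      · exact Or.inr ⟨i, h1, by omega, rfl⟩

theorem H_le_K {m : ℕ} (hm : 1 ≤ m) : W.H ≤ W.K m := by
  refine le_trans ?_ (W.K_mono le_rfl hm)
  rw [W.K_one, W.hH]
  intro x hx
  exact ⟨hx.1.1, hx.2⟩

theorem s_mem_K {m : ℕ} (hm : 1 ≤ m) : W.s m ∈ W.K (m + 1) := by
  rcases Nat.lt_or_ge m 2 with hm2 | hm2
  · have : m = 1 := by omega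
    subst this
    rw [W.K_two]; exact W.hs1
  · rw [W.K_of_two_le (by omega)]
    exact Subgroup.subset_closure (Or.inr ⟨m, hm2, le_rfl, rfl⟩)

theorem s_swap {m : ℕ} (hm : 1 ≤ m) (hmt : m + 1 ≤ W.t) :
    W.s m (W.q m) = W.q (m + 1) ∧ W.s m (W.q (m + 1)) = W.q m := by
  rcases Nat.lt_or_ge m 2 with hm2 | hm2
  · have : m = 1 := by omega
    subst this
    exact W.hs1q
  · exact ⟨(W.hsq m hm2 hmt).1, (W.hsq m hm2 hmt).2.1⟩

theorem K_fix {m : ℕ} (hm : 1 ≤ m) {g : Equiv.Perm α} (hg : g ∈ W.K m) {j : ℕ} (hj : m < j)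
    (hjt : j ≤ W.t) : g (W.q j) = W.q j := by
  rcases Nat.lt_or_ge m 2 with hm2 | hm2
  · have : m = 1 := by omega
    subst this
    rw [W.K_one] at hg
    rcases Nat.lt_or_ge j 3 with hj3 | hj3
    · have : j = 2 := by omega
      subst this
      exact hg.2
    · exact W.hfix g hg.1 j hj3 hjt
  · have hle : W.K m ≤ stabilizer (Equiv.Perm α) (W.q j) := by
      rw [W.K_of_two_le hm2, Subgroup.closure_le]
      rintro x (hx | ⟨i, h1, h2, rfl⟩)
      · exact W.hfix x hx j (by omega) hjt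
      · exact (W.hsq i h1 (by omega)).2.2 j (by omega) hjt (by omega) (by omega)
    exact hle hg

theorem q_ne {i j : ℕ} (hi : 1 ≤ i) (hit : i ≤ W.t) (hj : 1 ≤ j) (hjt : j ≤ W.t) (hij : i ≠ j) :
    W.q i ≠ W.q j :=
  fun h => hij (W.hq i j hi hit hj hjt h)

/-- `K m` moves `q m` to any point outside `q (m+1), …, q t`. -/
theorem Tr : ∀ m : ℕ, 1 ≤ m → m ≤ W.t → ∀ y : α, (∀ j, m < j → j ≤ W.t → y ≠ W.q j) →
    ∃ g ∈ W.K m, g (W.q m) = y := by
  intro m hm
  induction m, hm using Nat.le_induction with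
  | base =>
    intro ht y hy
    have ht2 := W.ht
    obtain ⟨g, hgG, hg2, hg1⟩ := W.h2 (W.q 2) (W.q 1) (W.q 2) y
      (fun i hi hit => ⟨W.q_ne (by omega) (by omega) (by omega) hit (by omega),
        W.q_ne (by omega) (by omega) (by omega) hit (by omega),
        W.q_ne (by omega) (by omega) (by omega) hit (by omega), hy i (by omega) hit⟩)
      (W.q_ne (by omega) (by omega) (by omega) (by omega) (by omega))
      (Ne.symm (hy 2 (by omega) ht2))
    refine ⟨g, ?_, hg1⟩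
    rw [W.K_one]
    exact ⟨hgG, hg2⟩
  | succ m hm ih =>
    intro hmt y hy
    by_cases hyq : y = W.q (m + 1)
    · exact ⟨1, Subgroup.one_mem _, by rw [hyq]; rfl⟩
    · obtain ⟨k, hk, hky⟩ := ih (by omega) y (fun j hj hjt => by
        rcases Nat.lt_or_ge (m + 1) j with h | h
        · exact hy j h hjt
        · have : j = m + 1 := by omega
          rw [this]; exact hyq)
      refine ⟨k * W.s m, Subgroup.mul_mem _ (W.K_mono hm (by omega) hk) (W.s_mem_K hm), ?_⟩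
      rw [Equiv.Perm.mul_apply, (W.s_swap hm hmt).2, hky]

/-- `K m` maps `(q 1, …, q m)` to any injective `m`-tuple outside `q (m+1), …, q t`. -/
theorem T : ∀ m : ℕ, 2 ≤ m → m ≤ W.t → ∀ x : ℕ → α,
    (∀ i j, 1 ≤ i → i ≤ m → 1 ≤ j → j ≤ m → x i = x j → i = j) →
    (∀ i, 1 ≤ i → i ≤ m → ∀ j, m < j → j ≤ W.t → x i ≠ W.q j) →
    ∃ g ∈ W.K m, ∀ i, 1 ≤ i → i ≤ m → g (W.q i) = x i := by
  intro m hm
  induction m, hm using Nat.le_induction with
  | base =>
    intro ht x hinj hav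
    obtain ⟨g, hgG, hg1, hg2⟩ := W.h2 (W.q 1) (W.q 2) (x 1) (x 2)
      (fun i hi hit => ⟨W.q_ne (by omega) (by omega) (by omega) hit (by omega),
        W.q_ne (by omega) (by omega) (by omega) hit (by omega),
        hav 1 (by omega) (by omega) i (by omega) hit, hav 2 (by omega) (by omega) i (by omega) hit⟩)
      (W.q_ne (by omega) (by omega) (by omega) (by omega) (by omega))
      (fun h => by have := hinj 1 2 (by omega) (by omega) (by omega) (by omega) h; omega)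
    refine ⟨g, by rw [W.K_two]; exact hgG, fun i hi hi2 => ?_⟩
    rcases Nat.lt_or_ge i 2 with h | h
    · have : i = 1 := by omega
      rw [this]; exact hg1
    · have : i = 2 := by omega
      rw [this]; exact hg2
  | succ m hm ih =>
    intro hmt x hinj hav
    have hm1 : 1 ≤ m := by omega
    have hA : ∀ x : ℕ → α,
        (∀ i j, 1 ≤ i → i ≤ m + 1 → 1 ≤ j → j ≤ m + 1 → x i = x j → i = j) →
        (∀ i, 1 ≤ i → i ≤ m + 1 → ∀ j, m + 1 < j → j ≤ W.t → x i ≠ W.q j) →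
        x (m + 1) = W.q (m + 1) →
        ∃ g ∈ W.K (m + 1), ∀ i, 1 ≤ i → i ≤ m + 1 → g (W.q i) = x i := by
      intro x hinj hav hx
      obtain ⟨g, hg, hgx⟩ := ih (by omega) x
        (fun i j hi him hj hjm h => hinj i j hi (by omega) hj (by omega) h)
        (fun i hi him j hj hjt => by
          rcases Nat.lt_or_ge (m + 1) j with h | h
          · exact hav i hi (by omega) j h hjt
          · have hj' : j = m + 1 := by omega
            rw [hj', ← hx]
            intro h'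
            have := hinj i (m + 1) hi (by omega) (by omega) le_rfl h'
            omega)
      refine ⟨g, W.K_mono hm1 (by omega) hg, fun i hi him => ?_⟩
      rcases Nat.lt_or_ge i (m + 1) with h | h
      · exact hgx i hi (by omega)
      · have : i = m + 1 := by omega
        rw [this, hx]
        exact W.K_fix hm1 hg (by omega) hmt
    by_cases hx : x (m + 1) = W.q (m + 1)
    · exact hA x hinj hav hx
    · obtain ⟨k, hk, hky⟩ := W.Tr m hm1 (by omega) (x (m + 1)) (fun j hj hjt => by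
        rcases Nat.lt_or_ge (m + 1) j with h | h
        · exact hav (m + 1) (by omega) le_rfl j h hjt
        · have : j = m + 1 := by omega
          rw [this]; exact hx)
      have hg'K : k * W.s m ∈ W.K (m + 1) :=
        Subgroup.mul_mem _ (W.K_mono hm1 (by omega) hk) (W.s_mem_K hm1)
      have hg'q : (k * W.s m) (W.q (m + 1)) = x (m + 1) := by
        rw [Equiv.Perm.mul_apply, (W.s_swap hm1 hmt).2, hky]
      obtain ⟨g, hg, hgx⟩ := hA (fun i => (k * W.s m)⁻¹ (x i))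
        (fun i j hi him hj hjm h => hinj i j hi him hj hjm ((k * W.s m)⁻¹.injective h))
        (fun i hi him j hj hjt h => by
          have h1 : x i = (k * W.s m) (W.q j) := by
            rw [← h]; simp
          rw [W.K_fix (by omega) hg'K hj hjt] at h1
          exact hav i hi him j hj hjt h1)
        (by
          show (k * W.s m)⁻¹ (x (m + 1)) = W.q (m + 1)
          rw [← hg'q]; simp)
      refine ⟨(k * W.s m) * g, Subgroup.mul_mem _ hg'K hg, fun i hi him => ?_⟩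
      rw [Equiv.Perm.mul_apply, hgx i hi him]
      simp

/-- the double coset union `K n ∪ K n (s n) K n` -/
def S (n : ℕ) : Set (Equiv.Perm α) :=
  {g | g ∈ W.K n ∨ ∃ a ∈ W.K n, ∃ b ∈ W.K n, g = a * W.s n * b}

theorem K_mul_S {n : ℕ} {a x : Equiv.Perm α} (ha : a ∈ W.K n) (hx : x ∈ W.S n) :
    a * x ∈ W.S n := by
  rcases hx with hx | ⟨c, hc, d, hd, rfl⟩
  · exact Or.inl (Subgroup.mul_mem _ ha hx)
  · exact Or.inr ⟨a * c, Subgroup.mul_mem _ ha hc, d, hd, by simp [mul_assoc]⟩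

theorem S_mul_K {n : ℕ} {a x : Equiv.Perm α} (ha : a ∈ W.K n) (hx : x ∈ W.S n) :
    x * a ∈ W.S n := by
  rcases hx with hx | ⟨c, hc, d, hd, rfl⟩
  · exact Or.inl (Subgroup.mul_mem _ hx ha)
  · exact Or.inr ⟨c, hc, d * a, Subgroup.mul_mem _ hd ha, by simp [mul_assoc]⟩

theorem decomp {m : ℕ} (hm : 1 ≤ m) (hmt : m + 1 ≤ W.t)
    (hc : ∀ g ∈ W.K (m + 1), g (W.q (m + 1)) = W.q (m + 1) → g ∈ W.K m) :
    ∀ k ∈ W.K (m + 1), k ∈ W.K m ∨ ∃ l ∈ W.K m, ∃ l' ∈ W.K m, k = l * W.s m * l' := by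
  intro k hk
  by_cases hkq : k (W.q (m + 1)) = W.q (m + 1)
  · exact Or.inl (hc k hk hkq)
  · right
    obtain ⟨l, hl, hly⟩ := W.Tr m hm (by omega) (k (W.q (m + 1))) (fun j hj hjt => by
      rcases Nat.lt_or_ge (m + 1) j with h | h
      · intro h'
        have h'' : k (W.q (m + 1)) = k (W.q j) := by
          rw [h', W.K_fix (by omega) hk h hjt]
        exact W.q_ne (by omega) hmt (by omega) hjt (by omega) (k.injective h'')
      · have : j = m + 1 := by omega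
        rw [this]; exact hkq)
    refine ⟨l, hl, (l * W.s m)⁻¹ * k, hc _ ?_ ?_, by group⟩
    · exact Subgroup.mul_mem _ (Subgroup.inv_mem _
        (Subgroup.mul_mem _ (W.K_mono hm (by omega) hl) (W.s_mem_K hm))) hk
    · rw [Equiv.Perm.mul_apply, Equiv.Perm.inv_eq_iff_eq, Equiv.Perm.mul_apply,
        (W.s_swap hm hmt).2, hly]

theorem stab_le_one : ∀ g ∈ W.K (1 + 1), g (W.q (1 + 1)) = W.q (1 + 1) → g ∈ W.K 1 := by
  intro g hg hgq
  rw [W.K_one]
  rw [show (1 + 1 : ℕ) = 2 from rfl, W.K_two] at hg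
  exact ⟨hg, hgq⟩

theorem decomp_G : ∀ k ∈ W.G, k ∈ W.K 1 ∨ ∃ l ∈ W.K 1, ∃ l' ∈ W.K 1, k = l * W.s 1 * l' := by
  intro k hk
  have ht := W.ht
  exact W.decomp le_rfl (by omega) W.stab_le_one k
    (by rw [show (1 + 1 : ℕ) = 2 from rfl, W.K_two]; exact hk)

theorem conj_s_mem {i n : ℕ} (hi : 1 ≤ i) (hin : i + 2 ≤ n) (hnt : n + 1 ≤ W.t)
    {L : Subgroup (Equiv.Perm α)} (hH : W.H ≤ L) (hsi : W.s i ∈ L) :
    W.s n * W.s i * (W.s n)⁻¹ ∈ L := by
  have h1 := (W.hcomm i n hi hin hnt).2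
  have h2 := W.hsq2 n (by omega) hnt
  have : W.s n * W.s i * (W.s n)⁻¹ = (W.s n * W.s i) ^ 2 * (W.s i)⁻¹ * (W.s n ^ 2)⁻¹ := by
    simp only [pow_succ, pow_zero, one_mul]; group
  rw [this]
  exact Subgroup.mul_mem _ (Subgroup.mul_mem _ (hH h1) (Subgroup.inv_mem _ hsi))
    (Subgroup.inv_mem _ (hH h2))

theorem conj_mem {m : ℕ} (hm : 1 ≤ m) (hmt : m + 2 ≤ W.t) :
    ∀ l ∈ W.K m, W.s (m + 1) * l * (W.s (m + 1))⁻¹ ∈ W.K m := by
  have hK1 : ∀ l ∈ W.K 1, W.s (m + 1) * l * (W.s (m + 1))⁻¹ ∈ W.K 1 := by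
    intro l hl
    rw [W.K_one] at hl ⊢
    exact W.hnorm (m + 1) (by omega) (by omega) l hl
  rcases Nat.lt_or_ge m 2 with hm2 | hm2
  · have : m = 1 := by omega
    subst this
    exact hK1
  · intro l hl
    rw [W.K_of_two_le hm2] at hl
    induction hl using Subgroup.closure_induction with
    | mem x hx =>
      rcases hx with hx | ⟨i, h1, h2, rfl⟩
      · have hs1c : W.s (m + 1) * W.s 1 * (W.s (m + 1))⁻¹ ∈ W.K m :=
          W.conj_s_mem le_rfl (by omega) (by omega) (W.H_le_K hm) (W.G_le_K hm2 W.hs1)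
        rcases W.decomp_G x hx with h | ⟨l, hl, l', hl', rfl⟩
        · exact W.K_mono le_rfl hm (hK1 x h)
        · have : W.s (m + 1) * (l * W.s 1 * l') * (W.s (m + 1))⁻¹ =
              (W.s (m + 1) * l * (W.s (m + 1))⁻¹) * (W.s (m + 1) * W.s 1 * (W.s (m + 1))⁻¹) *
                (W.s (m + 1) * l' * (W.s (m + 1))⁻¹) := by group
          rw [this]
          exact Subgroup.mul_mem _ (Subgroup.mul_mem _ (W.K_mono le_rfl hm (hK1 l hl)) hs1c)
            (W.K_mono le_rfl hm (hK1 l' hl'))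
      · exact W.conj_s_mem (by omega) (by omega) (by omega) (W.H_le_K hm)
          (W.K_mono (by omega) h2 (W.s_mem_K (by omega)))
    | one => simp
    | mul x y _ _ hx hy =>
      have : W.s (m + 1) * (x * y) * (W.s (m + 1))⁻¹ =
          (W.s (m + 1) * x * (W.s (m + 1))⁻¹) * (W.s (m + 1) * y * (W.s (m + 1))⁻¹) := by group
      rw [this]; exact Subgroup.mul_mem _ hx hy
    | inv x _ hx =>
      have : W.s (m + 1) * x⁻¹ * (W.s (m + 1))⁻¹ = (W.s (m + 1) * x * (W.s (m + 1))⁻¹)⁻¹ := by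
        group
      rw [this]; exact Subgroup.inv_mem _ hx

theorem sandwich {m : ℕ} (hm : 1 ≤ m) (hmt : m + 2 ≤ W.t)
    (hc : ∀ g ∈ W.K (m + 1), g (W.q (m + 1)) = W.q (m + 1) → g ∈ W.K m) :
    ∀ k ∈ W.K (m + 1), W.s (m + 1) * k * W.s (m + 1) ∈ W.S (m + 1) := by
  intro k hk
  have hmn : W.K m ≤ W.K (m + 1) := W.K_mono hm (by omega)
  have hHn : W.H ≤ W.K (m + 1) := W.H_le_K (by omega)
  have hs2 : W.s (m + 1) ^ 2 ∈ W.K (m + 1) := hHn (W.hsq2 (m + 1) (by omega) (by omega))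
  have hsm : W.s m ∈ W.K (m + 1) := W.s_mem_K hm
  have hconj := W.conj_mem hm hmt
  rcases W.decomp hm (by omega) hc k hk with h | ⟨l, hl, l', hl', rfl⟩
  · left
    have : W.s (m + 1) * k * W.s (m + 1) =
        (W.s (m + 1) * k * (W.s (m + 1))⁻¹) * W.s (m + 1) ^ 2 := by group
    rw [this]
    exact Subgroup.mul_mem _ (hmn (hconj k h)) hs2
  · have hb := hHn (W.hbraid m hm hmt)
    have e : W.s (m + 1) * (l * W.s m * l') * W.s (m + 1) =
        ((W.s (m + 1) * l * (W.s (m + 1))⁻¹) * (W.s m)⁻¹) * W.s (m + 1) *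
          ((W.s (m + 1) ^ 2)⁻¹ * (W.s m)⁻¹ * (W.s m * W.s (m + 1)) ^ 3 *
            ((W.s (m + 1) ^ 2)⁻¹ * (W.s (m + 1) * l' * (W.s (m + 1))⁻¹) * W.s (m + 1) ^ 2)) := by
      simp only [pow_succ, pow_zero, one_mul]; group
    right
    refine ⟨_, ?_, _, ?_, e⟩
    · exact Subgroup.mul_mem _ (hmn (hconj l hl)) (Subgroup.inv_mem _ hsm)
    · refine Subgroup.mul_mem _ (Subgroup.mul_mem _ (Subgroup.mul_mem _ (Subgroup.inv_mem _ hs2)
        (Subgroup.inv_mem _ hsm)) hb) ?_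
      exact Subgroup.mul_mem _ (Subgroup.mul_mem _ (Subgroup.inv_mem _ hs2) (hmn (hconj l' hl'))) hs2

theorem K_succ_subset_S {n : ℕ} (hn : 2 ≤ n) (hnt : n + 1 ≤ W.t)
    (hsand : ∀ k ∈ W.K n, W.s n * k * W.s n ∈ W.S n) :
    ∀ g ∈ W.K (n + 1), g ∈ W.S n := by
  have hs2 : W.s n ^ 2 ∈ W.K n := W.H_le_K (by omega) (W.hsq2 n (by omega) hnt)
  have hQs : ∀ x ∈ W.S n, W.s n * x ∈ W.S n := by
    intro x hx
    rcases hx with hx | ⟨a, ha, b, hb, rfl⟩
    · exact Or.inr ⟨1, Subgroup.one_mem _, x, hx, by simp⟩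
    · have := W.S_mul_K hb (hsand a ha)
      have e : W.s n * (a * W.s n * b) = W.s n * a * W.s n * b := by group
      rw [e]; exact this
  have hQsi : ∀ x ∈ W.S n, (W.s n)⁻¹ * x ∈ W.S n := by
    intro x hx
    have e : (W.s n)⁻¹ * x = (W.s n ^ 2)⁻¹ * (W.s n * x) := by group
    rw [e]
    exact W.K_mul_S (Subgroup.inv_mem _ hs2) (hQs x hx)
  have key : ∀ g ∈ W.K (n + 1),
      (∀ x ∈ W.S n, g * x ∈ W.S n) ∧ (∀ x ∈ W.S n, g⁻¹ * x ∈ W.S n) := by
    intro g hg
    rw [W.K_of_two_le (by omega)] at hg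
    induction hg using Subgroup.closure_induction with
    | mem y hy =>
      rcases hy with hy | ⟨i, h1, h2, rfl⟩
      · exact ⟨fun x hx => W.K_mul_S (W.G_le_K hn hy) hx,
          fun x hx => W.K_mul_S (Subgroup.inv_mem _ (W.G_le_K hn hy)) hx⟩
      · rcases Nat.lt_or_ge i n with h | h
        · have hi : W.s i ∈ W.K n := W.K_mono (by omega) (by omega) (W.s_mem_K (by omega))
          exact ⟨fun x hx => W.K_mul_S hi hx, fun x hx => W.K_mul_S (Subgroup.inv_mem _ hi) hx⟩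
        · have : i = n := by omega
          subst this
          exact ⟨hQs, hQsi⟩
    | one => exact ⟨fun x hx => by simpa using hx, fun x hx => by simpa using hx⟩
    | mul a b _ _ ha hb =>
      refine ⟨fun x hx => ?_, fun x hx => ?_⟩
      · rw [mul_assoc]; exact ha.1 _ (hb.1 x hx)
      · rw [mul_inv_rev, mul_assoc]; exact hb.2 _ (ha.2 x hx)
    | inv a _ ha => exact ⟨ha.2, by simpa using ha.1⟩
  intro g hg
  have := (key g hg).1 1 (Or.inl (Subgroup.one_mem _))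
  simpa using this

theorem stab_le : ∀ m : ℕ, 1 ≤ m → m + 1 ≤ W.t →
    ∀ g ∈ W.K (m + 1), g (W.q (m + 1)) = W.q (m + 1) → g ∈ W.K m := by
  intro m hm
  induction m, hm using Nat.le_induction with
  | base => intro _; exact W.stab_le_one
  | succ m hm ih =>
    intro hmt g hg hgq
    have hc := ih (by omega)
    have hS := W.K_succ_subset_S (n := m + 1) (by omega) hmt (W.sandwich hm (by omega) hc) g hg
    rcases hS with h | ⟨a, ha, b, hb, rfl⟩
    · exact h
    · exfalso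
      have hbq : b (W.q (m + 1 + 1)) = W.q (m + 1 + 1) := W.K_fix (by omega) hb (by omega) hmt
      have haq : a (W.q (m + 1 + 1)) = W.q (m + 1 + 1) := W.K_fix (by omega) ha (by omega) hmt
      rw [Equiv.Perm.mul_apply, Equiv.Perm.mul_apply, hbq, (W.s_swap (by omega) hmt).2] at hgq
      exact W.q_ne (by omega) (by omega) (by omega) hmt (by omega)
        (a.injective (hgq.trans haq.symm))

theorem mem_K_of_fix {g : Equiv.Perm α} (hg : g ∈ W.K W.t)
    (hfixq : ∀ i, 1 ≤ i → i ≤ W.t → g (W.q i) = W.q i) :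
    ∀ d, d + 2 ≤ W.t → g ∈ W.K (W.t - d) := by
  intro d
  induction d with
  | zero => intro _; simpa using hg
  | succ d ih =>
    intro hd
    have h1 := ih (by omega)
    have e : W.t - d = (W.t - (d + 1)) + 1 := by omega
    rw [e] at h1
    exact W.stab_le _ (by omega) (by omega) g h1 (hfixq _ (by omega) (by omega))

theorem main : IsMultiplyPretransitive ↥(Subgroup.closure (W.gens W.t)) α W.t ∧
    Subgroup.closure (W.gens W.t) ⊓
      fixingSubgroup (Equiv.Perm α) {x | ∃ i : ℕ, 1 ≤ i ∧ i ≤ W.t ∧ x = W.q i} = W.H := by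
  have ht := W.ht
  have hK : Subgroup.closure (W.gens W.t) = W.K W.t := (W.K_of_two_le ht).symm
  rw [hK]
  constructor
  · have key : ∀ x : Fin W.t ↪ α, ∃ g ∈ W.K W.t, ∀ i : Fin W.t, g (W.q (i + 1)) = x i := by
      intro x
      obtain ⟨g, hg, hgx⟩ := W.T W.t ht le_rfl
        (fun i => if h : 1 ≤ i ∧ i ≤ W.t then x ⟨i - 1, by omega⟩ else W.q 1)
        (fun i j hi hit hj hjt h => by
          simp only [dif_pos (And.intro hi hit), dif_pos (And.intro hj hjt)] at h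
          have := x.injective h
          simp only [Fin.mk.injEq] at this
          omega)
        (fun i _ _ j hj hjt => by omega)
      refine ⟨g, hg, fun i => ?_⟩
      have := hgx (i + 1) (by omega) (by have := i.2; omega)
      rw [this, dif_pos ⟨by omega, by have := i.2; omega⟩]
      congr 1
    refine ⟨fun x y => ?_⟩
    obtain ⟨g, hg, hgx⟩ := key x
    obtain ⟨h, hh, hhy⟩ := key y
    refine ⟨⟨h * g⁻¹, Subgroup.mul_mem _ hh (Subgroup.inv_mem _ hg)⟩, ?_⟩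
    ext i
    show (h * g⁻¹) (x i) = y i
    rw [← hgx i, Equiv.Perm.mul_apply, show g⁻¹ (g (W.q (↑i + 1))) = W.q (↑i + 1) from by simp, hhy i]
  · apply le_antisymm
    · rintro g ⟨hg, hgf⟩
      have hfixq : ∀ i, 1 ≤ i → i ≤ W.t → g (W.q i) = W.q i := by
        intro i hi hit
        exact (mem_fixingSubgroup_iff _).mp hgf (W.q i) ⟨i, hi, hit, rfl⟩
      have h2 := W.mem_K_of_fix hg hfixq (W.t - 2) (by omega)
      have e : W.t - (W.t - 2) = 2 := by omega
      rw [e, W.K_two] at h2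
      rw [W.hH]
      exact ⟨⟨h2, hfixq 1 le_rfl (by omega)⟩, hfixq 2 (by omega) ht⟩
    · intro g hg
      refine ⟨W.H_le_K (by omega) hg, (mem_fixingSubgroup_iff _).mpr ?_⟩
      rintro _ ⟨i, hi, hit, rfl⟩
      have hg' := hg
      rw [W.hH] at hg'
      rcases Nat.lt_or_ge i 3 with h | h
      · rcases Nat.lt_or_ge i 2 with h' | h'
        · have : i = 1 := by omega
          subst this; exact hg'.1.2
        · have : i = 2 := by omega
          subst this; exact hg'.2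
      · exact W.hfix g hg'.1.1 i h hit

end WittSetup

end Cfsg.Agent.Helper59
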